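import Groth.Agent.L20.TensorLemmas
import Mathlib.RingTheory.Localization.BaseChange
import Mathlib.RingTheory.Flat.Localization
import Mathlib.RingTheory.TensorProduct.Finite

/-!
# Local criterion of flatness
-/

universe u v w

namespace Groth.L20

open TensorProduct LinearMap IsLocalRing

section FiniteTensor

variable {R : Type*} [CommRing R] {S : Type*} [CommRing S] [Algebra R S]

theorem finite_tensor (M : Type*) [AddCommGroup M] [Module R M] [Module S M] [IsScalarTower R S M]
    [Module.Finite S M] (P : Type*) [AddCommGroup P] [Module R P] [Module.Finite R P] :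
    Module.Finite S (M ⊗[R] P) := by
  obtain ⟨n, f, hf⟩ := Module.Finite.exists_fin' R P
  obtain ⟨m, g, hg⟩ := Module.Finite.exists_fin' S M
  classical
  let e : (Fin n → M) ≃ₗ[S] M ⊗[R] (Fin n → R) := (piScalarRight R S M (Fin n)).symm
  exact Module.Finite.of_surjective (AlgebraTensorModule.lTensor S M f ∘ₗ e.toLinearMap)
    ((lTensor_surjective M hf).comp e.surjective)

theorem smul_top_le_map_smul_top {M : Type*} [AddCommGroup M] [Module R M] [Module S M]
    [IsScalarTower R S M] (I : Ideal R) {x : M} (hx : x ∈ I • (⊤ : Submodule R M)) :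
    x ∈ I.map (algebraMap R S) • (⊤ : Submodule S M) := by
  induction hx using Submodule.smul_induction_on' with
  | smul r hr y _ =>
    rw [← algebraMap_smul S r y]
    exact Submodule.smul_mem_smul (Ideal.mem_map_of_mem _ hr) trivial
  | add a _ b _ ha hb => exact add_mem ha hb

/-- Krull intersection, with powers of an ideal of the base. -/
theorem eq_zero_of_forall_mem_pow [IsNoetherianRing S]
    {M : Type*} [AddCommGroup M] [Module R M] [Module S M] [IsScalarTower R S M] [Module.Finite S M]
    (I : Ideal R) (hI : I.map (algebraMap R S) ≤ Ideal.jacobson ⊥)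
    {x : M} (hx : ∀ n : ℕ, x ∈ (I ^ n) • (⊤ : Submodule R M)) : x = 0 := by
  have : x ∈ (⨅ n : ℕ, (I.map (algebraMap R S)) ^ n • ⊤ : Submodule S M) := by
    rw [Submodule.mem_iInf]
    intro n
    rw [← Ideal.map_pow]
    exact smul_top_le_map_smul_top _ (hx n)
  rwa [Ideal.iInf_pow_smul_eq_bot_of_le_jacobson _ hI, Submodule.mem_bot] at this

theorem map_maximalIdeal_le_jacobson [IsLocalRing R] [IsLocalRing S]
    [IsLocalHom (algebraMap R S)] :
    (maximalIdeal R).map (algebraMap R S) ≤ Ideal.jacobson ⊥ := by
  rw [IsLocalRing.jacobson_eq_maximalIdeal _ bot_ne_top]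
  exact ((local_hom_TFAE (algebraMap R S)).out 0 2).mp (inferInstance : IsLocalHom (algebraMap R S))

theorem map_le_jacobson_of_ne_top [IsLocalRing R] [IsLocalRing S]
    [IsLocalHom (algebraMap R S)] {I : Ideal R} (hI : I ≠ ⊤) :
    I.map (algebraMap R S) ≤ Ideal.jacobson ⊥ :=
  (Ideal.map_mono (IsLocalRing.le_maximalIdeal hI)).trans map_maximalIdeal_le_jacobson

end FiniteTensor

section Criterion

variable {R : Type u} [CommRing R] [IsLocalRing R] {M : Type*} [AddCommGroup M] [Module R M]

/-- If `m ⊗ M → M` is injective then `M ⊗ A → M ⊗ B` is injective when `m B ⊆ A ⊆ B`. -/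
theorem lTensor_inclusion_injective_of_maximal_smul_le
    (h : Function.Injective ((maximalIdeal R).subtype.lTensor M))
    {X : Type*} [AddCommGroup X] [Module R X] {A B : Submodule R X} (hAB : A ≤ B)
    (hm : maximalIdeal R • B ≤ A) :
    Function.Injective ((Submodule.inclusion hAB).lTensor M) := by
  classical
  let m := maximalIdeal R
  let V := B ⧸ (A.comap B.subtype)
  have hV : Module.IsTorsionBySet R V m := by
    rintro x ⟨a, ha⟩
    obtain ⟨⟨b, hb⟩, rfl⟩ := Submodule.Quotient.mk_surjective _ x
    change Submodule.Quotient.mk (a • (⟨b, hb⟩ : B)) = (0 : V)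
    rw [Submodule.Quotient.mk_eq_zero]
    exact hm (Submodule.smul_mem_smul ha hb)
  let _ : Module (R ⧸ m) V := hV.module
  have : IsScalarTower R (R ⧸ m) V := hV.isScalarTower
  let _ : Field (R ⧸ m) := Ideal.Quotient.field m
  let b := Module.Free.chooseBasis (R ⧸ m) V
  let ι := Module.Free.ChooseBasisIndex (R ⧸ m) V
  choose v hv using fun i => (A.comap B.subtype).mkQ_surjective (b i)
  let φ : (ι →₀ R) →ₗ[R] B := Finsupp.linearCombination R v
  have hφ : ∀ c : ι →₀ R, (A.comap B.subtype).mkQ (φ c) =
      Finsupp.linearCombination (R ⧸ m) b (c.mapRange (Ideal.Quotient.mk m) (map_zero _)) := by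
    intro c
    rw [Finsupp.apply_linearCombination, Finsupp.linearCombination_apply,
      Finsupp.linearCombination_apply, Finsupp.sum_mapRange_index (by simp)]
    refine Finsupp.sum_congr fun i _ => ?_
    rw [Function.comp_apply, hv, ← Ideal.Quotient.algebraMap_eq, algebraMap_smul]
  have hsurj : ∀ x : B, ∃ (c : ι →₀ R) (a : A), φ c + Submodule.inclusion hAB a = x := by
    intro x
    obtain ⟨c', hc'⟩ : ∃ c', Finsupp.linearCombination (R ⧸ m) b c' = (A.comap B.subtype).mkQ x :=
      ⟨_, b.linearCombination_repr _⟩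
    obtain ⟨c, rfl⟩ := Finsupp.mapRange_surjective _ (map_zero _) Ideal.Quotient.mk_surjective c'
    rw [← hφ] at hc'
    have : x - φ c ∈ A.comap B.subtype := (Submodule.Quotient.eq _).mp hc'.symm
    refine ⟨c, ⟨((x - φ c : B) : X), this⟩, ?_⟩
    ext
    simp
  have hker : ∀ (c : ι →₀ R) (a : A), φ c + Submodule.inclusion hAB a = 0 → ∀ i, c i ∈ m := by
    intro c a hca i
    have hA : φ c ∈ A.comap B.subtype := by
      rw [eq_neg_of_add_eq_zero_left hca]
      exact neg_mem (by simp)
    have h0 : Finsupp.linearCombination (R ⧸ m) b (c.mapRange (Ideal.Quotient.mk m) (map_zero _)) = 0 := by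
      rw [← hφ]
      exact (Submodule.Quotient.mk_eq_zero _).mpr hA
    have := DFunLike.congr_fun (linearIndependent_iff.mp b.linearIndependent _ h0) i
    exact Ideal.Quotient.eq_zero_iff_mem.mp (by simpa using this)
  let incl : (ι →₀ m) →ₗ[R] (ι →₀ R) := Finsupp.mapRange.linearMap m.subtype
  have hincl : ∀ k, φ (incl k) ∈ A.comap B.subtype := by
    intro k
    induction k using Finsupp.induction_linear with
    | zero => simp
    | add a b ha hb => rw [map_add, map_add]; exact add_mem ha hb
    | single i a =>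
      simp only [incl, φ, Finsupp.mapRange.linearMap_apply, Finsupp.mapRange_single,
        Finsupp.linearCombination_single, Submodule.mem_comap, Submodule.subtype_apply,
        Submodule.coe_smul]
      exact hm (Submodule.smul_mem_smul a.2 (v i).2)
  let g : (ι →₀ m) →ₗ[R] A :=
    LinearMap.codRestrict A (B.subtype ∘ₗ φ ∘ₗ incl) (fun k => hincl k)
  let f : (ι →₀ m) →ₗ[R] (ι →₀ R) × A := incl.prod (-g)
  let π : (ι →₀ R) × A →ₗ[R] B := φ.coprod (Submodule.inclusion hAB)
  have hπ : Function.Surjective π := fun x => by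
    obtain ⟨c, a, hca⟩ := hsurj x
    exact ⟨(c, a), by simpa [π] using hca⟩
  have hex : Function.Exact f π := by
    rintro ⟨c, a⟩
    constructor
    · intro hca
      replace hca : φ c + Submodule.inclusion hAB a = 0 := by simpa [π] using hca
      let k : ι →₀ m := Finsupp.onFinset c.support (fun i => ⟨c i, hker c a hca i⟩)
        (fun i hi => by simpa using fun h0 => hi (Subtype.ext h0))
      have hk : incl k = c := by ext i; simp [incl, k]
      refine ⟨k, ?_⟩
      have hg : (g k : X) = (φ c : X) := by simp [g, hk]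
      have := congrArg (Subtype.val : B → X) hca
      simp only [Submodule.coe_add, Submodule.coe_inclusion, Submodule.coe_zero] at this
      refine Prod.ext hk (Subtype.ext ?_)
      change -(g k : X) = (a : X)
      rw [hg]
      exact (eq_neg_of_add_eq_zero_right this).symm
    · rintro ⟨k, hk⟩
      rw [← hk]
      ext
      simp [π, f, g]
  rw [injective_iff_map_eq_zero]
  intro z hz
  have h1 : π.lTensor M ((LinearMap.inr R (ι →₀ R) A).lTensor M z) = 0 := by
    rw [← lTensor_comp_apply]
    simpa [π] using hz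
  obtain ⟨w, hw⟩ := mem_range_lTensor_of_exact hex hπ h1
  have hw0 : w = 0 := by
    apply finsupp_tensor_ext
    intro i
    apply h
    rw [map_zero, ← lTensor_comp_apply]
    have : m.subtype ∘ₗ Finsupp.lapply i = Finsupp.lapply i ∘ₗ LinearMap.fst R (ι →₀ R) A ∘ₗ f := by
      apply LinearMap.ext; intro k; simp [f, incl]
    rw [this, lTensor_comp_apply, lTensor_comp_apply, hw, ← lTensor_comp_apply _ (fst R _ _),
      fst_comp_inr, lTensor_zero, LinearMap.zero_apply, map_zero]
  rw [hw0, map_zero] at hw
  have := congrArg ((LinearMap.snd R (ι →₀ R) A).lTensor M) hw.symm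
  rwa [← lTensor_comp_apply, snd_comp_inr, lTensor_id, id_apply, map_zero] at this

variable (S : Type*) [CommRing S] [IsLocalRing S] [Algebra R S] [IsNoetherianRing S]
  [IsLocalHom (algebraMap R S)] [Module S M] [IsScalarTower R S M] [Module.Finite S M]
include S

/-- The local criterion of flatness: `M` is flat once `m ⊗ M → M` is injective. -/
theorem flat_of_lTensor_maximalIdeal_injective [IsNoetherianRing R]
    (h : Function.Injective ((maximalIdeal R).subtype.lTensor M)) : Module.Flat R M := by
  rw [Module.Flat.iff_lTensor_injective']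
  intro I
  rw [injective_iff_map_eq_zero]
  intro z hz
  let m := maximalIdeal R
  have hIm : ∀ k : ℕ,
      (Submodule.inclusion (le_sup_left : I ≤ I ⊔ m ^ k)).lTensor M z = 0 := by
    have hinj : ∀ k : ℕ, Function.Injective ((I ⊔ m ^ k).subtype.lTensor M) := by
      intro k
      induction k with
      | zero =>
        have : Function.Bijective (I ⊔ m ^ 0).subtype :=
          ⟨Subtype.val_injective, fun x => ⟨⟨x, by simp⟩, rfl⟩⟩
        exact ((LinearEquiv.ofBijective _ this).lTensor M).injective
      | succ k ih =>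
        have hle : I ⊔ m ^ (k + 1) ≤ I ⊔ m ^ k := sup_le_sup_left (Ideal.pow_le_pow_right k.le_succ) _
        have hm : m • (I ⊔ m ^ k) ≤ I ⊔ m ^ (k + 1) := by
          rw [Submodule.smul_sup, pow_succ']
          exact sup_le_sup Submodule.smul_le_right le_rfl
        have : (I ⊔ m ^ (k + 1)).subtype = (I ⊔ m ^ k).subtype ∘ₗ Submodule.inclusion hle := rfl
        rw [this, LinearMap.lTensor_comp]
        exact ih.comp (lTensor_inclusion_injective_of_maximal_smul_le h hle hm)
    intro k
    apply hinj k
    rw [← lTensor_comp_apply, map_zero]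
    exact hz
  have : Module.Finite S (M ⊗[R] I) := finite_tensor M I
  refine eq_zero_of_forall_mem_pow (S := S) m map_maximalIdeal_le_jacobson fun n => ?_
  obtain ⟨c, hc⟩ := m.exists_pow_inf_eq_pow_smul (M := R) I
  obtain ⟨w, hw⟩ := exists_of_map_sup_eq_zero I (m ^ (n + c)) (hIm (n + c))
  have hle : ∀ x : (I ⊓ m ^ (n + c) : Ideal R),
      Submodule.inclusion inf_le_left x ∈ (m ^ n • ⊤ : Submodule R I) := by
    rintro ⟨x, hx⟩
    have h2 := hc (n + c) (Nat.le_add_left _ _)
    simp only [smul_eq_mul, Ideal.mul_top, Nat.add_sub_cancel] at h2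
    rw [inf_comm] at h2
    have hx' : x ∈ m ^ n • I := (h2.le.trans (Ideal.mul_mono_right inf_le_right)) hx
    have : x ∈ Submodule.map I.subtype (m ^ n • (⊤ : Submodule R I)) := by
      rwa [Submodule.map_smul'', Submodule.map_top, Submodule.range_subtype]
    obtain ⟨y, hy, hyx⟩ := this
    have hyeq : Submodule.inclusion (inf_le_left : I ⊓ m ^ (n + c) ≤ I) ⟨x, hx⟩ = y :=
      Subtype.ext (show x = (y : R) from hyx.symm)
    rw [hyeq]
    exact hy
  have : Submodule.inclusion (inf_le_left : I ⊓ m ^ (n + c) ≤ I) =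
      (m ^ n • ⊤ : Submodule R I).subtype ∘ₗ LinearMap.codRestrict _ _ hle := rfl
  rw [← hw, this, lTensor_comp_apply]
  exact range_lTensor_smul_top_le _ ⟨_, rfl⟩

/-- The variant of the local criterion modulo an ideal. -/
theorem flat_of_lTensor_injective_of_flat_quotient [IsNoetherianRing R] (I : Ideal R) (hI : I ≠ ⊤)
    (h1 : Function.Injective (I.subtype.lTensor M))
    [Module.Flat (R ⧸ I) ((R ⧸ I) ⊗[R] M)] : Module.Flat R M := by
  apply flat_of_lTensor_maximalIdeal_injective S
  rw [lTensor_inj_iff_rTensor_inj, injective_iff_map_eq_zero]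
  intro z hz
  rw [lTensor_inj_iff_rTensor_inj] at h1
  have hIm : I ≤ maximalIdeal R := IsLocalRing.le_maximalIdeal hI
  let q : maximalIdeal R →ₗ[R] R ⧸ I := I.mkQ ∘ₗ (maximalIdeal R).subtype
  let P := LinearMap.range q
  have hex : Function.Exact (Submodule.inclusion hIm) q.rangeRestrict := by
    rw [LinearMap.exact_iff, ker_rangeRestrict, Submodule.range_inclusion, LinearMap.ker_comp,
      Submodule.ker_mkQ]
  have h2 : q.rangeRestrict.rTensor M z = 0 := by
    apply rTensor_injective_of_killed I (fun a ha x => ?_) P.subtype Subtype.val_injective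
    · rw [map_zero, ← rTensor_comp_apply, show P.subtype ∘ₗ q.rangeRestrict = I.mkQ ∘ₗ (maximalIdeal R).subtype from rfl,
        rTensor_comp_apply, hz, map_zero]
    · obtain ⟨x, rfl⟩ := I.mkQ_surjective x
      rw [← map_smul, Submodule.mkQ_apply, Submodule.Quotient.mk_eq_zero, smul_eq_mul]
      exact I.mul_mem_right _ ha
  obtain ⟨w, hw⟩ := mem_range_rTensor_of_exact hex (LinearMap.surjective_rangeRestrict q) h2
  have : I.subtype.rTensor M w = 0 := by
    rw [← hz, ← hw, ← rTensor_comp_apply]
    rfl
  rw [(injective_iff_map_eq_zero _).mp h1 w this, map_zero] at hw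
  exact hw.symm

end Criterion

end Groth.L20
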