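import Groth.Prelude.Def_FlatCA
import Mathlib.LinearAlgebra.TensorProduct.Tower

/-!
# The fibre module as a tensor product over the base
-/

universe u v w

namespace Groth.L20

open TensorProduct LinearMap

theorem smul_eq_rTensor {R : Type*} [CommRing R] {S : Type*} [CommRing S] [Algebra R S]
    {N : Type*} [AddCommGroup N] [Module R N] [Module S N] [IsScalarTower R S N]
    {Q : Type*} [AddCommGroup Q] [Module R Q] (g : S) (z : N ⊗[R] Q) :
    g • z = (((LinearMap.lsmul S N g).restrictScalars R)).rTensor Q z := by
  induction z using TensorProduct.induction_on with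
  | zero => simp
  | add a b ha hb => rw [smul_add, map_add, ha, hb]
  | tmul x m => rfl

/-- The fibre module of `N` at `p` is `N ⊗_R κ(p)`. -/
noncomputable def fiberModEquiv {R : Type u} [CommRing R] (p : Ideal R) [p.IsPrime] (S : Type u)
    [CommRing S] [Algebra R S] (N : Type u) [AddCommGroup N] [Module S N] [Module R N]
    [IsScalarTower R S N] : FlatCA.fiberMod p S N ≃ₗ[S] N ⊗[R] p.ResidueField :=
  letI : Algebra S (p.Fiber S) := Algebra.TensorProduct.rightAlgebra
  let c : p.Fiber S ≃ₗ[S] S ⊗[R] p.ResidueField :=
    { (TensorProduct.comm R p.ResidueField S : p.Fiber S ≃ₗ[R] S ⊗[R] p.ResidueField) with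
      map_smul' := fun s x => by
        change (TensorProduct.comm R p.ResidueField S)
            ((Algebra.TensorProduct.includeRight (R := R) (A := p.ResidueField) (B := S) s : p.Fiber S) * x) =
          s • (TensorProduct.comm R p.ResidueField S) x
        induction x using TensorProduct.induction_on with
        | zero => simp
        | add a b ha hb => rw [mul_add, map_add, ha, hb, map_add, smul_add]
        | tmul a b =>
          rw [Algebra.TensorProduct.includeRight_apply, Algebra.TensorProduct.tmul_mul_tmul, one_mul,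
            TensorProduct.comm_tmul, TensorProduct.comm_tmul, TensorProduct.smul_tmul', smul_eq_mul] }
  show (p.Fiber S) ⊗[S] N ≃ₗ[S] N ⊗[R] p.ResidueField from
    (TensorProduct.congr c (LinearEquiv.refl S N)) ≪≫ₗ TensorProduct.comm S _ N ≪≫ₗ
      AlgebraTensorModule.cancelBaseChange R S S N p.ResidueField

end Groth.L20

namespace Groth.L20

open TensorProduct

/-- From `f + b = 1` (or a unit modulo) with `b ∈ IS`: the endomorphism is congruent to a scalar. -/
theorem smul_sub_mem_of_sub_mem {R : Type*} [CommRing R] {S : Type*} [CommRing S] [Algebra R S]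
    {N : Type*} [AddCommGroup N] [Module R N] [Module S N] [IsScalarTower R S N]
    (I : Ideal R) (f : S) (s : R) (h : f - algebraMap R S s ∈ I.map (algebraMap R S)) (x : N) :
    f • x - s • x ∈ I • (⊤ : Submodule R N) := by
  rw [← algebraMap_smul S s x, ← sub_smul]
  have := Submodule.smul_mem_smul (I := I.map (algebraMap R S)) h (Submodule.mem_top (R := S) (x := x))
  rw [← Submodule.restrictScalars_mem R, Ideal.smul_restrictScalars] at this
  simpa using this

theorem exists_mem_of_not_ne_top {S : Type*} [CommRing S] {q J : Ideal S} (h : ¬ q ⊔ J ≠ ⊤) :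
    ∃ f ∈ q, f - 1 ∈ J := by
  rw [ne_eq, not_not, Ideal.eq_top_iff_one] at h
  obtain ⟨f, hf, b, hb, hfb⟩ := Submodule.mem_sup.mp h
  exact ⟨f, hf, by rw [← hfb, sub_add_cancel_left]; exact neg_mem hb⟩

theorem false_of_mem_ass {S : Type u} [CommRing S] {M : Type v} [AddCommGroup M] [Module S M]
    {q : Ideal S} (hq : q ∈ FlatCA.ass S M) {f : S} (hf : f ∈ q)
    (hinj : ∀ z : M, f • z = 0 → z = 0) : False := by
  obtain ⟨hp, z, rfl⟩ := hq
  apply hp.ne_top
  rw [Submodule.mem_annihilator_span_singleton] at hf
  rw [hinj z hf]
  simp [Submodule.annihilator_bot]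

end Groth.L20
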