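import Groth.Agent.L20.LocalCriterion
import Mathlib.RingTheory.LocalRing.ResidueField.Basic
import Mathlib.LinearAlgebra.TensorProduct.Prod
import Mathlib.LinearAlgebra.TensorProduct.Finiteness

/-!
# Maps into flat modules which are injective modulo the maximal ideal
-/

universe u v w

namespace Groth.L20

open TensorProduct LinearMap IsLocalRing

variable {R : Type u} [CommRing R] [IsLocalRing R]
  {N M : Type*} [AddCommGroup N] [Module R N] [AddCommGroup M] [Module R M]

/-- Injectivity modulo `m` gives injectivity after tensoring with any module killed by `m`. -/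
theorem lTensor_injective_of_killed (u : N →ₗ[R] M)
    (h : Function.Injective (u.lTensor (ResidueField R)))
    {V : Type*} [AddCommGroup V] [Module R V] (hV : ∀ a ∈ maximalIdeal R, ∀ x : V, a • x = 0) :
    Function.Injective (u.lTensor V) := by
  classical
  let m := maximalIdeal R
  have hV' : Module.IsTorsionBySet R V m := fun x a => hV a a.2 x
  let _ : Module (R ⧸ m) V := hV'.module
  have : IsScalarTower R (R ⧸ m) V := hV'.isScalarTower
  let _ : Field (R ⧸ m) := Ideal.Quotient.field m
  let b := Module.Free.chooseBasis (R ⧸ m) V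
  let e : V ≃ₗ[R] (Module.Free.ChooseBasisIndex (R ⧸ m) V →₀ ResidueField R) :=
    b.repr.restrictScalars R
  rw [injective_iff_map_eq_zero]
  intro z hz
  apply (e.rTensor N).injective
  rw [map_zero]
  apply (TensorProduct.comm R _ N).injective
  rw [map_zero]
  apply finsupp_tensor_ext
  intro i
  apply (TensorProduct.comm R N (ResidueField R)).injective
  rw [map_zero]
  have key : ∀ y : V ⊗[R] N,
      (TensorProduct.comm R N (ResidueField R))
        ((Finsupp.lapply i).lTensor N ((TensorProduct.comm R _ N) (e.rTensor N y))) =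
      ((Finsupp.lapply i) ∘ₗ e.toLinearMap).rTensor N y := by
    intro y
    induction y using TensorProduct.induction_on with
    | zero => simp only [map_zero]
    | add a b ha hb => simp only [map_add, ha, hb]
    | tmul v n => simp
  rw [key]
  apply h
  rw [map_zero, ← comp_apply, lTensor_comp_rTensor, ← rTensor_comp_lTensor, comp_apply, hz,
    map_zero]

omit [IsLocalRing R] in
theorem tensor_swap {P P' A A' : Type*} [AddCommMonoid P] [Module R P] [AddCommMonoid P'] [Module R P']
    [AddCommMonoid A] [Module R A] [AddCommMonoid A'] [Module R A'] (f : P →ₗ[R] P') (g : A →ₗ[R] A')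
    (x : P ⊗[R] A) : f.rTensor A' (g.lTensor P x) = g.lTensor P' (f.rTensor A x) := by
  rw [← comp_apply, rTensor_comp_lTensor, ← lTensor_comp_rTensor, comp_apply]

section Filtration

variable {S : Type*} [CommRing S] [IsLocalRing S] [Algebra R S] [IsNoetherianRing S]
  [IsLocalHom (algebraMap R S)] [Module S N] [IsScalarTower R S N] [Module.Finite S N]
  [Module.Flat R M]

variable (S) in
include S in
/-- For a finite module over a Noetherian local algebra, a map to a flat module which is injective
modulo `m` is universally injective. -/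
theorem lTensor_injective_of_residueField (u : N →ₗ[R] M)
    (h : Function.Injective (u.lTensor (ResidueField R)))
    (Q : Type*) [AddCommGroup Q] [Module R Q] : Function.Injective (u.lTensor Q) := by
  rw [injective_iff_map_eq_zero]
  intro z₀ hz₀
  obtain ⟨Q', hQ', hsub⟩ :=
    Submodule.exists_fg_le_subset_range_rTensor_subtype {z₀} (Set.finite_singleton z₀)
  obtain ⟨z, rfl⟩ := hsub rfl
  have : Module.Finite R Q' := Module.Finite.iff_fg.mpr hQ'
  have hz : u.lTensor Q' z = 0 := by
    apply Module.Flat.rTensor_preserves_injective_linearMap (M := M) Q'.subtype Subtype.val_injective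
    rw [map_zero, ← hz₀, ← comp_apply, ← comp_apply, rTensor_comp_lTensor, lTensor_comp_rTensor]
  suffices z = 0 by rw [this, map_zero]
  let m := maximalIdeal R
  have step : ∀ n : ℕ, z ∈ LinearMap.range ((m ^ n • (⊤ : Submodule R Q')).subtype.rTensor N) := by
    intro n
    induction n with
    | zero =>
      have hs : Function.Surjective (m ^ 0 • (⊤ : Submodule R Q')).subtype :=
        fun x => ⟨⟨x, by simp⟩, rfl⟩
      exact rTensor_surjective N hs z
    | succ n ih =>
      obtain ⟨w, hw⟩ := ih
      let K := m ^ n • (⊤ : Submodule R Q')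
      have hw0 : u.lTensor K w = 0 := by
        apply Module.Flat.rTensor_preserves_injective_linearMap (M := M) K.subtype
          Subtype.val_injective
        rw [map_zero, ← hz, ← hw, ← comp_apply, ← comp_apply, rTensor_comp_lTensor,
          lTensor_comp_rTensor]
      let K' : Submodule R K := m • ⊤
      have hkill : ∀ a ∈ m, ∀ x : K ⧸ K', a • x = 0 := by
        intro a ha x
        obtain ⟨y, rfl⟩ := K'.mkQ_surjective x
        rw [← map_smul, Submodule.mkQ_apply, Submodule.Quotient.mk_eq_zero]
        exact Submodule.smul_mem_smul ha trivial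
      have hw1 : K'.mkQ.rTensor N w = 0 := by
        apply lTensor_injective_of_killed u h hkill
        rw [map_zero, ← comp_apply, lTensor_comp_rTensor, ← rTensor_comp_lTensor, comp_apply, hw0,
          map_zero]
      obtain ⟨w', hw'⟩ := mem_range_rTensor_of_exact (A := K') (LinearMap.exact_subtype_mkQ K')
        K'.mkQ_surjective hw1
      have hle : ∀ x : K', K.subtype (x : K) ∈ (m ^ (n + 1) • ⊤ : Submodule R Q') := by
        intro x
        have : K.subtype (x : K) ∈ Submodule.map K.subtype K' := ⟨x, x.2, rfl⟩
        rwa [Submodule.map_smul'', Submodule.map_top, Submodule.range_subtype,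
          ← Submodule.smul_assoc, smul_eq_mul, ← pow_succ'] at this
      refine ⟨(LinearMap.codRestrict (m ^ (n + 1) • ⊤ : Submodule R Q')
        (K.subtype ∘ₗ K'.subtype) hle).rTensor N w', ?_⟩
      rw [← hw, ← hw', ← rTensor_comp_apply, ← rTensor_comp_apply]
      rfl
  apply (TensorProduct.comm R Q' N).injective
  rw [map_zero]
  have : Module.Finite S (N ⊗[R] Q') := finite_tensor N Q'
  refine eq_zero_of_forall_mem_pow (S := S) m map_maximalIdeal_le_jacobson fun n => ?_
  have h2 : z ∈ (m ^ n) • (⊤ : Submodule R (Q' ⊗[R] N)) :=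
    range_rTensor_smul_top_le _ (step n)
  have h3 := Submodule.mem_map_of_mem (f := (TensorProduct.comm R Q' N).toLinearMap) h2
  rw [Submodule.map_smul'', Submodule.map_top, LinearEquiv.range] at h3
  exact h3

end Filtration

omit [IsLocalRing R] in
/-- The cokernel of a universally injective map into a flat module is flat. -/
theorem flat_quotient_range_of_lTensor_injective [Module.Flat R M] (u : N →ₗ[R] M)
    (h : ∀ I : Ideal R, Function.Injective (u.lTensor (R ⧸ I))) :
    Module.Flat R (M ⧸ LinearMap.range u) := by
  rw [Module.Flat.iff_lTensor_injective']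
  intro I
  exact lTensor_injective_of_exact_of_exact_of_rTensor_injective u.exact_map_mkQ_range
    (Submodule.mkQ_surjective _) (LinearMap.exact_subtype_mkQ I) (Submodule.mkQ_surjective _)
    ((LinearMap.lTensor_inj_iff_rTensor_inj _ _).mp (h I))
    (Module.Flat.lTensor_preserves_injective_linearMap _ Subtype.val_injective)

omit [IsLocalRing R] in
theorem injective_of_lTensor_self (u : N →ₗ[R] M) (h : Function.Injective (u.lTensor R)) :
    Function.Injective u := by
  intro x y hxy
  have : u.lTensor R (1 ⊗ₜ x) = u.lTensor R (1 ⊗ₜ y) := by simp [hxy]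
  simpa using congrArg (TensorProduct.lid R N) (h this)

/-- Injectivity modulo an ideal, elementwise. -/
theorem injective_lTensor_quotient_iff {R : Type*} [CommRing R] {N M : Type*}
    [AddCommGroup N] [Module R N] [AddCommGroup M] [Module R M] (I : Ideal R) (u : N →ₗ[R] M) :
    Function.Injective (u.lTensor (R ⧸ I)) ↔
      ∀ x, u x ∈ I • (⊤ : Submodule R M) → x ∈ I • (⊤ : Submodule R N) := by
  have key : ∀ x : N, ((1 : R ⧸ I) ⊗ₜ[R] x = 0) ↔ x ∈ I • (⊤ : Submodule R N) := by
    intro x
    rw [← (quotTensorEquivQuotSMul N I).map_eq_zero_iff, quotTensorEquivQuotSMul_mk_one_tmul,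
      Submodule.Quotient.mk_eq_zero]
  have key' : ∀ x : M, ((1 : R ⧸ I) ⊗ₜ[R] x = 0) ↔ x ∈ I • (⊤ : Submodule R M) := by
    intro x
    rw [← (quotTensorEquivQuotSMul M I).map_eq_zero_iff, quotTensorEquivQuotSMul_mk_one_tmul,
      Submodule.Quotient.mk_eq_zero]
  constructor
  · intro h x hx
    rw [← key]
    apply h
    rw [map_zero, lTensor_tmul, key']
    exact hx
  · intro h
    rw [injective_iff_map_eq_zero]
    intro z hz
    obtain ⟨x, rfl⟩ := TensorProduct.mk_surjective R N (R ⧸ I) Ideal.Quotient.mk_surjective z
    rw [TensorProduct.mk_apply, lTensor_tmul, key'] at hz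
    rw [TensorProduct.mk_apply, key]
    exact h x hz

theorem injective_lTensor_residueField_iff (u : N →ₗ[R] M) :
    Function.Injective (u.lTensor (ResidueField R)) ↔
      ∀ x, u x ∈ maximalIdeal R • (⊤ : Submodule R M) → x ∈ maximalIdeal R • (⊤ : Submodule R N) :=
  injective_lTensor_quotient_iff _ u

section Free

omit [IsLocalRing R] in
theorem flat_prod [Module.Flat R M] [Module.Flat R N] : Module.Flat R (M × N) := by
  rw [Module.Flat.iff_lTensor_injective']
  intro I
  rw [injective_iff_map_eq_zero]
  intro z hz
  apply (TensorProduct.prodLeft R R M N I).injective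
  rw [map_zero]
  have hfst : ∀ {X : Type u} [AddCommGroup X] [Module R X] (z : (M × N) ⊗[R] X),
      (TensorProduct.prodLeft R R M N X z) =
        ((LinearMap.fst R M N).rTensor X z, (LinearMap.snd R M N).rTensor X z) := by
    intro X _ _ z
    induction z using TensorProduct.induction_on with
    | zero => simp only [map_zero]; rfl
    | add a b ha hb => simp only [map_add, ha, hb, Prod.mk_add_mk]
    | tmul a b => rw [TensorProduct.prodLeft_tmul]; rfl
  rw [hfst]
  refine Prod.ext ?_ ?_
  · apply Module.Flat.lTensor_preserves_injective_linearMap (M := M) I.subtype Subtype.val_injective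
    rw [Prod.fst_zero, map_zero, ← comp_apply, lTensor_comp_rTensor, ← rTensor_comp_lTensor,
      comp_apply, hz, map_zero]
  · apply Module.Flat.lTensor_preserves_injective_linearMap (M := N) I.subtype Subtype.val_injective
    rw [Prod.snd_zero, map_zero, ← comp_apply, lTensor_comp_rTensor, ← rTensor_comp_lTensor,
      comp_apply, hz, map_zero]


variable [Module.Flat R M]

theorem lTensor_injective_of_fin_free {n : ℕ} (u : (Fin n → R) →ₗ[R] M)
    (h : Function.Injective (u.lTensor (ResidueField R)))
    (Q : Type*) [AddCommGroup Q] [Module R Q] : Function.Injective (u.lTensor Q) := by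
  classical
  rw [injective_iff_map_eq_zero]
  intro z hz
  let P := Q →₀ R
  let π : P →ₗ[R] Q := Finsupp.linearCombination R id
  have hπ : Function.Surjective π := fun q => ⟨Finsupp.single q 1, by
    change Finsupp.linearCombination R id (Finsupp.single q 1) = q
    rw [Finsupp.linearCombination_single, one_smul]; rfl⟩
  obtain ⟨ζ, hζ⟩ := rTensor_surjective (Fin n → R) hπ z
  have h0 : π.rTensor M (u.lTensor P ζ) = 0 := by
    rw [← hz, ← hζ, ← comp_apply, ← comp_apply, rTensor_comp_lTensor, lTensor_comp_rTensor]
  obtain ⟨w, hw⟩ := mem_range_rTensor_of_exact (A := LinearMap.ker π) (LinearMap.exact_subtype_ker_map π) hπ h0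
  obtain ⟨N', hN', hw'⟩ :=
    TensorProduct.exists_finite_submodule_right_of_setFinite {w} (Set.finite_singleton w)
  obtain ⟨w, rfl⟩ := hw' rfl
  obtain ⟨l, y, hy⟩ := Module.Finite.exists_fin' R N'
  obtain ⟨w, rfl⟩ := lTensor_surjective (ker π) hy w
  let x : (Fin n → R) × (Fin l → R) →ₗ[R] M := u.coprod (-(N'.subtype ∘ₗ y))
  let η : P ⊗[R] ((Fin n → R) × (Fin l → R)) :=
    (LinearMap.inl R _ _).lTensor P ζ +
      (LinearMap.inr R _ _).lTensor P ((ker π).subtype.rTensor _ w)
  have hη : x.lTensor P η = 0 := by
    have h1 : x ∘ₗ LinearMap.inl R _ _ = u := by ext; simp [x]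
    have h2 : x ∘ₗ LinearMap.inr R _ _ = -(N'.subtype ∘ₗ y) := by ext; simp [x]
    rw [map_add, ← lTensor_comp_apply, ← lTensor_comp_apply, h1, h2, lTensor_neg, ← hw,
      ← lTensor_comp_apply, tensor_swap]
    exact add_neg_cancel (_ : P ⊗[R] M)
  let e := finsuppScalarLeft R ((Fin n → R) × (Fin l → R)) Q
  let K := Submodule.span R (Set.range fun q => e η q)
  have hKfg : K.FG := by
    refine ⟨insert 0 ((e η).support.image (e η)), le_antisymm ?_ ?_⟩
    · rw [Submodule.span_le]
      intro v hv
      rcases Finset.mem_insert.mp hv with rfl | hv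
      · exact zero_mem _
      · obtain ⟨q, -, rfl⟩ := Finset.mem_image.mp hv
        exact Submodule.subset_span ⟨q, rfl⟩
    · rw [Submodule.span_le]
      rintro _ ⟨q, rfl⟩
      by_cases hq : q ∈ (e η).support
      · exact Submodule.subset_span (Finset.mem_insert_of_mem (Finset.mem_image_of_mem _ hq))
      · simp [Finsupp.notMem_support_iff.mp hq]
  have hxK : x ∘ₗ K.subtype = 0 := by
    ext ⟨k, hk⟩
    simp only [comp_apply, Submodule.subtype_apply, LinearMap.zero_apply]
    change k ∈ LinearMap.ker x
    refine Submodule.span_le.mpr ?_ hk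
    rintro _ ⟨q, rfl⟩
    change x (e η q) = 0
    rw [finsuppScalarLeft_apply]
    have : ∀ t : R ⊗[R] ((Fin n → R) × (Fin l → R)),
        x (TensorProduct.lid R _ t) = TensorProduct.lid R M (x.lTensor R t) := by
      intro t
      induction t using TensorProduct.induction_on with
      | zero => simp
      | add a b ha hb => simp only [map_add, ha, hb]
      | tmul r v => simp
    rw [this, ← comp_apply (x.lTensor R), lTensor_comp_rTensor, ← rTensor_comp_lTensor, comp_apply,
      hη, map_zero, map_zero]
  have : Module.Finite R K := Module.Finite.iff_fg.mpr hKfg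
  obtain ⟨k, a, b, hxb, ha⟩ := Module.Flat.exists_factorization_of_comp_eq_zero_of_free hxK
  let a₀ := a ∘ₗ LinearMap.inl R (Fin n → R) (Fin l → R)
  have hu : u = b ∘ₗ a₀ := by
    rw [← LinearMap.comp_assoc, ← hxb]
    ext; simp [x]
  have haη : a.lTensor P η = 0 := by
    apply (finsuppScalarLeft R (Fin k →₀ R) Q).injective
    ext1 q
    rw [map_zero, Finsupp.zero_apply, finsuppScalarLeft_apply]
    have : ∀ t : R ⊗[R] ((Fin n → R) × (Fin l → R)),
        a (TensorProduct.lid R _ t) = TensorProduct.lid R _ (a.lTensor R t) := by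
      intro t
      induction t using TensorProduct.induction_on with
      | zero => simp
      | add a b ha hb => simp only [map_add, ha, hb]
      | tmul r v => simp
    rw [← comp_apply (rTensor _ _), rTensor_comp_lTensor, ← lTensor_comp_rTensor, comp_apply,
      ← this, ← finsuppScalarLeft_apply]
    exact LinearMap.congr_fun ha ⟨e η q, Submodule.subset_span ⟨q, rfl⟩⟩
  have hinj : Function.Injective (a₀.lTensor (ResidueField R)) := by
    rw [hu, LinearMap.lTensor_comp, LinearMap.coe_comp] at h
    exact h.of_comp
  obtain ⟨a', ha'⟩ := (IsLocalRing.split_injective_iff_lTensor_residueField_injective a₀).mpr hinj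
  have hz0 : a₀.lTensor Q z = 0 := by
    have h3 := congrArg (π.rTensor (Fin k →₀ R)) haη
    rw [map_zero, map_add, map_add] at h3
    have h4 : π.rTensor (Fin k →₀ R)
        (a.lTensor P ((LinearMap.inr R (Fin n → R) (Fin l → R)).lTensor P
          ((ker π).subtype.rTensor _ w))) = 0 := by
      rw [tensor_swap, tensor_swap, ← rTensor_comp_apply, LinearMap.comp_ker_subtype,
        rTensor_zero, LinearMap.zero_apply, map_zero, map_zero]
    rw [h4, add_zero] at h3
    rw [← h3, ← hζ, ← lTensor_comp_apply, tensor_swap]
  have h5 := congrArg (a'.lTensor Q) hz0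
  rwa [map_zero, ← lTensor_comp_apply, ha', lTensor_id, id_apply] at h5

/-- A map from a projective module to a flat module which is injective modulo `m` is universally
injective. -/
theorem lTensor_injective_of_projective [Module.Projective R N] (u : N →ₗ[R] M)
    (h : Function.Injective (u.lTensor (ResidueField R)))
    (Q : Type*) [AddCommGroup Q] [Module R Q] : Function.Injective (u.lTensor Q) := by
  classical
  obtain ⟨s, hs⟩ := Module.Projective.out (R := R) (P := N)
  let r : (N →₀ R) →ₗ[R] N := Finsupp.linearCombination R id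
  have hrs : r ∘ₗ s = LinearMap.id := LinearMap.ext hs
  let v : (N →₀ R) →ₗ[R] M × (N →₀ R) := (u ∘ₗ r).prod (LinearMap.id - s ∘ₗ r)
  have hv : ∀ x, v x ∈ maximalIdeal R • (⊤ : Submodule R (M × (N →₀ R))) →
      x ∈ maximalIdeal R • (⊤ : Submodule R (N →₀ R)) := by
    intro x hx
    have h1 := Submodule.mem_map_of_mem (f := LinearMap.fst R M (N →₀ R)) hx
    have h2 := Submodule.mem_map_of_mem (f := LinearMap.snd R M (N →₀ R)) hx
    rw [Submodule.map_smul'', Submodule.map_top] at h1 h2
    have h3 : r x ∈ maximalIdeal R • (⊤ : Submodule R N) :=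
      (injective_lTensor_residueField_iff u).mp h _ (Submodule.smul_mono le_rfl le_top h1)
    have h4 := Submodule.mem_map_of_mem (f := s) h3
    rw [Submodule.map_smul''] at h4
    have h5 : (x - s (r x)) ∈ maximalIdeal R • (⊤ : Submodule R (N →₀ R)) :=
      Submodule.smul_mono le_rfl le_top h2
    simpa using add_mem h5 (Submodule.smul_mono le_rfl le_top h4)
  have : Module.Flat R (M × (N →₀ R)) := flat_prod
  have hvQ : Function.Injective (v.lTensor Q) := by
    rw [injective_iff_map_eq_zero]
    intro z hz
    apply (finsuppRight R R Q R N).injective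
    rw [map_zero]
    set t := (finsuppRight R R Q R N z).support
    let emb : t → N := Subtype.val
    let I : (Fin t.card → R) →ₗ[R] (N →₀ R) :=
      Finsupp.lmapDomain R R (emb ∘ t.equivFin.symm) ∘ₗ
        (Finsupp.linearEquivFunOnFinite R R (Fin t.card)).symm.toLinearMap
    let J : (N →₀ R) →ₗ[R] (Fin t.card → R) :=
      LinearMap.pi fun j => Finsupp.lapply (emb (t.equivFin.symm j))
    have hinjemb : Function.Injective (emb ∘ t.equivFin.symm) :=
      Subtype.val_injective.comp t.equivFin.symm.injective
    have hJI : J ∘ₗ I = LinearMap.id := by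
      refine LinearMap.ext fun c => ?_
      funext j
      simp only [J, I, comp_apply, LinearEquiv.coe_coe, LinearMap.pi_apply, Finsupp.lapply_apply,
        Finsupp.lmapDomain_apply, id_apply]
      rw [show emb (t.equivFin.symm j) = (emb ∘ t.equivFin.symm) j from rfl,
        Finsupp.mapDomain_apply hinjemb]
      simp
    have hw : Function.Injective ((v ∘ₗ I).lTensor (ResidueField R)) := by
      rw [LinearMap.lTensor_comp]
      refine ((injective_lTensor_residueField_iff v).mpr hv).comp ?_
      have : Function.LeftInverse (J.lTensor (ResidueField R)) (I.lTensor (ResidueField R)) :=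
        fun a => by rw [← lTensor_comp_apply, hJI, lTensor_id, id_apply]
      exact this.injective
    have hz' : z = (I ∘ₗ J).lTensor Q z := by
      apply (finsuppRight R R Q R N).injective
      ext1 i
      rw [finsuppRight_apply, finsuppRight_apply, ← lTensor_comp_apply]
      by_cases hi : i ∈ t
      · congr 1
        have : (Finsupp.lapply i ∘ₗ I ∘ₗ J : (N →₀ R) →ₗ[R] R) = Finsupp.lapply i := by
          refine LinearMap.ext fun c => ?_
          obtain ⟨j, rfl⟩ : ∃ j, emb (t.equivFin.symm j) = i :=
            ⟨t.equivFin ⟨i, hi⟩, by simp [emb]⟩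
          simp only [comp_apply, Finsupp.lapply_apply]
          exact congrFun (LinearMap.congr_fun hJI (J c)) j
        rw [this]
      · have h0 : finsuppRight R R Q R N z i = 0 := Finsupp.notMem_support_iff.mp hi
        rw [finsuppRight_apply] at h0
        have : (Finsupp.lapply i ∘ₗ I ∘ₗ J : (N →₀ R) →ₗ[R] R) = 0 := by
          refine LinearMap.ext fun c => ?_
          simp only [comp_apply, Finsupp.lapply_apply, I, Finsupp.lmapDomain_apply]
          refine Finsupp.mapDomain_of_notMem_range _ _ ?_
          rintro ⟨j, hj⟩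
          exact hi (hj ▸ (t.equivFin.symm j).2)
        rw [h0, this, lTensor_zero, LinearMap.zero_apply]
    have : J.lTensor Q z = 0 := by
      apply lTensor_injective_of_fin_free (v ∘ₗ I) hw Q
      rw [map_zero, ← lTensor_comp_apply, LinearMap.comp_assoc, lTensor_comp_apply, ← hz', hz]
    rw [hz', lTensor_comp_apply, this, map_zero, map_zero]
  rw [injective_iff_map_eq_zero]
  intro z hz
  have h0 : v.lTensor Q (s.lTensor Q z) = 0 := by
    have h1 : v ∘ₗ s = LinearMap.inl R M (N →₀ R) ∘ₗ u := by
      refine LinearMap.ext fun n => ?_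
      have : r (s n) = n := LinearMap.congr_fun hrs n
      simp [v, this]
    rw [← lTensor_comp_apply, h1, lTensor_comp_apply, hz, map_zero]
  have h1 := congrArg (r.lTensor Q) ((injective_iff_map_eq_zero _).mp hvQ _ h0)
  rwa [map_zero, ← lTensor_comp_apply, hrs, lTensor_id, id_apply] at h1

end Free

end Groth.L20
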