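import Groth.Prelude.Def_Flat
import Mathlib.AlgebraicGeometry.Morphisms.Integral
import Mathlib.AlgebraicGeometry.Morphisms.UniversallyInjective

/-!
# Universal homeomorphisms
-/

universe u

open CategoryTheory CategoryTheory.Limits AlgebraicGeometry

namespace Groth.L20

variable {X Y Z : Scheme.{u}}

theorem isUnivHomeo_iff (f : X ⟶ Y) :
    FlatMor.IsUnivHomeo f ↔ UniversallyClosed f ∧ UniversallyInjective f ∧ Surjective f := by
  constructor
  · intro h
    refine ⟨⟨fun A B i₁ i₂ f' H => ?_⟩, ⟨fun A B i₁ i₂ f' H => ?_⟩, ⟨?_⟩⟩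
    · exact (h i₁ i₂ f' H).homeomorph.isClosedMap
    · exact (h i₁ i₂ f' H).bijective.1
    · exact (h _ _ f IsPullback.of_id_snd).bijective.2
  · rintro ⟨hc, hi, hs⟩ A B i₁ i₂ f' H
    have hs' : Surjective f' := MorphismProperty.of_isPullback (P := @Surjective) H.flip hs
    exact isHomeomorph_iff_continuous_isClosedMap_bijective.mpr
      ⟨f'.continuous, hc.universally_isClosedMap i₁ i₂ f' H,
        hi.universally_injective i₁ i₂ f' H, hs'.surj⟩

theorem isHomeomorph_of_isUnivHomeo {f : X ⟶ Y} (h : FlatMor.IsUnivHomeo f) : IsHomeomorph f :=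
  h _ _ f IsPullback.of_id_snd

theorem isAffineHom_of_isUnivHomeo {f : X ⟶ Y} (h : FlatMor.IsUnivHomeo f) : IsAffineHom f :=
  isAffineHom_of_isInducing f (isHomeomorph_of_isUnivHomeo h).homeomorph.isInducing
    ((isHomeomorph_of_isUnivHomeo h).homeomorph.isClosedMap.isClosed_range)

theorem isIntegralHom_of_isUnivHomeo {f : X ⟶ Y} (h : FlatMor.IsUnivHomeo f) : IsIntegralHom f :=
  IsIntegralHom.iff_universallyClosed_and_isAffineHom.mpr
    ⟨((isUnivHomeo_iff f).mp h).1, isAffineHom_of_isUnivHomeo h⟩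

theorem isUnivHomeo_of_comp_left {g : X ⟶ Y} {h : Y ⟶ Z}
    (hgh : FlatMor.IsUnivHomeo (g ≫ h)) (hg : FlatMor.IsUnivHomeo g) : FlatMor.IsUnivHomeo h := by
  intro A B i₁ i₂ h' H
  have H' := IsPullback.of_hasPullback i₁ g
  have h1 : IsHomeomorph (pullback.fst i₁ g) := hg _ _ _ H'.flip.flip
  have h2 : IsHomeomorph (pullback.fst i₁ g ≫ h' : _ ⟶ B) :=
    hgh _ _ _ (H'.flip.paste_vert H.flip).flip
  show IsHomeomorph h'
  have e : (h' : A → B) = (pullback.fst i₁ g ≫ h' : _ ⟶ B) ∘ h1.homeomorph.symm := by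
    funext x
    rw [Function.comp_apply, Scheme.Hom.comp_apply]
    exact congrArg h' (h1.homeomorph.apply_symm_apply x).symm
  rw [e]
  exact h2.comp h1.homeomorph.symm.isHomeomorph

theorem isUnivHomeo_diagonal {f : X ⟶ Y} (h : FlatMor.IsUnivHomeo f) :
    FlatMor.IsUnivHomeo (pullback.diagonal f) := by
  have := isAffineHom_of_isUnivHomeo h
  have hi := ((isUnivHomeo_iff f).mp h).2.1
  rw [isUnivHomeo_iff]
  exact ⟨inferInstance, inferInstance, (UniversallyInjective.iff_diagonal f).mp hi⟩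

theorem isUnivHomeo_of_comp_right {g : X ⟶ Y} {h : Y ⟶ Z}
    (hgh : FlatMor.IsUnivHomeo (g ≫ h)) (hh : FlatMor.IsUnivHomeo h) : FlatMor.IsUnivHomeo g := by
  have hd := isUnivHomeo_diagonal hh
  have : MorphismProperty.IsStableUnderComposition (topologically fun f => IsHomeomorph f) :=
    ⟨fun f g hf hg => (IsHomeomorph.comp hg hf : _)⟩
  have hmul : MorphismProperty.IsMultiplicative (FlatMor.IsUnivHomeo.{u}) :=
    { MorphismProperty.IsStableUnderComposition.universally (topologically fun f => IsHomeomorph f) with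
      id_mem := fun W => (isUnivHomeo_iff (𝟙 W)).mpr ⟨inferInstance, inferInstance, inferInstance⟩ }
  have hbc : MorphismProperty.IsStableUnderBaseChange (FlatMor.IsUnivHomeo.{u}) :=
    MorphismProperty.universally_isStableUnderBaseChange _
  let G : X ⟶ pullback (g ≫ h) h := pullback.lift (𝟙 X) g (by simp)
  have hG : FlatMor.IsUnivHomeo G := by
    have hp : IsPullback g G (pullback.diagonal h) (pullback.map (g ≫ h) h h h g (𝟙 Y) (𝟙 Z) (by simp) (by simp)) :=
      pullback_lift_diagonal_isPullback g h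
    exact MorphismProperty.of_isPullback hp hd
  have hs : FlatMor.IsUnivHomeo (pullback.snd (g ≫ h) h) :=
    MorphismProperty.of_isPullback (IsPullback.of_hasPullback (g ≫ h) h) hgh
  have := MorphismProperty.comp_mem _ _ _ hG hs
  have e : G ≫ pullback.snd (g ≫ h) h = g := pullback.lift_snd _ _ _
  rwa [e] at this

end Groth.L20
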