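import Mathlib.AlgebraicGeometry.Morphisms.WeaklyEtale
import Mathlib.RingTheory.Etale.Weakly
import Mathlib.RingTheory.Flat.EquationalCriterion
import Mathlib.RingTheory.Flat.FaithfullyFlat.Basic
import Mathlib.RingTheory.Nilpotent.Lemmas
import Mathlib.RingTheory.LocalRing.ResidueField.Ideal
import Mathlib.RingTheory.Flat.Localization
import Mathlib.Tactic.FieldSimp

/-!
# Weakly étale ring maps and morphisms
-/

universe u

open TensorProduct

namespace Groth.L20

/-- Finitely many elements of the kernel of a flat multiplication map are killed by an element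
mapping to one. -/
theorem exists_lmul_eq_one_mul_eq_zero {R T : Type*} [CommRing R] [CommRing T] [Algebra R T]
    (h : (Algebra.TensorProduct.lmul' R (S := T)).toRingHom.Flat) {n : ℕ} (f : Fin n → T ⊗[R] T)
    (hf : ∀ i, Algebra.TensorProduct.lmul' R (S := T) (f i) = 0) :
    ∃ e, Algebra.TensorProduct.lmul' R (S := T) e = 1 ∧ ∀ i, f i * e = 0 := by
  let μ := Algebra.TensorProduct.lmul' R (S := T)
  let _ : Algebra (T ⊗[R] T) T := μ.toRingHom.toAlgebra
  have hfl : Module.Flat (T ⊗[R] T) T := h
  have hs : ∀ (w : T ⊗[R] T) (l : T), w • l = μ w * l := fun _ _ => rfl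
  induction n with
  | zero => exact ⟨1, map_one _, fun i => i.elim0⟩
  | succ n ih =>
    obtain ⟨e, he, hke⟩ := ih (fun i => f i.succ) (fun i => hf _)
    have hrel : ∑ i : Fin 1, (fun _ => f 0) i • (fun _ => (1 : T)) i = 0 := by simp [hs, μ, hf 0]
    obtain ⟨k, A, y, hy, hA⟩ := Module.Flat.isTrivialRelation_of_sum_smul_eq_zero hrel
    let z := ∑ j, A 0 j * Algebra.TensorProduct.includeLeft (R := R) (S := R) (y j)
    have h1 : (1 : T) = ∑ j, A 0 j • y j := hy 0
    have hz : μ z = 1 := by
      rw [h1, map_sum]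
      simp [hs, μ]
    have hfz : f 0 * z = 0 := by
      simp only [z, Finset.mul_sum, ← mul_assoc]
      refine Finset.sum_eq_zero fun j _ => ?_
      have := hA j
      simp only [Fin.sum_univ_one] at this
      rw [this, zero_mul]
    refine ⟨z * e, by rw [map_mul, he, mul_one]; exact hz, fun i => ?_⟩
    refine Fin.cases ?_ ?_ i
    · rw [← mul_assoc, hfz, zero_mul]
    · intro i
      rw [mul_left_comm, hke i, mul_zero]

/-- If `T ⊗ T → T` is flat, a `T`-module flat over `R` is flat over `T`. -/
theorem flat_of_flat_of_flat_lmul {R T M : Type*} [CommRing R] [CommRing T] [Algebra R T]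
    (h : (Algebra.TensorProduct.lmul' R (S := T)).toRingHom.Flat)
    [AddCommGroup M] [Module R M] [Module T M] [IsScalarTower R T M] [Module.Flat R M] :
    Module.Flat T M := by
  rw [Module.Flat.iff_forall_isTrivialRelation]
  intro l f x hfx
  let act : T ⊗[R] T →ₗ[R] Module.End R (T ⊗[R] M) :=
    TensorProduct.lift (LinearMap.mk₂ R
      (fun b b' => TensorProduct.map (Algebra.lsmul R R T b) (Algebra.lsmul R R M b'))
      (fun b₁ b₂ b' => by simp [TensorProduct.map_add_left])
      (fun c b b' => by simp [TensorProduct.map_smul_left])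
      (fun b b₁ b₂ => by simp [TensorProduct.map_add_right])
      (fun c b b' => by simp [TensorProduct.map_smul_right]))
  have hact : ∀ b b' t m, act (b ⊗ₜ b') (t ⊗ₜ m) = (b * t) ⊗ₜ (b' • m) := fun _ _ _ _ => rfl
  have hmul : ∀ (e : T ⊗[R] T) (p : T ⊗[R] T) (w : T ⊗[R] M), act (e * p) w = act e (act p w) := by
    intro e p w
    induction e using TensorProduct.induction_on with
    | zero => simp
    | add a b ha hb => simp [add_mul, ha, hb]
    | tmul b b' =>
      induction p using TensorProduct.induction_on with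
      | zero => simp
      | add a c ha hc => simp [mul_add, ha, hc]
      | tmul c c' =>
        induction w using TensorProduct.induction_on with
        | zero => simp
        | add a d ha hd => simp only [map_add, ha, hd]
        | tmul t m => simp [hact, mul_assoc, mul_smul]
  have hleft : ∀ (s : T) (w : T ⊗[R] M), act (s ⊗ₜ 1) w = s • w := by
    intro s w
    induction w using TensorProduct.induction_on with
    | zero => simp
    | add a d ha hd => simp [ha, hd, smul_add]
    | tmul t m => simp [hact, TensorProduct.smul_tmul']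
  let π : T ⊗[R] M →ₗ[T] M := AlgebraTensorModule.lift
    ((LinearMap.lsmul T M).flip.restrictScalars R).flip
  have hπ : ∀ t m, π (t ⊗ₜ m) = t • m := fun _ _ => rfl
  have hπact : ∀ (e : T ⊗[R] T) (w : T ⊗[R] M),
      π (act e w) = Algebra.TensorProduct.lmul' R (S := T) e • π w := by
    intro e w
    induction e using TensorProduct.induction_on with
    | zero => simp
    | add a b ha hb => simp [add_smul, ha, hb]
    | tmul b b' =>
      induction w using TensorProduct.induction_on with
      | zero => simp
      | add a d ha hd => simp [ha, hd]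
      | tmul t m => simp [hact, hπ, ← mul_smul]; ring_nf
  obtain ⟨e, he, hfe⟩ := exists_lmul_eq_one_mul_eq_zero h
    (fun i => f i ⊗ₜ[R] (1 : T) - (1 : T) ⊗ₜ[R] f i) (fun i => by simp)
  let σ : M → T ⊗[R] M := fun m => act e ((1 : T) ⊗ₜ m)
  have hσ : ∑ i, f i • σ (x i) = 0 := by
    have key : ∀ i, f i • σ (x i) = act e ((1 : T) ⊗ₜ (f i • x i)) := by
      intro i
      have h2 : (f i ⊗ₜ[R] (1 : T)) * e = e * ((1 : T) ⊗ₜ[R] f i) := by
        rw [mul_comm e, ← sub_eq_zero, ← sub_mul, hfe i]
      rw [← hleft, ← hmul, h2, hmul, hact, one_mul]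
    simp only [key, ← map_sum, ← TensorProduct.tmul_sum, hfx, TensorProduct.tmul_zero, map_zero]
  obtain ⟨k, a, y, hy, ha⟩ := Module.Flat.isTrivialRelation_of_sum_smul_eq_zero hσ
  refine ⟨k, a, fun j => π (y j), fun i => ?_, ha⟩
  calc x i = π (σ (x i)) := by simp [σ, hπact, hπ, he]
    _ = _ := by
      have hyi : σ (x i) = ∑ j, a i j • y j := hy i
      rw [hyi, map_sum]; simp

/-- A ring over which all modules are flat is reduced. -/
theorem isReduced_of_forall_flat {B : Type u} [CommRing B]
    (h : ∀ (M : Type u) [AddCommGroup M] [Module B M], Module.Flat B M) : _root_.IsReduced B := by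
  rw [isReduced_iff_pow_one_lt 2 one_lt_two]
  intro x hx
  let I := Ideal.span {x}
  have := h (B ⧸ I)
  have hrel : ∑ i : Fin 1, (fun _ => x) i • (fun _ => (1 : B ⧸ I)) i = 0 := by
    simp only [Fin.sum_univ_one, Algebra.smul_def, mul_one]
    exact Ideal.Quotient.eq_zero_iff_mem.mpr (Ideal.mem_span_singleton_self x)
  obtain ⟨k, A, y, hy, hA⟩ := Module.Flat.isTrivialRelation_of_sum_smul_eq_zero hrel
  choose b hb using fun j => Ideal.Quotient.mk_surjective (y j)
  have h1 : Ideal.Quotient.mk I (∑ j, A 0 j * b j) = 1 := by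
    simp only [map_sum, map_mul, hb]
    exact (hy 0).symm
  rw [← map_one (Ideal.Quotient.mk I), Ideal.Quotient.eq, Ideal.mem_span_singleton] at h1
  obtain ⟨c, hc⟩ := h1
  have h2 : x * ∑ j, A 0 j * b j = 0 := by
    rw [Finset.mul_sum]
    refine Finset.sum_eq_zero fun j _ => ?_
    have := hA j
    simp only [Fin.sum_univ_one] at this
    rw [← mul_assoc, this, zero_mul]
  linear_combination h2 - x * hc - c * hx

open CategoryTheory CategoryTheory.Limits AlgebraicGeometry

theorem weaklyEtale_specMap_iff {R S : CommRingCat.{u}} (φ : R ⟶ S) :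
    WeaklyEtale (Spec.map φ) ↔
      (letI := φ.hom.toAlgebra; Algebra.WeaklyEtale R S) := by
  let _ := φ.hom.toAlgebra
  have hd : pullback.diagonal (Spec.map φ) =
      Spec.map (CommRingCat.ofHom (Algebra.TensorProduct.lmul' R (S := S)).toRingHom) ≫
        (pullbackSpecIso R S S).inv := diagonal_SpecMap R S
  constructor
  · intro hw
    refine ⟨?_, ?_⟩
    · exact (Flat.SpecMap_iff.mp hw.flat : φ.hom.Flat)
    · have := hw.flat_diagonal
      rw [hd, MorphismProperty.cancel_right_of_respectsIso (P := @Flat)] at this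
      exact Flat.SpecMap_iff.mp this
  · intro hw
    refine ⟨Flat.SpecMap_iff.mpr hw.flat, ?_⟩
    rw [hd, MorphismProperty.cancel_right_of_respectsIso (P := @Flat)]
    exact Flat.SpecMap_iff.mpr hw.flat_lmul'

theorem weaklyEtale_specMap_appLE {X S : Scheme.{u}} (f : X ⟶ S) [WeaklyEtale f] {U : X.Opens}
    {V : S.Opens} (hU : IsAffineOpen U) (hV : IsAffineOpen V) (hUV : U ≤ f ⁻¹ᵁ V) :
    WeaklyEtale (Spec.map (f.appLE V U hUV)) := by
  have e := IsAffineOpen.SpecMap_appLE_fromSpec f hV hU hUV
  have : WeaklyEtale (Spec.map (f.appLE V U hUV) ≫ hV.fromSpec) := by rw [e]; infer_instance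
  exact WeaklyEtale.of_comp _ hV.fromSpec

theorem weaklyEtale_of_forall_exists {X S : Scheme.{u}} (f : X ⟶ S)
    (h : ∀ x : X, ∃ (U : X.Opens) (V : S.Opens) (_ : IsAffineOpen U) (_ : IsAffineOpen V)
      (hUV : U ≤ f ⁻¹ᵁ V), x ∈ U ∧ WeaklyEtale (Spec.map (f.appLE V U hUV))) :
    WeaklyEtale f := by
  choose U V hU hV hUV hxU hwe using h
  have hcov : TopologicalSpace.IsOpenCover U :=
    eq_top_iff.mpr fun x _ => TopologicalSpace.Opens.mem_iSup.mpr ⟨x, hxU x⟩
  rw [IsZariskiLocalAtSource.iff_of_openCover (P := @WeaklyEtale) (X.openCoverOfIsOpenCover U hcov)]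
  intro x
  have e := IsAffineOpen.SpecMap_appLE_fromSpec f (hV x) (hU x) (hUV x)
  have := hwe x
  have h1 : WeaklyEtale ((hU x).fromSpec ≫ f) := by rw [← e]; infer_instance
  show WeaklyEtale ((U x).ι ≫ f)
  rw [← (hU x).isoSpec_hom_fromSpec, Category.assoc]
  infer_instance

end Groth.L20

namespace Groth.L20

/-- Over a ring in which `a ∈ a²R` for all `a`, all modules are flat. -/
theorem flat_of_forall_exists_idempotent {R M : Type*} [CommRing R] [AddCommGroup M] [Module R M]
    (h : ∀ a : R, ∃ b, a * a * b = a) : Module.Flat R M := by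
  refine Module.flat_of_localized_maximal M fun P hP => ?_
  have hf : IsField (Localization.AtPrime P) := by
    rw [IsLocalRing.isField_iff_maximalIdeal_eq, eq_bot_iff,
      ← IsLocalization.AtPrime.map_eq_maximalIdeal P (Localization.AtPrime P), Ideal.map_le_iff_le_comap]
    intro a ha
    obtain ⟨b, hb⟩ := h a
    rw [Ideal.mem_comap, Ideal.mem_bot, IsLocalization.map_eq_zero_iff P.primeCompl]
    refine ⟨⟨1 - a * b, fun hc => hP.ne_top ((Ideal.eq_top_iff_one _).mpr ?_)⟩, ?_⟩
    · have := P.add_mem hc (P.mul_mem_right b ha)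
      rwa [sub_add_cancel] at this
    · show (1 - a * b) * a = 0
      linear_combination -hb
  let _ := hf.toField
  have : Module.Flat (Localization.AtPrime P) (LocalizedModule P.primeCompl M) := inferInstance
  exact Module.Flat.trans R (Localization.AtPrime P) _

/-- Weakly étale algebras over a reduced ring are reduced. -/
theorem isReduced_of_weaklyEtale (A B : Type u) [CommRing A] [CommRing B] [Algebra A B]
    [_root_.IsReduced A] [Algebra.WeaklyEtale A B] : _root_.IsReduced B := by
  let K := (p : PrimeSpectrum A) → p.asIdeal.ResidueField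
  have hK : ∀ (N : Type u) [AddCommGroup N] [Module K N], Module.Flat K N := fun N _ _ =>
    flat_of_forall_exists_idempotent fun a => ⟨fun p => (a p)⁻¹, funext fun p => by
      show a p * a p * (a p)⁻¹ = a p
      by_cases hz : a p = 0
      · simp [hz]
      · field_simp⟩
  have hinj : Function.Injective (algebraMap A K) := by
    rw [injective_iff_map_eq_zero]
    intro a ha
    have : IsNilpotent a := nilpotent_iff_mem_prime.mpr fun J hJ =>
      (Ideal.algebraMap_residueField_eq_zero (I := J)).mp (congrFun ha ⟨J, hJ⟩)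
    exact this.eq_zero
  have : _root_.IsReduced (K ⊗[A] B) := isReduced_of_forall_flat fun N _ _ => by
    let _ : Module K N := Module.compHom N (algebraMap K (K ⊗[A] B))
    have : IsScalarTower K (K ⊗[A] B) N :=
      ⟨fun k s n => by
        change (k • s) • n = algebraMap K (K ⊗[A] B) k • (s • n)
        rw [← mul_smul]
        congr 1
        exact Algebra.smul_def k s⟩
    have := hK N
    exact flat_of_flat_of_flat_lmul (R := K) (Algebra.WeaklyEtale.flat_lmul' K (K ⊗[A] B))
  exact isReduced_of_injective (Algebra.TensorProduct.includeRight : B →ₐ[A] K ⊗[A] B)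
    (Algebra.TensorProduct.includeRight_injective hinj)

end Groth.L20
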