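import Mathlib.RingTheory.TensorProduct.Basic
import Mathlib.RingTheory.Finiteness.Nakayama
import Mathlib.LinearAlgebra.Matrix.Adjugate
import Mathlib.Algebra.DirectSum.Module
import Mathlib.RingTheory.AdicCompletion.Basic
import Mathlib.LinearAlgebra.DirectSum.Finsupp
import Mathlib.Algebra.Module.Projective
import Mathlib.RingTheory.Nakayama
import Mathlib.RingTheory.Jacobson.Ideal
import Mathlib.RingTheory.LocalRing.RingHom.Basic
import Mathlib.RingTheory.OrzechProperty
import Mathlib.RingTheory.FiniteType

/-!
# Endomorphisms congruent to a scalar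
-/

universe u v w

namespace Groth.L20

open TensorProduct LinearMap

variable {R : Type*} [CommRing R] {N : Type*} [AddCommGroup N] [Module R N]

/-- An endomorphism of a projective module congruent to `s ∉ t` modulo the prime `t` stays injective
after tensoring with a module on which elements outside `t` act injectively. -/
theorem rTensor_injective_of_sub_smul_mem [Module.Projective R N] (t : Ideal R) [t.IsPrime]
    (f : N →ₗ[R] N) (s : R) (hs : s ∉ t) (hf : ∀ x, f x - s • x ∈ t • (⊤ : Submodule R N))
    {Q : Type*} [AddCommGroup Q] [Module R Q] (hQ : ∀ a ∉ t, ∀ x : Q, a • x = 0 → x = 0) :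
    Function.Injective (f.rTensor Q) := by
  classical
  obtain ⟨σ, hσ⟩ := Module.Projective.out (R := R) (P := N)
  let r : (N →₀ R) →ₗ[R] N := Finsupp.linearCombination R id
  have hrσ : ∀ x, r (σ x) = x := hσ
  let g : (N →₀ R) →ₗ[R] (N →₀ R) := σ ∘ₗ f ∘ₗ r + s • (LinearMap.id - σ ∘ₗ r)
  have hg : ∀ i j, g (Finsupp.single j 1) i - (if j = i then s else 0) ∈ t := by
    intro i j
    have h1 : g (Finsupp.single j 1) i - (if j = i then s else 0) =
        σ (f (r (Finsupp.single j 1)) - s • r (Finsupp.single j 1)) i := by
      simp only [g, LinearMap.add_apply, LinearMap.comp_apply, LinearMap.smul_apply,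
        LinearMap.sub_apply, LinearMap.id_apply, smul_sub, map_sub, map_smul, Finsupp.add_apply,
        Finsupp.sub_apply, Finsupp.smul_apply, Finsupp.single_apply, smul_eq_mul, mul_ite, mul_one,
        mul_zero]
      ring
    rw [h1]
    have h2 := Submodule.mem_map_of_mem (f := Finsupp.lapply i ∘ₗ σ) (hf (r (Finsupp.single j 1)))
    rw [Submodule.map_smul''] at h2
    have h3 := Submodule.smul_mono le_rfl le_top h2
    rw [Ideal.smul_eq_mul, Ideal.mul_top] at h3
    exact h3
  rw [injective_iff_map_eq_zero]
  intro z hz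
  let ζ := σ.rTensor Q z
  have hgζ : g.rTensor Q ζ = 0 := by
    have h1 : g ∘ₗ σ = σ ∘ₗ f := by
      refine LinearMap.ext fun x => ?_
      simp [g, hrσ]
    rw [← rTensor_comp_apply, h1, rTensor_comp_apply, hz, map_zero]
  let q := finsuppScalarLeft R Q N ζ
  let T := q.support
  have hgen : ∀ (c : N →₀ Q) i, finsuppScalarLeft R Q N (g.rTensor Q ((finsuppScalarLeft R Q N).symm c)) i =
      c.sum fun j x => g (Finsupp.single j 1) i • x := by
    intro c i
    induction c using Finsupp.induction_linear with
    | zero => simp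
    | add a b ha hb =>
      rw [map_add, map_add, map_add, Finsupp.add_apply, ha, hb,
        Finsupp.sum_add_index' (fun _ => smul_zero _) (fun _ => smul_add _)]
    | single j x =>
      rw [finsuppScalarLeft_symm_apply_single, rTensor_tmul, finsuppScalarLeft_apply_tmul_apply,
        Finsupp.sum_single_index]
      exact smul_zero _
  have heq : ∀ i, ∑ j ∈ T, g (Finsupp.single j 1) i • q j = 0 := by
    intro i
    have := hgen q i
    rw [show (finsuppScalarLeft R Q N).symm q = ζ from LinearEquiv.symm_apply_apply _ _, hgζ,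
      map_zero, Finsupp.zero_apply] at this
    exact this.symm
  let G : Matrix T T R := fun i j => g (Finsupp.single (j : N) 1) i
  have hdet : G.det ∉ t := by
    intro hmem
    have hG : (Ideal.Quotient.mk t).mapMatrix G = Matrix.diagonal fun _ => Ideal.Quotient.mk t s := by
      ext i j
      have := hg i j
      rw [← Ideal.Quotient.eq_zero_iff_mem, map_sub, sub_eq_zero] at this
      change Ideal.Quotient.mk t (g (Finsupp.single (j : N) 1) (i : N)) = _
      rw [this, Matrix.diagonal_apply]
      by_cases hij : i = j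
      · rw [hij, if_pos rfl, if_pos rfl]
      · rw [if_neg fun h => hij (Subtype.ext h).symm, if_neg hij, map_zero]
    have h4 := RingHom.map_det (Ideal.Quotient.mk t) G
    rw [hG, Matrix.det_diagonal, Finset.prod_const, Ideal.Quotient.eq_zero_iff_mem.mpr hmem,
      ← map_pow, eq_comm, Ideal.Quotient.eq_zero_iff_mem] at h4
    exact hs ((inferInstance : t.IsPrime).mem_of_pow_mem _ h4)
  have hq : q = 0 := by
    ext k
    by_cases hk : k ∈ T
    · apply hQ _ hdet
      calc G.det • q k = ∑ j : T, ((Matrix.adjugate G * G) ⟨k, hk⟩ j) • q j := by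
            rw [Matrix.adjugate_mul]
            simp only [Matrix.smul_apply, Matrix.one_apply, smul_eq_mul, mul_ite, mul_one, mul_zero,
              ite_smul, zero_smul, Finset.sum_ite_eq, Finset.mem_univ, if_true]
        _ = ∑ i : T, Matrix.adjugate G ⟨k, hk⟩ i • ∑ j : T, G i j • q j := by
            simp only [Matrix.mul_apply, Finset.sum_smul, Finset.smul_sum, smul_smul]
            exact Finset.sum_comm
        _ = 0 := by
            refine Finset.sum_eq_zero fun i _ => ?_
            rw [Finset.sum_coe_sort T (fun j => g (Finsupp.single j 1) i • q j), heq, smul_zero]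
    · exact Finsupp.notMem_support_iff.mp hk
  have hζ : ζ = 0 := (finsuppScalarLeft R Q N).injective (hq.trans (map_zero _).symm)
  have := congrArg (r.rTensor Q) hζ
  rwa [map_zero, ← rTensor_comp_apply, show r ∘ₗ σ = LinearMap.id from LinearMap.ext hrσ,
    rTensor_id, id_apply] at this

/-- The same for internal direct sums of finite modules over a local ring. -/
theorem rTensor_injective_of_isInternal [IsLocalRing R] {ι : Type*} (F : ι → Submodule R N)
    [DecidableEq ι] (hF : DirectSum.IsInternal F) (hfin : ∀ i, Module.Finite R (F i))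
    (f : N →ₗ[R] N) (hf : ∀ x, f x - x ∈ IsLocalRing.maximalIdeal R • (⊤ : Submodule R N))
    (Q : Type*) [AddCommGroup Q] [Module R Q] : Function.Injective (f.rTensor Q) := by
  classical
  let e := LinearEquiv.ofBijective (DirectSum.coeLinearMap F) hF
  let P : Finset ι → (N →ₗ[R] N) := fun T =>
    ∑ i ∈ T, (F i).subtype ∘ₗ DirectSum.component R ι (fun i => ↥(F i)) i ∘ₗ e.symm.toLinearMap
  have hP : ∀ (T : Finset ι) (x : N), (∀ i ∉ T, e.symm x i = 0) → P T x = x := by
    intro T x hx
    conv_rhs => rw [← e.apply_symm_apply x]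
    rw [LinearMap.sum_apply]
    change _ = DirectSum.coeLinearMap F (e.symm x)
    conv_rhs => rw [← DirectSum.sum_support_of (e.symm x)]
    rw [map_sum, Finset.sum_subset (s₁ := DFinsupp.support (e.symm x)) (s₂ := T)]
    · exact Finset.sum_congr rfl fun i _ => (DirectSum.coeLinearMap_of F i _).symm
    · intro i hi
      by_contra hiT
      exact DFinsupp.mem_support_iff.mp hi (hx i hiT)
    · intro i _ hi
      simp [DFinsupp.notMem_support_iff.mp hi]
  rw [injective_iff_map_eq_zero]
  intro z hz
  have hfix : ∀ z : N ⊗[R] Q, ∃ T : Finset ι, ∀ T', T ⊆ T' → (P T').rTensor Q z = z := by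
    intro z
    induction z using TensorProduct.induction_on with
    | zero => exact ⟨∅, fun _ _ => map_zero _⟩
    | tmul x m => exact ⟨DFinsupp.support (e.symm x), fun T' hT' => by
        rw [rTensor_tmul, hP T' x fun i hi => DFinsupp.notMem_support_iff.mp fun h => hi (hT' h)]⟩
    | add a b ha hb =>
      obtain ⟨T, hT⟩ := ha
      obtain ⟨T', hT'⟩ := hb
      exact ⟨T ∪ T', fun U hU => by
        rw [map_add, hT U (Finset.union_subset_left hU), hT' U (Finset.union_subset_right hU)]⟩
  obtain ⟨T, hT⟩ := hfix z
  let G := T.sup F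
  have hG : G.FG := by
    refine Submodule.fg_finset_sup _ _ fun i _ => Module.Finite.iff_fg.mp (hfin i)
  have hPG : ∀ x, P T x ∈ G := by
    intro x
    rw [LinearMap.sum_apply]
    exact sum_mem fun i hi => Finset.le_sup (f := F) hi (Subtype.prop _)
  let p : N →ₗ[R] G := LinearMap.codRestrict G (P T) hPG
  have hpG : ∀ x : G, p x = x := by
    rintro ⟨x, hx⟩
    refine Subtype.ext (hP T x fun i hi => ?_)
    change x ∈ T.sup F at hx
    rw [Finset.sup_eq_iSup] at hx
    refine Submodule.iSup_induction _ (motive := fun x => e.symm x i = 0) hx ?_ (by simp)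
      (fun a b ha hb => by simp [ha, hb])
    intro j y hy
    by_cases hj : j ∈ T
    · rw [iSup_pos hj] at hy
      have : e.symm y = DirectSum.of (fun i => ↥(F i)) j ⟨y, hy⟩ := by
        rw [LinearEquiv.symm_apply_eq]
        exact (DirectSum.coeLinearMap_of F j ⟨y, hy⟩).symm
      rw [this]
      exact DirectSum.of_eq_of_ne _ _ _ (fun hji => hi (hji ▸ hj))
    · rw [iSup_neg hj, Submodule.mem_bot] at hy
      simp [hy]
  let h : G →ₗ[R] G := p ∘ₗ f ∘ₗ G.subtype
  have : Module.Finite R G := Module.Finite.iff_fg.mpr hG
  have hsurj : Function.Surjective h := by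
    rw [← LinearMap.range_eq_top]
    refine top_le_iff.mp (Submodule.le_of_le_smul_of_le_jacobson_bot
      (I := IsLocalRing.maximalIdeal R) Module.Finite.fg_top
      (IsLocalRing.maximalIdeal_le_jacobson _) ?_)
    intro x _
    have hx := Submodule.mem_map_of_mem (f := p) (hf x)
    rw [Submodule.map_smul''] at hx
    have hx' := Submodule.smul_mono le_rfl le_top hx
    rw [map_sub, hpG x] at hx'
    refine Submodule.mem_sup.mpr ⟨h x, ⟨x, rfl⟩, -(p (f x) - x), neg_mem hx', ?_⟩
    simp [h]
  let eh := LinearEquiv.ofBijective h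
    ⟨OrzechProperty.injective_of_surjective_endomorphism h hsurj, hsurj⟩
  have hw : p.rTensor Q z = 0 := by
    apply (eh.rTensor Q).injective
    rw [map_zero]
    change h.rTensor Q (p.rTensor Q z) = 0
    have : G.subtype.rTensor Q (p.rTensor Q z) = z := by
      rw [← rTensor_comp_apply]
      exact hT T le_rfl
    rw [rTensor_comp_apply, rTensor_comp_apply, this, hz, map_zero]
  rw [← hT T le_rfl, show P T = G.subtype ∘ₗ p from rfl, rTensor_comp_apply, hw, map_zero]

/-- On a complete module an endomorphism congruent to one is bijective. -/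
theorem bijective_of_sub_mem (I : Ideal R) [IsAdicComplete I N] (f : N →ₗ[R] N)
    (hf : ∀ x, f x - x ∈ I • (⊤ : Submodule R N)) : Function.Bijective f := by
  let d : N →ₗ[R] N := LinearMap.id - f
  have hd : ∀ (n : ℕ) (x : N), x ∈ I ^ n • (⊤ : Submodule R N) → d x ∈ I ^ (n + 1) • (⊤ : Submodule R N) := by
    intro n x hx
    have h1 := Submodule.mem_map_of_mem (f := d) hx
    rw [Submodule.map_smul''] at h1
    have h2 : LinearMap.range d ≤ I • (⊤ : Submodule R N) := by
      rintro _ ⟨y, rfl⟩
      simpa [d] using neg_mem (hf y)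
    rw [Submodule.map_top] at h1
    have h3 := Submodule.smul_mono le_rfl h2 h1
    rwa [← Submodule.smul_assoc, smul_eq_mul, ← pow_succ] at h3
  have hdn : ∀ (n : ℕ) (y : N), (d ^ n) y ∈ I ^ n • (⊤ : Submodule R N) := by
    intro n y
    induction n with
    | zero => simp
    | succ n ih => rw [pow_succ' d n, Module.End.mul_apply]; exact hd n _ ih
  refine ⟨?_, fun y => ?_⟩
  · rw [injective_iff_map_eq_zero]
    intro x hx
    refine IsHausdorff.haus' (I := I) x fun n => ?_
    rw [SModEq.zero]
    induction n with
    | zero => simp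
    | succ n ih => simpa [d, hx] using hd n x ih
  · let c : ℕ → N := fun n => ∑ k ∈ Finset.range n, (d ^ k) y
    obtain ⟨L, hL⟩ := IsPrecomplete.prec' (I := I) c (fun {m n} hmn => by
      rw [SModEq.sub_mem, ← neg_mem_iff, neg_sub]
      rw [show c n - c m = ∑ k ∈ Finset.Ico m n, (d ^ k) y from (Finset.sum_Ico_eq_sub _ hmn).symm]
      exact sum_mem fun k hk => Submodule.smul_mono (Ideal.pow_le_pow_right (Finset.mem_Ico.mp hk).1)
        le_rfl (hdn k y))
    refine ⟨L, ?_⟩
    rw [← sub_eq_zero]
    refine IsHausdorff.haus' (I := I) _ fun n => ?_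
    rw [SModEq.zero]
    have h1 : f (c n) - y = -(d ^ n) y := by
      induction n with
      | zero => simp [c]
      | succ n ih =>
        rw [show c (n + 1) = c n + (d ^ n) y from Finset.sum_range_succ _ _, map_add,
          pow_succ' d n, Module.End.mul_apply]
        have : f (c n) = y - (d ^ n) y := by
          rw [sub_eq_iff_eq_add] at ih
          rw [ih]; abel
        rw [this]
        simp [d]
        abel
    have h2 : f (c n - L) ∈ I ^ n • (⊤ : Submodule R N) := by
      have := Submodule.mem_map_of_mem (f := f) (SModEq.sub_mem.mp (hL n))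
      rw [Submodule.map_smul''] at this
      exact Submodule.smul_mono le_rfl le_top this
    have h3 : f L - y = -(d ^ n) y - f (c n - L) := by rw [map_sub, ← h1]; abel
    rw [h3]
    exact sub_mem (neg_mem (hdn n y)) h2

end Groth.L20
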