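import Groth.Agent.L20.FiberModule
import Groth.Agent.L20.AssocSup
import Mathlib.RingTheory.IsTensorProduct
import Mathlib.RingTheory.Ideal.AssociatedPrime.Basic

/-!
# Basic facts on purity
-/

universe u v w

namespace Groth.L20

open TensorProduct LinearMap

/-- For a pushout square, the base change of a `B`-module to `B'` is its base change to `A'`. -/
noncomputable def pushoutModuleEquiv {A B A' B' N N' : Type*} [CommRing A] [CommRing B] [CommRing A']
    [CommRing B'] [Algebra A B] [Algebra A A'] [Algebra B B'] [Algebra A' B'] [Algebra A B']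
    [IsScalarTower A B B'] [IsScalarTower A A' B'] [h : Algebra.IsPushout A B A' B']
    [AddCommGroup N] [Module B N] [Module A N] [IsScalarTower A B N]
    [AddCommGroup N'] [Module B' N'] [Module B N'] [IsScalarTower B B' N'] [Module A' N']
    [IsScalarTower A' B' N'] {f : N →ₗ[B] N'} (hf : IsBaseChange B' f) :
    N' ≃ₗ[A'] A' ⊗[A] N :=
  haveI : Algebra.IsPushout A A' B B' := h.symm
  hf.equiv.symm.restrictScalars A' ≪≫ₗ Algebra.IsPushout.cancelBaseChange A A' B B' N

theorem pushoutModuleEquiv_symm_one_tmul {A B A' B' N N' : Type*} [CommRing A] [CommRing B] [CommRing A']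
    [CommRing B'] [Algebra A B] [Algebra A A'] [Algebra B B'] [Algebra A' B'] [Algebra A B']
    [IsScalarTower A B B'] [IsScalarTower A A' B'] [h : Algebra.IsPushout A B A' B']
    [AddCommGroup N] [Module B N] [Module A N] [IsScalarTower A B N]
    [AddCommGroup N'] [Module B' N'] [Module B N'] [IsScalarTower B B' N'] [Module A' N']
    [IsScalarTower A' B' N'] {f : N →ₗ[B] N'} (hf : IsBaseChange B' f) (a : A') (n : N) :
    (pushoutModuleEquiv (A := A) hf).symm (a ⊗ₜ n) = a • f n := by
  have : Algebra.IsPushout A A' B B' := h.symm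
  simp [pushoutModuleEquiv, hf.equiv_tmul]

/-- If every element of `P` congruent to a scalar outside `t` modulo `t` is excluded, then some
prime over `t` contains `P`. -/
theorem exists_prime_over_or_exists_mem {A B : Type*} [CommRing A] [CommRing B] [Algebra A B]
    (t : Ideal A) [t.IsPrime] (P : Ideal B) :
    (∃ P' : Ideal B, P'.IsPrime ∧ P ≤ P' ∧ P'.LiesOver t) ∨
      ∃ f ∈ P, ∃ s ∉ t, f - algebraMap A B s ∈ t.map (algebraMap A B) := by
  let T : Submonoid B := Submonoid.map (algebraMap A B) t.primeCompl
  by_cases hd : Disjoint ((P ⊔ t.map (algebraMap A B) : Ideal B) : Set B) T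
  · obtain ⟨P', hP', hle, hdisj⟩ := Ideal.exists_le_prime_disjoint _ T hd
    refine Or.inl ⟨P', hP', le_sup_left.trans hle, ⟨le_antisymm ?_ ?_⟩⟩
    · exact Ideal.map_le_iff_le_comap.mp (le_sup_right.trans hle)
    · intro a ha
      by_contra h
      exact Set.disjoint_left.mp hdisj ha ⟨a, h, rfl⟩
  · obtain ⟨x, hx, s, hs, rfl⟩ := Set.not_disjoint_iff.mp hd
    obtain ⟨f, hf, b, hb, hfb⟩ := Submodule.mem_sup.mp hx
    refine Or.inr ⟨f, hf, s, hs, ?_⟩
    change f + b = algebraMap A B s at hfb
    rw [← hfb, sub_add_cancel_left]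
    exact neg_mem hb

/-- No impurity exists when an element of `P` congruent to a unit acts injectively. -/
theorem exists_prime_over_of_projective {A' B' N' : Type u} [CommRing A'] [CommRing B']
    [Algebra A' B'] [AddCommGroup N'] [Module B' N'] [Module A' N'] [IsScalarTower A' B' N']
    [Module.Projective A' N'] {t' t : Ideal A'} [t'.IsPrime] [t.IsPrime] (htt : t' ≤ t)
    {P : Ideal B'}
    (hass : FlatCA.fiberIdeal t' P ∈ associatedPrimes (t'.Fiber B') (FlatCA.fiberMod t' B' N')) :
    ∃ P' : Ideal B', P'.IsPrime ∧ P ≤ P' ∧ P'.LiesOver t := by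
  rcases exists_prime_over_or_exists_mem t P with h | ⟨f, hf, s, hs, hfs⟩
  · exact h
  exfalso
  obtain ⟨hprime, z, hz⟩ := hass
  have hmem : Algebra.TensorProduct.includeRight (R := A') (A := t'.ResidueField) (B := B') f ∈
      FlatCA.fiberIdeal t' P := Ideal.mem_map_of_mem _ hf
  rw [hz] at hmem
  obtain ⟨k, hk⟩ := hmem
  rw [Submodule.mem_colon_singleton, Submodule.mem_bot, ← map_pow] at hk
  have hk' : (f ^ k) • z = 0 := by
    let _ : Algebra B' (t'.Fiber B') := Algebra.TensorProduct.rightAlgebra
    have : IsScalarTower B' (t'.Fiber B') (FlatCA.fiberMod t' B' N') :=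
      inferInstanceAs (IsScalarTower B' (t'.Fiber B') ((t'.Fiber B') ⊗[B'] N'))
    rw [← algebraMap_smul (t'.Fiber B') (f ^ k) z]
    exact hk
  have hfs' : f ^ k - algebraMap A' B' (s ^ k) ∈ t.map (algebraMap A' B') := by
    obtain ⟨c, hc⟩ := sub_dvd_pow_sub_pow f (algebraMap A' B' s) k
    rw [map_pow, hc]
    exact Ideal.mul_mem_right _ _ hfs
  apply hprime.ne_top
  rw [hz]
  have hz0 : z = 0 := by
    apply (fiberModEquiv t' B' N').injective
    rw [map_zero]
    have h0 : (f ^ k) • fiberModEquiv t' B' N' z = 0 := by rw [← map_smul, hk', map_zero]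
    apply rTensor_injective_of_sub_smul_mem t ((LinearMap.lsmul B' N' (f ^ k)).restrictScalars A')
      (s ^ k) (fun h => hs ((inferInstance : t.IsPrime).mem_of_pow_mem _ h))
      (fun x => smul_sub_mem_of_sub_mem t _ _ hfs' x) (fun a ha x hx => ?_)
    · rw [map_zero, ← smul_eq_rTensor, h0]
    · have ha' : algebraMap A' t'.ResidueField a ≠ 0 := by
        rw [ne_eq, Ideal.algebraMap_residueField_eq_zero]
        exact fun h => ha (htt h)
      rw [Algebra.smul_def, mul_eq_zero] at hx
      exact hx.resolve_left ha'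
  rw [hz0]
  simp [Submodule.colon_singleton_zero]

/-- Projective modules are universally pure. -/
theorem isUnivPure_of_projective {A B : Type u} [CommRing A] [CommRing B] [Algebra A B]
    (N : Type u) [AddCommGroup N] [Module B N] [Module A N] [IsScalarTower A B N]
    [Module.Projective A N] : FlatCA.IsUnivPure A B N := by
  intro p _ A' B' N' _ _ _ _ _ _ _ _ _ _ _ _ _ _ f t' t _ _ P _ himp
  obtain ⟨hpush, hf, htt, -, -, hass, hno⟩ := himp
  have : Module.Projective A' N' :=
    Module.Projective.of_equiv (pushoutModuleEquiv (A := A) hf).symm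
  obtain ⟨P', hP', hle, hover⟩ := exists_prime_over_of_projective htt hass
  exact hno P' hle hover

end Groth.L20
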