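import Groth.Agent.L20.LocalizedFlat
import Groth.Agent.L20.Purity
import Mathlib.RingTheory.LocalRing.ResidueField.Ideal
import Mathlib.RingTheory.IsTensorProduct

/-!
# Flatness at primes and base change
-/

universe u

namespace Groth.L20

open TensorProduct LinearMap

section

variable {R : Type*} [CommRing R] {S : Type*} [CommRing S] [Algebra R S]
  {M : Type*} [AddCommGroup M] [Module R M] [Module S M] [IsScalarTower R S M]

/-- If `M_T` is flat, kernels of `M ⊗ P → M ⊗ Q` for injective `P → Q` are `T`-torsion. -/
theorem exists_smul_eq_zero_of_flat (T : Submonoid S) [Module.Flat R (LocalizedModule T M)]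
    {P Q : Type*} [AddCommGroup P] [Module R P] [AddCommGroup Q] [Module R Q] (ι : P →ₗ[R] Q)
    (hι : Function.Injective ι) (z : M ⊗[R] P) (hz : ι.lTensor M z = 0) :
    ∃ t ∈ T, t • z = 0 := by
  let g := LocalizedModule.mkLinearMap T M
  have h1 : ι.lTensor (LocalizedModule T M) (AlgebraTensorModule.rTensor R P g z) =
      AlgebraTensorModule.rTensor R Q g (ι.lTensor M z) := by
    clear hz
    induction z using TensorProduct.induction_on with
    | zero => simp
    | tmul m j => simp
    | add a b ha hb => simp only [map_add, ha, hb]
  rw [hz, map_zero] at h1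
  have h2 : AlgebraTensorModule.rTensor R P g z = 0 := by
    apply Module.Flat.lTensor_preserves_injective_linearMap (M := LocalizedModule T M) ι hι
    rw [h1, map_zero]
  obtain ⟨t, ht⟩ := (IsLocalizedModule.eq_zero_iff T (AlgebraTensorModule.rTensor R P g)).mp h2
  exact ⟨t, t.2, ht⟩

variable {R' : Type*} [CommRing R'] [Algebra R R']
  {S' : Type*} [CommRing S'] [Algebra S S'] [Algebra R' S']
  {M' : Type*} [AddCommGroup M'] [Module S' M'] [Module R' M'] [IsScalarTower R' S' M']
  [Module S M'] [IsScalarTower S S' M'] [Module R M'] [IsScalarTower R R' M'] [IsScalarTower R S M']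

/-- Base change of the base ring: `M'_{q'}` is flat over `R'` if `M_q` is flat over `R`, for `M'` the base
change of `M` to `R'`. -/
theorem flat_localizedModule_of_isBaseChange (f : M →ₗ[S] M')
    (hb : IsBaseChange R' (f.restrictScalars R)) (T : Submonoid S) [Module.Flat R (LocalizedModule T M)]
    (T' : Submonoid S') (hT : ∀ t ∈ T, algebraMap S S' t ∈ T') :
    Module.Flat R' (LocalizedModule T' M') := by
  refine flat_localizedModule_of_forall T' fun J z hz => ?_
  let Ψ : M ⊗[R] J →ₗ[R] M' ⊗[R'] J :=
    TensorProduct.lift (LinearMap.mk₂ R (fun m j => f m ⊗ₜ[R'] j)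
      (fun a b j => by simp [TensorProduct.add_tmul])
      (fun c a j => by simp [TensorProduct.smul_tmul'])
      (fun m a b => by simp [TensorProduct.tmul_add])
      (fun c m a => by simp))
  have hΨ : ∀ m j, Ψ (m ⊗ₜ j) = f m ⊗ₜ[R'] j := fun _ _ => rfl
  have hsurj : Function.Surjective Ψ := by
    intro w
    induction w using TensorProduct.induction_on with
    | zero => exact ⟨0, map_zero _⟩
    | tmul m' j =>
      induction m' using hb.inductionOn generalizing j with
      | zero => exact ⟨0, by simp⟩
      | tmul m => exact ⟨m ⊗ₜ j, rfl⟩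
      | smul r m ih =>
        obtain ⟨y, hy⟩ := ih (r • j)
        exact ⟨y, by rw [hy, TensorProduct.smul_tmul]⟩
      | add a b iha ihb =>
        obtain ⟨y, hy⟩ := iha j
        obtain ⟨y', hy'⟩ := ihb j
        exact ⟨y + y', by rw [map_add, hy, hy', TensorProduct.add_tmul]⟩
    | add a b ha hb =>
      obtain ⟨y, rfl⟩ := ha
      obtain ⟨y', rfl⟩ := hb
      exact ⟨y + y', map_add _ _ _⟩
  obtain ⟨y, rfl⟩ := hsurj z
  have hcomp : ∀ y : M ⊗[R] J, TensorProduct.rid R' M' (J.subtype.lTensor M' (Ψ y)) =
      hb.equiv (TensorProduct.comm R M R' ((J.subtype.restrictScalars R).lTensor M y)) := by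
    intro y
    induction y using TensorProduct.induction_on with
    | zero => simp
    | tmul m j => simp [hΨ, hb.equiv_tmul]
    | add a b ha hb' => simp only [map_add, ha, hb']
  have hy : (J.subtype.restrictScalars R).lTensor M y = 0 := by
    apply (TensorProduct.comm R M R').injective
    apply hb.equiv.injective
    rw [← hcomp, hz]
    simp
  obtain ⟨t, ht, hty⟩ := exists_smul_eq_zero_of_flat T (J.subtype.restrictScalars R) Subtype.val_injective y hy
  refine ⟨algebraMap S S' t, hT t ht, ?_⟩
  have : ∀ y : M ⊗[R] J, Ψ (t • y) = algebraMap S S' t • Ψ y := by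
    intro y
    induction y using TensorProduct.induction_on with
    | zero => simp
    | tmul m j => simp [hΨ, TensorProduct.smul_tmul', algebraMap_smul]
    | add a b ha hb' => simp only [smul_add, map_add, ha, hb']
  rw [← this, hty, map_zero]

end

/-- The base change of a module along a pushout is a base change along the base. -/
theorem isBaseChange_restrictScalars {R S R' S' M M' : Type*} [CommRing R] [CommRing S]
    [CommRing R'] [CommRing S'] [Algebra R S] [Algebra R R'] [Algebra S S'] [Algebra R' S'] [Algebra R S']
    [IsScalarTower R S S'] [IsScalarTower R R' S'] [Algebra.IsPushout R S R' S']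
    [AddCommGroup M] [Module S M] [Module R M] [IsScalarTower R S M]
    [AddCommGroup M'] [Module S' M'] [Module R' M'] [IsScalarTower R' S' M'] [Module S M'] [IsScalarTower S S' M']
    [Module R M'] [IsScalarTower R R' M'] [IsScalarTower R S M']
    {f : M →ₗ[S] M'} (hf : IsBaseChange S' f) : IsBaseChange R' (f.restrictScalars R) :=
  IsBaseChange.of_equiv (pushoutModuleEquiv (A := R) hf).symm fun x => by
    rw [pushoutModuleEquiv_symm_one_tmul, one_smul]
    rfl

end Groth.L20

namespace Groth.L20

open TensorProduct LinearMap

/-- A localization of a base change is flat when the base change is flat at the prime below. -/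
theorem flat_localization_of_isPushout {R S R' S' : Type*} [CommRing R] [CommRing S]
    [CommRing R'] [CommRing S'] [Algebra R S] [Algebra R R'] [Algebra S S'] [Algebra R' S'] [Algebra R S']
    [IsScalarTower R S S'] [IsScalarTower R R' S'] [Algebra.IsPushout R S R' S']
    (q' : Ideal S') [q'.IsPrime] [Module.Flat R (Localization.AtPrime (q'.comap (algebraMap R' S')))] :
    Module.Flat S (Localization.AtPrime q') := by
  let p' := q'.comap (algebraMap R' S')
  have : Module.Flat R (LocalizedModule p'.primeCompl R') :=
    Module.Flat.of_linearEquiv ((IsLocalizedModule.linearEquiv p'.primeCompl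
      (LocalizedModule.mkLinearMap p'.primeCompl R') (Algebra.linearMap R' (Localization.AtPrime p'))).restrictScalars R)
  have hb : IsBaseChange S ((Algebra.linearMap R' S').restrictScalars R) :=
    Algebra.IsPushout.out (R := R) (S := S)
  have := flat_localizedModule_of_isBaseChange (R' := S) (S' := S') (M' := S')
    (Algebra.linearMap R' S') hb p'.primeCompl q'.primeCompl (fun t ht => ht)
  exact Module.Flat.of_linearEquiv ((IsLocalizedModule.linearEquiv q'.primeCompl
      (Algebra.linearMap S' (Localization.AtPrime q')) (LocalizedModule.mkLinearMap q'.primeCompl S')).restrictScalars S)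

/-- A prime of a pushout over two primes with the same image exists. -/
theorem exists_prime_isPushout {R S R' S' : Type u} [CommRing R] [CommRing S]
    [CommRing R'] [CommRing S'] [Algebra R S] [Algebra R R'] [Algebra S S'] [Algebra R' S'] [Algebra R S']
    [IsScalarTower R S S'] [IsScalarTower R R' S'] [Algebra.IsPushout R S R' S']
    (q : Ideal S) [q.IsPrime] (p' : Ideal R') [p'.IsPrime]
    (h : q.comap (algebraMap R S) = p'.comap (algebraMap R R')) :
    ∃ q' : Ideal S', q'.IsPrime ∧ q'.comap (algebraMap S S') = q ∧ q'.comap (algebraMap R' S') = p' := by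
  let p := q.comap (algebraMap R S)
  let a : p.ResidueField →+* q.ResidueField := Ideal.ResidueField.map p q (algebraMap R S) rfl
  let b : p.ResidueField →+* p'.ResidueField := Ideal.ResidueField.map p p' (algebraMap R R') h
  algebraize [a, b]
  have : Nontrivial (q.ResidueField ⊗[p.ResidueField] p'.ResidueField) :=
    Algebra.TensorProduct.includeLeft_injective (S := p.ResidueField) (R := p.ResidueField)
      (A := q.ResidueField) (B := p'.ResidueField) (algebraMap p.ResidueField p'.ResidueField).injective
      |>.nontrivial
  obtain ⟨m, hm⟩ := Ideal.exists_maximal (q.ResidueField ⊗[p.ResidueField] p'.ResidueField)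
  let L := (q.ResidueField ⊗[p.ResidueField] p'.ResidueField) ⧸ m
  let f₀ : S →+* L := ((Ideal.Quotient.mk m).comp Algebra.TensorProduct.includeLeftRingHom).comp
    (algebraMap S q.ResidueField)
  let g₀ : R' →+* L := ((Ideal.Quotient.mk m).comp
    (Algebra.TensorProduct.includeRight (R := p.ResidueField) (A := q.ResidueField) (B := p'.ResidueField)).toRingHom).comp
    (algebraMap R' p'.ResidueField)
  have hcomm : f₀.comp (algebraMap R S) = g₀.comp (algebraMap R R') := by
    ext r
    simp only [f₀, g₀, RingHom.comp_apply]
    congr 1
    have ha : algebraMap S q.ResidueField (algebraMap R S r) =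
        algebraMap p.ResidueField q.ResidueField (algebraMap R p.ResidueField r) := by
      rw [RingHom.algebraMap_toAlgebra, Ideal.ResidueField.map_algebraMap]
    have hb : algebraMap R' p'.ResidueField (algebraMap R R' r) =
        algebraMap p.ResidueField p'.ResidueField (algebraMap R p.ResidueField r) := by
      rw [RingHom.algebraMap_toAlgebra, Ideal.ResidueField.map_algebraMap]
    rw [ha, hb]
    exact ((Algebra.TensorProduct.includeRight (R := p.ResidueField) (A := q.ResidueField)
      (B := p'.ResidueField)).commutes _).symm
  let _ : Algebra R L := (f₀.comp (algebraMap R S)).toAlgebra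
  let f : S →ₐ[R] L := { f₀ with commutes' := fun _ => rfl }
  let g : R' →ₐ[R] L := { g₀ with commutes' := fun r => (RingHom.congr_fun hcomm r).symm }
  let θ := Algebra.pushoutDesc S' f g (fun _ _ => mul_comm _ _)
  have hL : Field L := Ideal.Quotient.field m
  refine ⟨RingHom.ker θ.toRingHom, RingHom.ker_isPrime _, ?_, ?_⟩
  · have e : θ.toRingHom.comp (algebraMap S S') = f₀ := by
      ext s; simp [θ, f]
    rw [RingHom.comap_ker, e]
    ext s
    simp only [f₀, RingHom.mem_ker, RingHom.comp_apply]
    exact (map_eq_zero_iff ((Ideal.Quotient.mk m).comp Algebra.TensorProduct.includeLeftRingHom)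
      (RingHom.injective _)).trans Ideal.algebraMap_residueField_eq_zero
  · have e : θ.toRingHom.comp (algebraMap R' S') = g₀ := by
      ext s; simp [θ, g]
    rw [RingHom.comap_ker, e]
    ext s
    simp only [g₀, RingHom.mem_ker, RingHom.comp_apply]
    exact (map_eq_zero_iff ((Ideal.Quotient.mk m).comp
      (Algebra.TensorProduct.includeRight (R := p.ResidueField) (A := q.ResidueField) (B := p'.ResidueField)).toRingHom)
      (RingHom.injective _)).trans Ideal.algebraMap_residueField_eq_zero

/-- Descent of flatness at a prime through a flat local extension. -/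
theorem flat_localizedModule_of_descent {R S T M L : Type*} [CommRing R] [CommRing S] [CommRing T]
    [Algebra R S] [Algebra S T] [Algebra R T] [IsScalarTower R S T] [AddCommGroup M] [Module R M] [Module S M] [IsScalarTower R S M]
    [AddCommGroup L] [Module R L] [Module S L] [IsScalarTower R S L] [Module T L] [IsScalarTower S T L]
    [Module.Flat S T] [Module.Flat R L] (f : M →ₗ[S] L) (hf : IsBaseChange T f)
    (q : Ideal S) [q.IsPrime] (hq : q.map (algebraMap S T) ≠ ⊤) :
    Module.Flat R (LocalizedModule q.primeCompl M) := by
  refine flat_localizedModule_of_forall q.primeCompl fun J z hz => ?_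
  let e : T ⊗[S] (M ⊗[R] J) ≃ₗ[S] L ⊗[R] J :=
    (AlgebraTensorModule.assoc R S S T M J).symm ≪≫ₗ
      AlgebraTensorModule.congr (hf.equiv.restrictScalars S) (LinearEquiv.refl R J)
  have he : ∀ z : M ⊗[R] J, e (1 ⊗ₜ z) = AlgebraTensorModule.rTensor R J f z := by
    intro z
    induction z using TensorProduct.induction_on with
    | zero => simp
    | tmul m j => simp [e, hf.equiv_tmul]
    | add a b ha hb => simp only [TensorProduct.tmul_add, map_add, ha, hb]
  have h0 : (1 : T) ⊗ₜ[S] z = 0 := by
    apply e.injective
    rw [he, map_zero]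
    apply Module.Flat.lTensor_preserves_injective_linearMap (M := L) J.subtype Subtype.val_injective
    rw [map_zero]
    have : ∀ z : M ⊗[R] J, J.subtype.lTensor L (AlgebraTensorModule.rTensor R J f z) =
        AlgebraTensorModule.rTensor R R f (J.subtype.lTensor M z) := by
      intro z
      induction z using TensorProduct.induction_on with
      | zero => simp
      | tmul m j => simp
      | add a b ha hb => simp only [map_add, ha, hb]
    rw [this, hz, map_zero]
  let a : Ideal S := LinearMap.ker (LinearMap.toSpanSingleton S _ z)
  have h1 : a.map (algebraMap S T) = ⊤ := by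
    let i : (S ⧸ a) →ₗ[S] M ⊗[R] J := Submodule.liftQ a (LinearMap.toSpanSingleton S _ z) le_rfl
    have hi : Function.Injective i := by
      rw [← LinearMap.ker_eq_bot]
      exact Submodule.ker_liftQ_eq_bot _ _ _ le_rfl
    have h2 : (1 : T) ⊗ₜ[S] (Submodule.Quotient.mk 1 : S ⧸ a) = 0 := by
      apply Module.Flat.lTensor_preserves_injective_linearMap (M := T) i hi
      rw [map_zero, LinearMap.lTensor_tmul]
      show (1 : T) ⊗ₜ[S] ((LinearMap.toSpanSingleton S _ z) 1) = 0
      rw [LinearMap.toSpanSingleton_apply, one_smul]
      exact h0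
    have h3 := congrArg (TensorProduct.quotTensorEquivQuotSMul T a ∘ TensorProduct.comm S T (S ⧸ a)) h2
    simp at h3
    rw [Ideal.eq_top_iff_one]
    have : (1 : T) ∈ a • (⊤ : Submodule S T) := by
      simpa [TensorProduct.quotTensorEquivQuotSMul, Submodule.Quotient.mk_eq_zero] using h3
    rwa [Ideal.smul_top_eq_map, Submodule.restrictScalars_mem] at this
  obtain ⟨t, hta, htq⟩ : ∃ t ∈ a, t ∉ q := by
    by_contra hne
    push Not at hne
    exact hq (top_le_iff.mp (h1.ge.trans (Ideal.map_mono hne)))
  exact ⟨t, htq, by simpa [a] using hta⟩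

end Groth.L20
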