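import Groth.Agent.L20.FibreDescent
import Groth.Agent.L20.FlatAtBaseChange
import Mathlib.RingTheory.Flat.Localization

/-!
# The fibrewise criterion of flatness over an algebra of finite type
-/

set_option autoImplicit false
set_option linter.style.haveILetI false

universe u

open scoped TensorProduct

namespace Groth.L20.FibreCrit

/-- The kernel of the base change of a surjection is generated by the kernel. -/
theorem ker_le_map_of_isPushout {P S P' B : Type u} [CommRing P] [CommRing S] [CommRing P'] [CommRing B]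
    [Algebra P S] [Algebra P P'] [Algebra S B] [Algebra P' B] [Algebra P B] [IsScalarTower P S B]
    [IsScalarTower P P' B] [Algebra.IsPushout P P' S B] (h : Function.Surjective (algebraMap P S)) :
    RingHom.ker (algebraMap P' B) ≤ (RingHom.ker (algebraMap P S)).map (algebraMap P P') := by
  obtain ⟨J', hJ'⟩ : ∃ J' : Ideal P', J' = (RingHom.ker (algebraMap P S)).map (algebraMap P P') := ⟨_, rfl⟩
  rw [← hJ']
  have hc : RingHom.ker (algebraMap P S) ≤ J'.comap (algebraMap P P') := hJ' ▸ Ideal.le_comap_map
  let s : S →+* P' ⧸ J' :=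
    (Ideal.quotientMap J' (algebraMap P P') hc).comp
      (RingHom.quotientKerEquivOfSurjective h).symm.toRingHom
  have hs : ∀ a : P, s (algebraMap P S a) = algebraMap P (P' ⧸ J') a := fun a => by
    have : (RingHom.quotientKerEquivOfSurjective h).symm (algebraMap P S a) = Ideal.Quotient.mk _ a := by
      rw [RingEquiv.symm_apply_eq]; rfl
    show Ideal.quotientMap J' (algebraMap P P') hc ((RingHom.quotientKerEquivOfSurjective h).symm (algebraMap P S a)) = _
    rw [this]; rfl
  let sl : S →ₗ[P] P' ⧸ J' :=
    { toFun := s, map_add' := map_add s,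
      map_smul' := fun a x => by simp only [Algebra.smul_def, map_mul, hs, RingHom.id_apply] }
  have hB : IsBaseChange P' ((IsScalarTower.toAlgHom P S B).toLinearMap) := Algebra.IsPushout.out
  intro x hx
  rw [← Ideal.Quotient.eq_zero_iff_mem]
  have key : hB.lift sl (algebraMap P' B x) = Ideal.Quotient.mk J' x := by
    rw [Algebra.algebraMap_eq_smul_one, map_smul, show (1 : B) = IsScalarTower.toAlgHom P S B (1 : S) by simp]
    erw [hB.lift_eq sl (1 : S)]
    show x • s 1 = _
    rw [map_one, Algebra.smul_def, mul_one]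
    rfl
  rw [← key, RingHom.mem_ker.mp hx, map_zero]

/-- Along a surjection, a module is its own base change. -/
theorem isBaseChange_id_of_surjective {A A' : Type*} [CommRing A] [CommRing A'] [Algebra A A']
    (h : Function.Surjective (algebraMap A A')) (N : Type*) [AddCommGroup N] [Module A N] [Module A' N]
    [IsScalarTower A A' N] : IsBaseChange A' (LinearMap.id : N →ₗ[A] N) := by
  have key : ∀ z : A' ⊗[A] N, z = 1 ⊗ₜ[A] (LinearMap.liftBaseChange A' (LinearMap.id : N →ₗ[A] N) z) := by
    intro z
    induction z using TensorProduct.induction_on with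
    | zero => simp
    | tmul a n =>
      obtain ⟨a, rfl⟩ := h a
      rw [LinearMap.liftBaseChange_tmul, LinearMap.id_apply, algebraMap_smul, TensorProduct.tmul_smul,
        TensorProduct.smul_tmul', Algebra.smul_def, mul_one]
    | add x y hx hy =>
      rw [map_add, TensorProduct.tmul_add, ← hx, ← hy]
  refine IsBaseChange.of_equiv (LinearEquiv.ofBijective (LinearMap.liftBaseChange A' (LinearMap.id : N →ₗ[A] N))
    ⟨fun x y hxy => ?_, fun n => ⟨1 ⊗ₜ n, by rw [LinearMap.liftBaseChange_tmul, one_smul]; rfl⟩⟩) fun n => by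
    show LinearMap.liftBaseChange A' (LinearMap.id : N →ₗ[A] N) (1 ⊗ₜ[A] n) = n
    rw [LinearMap.liftBaseChange_tmul, one_smul]
    rfl
  rw [key x, key y, hxy]

/-- Flatness passes to localizations. -/
theorem flat_localizedModule_of_flat {R S M : Type*} [CommRing R] [CommRing S] [Algebra R S]
    [AddCommGroup M] [Module R M] [Module S M] [IsScalarTower R S M] [Module.Flat R M] (T : Submonoid S) :
    Module.Flat R (LocalizedModule T M) :=
  Groth.L20.flat_localizedModule_of_forall T fun J z hz => ⟨1, T.one_mem, by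
    rw [one_smul]
    exact Module.Flat.lTensor_preserves_injective_linearMap J.subtype Subtype.val_injective
      (hz.trans (map_zero _).symm)⟩

/-- Localizations of a flat base change of a module are flat over the base-changed ring. -/
theorem flat_fibre_module {S B U C M : Type u} [CommRing S] [CommRing B] [CommRing U] [CommRing C]
    [Algebra S B] [Algebra S U] [Algebra B C] [Algebra U C] [Algebra S C] [IsScalarTower S U C]
    [IsScalarTower S B C] [Algebra.IsPushout S B U C]
    [AddCommGroup M] [Module U M] [Module S M] [IsScalarTower S U M]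
    [Module.Flat B (B ⊗[S] M)] (q' : Ideal C) [q'.IsPrime] :
    Module.Flat B (Localization.AtPrime q' ⊗[U] M) := by
  haveI : Algebra.IsPushout S U B C := .symm inferInstance
  have hb : IsBaseChange B ((TensorProduct.mk U C M 1).restrictScalars S) :=
    Groth.L20.isBaseChange_restrictScalars (R := S) (S := U) (R' := B) (S' := C) (TensorProduct.isBaseChange U M C)
  haveI : Module.Flat B (C ⊗[U] M) := Module.Flat.of_linearEquiv hb.equiv.symm
  haveI := flat_localizedModule_of_flat (R := B) (S := C) (M := C ⊗[U] M) q'.primeCompl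
  let e : Localization.AtPrime q' ⊗[C] (C ⊗[U] M) ≃ₗ[C] Localization.AtPrime q' ⊗[U] M :=
    TensorProduct.AlgebraTensorModule.cancelBaseChange U C C (Localization.AtPrime q') M
  let e' : LocalizedModule q'.primeCompl (C ⊗[U] M) ≃ₗ[C] Localization.AtPrime q' ⊗[U] M :=
    (IsLocalizedModule.linearEquiv q'.primeCompl (LocalizedModule.mkLinearMap q'.primeCompl (C ⊗[U] M))
      (TensorProduct.mk C (Localization.AtPrime q') (C ⊗[U] M) 1)).trans e
  exact Module.Flat.of_linearEquiv (e'.restrictScalars B).symm

/-- The fibrewise criterion of flatness, with `S` of finite type over `R`. -/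
theorem flat_of_fibre_ft {R S U M K B C : Type u} [CommRing R] [CommRing S] [CommRing U]
    [Algebra R S] [Algebra.FiniteType R S]
    [Algebra S U] [Algebra R U] [IsScalarTower R S U] [Algebra.FinitePresentation R U]
    [AddCommGroup M] [Module U M] [Module S M] [Module R M] [IsScalarTower S U M] [IsScalarTower R U M]
    [Module.FinitePresentation U M]
    (q : Ideal U) [q.IsPrime] [Module.Flat R (LocalizedModule q.primeCompl M)]
    [Field K] [Algebra R K] (hK : RingHom.ker (algebraMap R K) = q.comap (algebraMap R U))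
    [CommRing B] [Algebra K B] [Algebra S B] [Algebra R B] [IsScalarTower R K B] [IsScalarTower R S B]
    [Algebra.IsPushout R K S B]
    [CommRing C] [Algebra K C] [Algebra U C] [Algebra R C] [Algebra B C] [Algebra S C]
    [IsScalarTower R K C] [IsScalarTower R U C] [IsScalarTower S B C] [IsScalarTower S U C]
    [Algebra.IsPushout R K U C]
    (q' : Ideal C) [q'.IsPrime] (hq' : q'.comap (algebraMap U C) = q)
    (h : Module.Flat B (Localization.AtPrime q' ⊗[U] M)) :
    Module.Flat S (LocalizedModule q.primeCompl M) := by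
  classical
  obtain ⟨a, π, hπ⟩ := Algebra.FiniteType.iff_quotient_mvPolynomial''.mp (inferInstance : Algebra.FiniteType R S)
  letI : Algebra (MvPolynomial (Fin a) R) S := π.toRingHom.toAlgebra
  haveI : IsScalarTower R (MvPolynomial (Fin a) R) S := IsScalarTower.of_algebraMap_eq fun x => (π.commutes x).symm
  letI : Algebra (MvPolynomial (Fin a) R) B := ((algebraMap S B).comp π.toRingHom).toAlgebra
  haveI : IsScalarTower (MvPolynomial (Fin a) R) S B := IsScalarTower.of_algebraMap_eq fun x => rfl
  haveI : IsScalarTower R (MvPolynomial (Fin a) R) B := IsScalarTower.of_algebraMap_eq fun x => by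
    rw [IsScalarTower.algebraMap_apply R S B, IsScalarTower.algebraMap_apply (MvPolynomial (Fin a) R) S B,
      ← IsScalarTower.algebraMap_apply R (MvPolynomial (Fin a) R) S]
  letI : Algebra (MvPolynomial (Fin a) R) (MvPolynomial (Fin a) K) := MvPolynomial.algebraMvPolynomial
  let πK : MvPolynomial (Fin a) K →ₐ[K] B :=
    MvPolynomial.aeval fun i => algebraMap (MvPolynomial (Fin a) R) B (MvPolynomial.X i)
  letI : Algebra (MvPolynomial (Fin a) K) B := πK.toRingHom.toAlgebra
  haveI : IsScalarTower K (MvPolynomial (Fin a) K) B :=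
    IsScalarTower.of_algebraMap_eq fun x => (πK.commutes x).symm
  haveI : IsScalarTower (MvPolynomial (Fin a) R) (MvPolynomial (Fin a) K) B := by
    refine IsScalarTower.of_algebraMap_eq' (MvPolynomial.ringHom_ext (fun r => ?_) (fun i => ?_))
    · show algebraMap (MvPolynomial (Fin a) R) B (MvPolynomial.C r) =
        πK (MvPolynomial.map (algebraMap R K) (MvPolynomial.C r))
      rw [MvPolynomial.map_C, ← MvPolynomial.algebraMap_eq, ← IsScalarTower.algebraMap_apply,
        ← MvPolynomial.algebraMap_eq, πK.commutes, ← IsScalarTower.algebraMap_apply]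
    · show algebraMap (MvPolynomial (Fin a) R) B (MvPolynomial.X i) =
        πK (MvPolynomial.map (algebraMap R K) (MvPolynomial.X i))
      rw [MvPolynomial.map_X, MvPolynomial.aeval_X]
  haveI : IsScalarTower R (MvPolynomial (Fin a) K) B := IsScalarTower.of_algebraMap_eq fun x => by
    rw [IsScalarTower.algebraMap_apply R K B, IsScalarTower.algebraMap_apply R K (MvPolynomial (Fin a) K),
      ← IsScalarTower.algebraMap_apply K (MvPolynomial (Fin a) K) B]
  haveI : Algebra.IsPushout R (MvPolynomial (Fin a) R) K (MvPolynomial (Fin a) K) := .symm inferInstance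
  haveI : Algebra.IsPushout R S K B := .symm inferInstance
  haveI : Algebra.IsPushout (MvPolynomial (Fin a) R) S (MvPolynomial (Fin a) K) B :=
    (Algebra.IsPushout.comp_iff (R := R) (S := MvPolynomial (Fin a) R) (R' := K) (S' := MvPolynomial (Fin a) K)
      (T := S) (T' := B)).mp inferInstance
  haveI hPB : Algebra.IsPushout (MvPolynomial (Fin a) R) (MvPolynomial (Fin a) K) S B := .symm inferInstance
  have hle := ker_le_map_of_isPushout (P := MvPolynomial (Fin a) R) (P' := MvPolynomial (Fin a) K) (B := B) hπ
  -- finitely many relations cut out the fibre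
  obtain ⟨t, ht, hspan⟩ := (Submodule.fg_span_iff_fg_span_finset_subset
    (R := MvPolynomial (Fin a) K)
    (algebraMap (MvPolynomial (Fin a) R) (MvPolynomial (Fin a) K) '' (RingHom.ker π.toRingHom : Set _))).mp
    (IsNoetherian.noetherian _)
  obtain ⟨t₀, ht₀, rfl⟩ := Finset.subset_set_image_iff.mp ht
  obtain ⟨J₀, hJ₀⟩ : ∃ J₀ : Ideal (MvPolynomial (Fin a) R), J₀ = Ideal.span (t₀ : Set (MvPolynomial (Fin a) R)) :=
    ⟨_, rfl⟩
  have hJ₀fg : J₀.FG := ⟨t₀, hJ₀.symm⟩
  have hJ₀le : J₀ ≤ RingHom.ker π.toRingHom := hJ₀ ▸ Ideal.span_le.mpr ht₀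
  have hmapJ : (RingHom.ker π.toRingHom).map (algebraMap (MvPolynomial (Fin a) R) (MvPolynomial (Fin a) K)) ≤
      J₀.map (algebraMap (MvPolynomial (Fin a) R) (MvPolynomial (Fin a) K)) := by
    rw [hJ₀, Ideal.map_span, ← Finset.coe_image]
    exact le_of_eq hspan
  -- the finitely presented algebra `S₀`
  haveI : Algebra.FinitePresentation R (MvPolynomial (Fin a) R ⧸ J₀) := Algebra.FinitePresentation.quotient hJ₀fg
  letI : Algebra (MvPolynomial (Fin a) R ⧸ J₀) S :=
    (Ideal.Quotient.lift J₀ π.toRingHom fun x hx => hJ₀le hx).toAlgebra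
  letI : Algebra (MvPolynomial (Fin a) R ⧸ J₀) B :=
    ((algebraMap S B).comp (algebraMap (MvPolynomial (Fin a) R ⧸ J₀) S)).toAlgebra
  letI : Algebra (MvPolynomial (Fin a) R ⧸ J₀) U :=
    ((algebraMap S U).comp (algebraMap (MvPolynomial (Fin a) R ⧸ J₀) S)).toAlgebra
  letI : Algebra (MvPolynomial (Fin a) R ⧸ J₀) C :=
    ((algebraMap S C).comp (algebraMap (MvPolynomial (Fin a) R ⧸ J₀) S)).toAlgebra
  letI : Module (MvPolynomial (Fin a) R ⧸ J₀) M :=
    Module.compHom M (algebraMap (MvPolynomial (Fin a) R ⧸ J₀) S)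
  haveI hPS : IsScalarTower (MvPolynomial (Fin a) R) (MvPolynomial (Fin a) R ⧸ J₀) S :=
    isScalarTower_quotient J₀ fun x => rfl
  haveI hRS : IsScalarTower R (MvPolynomial (Fin a) R ⧸ J₀) S :=
    IsScalarTower.of_algebraMap_eq (R := R) (S := MvPolynomial (Fin a) R ⧸ J₀) (A := S) fun x => (π.commutes x).symm
  haveI : IsScalarTower (MvPolynomial (Fin a) R ⧸ J₀) S B := IsScalarTower.of_algebraMap_eq fun x => rfl
  haveI : IsScalarTower (MvPolynomial (Fin a) R ⧸ J₀) S U := IsScalarTower.of_algebraMap_eq fun x => rfl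
  haveI : IsScalarTower (MvPolynomial (Fin a) R ⧸ J₀) S C := IsScalarTower.of_algebraMap_eq fun x => rfl
  haveI : IsScalarTower (MvPolynomial (Fin a) R ⧸ J₀) B C := IsScalarTower.of_algebraMap_eq fun x =>
    IsScalarTower.algebraMap_apply S B C _
  haveI : IsScalarTower (MvPolynomial (Fin a) R ⧸ J₀) U C := IsScalarTower.of_algebraMap_eq fun x =>
    IsScalarTower.algebraMap_apply S U C _
  haveI : IsScalarTower R (MvPolynomial (Fin a) R ⧸ J₀) U :=
    IsScalarTower.of_algebraMap_eq (R := R) (S := MvPolynomial (Fin a) R ⧸ J₀) (A := U) fun x => by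
      rw [IsScalarTower.algebraMap_apply (MvPolynomial (Fin a) R ⧸ J₀) S U, ← IsScalarTower.algebraMap_apply R (MvPolynomial (Fin a) R ⧸ J₀) S,
        ← IsScalarTower.algebraMap_apply R S U]
  haveI : IsScalarTower R (MvPolynomial (Fin a) R ⧸ J₀) B :=
    IsScalarTower.of_algebraMap_eq (R := R) (S := MvPolynomial (Fin a) R ⧸ J₀) (A := B) fun x => by
      rw [IsScalarTower.algebraMap_apply (MvPolynomial (Fin a) R ⧸ J₀) S B, ← IsScalarTower.algebraMap_apply R (MvPolynomial (Fin a) R ⧸ J₀) S,
        ← IsScalarTower.algebraMap_apply R S B]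
  haveI : IsScalarTower (MvPolynomial (Fin a) R ⧸ J₀) S M := IsScalarTower.of_algebraMap_smul fun _ _ => rfl
  haveI : IsScalarTower (MvPolynomial (Fin a) R ⧸ J₀) U M := IsScalarTower.of_algebraMap_smul fun x m => by
    show algebraMap S U (algebraMap (MvPolynomial (Fin a) R ⧸ J₀) S x) • m =
      algebraMap (MvPolynomial (Fin a) R ⧸ J₀) S x • m
    rw [algebraMap_smul]
  haveI : IsScalarTower (MvPolynomial (Fin a) R) (MvPolynomial (Fin a) R ⧸ J₀) B :=
    isScalarTower_quotient J₀ fun x => rfl
  haveI : Algebra.IsPushout R K (MvPolynomial (Fin a) R ⧸ J₀) B := by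
    haveI : Algebra.IsPushout R K (MvPolynomial (Fin a) R) (MvPolynomial (Fin a) K) := .symm inferInstance
    refine isPushout_of_surjective (P₀ := MvPolynomial (Fin a) R) (P := MvPolynomial (Fin a) K)
      (Q₀ := MvPolynomial (Fin a) R ⧸ J₀) Ideal.Quotient.mk_surjective ?_ ?_
    · intro b
      induction b using hPB.out.inductionOn with
      | zero => exact ⟨0, map_zero _⟩
      | tmul x =>
        obtain ⟨y, rfl⟩ := hπ x
        exact ⟨algebraMap _ _ y, by
          show algebraMap (MvPolynomial (Fin a) K) B (algebraMap (MvPolynomial (Fin a) R) (MvPolynomial (Fin a) K) y) =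
            algebraMap S B (π y)
          rw [← IsScalarTower.algebraMap_apply]
          rfl⟩
      | smul c x hx =>
        obtain ⟨z, rfl⟩ := hx
        exact ⟨c * z, by rw [map_mul, Algebra.smul_def]⟩
      | add x y hx hy =>
        obtain ⟨z, rfl⟩ := hx
        obtain ⟨w, rfl⟩ := hy
        exact ⟨z + w, map_add _ _ _⟩
    · rw [Ideal.Quotient.algebraMap_eq, Ideal.mk_ker]
      exact hle.trans hmapJ
  have := flat_of_fibre (S := MvPolynomial (Fin a) R ⧸ J₀) q hK q' hq' h
  -- back to `S`
  haveI : IsScalarTower (MvPolynomial (Fin a) R ⧸ J₀) U (LocalizedModule q.primeCompl M) := inferInstance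
  have hsurj : Function.Surjective (algebraMap (MvPolynomial (Fin a) R ⧸ J₀) S) :=
    Ideal.Quotient.lift_surjective_of_surjective _ _ hπ
  exact Module.Flat.isBaseChange (MvPolynomial (Fin a) R ⧸ J₀) S (LocalizedModule q.primeCompl M)
    (LocalizedModule q.primeCompl M) (isBaseChange_id_of_surjective hsurj _)

end Groth.L20.FibreCrit
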