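import Groth.Agent.L20.FlatLocusOpen
import Mathlib.AlgebraicGeometry.Morphisms.Flat
import Mathlib.AlgebraicGeometry.Morphisms.FinitePresentation

/-!
# Flatness of stalk maps on affine pieces
-/

universe u

open CategoryTheory AlgebraicGeometry

namespace Groth.L20

/-- Flatness of a local ring map between localizations. -/
theorem flat_localRingHom_iff {R S : Type u} [CommRing R] [CommRing S] [Algebra R S]
    (p : Ideal R) [p.IsPrime] (q : Ideal S) [q.IsPrime] (h : p = q.comap (algebraMap R S)) :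
    (Localization.localRingHom p q (algebraMap R S) h).Flat ↔
      Module.Flat R (LocalizedModule q.primeCompl S) := by
  algebraize [Localization.localRingHom p q (algebraMap R S) h]
  have : IsScalarTower R (Localization.AtPrime p) (Localization.AtPrime q) :=
    IsScalarTower.of_algebraMap_eq fun x => by
      simp [RingHom.algebraMap_toAlgebra, Localization.localRingHom_to_map, ← IsScalarTower.algebraMap_apply]
  show Module.Flat (Localization.AtPrime p) (Localization.AtPrime q) ↔ _
  rw [Module.flat_iff_of_isLocalization (Localization.AtPrime p) p.primeCompl]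

/-- Flatness of a stalk map in terms of the rings of affine opens. -/
theorem flat_stalkMap_iff {X Y : Scheme.{u}} (f : X ⟶ Y) {U : Y.Opens} (hU : IsAffineOpen U)
    {V : X.Opens} (hV : IsAffineOpen V) (hVU : V ≤ f ⁻¹ᵁ U) {x : X} (hx : x ∈ V) :
    (f.stalkMap x).hom.Flat ↔
      letI := (f.appLE U V hVU).hom.toAlgebra
      Module.Flat Γ(Y, U) (LocalizedModule (hV.primeIdealOf ⟨x, hx⟩).asIdeal.primeCompl Γ(X, V)) := by
  have hR := (RingHom.toMorphismProperty_respectsIso_iff (P := fun f => RingHom.Flat f)).mp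
    RingHom.Flat.respectsIso
  have h := (RingHom.toMorphismProperty fun f => RingHom.Flat f).arrow_mk_iso_iff
    (IsAffineOpen.arrowStalkMapIso f U hU V hV hVU hx)
  refine h.trans ?_
  let _ := (f.appLE U V hVU).hom.toAlgebra
  exact flat_localRingHom_iff _ _
    congr($(IsAffineOpen.comap_primeIdealOf_appLE U hU V hV hVU hx).1).symm

/-- The flat locus of a morphism locally of finite presentation is open. -/
theorem isOpen_flat_stalkMap {X Y : Scheme.{u}} (f : X ⟶ Y) [LocallyOfFinitePresentation f] :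
    IsOpen {x : X | (f.stalkMap x).hom.Flat} := by
  rw [isOpen_iff_forall_mem_open]
  intro x hx
  obtain ⟨_, ⟨U, hU, rfl⟩, hxU, -⟩ :=
    Y.isBasis_affineOpens.exists_subset_of_mem_open (Set.mem_univ (f x)) isOpen_univ
  obtain ⟨_, ⟨V, hV, rfl⟩, hxV, hVU⟩ :=
    X.isBasis_affineOpens.exists_subset_of_mem_open (a := x) (show x ∈ f ⁻¹ᵁ U from hxU) (f ⁻¹ᵁ U).2
  let _ := (f.appLE U V hVU).hom.toAlgebra
  have : Algebra.FinitePresentation Γ(Y, U) Γ(X, V) :=
    RingHom.finitePresentation_algebraMap.mp (f.finitePresentation_appLE hU hV hVU)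
  have := (flat_stalkMap_iff f hU hV hVU hxV).mp hx
  obtain ⟨g, hg, hflat⟩ := exists_flat_away (M := Γ(X, V)) (R := Γ(Y, U)) (hV.primeIdealOf ⟨x, hxV⟩).asIdeal.primeCompl
  have key : ∀ (y : X) (hy : y ∈ V), y ∈ X.basicOpen g ↔ g ∉ (hV.primeIdealOf ⟨y, hy⟩).asIdeal := by
    intro y hy
    have h1 := hV.fromSpec_preimage_basicOpen g
    have h2 : hV.primeIdealOf ⟨y, hy⟩ ∈ hV.fromSpec ⁻¹ᵁ X.basicOpen g ↔
        hV.primeIdealOf ⟨y, hy⟩ ∈ PrimeSpectrum.basicOpen g := SetLike.ext_iff.mp h1 _
    change hV.fromSpec (hV.primeIdealOf ⟨y, hy⟩) ∈ X.basicOpen g ↔ _ at h2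
    rw [hV.fromSpec_primeIdealOf] at h2
    exact h2
  refine ⟨X.basicOpen g, fun y hy => ?_, (X.basicOpen g).2, (key x hxV).mpr hg⟩
  have hyV : y ∈ V := X.basicOpen_le g hy
  refine (flat_stalkMap_iff f hU hV hVU hyV).mpr ?_
  exact flat_localizedModule_of_le (Submonoid.powers_le.mpr ((key y hyV).mp hy)) hflat

end Groth.L20
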