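import Groth.Agent.L18.FiberStalk
import Groth.Prelude.Def_MoreMor
import Mathlib.AlgebraicGeometry.Morphisms.Flat

/-!
# Stalk maps of morphisms of fibres
-/

set_option autoImplicit false
set_option linter.style.haveILetI false

universe u

open CategoryTheory CategoryTheory.Limits AlgebraicGeometry

namespace Groth.L20

/-- A square of surjections identifies a map with the induced map of quotients. -/
theorem flat_iff_flat_quotientMap {A A' B B' : Type u} [CommRing A] [CommRing A'] [CommRing B] [CommRing B']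
    (f : A →+* B) (f' : A' →+* B') (a : A →+* A') (b : B →+* B') (ha : Function.Surjective a)
    (hb : Function.Surjective b) (hcomm : f'.comp a = b.comp f) {I : Ideal A} {J : Ideal B}
    (hI : RingHom.ker a = I) (hJ : RingHom.ker b = J) (h : I ≤ J.comap f) :
    f'.Flat ↔ (Ideal.quotientMap J f h).Flat := by
  subst hI hJ
  let ea := RingHom.quotientKerEquivOfSurjective ha
  let eb := RingHom.quotientKerEquivOfSurjective hb
  have heq : f' = eb.toRingHom.comp ((Ideal.quotientMap (RingHom.ker b) f h).comp ea.symm.toRingHom) := by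
    ext x
    obtain ⟨x, rfl⟩ := ha x
    have : ea.symm (a x) = Ideal.Quotient.mk _ x := by rw [RingEquiv.symm_apply_eq]; rfl
    show f' (a x) = eb (Ideal.quotientMap (RingHom.ker b) f h (ea.symm (a x)))
    rw [this, Ideal.quotientMap_mk]
    exact RingHom.congr_fun hcomm x
  rw [heq]
  constructor
  · intro hfl
    have h1 := RingHom.Flat.comp (RingHom.Flat.comp (RingHom.Flat.of_bijective (f := ea.toRingHom) ea.bijective) hfl)
      (RingHom.Flat.of_bijective (f := eb.symm.toRingHom) eb.symm.bijective)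
    convert h1 using 1
    ext x
    simp
  · exact fun hfl => RingHom.Flat.comp (RingHom.Flat.comp (RingHom.Flat.of_bijective ea.symm.bijective) hfl)
      (RingHom.Flat.of_bijective eb.bijective)

variable {X Y S : Scheme.{u}}

theorem ker_stalkCongr_comp (g : Y ⟶ S) (s : S) (w : g.fiber s) {y : Y} (e : (g.fiberι s) w = y) :
    RingHom.ker ((Y.presheaf.stalkCongr (.of_eq e)).inv ≫ (g.fiberι s).stalkMap w).hom =
      Ideal.map (g.stalkMap y).hom (IsLocalRing.maximalIdeal (S.presheaf.stalk (g y))) := by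
  subst e
  have h1 : (Y.presheaf.stalkCongr (.of_eq (rfl : (g.fiberι s) w = (g.fiberι s) w))).inv = 𝟙 _ :=
    TopCat.Presheaf.stalkSpecializes_refl _ _
  rw [h1, Category.id_comp]
  exact (Groth.L18.stalkMap_fiberι g s w).2

theorem surjective_stalkCongr_comp (g : Y ⟶ S) (s : S) (w : g.fiber s) {y : Y} (e : (g.fiberι s) w = y) :
    Function.Surjective ((Y.presheaf.stalkCongr (.of_eq e)).inv ≫ (g.fiberι s).stalkMap w).hom := by
  subst e
  have h1 : (Y.presheaf.stalkCongr (.of_eq (rfl : (g.fiberι s) w = (g.fiberι s) w))).inv = 𝟙 _ :=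
    TopCat.Presheaf.stalkSpecializes_refl _ _
  rw [h1, Category.id_comp]
  exact (Groth.L18.stalkMap_fiberι g s w).1

theorem map_maximalIdeal_le_comap (f : X ⟶ Y) (g : Y ⟶ S) (x : X) :
    Ideal.map (g.stalkMap (f x)).hom (IsLocalRing.maximalIdeal (S.presheaf.stalk (g (f x)))) ≤
      Ideal.comap (f.stalkMap x).hom
        (Ideal.map ((f ≫ g).stalkMap x).hom (IsLocalRing.maximalIdeal (S.presheaf.stalk (g (f x))))) := by
  rw [← Ideal.map_le_iff_le_comap, Ideal.map_map, Scheme.Hom.stalkMap_comp]
  exact le_of_eq rfl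

/-- The stalk map of the morphism of fibres is the induced map of the quotients of the stalks. -/
theorem flat_stalkMap_fiberMap_iff_aux (f : X ⟶ Y) (g : Y ⟶ S) (s : S) (z : (f ≫ g).fiber s) {x : X}
    (hx : ((f ≫ g).fiberι s) z = x) :
    ((MoreMor.fiberMap f g s).stalkMap z).hom.Flat ↔
      (Ideal.quotientMap
        (Ideal.map ((f ≫ g).stalkMap x).hom (IsLocalRing.maximalIdeal (S.presheaf.stalk (g (f x)))))
        (f.stalkMap x).hom (map_maximalIdeal_le_comap f g x)).Flat := by
  subst hx
  have hcomp : MoreMor.fiberMap f g s ≫ g.fiberι s = (f ≫ g).fiberι s ≫ f := pullback.lift_fst _ _ _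
  have e : (g.fiberι s) ((MoreMor.fiberMap f g s) z) = f (((f ≫ g).fiberι s) z) :=
    congrArg (fun k : (f ≫ g).fiber s ⟶ Y => k z) hcomp
  have h1 := Scheme.Hom.stalkMap_congr_hom _ _ hcomp z
  rw [Scheme.Hom.stalkMap_comp, Scheme.Hom.stalkMap_comp] at h1
  have h2 : ((Y.presheaf.stalkCongr (.of_eq e)).inv ≫ (g.fiberι s).stalkMap ((MoreMor.fiberMap f g s) z)) ≫
      (MoreMor.fiberMap f g s).stalkMap z =
      f.stalkMap (((f ≫ g).fiberι s) z) ≫ ((f ≫ g).fiberι s).stalkMap z := by
    rw [Category.assoc]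
    erw [h1]
    exact Iso.inv_hom_id_assoc _ _
  refine flat_iff_flat_quotientMap _ _ _ _ (surjective_stalkCongr_comp g s _ e)
    (Groth.L18.stalkMap_fiberι (f ≫ g) s z).1 ?_ (ker_stalkCongr_comp g s _ e)
    (Groth.L18.stalkMap_fiberι (f ≫ g) s z).2 _
  exact congrArg CommRingCat.Hom.hom h2

/-- The stalk map of the morphism of fibres at a point of `X`. -/
theorem flat_stalkMap_fiberMap_iff (f : X ⟶ Y) (g : Y ⟶ S) (x : X) :
    ((MoreMor.fiberMap f g (g (f x))).stalkMap ((f ≫ g).asFiber x)).hom.Flat ↔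
      (Ideal.quotientMap
        (Ideal.map ((f ≫ g).stalkMap x).hom (IsLocalRing.maximalIdeal (S.presheaf.stalk (g (f x)))))
        (f.stalkMap x).hom (map_maximalIdeal_le_comap f g x)).Flat :=
  flat_stalkMap_fiberMap_iff_aux f g _ _ ((f ≫ g).fiberι_asFiber x)

/-- A flat stalk map induces a flat map of fibre rings. -/
theorem flat_quotientMap_of_flat {A B : Type u} [CommRing A] [CommRing B] (f : A →+* B) (I : Ideal A)
    (hf : f.Flat) : (Ideal.quotientMap (I.map f) f Ideal.le_comap_map).Flat := by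
  algebraize [f]
  haveI : Module.Flat A B := hf
  have key : Module.Flat (A ⧸ I) (B ⧸ I.map (algebraMap A B)) :=
    Module.Flat.of_linearEquiv (Algebra.TensorProduct.quotIdealMapEquivQuotTensor B I).toLinearEquiv
  exact RingHom.flat_algebraMap_iff.mpr key

end Groth.L20
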