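import Groth.Agent.L20.FibreAlg
import Groth.Agent.L20.FibreStalk
import Groth.Agent.L20.FlatStalk
import Groth.Agent.L06.FibreComp
import Mathlib.AlgebraicGeometry.Morphisms.FinitePresentation

/-!
# The fibrewise criterion of flatness for schemes
-/

set_option autoImplicit false
set_option linter.style.haveILetI false

universe u

open CategoryTheory CategoryTheory.Limits AlgebraicGeometry

namespace Groth.L20

variable {X Y S : Scheme.{u}}

theorem appLE_germ {f : X ⟶ Y} {V : Y.Opens} {U : X.Opens} (hUV : U ≤ f ⁻¹ᵁ V) {x : X} (hx : x ∈ U)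
    (hy : f x ∈ V) (a : Γ(Y, V)) :
    f.stalkMap x (Y.presheaf.germ V (f x) hy a) = X.presheaf.germ U x hx (f.appLE V U hUV a) := by
  rw [Scheme.Hom.germ_stalkMap_apply]
  show _ = X.presheaf.germ U x hx (X.presheaf.map (homOfLE hUV).op (f.app V a))
  rw [TopCat.Presheaf.germ_res_apply]

theorem flat_quotientMap_congr {A B : Type u} [CommRing A] [CommRing B] {f : A →+* B} {I I' : Ideal A}
    {J J' : Ideal B} (eI : I = I') (eJ : J = J') {h : I ≤ J.comap f} (h' : I' ≤ J'.comap f)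
    (hf : (Ideal.quotientMap J f h).Flat) : (Ideal.quotientMap J' f h').Flat := by
  subst eI eJ
  exact hf

/-- Fibrewise criterion: if `f ≫ g` is flat at `x` and the map of fibres is flat at `x` then `f` is flat at `x`. -/
theorem flat_stalkMap_of_fiberMap (f : X ⟶ Y) (g : Y ⟶ S) [LocallyOfFinitePresentation (f ≫ g)]
    [LocallyOfFiniteType g] (x : X) (h₁ : ((f ≫ g).stalkMap x).hom.Flat)
    (h₂ : ((MoreMor.fiberMap f g (g (f x))).stalkMap ((f ≫ g).asFiber x)).hom.Flat) :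
    (f.stalkMap x).hom.Flat := by
  classical
  rw [flat_stalkMap_fiberMap_iff] at h₂
  obtain ⟨_, ⟨W, hW, rfl⟩, hxW, -⟩ :=
    S.isBasis_affineOpens.exists_subset_of_mem_open (Set.mem_univ (g (f x))) isOpen_univ
  obtain ⟨_, ⟨V, hV, rfl⟩, hxV, hVW⟩ :=
    Y.isBasis_affineOpens.exists_subset_of_mem_open (a := f x) (show f x ∈ g ⁻¹ᵁ W from hxW) (g ⁻¹ᵁ W).2
  obtain ⟨_, ⟨U, hU, rfl⟩, hxU, hUV⟩ :=
    X.isBasis_affineOpens.exists_subset_of_mem_open (a := x) (show x ∈ f ⁻¹ᵁ V from hxV) (f ⁻¹ᵁ V).2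
  have hUW : U ≤ (f ≫ g) ⁻¹ᵁ W := fun z hz => hVW (hUV hz)
  rw [flat_stalkMap_iff f hV hU hUV hxU]
  replace h₁ := (flat_stalkMap_iff (f ≫ g) hW hU hUW hxU).mp h₁
  letI : Algebra Γ(S, W) Γ(Y, V) := (g.appLE W V hVW).hom.toAlgebra
  letI : Algebra Γ(Y, V) Γ(X, U) := (f.appLE V U hUV).hom.toAlgebra
  letI : Algebra Γ(S, W) Γ(X, U) := ((f ≫ g).appLE W U hUW).hom.toAlgebra
  have happ : g.appLE W V hVW ≫ f.appLE V U hUV = (f ≫ g).appLE W U hUW :=
    Scheme.Hom.appLE_comp_appLE _ _ _ _ _ _ _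
  haveI : IsScalarTower Γ(S, W) Γ(Y, V) Γ(X, U) := IsScalarTower.of_algebraMap_eq' (by
    show ((f ≫ g).appLE W U hUW).hom = (f.appLE V U hUV).hom.comp (g.appLE W V hVW).hom
    rw [← happ]; rfl)
  haveI : Algebra.FiniteType Γ(S, W) Γ(Y, V) :=
    RingHom.finiteType_algebraMap.mp (g.finiteType_appLE hW hV hVW)
  haveI : Algebra.FinitePresentation Γ(S, W) Γ(X, U) :=
    RingHom.finitePresentation_algebraMap.mp ((f ≫ g).finitePresentation_appLE hW hU hUW)
  haveI := h₁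
  -- local rings
  letI : Algebra Γ(Y, V) (Y.presheaf.stalk (f x)) := Y.presheaf.algebra_section_stalk ⟨f x, hxV⟩
  letI : Algebra Γ(X, U) (X.presheaf.stalk x) := X.presheaf.algebra_section_stalk ⟨x, hxU⟩
  letI : Algebra Γ(S, W) (Y.presheaf.stalk (f x)) :=
    ((algebraMap Γ(Y, V) (Y.presheaf.stalk (f x))).comp (algebraMap Γ(S, W) Γ(Y, V))).toAlgebra
  letI : Algebra Γ(S, W) (X.presheaf.stalk x) :=
    ((algebraMap Γ(X, U) (X.presheaf.stalk x)).comp (algebraMap Γ(S, W) Γ(X, U))).toAlgebra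
  haveI : IsScalarTower Γ(S, W) Γ(Y, V) (Y.presheaf.stalk (f x)) := IsScalarTower.of_algebraMap_eq fun _ => rfl
  haveI : IsScalarTower Γ(S, W) Γ(X, U) (X.presheaf.stalk x) := IsScalarTower.of_algebraMap_eq fun _ => rfl
  haveI := hU.isLocalization_stalk ⟨x, hxU⟩
  have hqA : (hU.primeIdealOf ⟨x, hxU⟩).asIdeal.comap (algebraMap Γ(Y, V) Γ(X, U)) =
      (hV.primeIdealOf ⟨f x, hxV⟩).asIdeal :=
    congr($(IsAffineOpen.comap_primeIdealOf_appLE V hV U hU hUV hxU).1)
  haveI : IsLocalization.AtPrime (Y.presheaf.stalk (f x))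
      ((hU.primeIdealOf ⟨x, hxU⟩).asIdeal.comap (algebraMap Γ(Y, V) Γ(X, U))) := by
    have := hV.isLocalization_stalk ⟨f x, hxV⟩
    simp only [hqA]
    exact this
  have hp : (hW.primeIdealOf ⟨g (f x), hxW⟩).asIdeal =
      (hU.primeIdealOf ⟨x, hxU⟩).asIdeal.comap (algebraMap Γ(S, W) Γ(X, U)) :=
    congr($(IsAffineOpen.comap_primeIdealOf_appLE W hW U hU hUW hxU).1).symm
  have hm : (hW.primeIdealOf ⟨g (f x), hxW⟩).asIdeal.map (S.presheaf.germ W (g (f x)) hxW).hom =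
      IsLocalRing.maximalIdeal (S.presheaf.stalk (g (f x))) := by
    letI := S.presheaf.algebra_section_stalk ⟨g (f x), hxW⟩
    haveI := hW.isLocalization_stalk ⟨g (f x), hxW⟩
    exact IsLocalization.AtPrime.map_eq_maximalIdeal _ (S.presheaf.stalk (g (f x)))
  have hA : (hW.primeIdealOf ⟨g (f x), hxW⟩).asIdeal.map (algebraMap Γ(S, W) (Y.presheaf.stalk (f x))) =
      Ideal.map (g.stalkMap (f x)).hom (IsLocalRing.maximalIdeal (S.presheaf.stalk (g (f x)))) := by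
    rw [← hm, Ideal.map_map]
    congr 1
    exact RingHom.ext fun a => (appLE_germ hVW hxV hxW a).symm
  have hB : (hW.primeIdealOf ⟨g (f x), hxW⟩).asIdeal.map (algebraMap Γ(S, W) (X.presheaf.stalk x)) =
      Ideal.map ((f ≫ g).stalkMap x).hom (IsLocalRing.maximalIdeal (S.presheaf.stalk (g (f x)))) := by
    rw [← hm]
    refine Eq.trans ?_ (Ideal.map_map _ _).symm
    congr 1
    exact RingHom.ext fun a => (appLE_germ (f := f ≫ g) hUW hxU hxW a).symm
  refine FibreCrit.flat_of_stalk (R := Γ(S, W)) (LA := Y.presheaf.stalk (f x)) (LB := X.presheaf.stalk x)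
    (hU.primeIdealOf ⟨x, hxU⟩).asIdeal (f.stalkMap x).hom (fun a => appLE_germ hUV hxU hxV a)
    (hW.primeIdealOf ⟨g (f x), hxW⟩).asIdeal hp ?_ ?_
  · rw [hA, hB]
    exact map_maximalIdeal_le_comap f g x
  · exact flat_quotientMap_congr hA.symm hB.symm _ h₂

/-- Flatness descends along a flat morphism at a point. -/
theorem flat_stalkMap_of_comp (f : X ⟶ Y) (g : Y ⟶ S) (x : X) (h₁ : ((f ≫ g).stalkMap x).hom.Flat)
    (h₂ : (f.stalkMap x).hom.Flat) : (g.stalkMap (f x)).hom.Flat := by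
  rw [Scheme.Hom.stalkMap_comp] at h₁
  algebraize [(f.stalkMap x).hom, (g.stalkMap (f x)).hom, (g.stalkMap (f x) ≫ f.stalkMap x).hom]
  haveI : IsScalarTower (S.presheaf.stalk (g (f x))) (Y.presheaf.stalk (f x)) (X.presheaf.stalk x) :=
    IsScalarTower.of_algebraMap_eq fun a => rfl
  haveI : Module.Flat (Y.presheaf.stalk (f x)) (X.presheaf.stalk x) := h₂
  haveI : IsLocalHom (algebraMap (Y.presheaf.stalk (f x)) (X.presheaf.stalk x)) :=
    inferInstanceAs (IsLocalHom (f.stalkMap x).hom)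
  haveI : Module.Flat (S.presheaf.stalk (g (f x))) (X.presheaf.stalk x) := h₁
  haveI : Module.FaithfullyFlat (Y.presheaf.stalk (f x)) (X.presheaf.stalk x) :=
    Module.FaithfullyFlat.of_flat_of_isLocalHom
  exact Groth.L06.FibreComp.flat_of_comp _ (Y.presheaf.stalk (f x)) (X.presheaf.stalk x)

/-- Cancellation for morphisms locally of finite presentation. -/
theorem locallyOfFinitePresentation_of_comp (f : X ⟶ Y) (g : Y ⟶ S) [LocallyOfFinitePresentation (f ≫ g)]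
    [LocallyOfFiniteType g] : LocallyOfFinitePresentation f := by
  rw [HasRingHomProperty.iff_exists_appLE (P := @LocallyOfFinitePresentation)
    (RingHom.finitePresentation_stableUnderComposition.stableUnderCompositionWithLocalizationAway
      RingHom.finitePresentation_holdsForLocalizationAway).1]
  intro x
  obtain ⟨_, ⟨W, hW, rfl⟩, hxW, -⟩ :=
    S.isBasis_affineOpens.exists_subset_of_mem_open (Set.mem_univ (g (f x))) isOpen_univ
  obtain ⟨_, ⟨V, hV, rfl⟩, hxV, hVW⟩ :=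
    Y.isBasis_affineOpens.exists_subset_of_mem_open (a := f x) (show f x ∈ g ⁻¹ᵁ W from hxW) (g ⁻¹ᵁ W).2
  obtain ⟨_, ⟨U, hU, rfl⟩, hxU, hUV⟩ :=
    X.isBasis_affineOpens.exists_subset_of_mem_open (a := x) (show x ∈ f ⁻¹ᵁ V from hxV) (f ⁻¹ᵁ V).2
  have hUW : U ≤ (f ≫ g) ⁻¹ᵁ W := fun z hz => hVW (hUV hz)
  refine ⟨⟨V, hV⟩, ⟨U, hU⟩, hxU, hUV, ?_⟩
  letI : Algebra Γ(S, W) Γ(Y, V) := (g.appLE W V hVW).hom.toAlgebra
  letI : Algebra Γ(Y, V) Γ(X, U) := (f.appLE V U hUV).hom.toAlgebra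
  letI : Algebra Γ(S, W) Γ(X, U) := ((f ≫ g).appLE W U hUW).hom.toAlgebra
  have happ : g.appLE W V hVW ≫ f.appLE V U hUV = (f ≫ g).appLE W U hUW :=
    Scheme.Hom.appLE_comp_appLE _ _ _ _ _ _ _
  haveI : IsScalarTower Γ(S, W) Γ(Y, V) Γ(X, U) := IsScalarTower.of_algebraMap_eq' (by
    show ((f ≫ g).appLE W U hUW).hom = (f.appLE V U hUV).hom.comp (g.appLE W V hVW).hom
    rw [← happ]; rfl)
  haveI : Algebra.FiniteType Γ(S, W) Γ(Y, V) :=
    RingHom.finiteType_algebraMap.mp (g.finiteType_appLE hW hV hVW)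
  haveI : Algebra.FinitePresentation Γ(S, W) Γ(X, U) :=
    RingHom.finitePresentation_algebraMap.mp ((f ≫ g).finitePresentation_appLE hW hU hUW)
  exact RingHom.finitePresentation_algebraMap.mpr
    (Algebra.FinitePresentation.of_restrict_scalars_finitePresentation Γ(S, W) Γ(Y, V) Γ(X, U))

/-- If `f` is flat at `x` then so is the map of fibres. -/
theorem flat_stalkMap_fiberMap_of_flat (f : X ⟶ Y) (g : Y ⟶ S) (x : X) (h : (f.stalkMap x).hom.Flat) :
    ((MoreMor.fiberMap f g (g (f x))).stalkMap ((f ≫ g).asFiber x)).hom.Flat := by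
  rw [flat_stalkMap_fiberMap_iff]
  refine flat_quotientMap_congr rfl ?_ (map_maximalIdeal_le_comap f g x) (flat_quotientMap_of_flat _ _ h)
  rw [Ideal.map_map, Scheme.Hom.stalkMap_comp]
  rfl

end Groth.L20
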