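import Groth.Agent.L20.FlatLocus

/-!
# Openness of the flat locus of a finitely presented module
-/

universe u

namespace Groth.L20

open TensorProduct

/-- Flatness of a localized module, elementwise. -/
theorem flat_localizedModule_iff_forall {R S M : Type*} [CommRing R] [CommRing S] [Algebra R S]
    [AddCommGroup M] [Module R M] [Module S M] [IsScalarTower R S M] (T : Submonoid S) :
    Module.Flat R (LocalizedModule T M) ↔
      ∀ (J : Ideal R) (z : M ⊗[R] J), J.subtype.lTensor M z = 0 → ∃ t ∈ T, t • z = 0 :=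
  ⟨fun _ J z hz => exists_smul_eq_zero_of_flat T J.subtype J.injective_subtype z hz,
    flat_localizedModule_of_forall T⟩

/-- Flatness of localized modules along a semilinear isomorphism. -/
theorem flat_localizedModule_iff_of_semilinear {R S S' M M' : Type*} [CommRing R] [CommRing S]
    [CommRing S'] [Algebra R S] [Algebra R S'] [AddCommGroup M] [Module R M] [Module S M]
    [IsScalarTower R S M] [AddCommGroup M'] [Module R M'] [Module S' M'] [IsScalarTower R S' M']
    (φ : S →+* S') (e : M' ≃ₗ[R] M) (he : ∀ (s : S) m, e (φ s • m) = s • e m)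
    (T : Submonoid S) (T' : Submonoid S') (hT : T' = T.map φ) :
    Module.Flat R (LocalizedModule T' M') ↔ Module.Flat R (LocalizedModule T M) := by
  rw [flat_localizedModule_iff_forall, flat_localizedModule_iff_forall]
  have hs : ∀ (J : Ideal R) (s : S) (z : M' ⊗[R] J),
      e.toLinearMap.rTensor J (φ s • z) = s • e.toLinearMap.rTensor J z := by
    intro J s z
    induction z using TensorProduct.induction_on with
    | zero => simp
    | tmul a b => simp [TensorProduct.smul_tmul', he]
    | add a b ha hb => simp only [smul_add, map_add, ha, hb]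
  have hc : ∀ (J : Ideal R) (z : M' ⊗[R] J), J.subtype.lTensor M (e.toLinearMap.rTensor J z) =
      e.toLinearMap.rTensor R (J.subtype.lTensor M' z) := by
    intro J z
    induction z using TensorProduct.induction_on with
    | zero => simp
    | tmul a b => simp
    | add a b ha hb => simp only [map_add, ha, hb]
  have hi : ∀ (N : Type _) [AddCommGroup N] [Module R N], Function.Bijective (e.toLinearMap.rTensor N) :=
    fun N _ _ => (LinearEquiv.rTensor N e).bijective
  subst hT
  constructor
  · intro h J z hz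
    obtain ⟨z, rfl⟩ := (hi J).2 z
    obtain ⟨_, ⟨s, hs', rfl⟩, hsz⟩ := h J z ((hi R).1 (by rw [← hc, hz, map_zero]))
    exact ⟨s, hs', by rw [← hs, hsz, map_zero]⟩
  · intro h J z hz
    obtain ⟨s, hs', hsz⟩ := h J (e.toLinearMap.rTensor J z) (by rw [hc, hz, map_zero])
    exact ⟨φ s, ⟨s, hs', rfl⟩, (hi J).1 (by rw [hs, hsz, map_zero])⟩

open MvPolynomial Groth.L07.FlatDescent FlatLocus in
/-- A model over a Noetherian subring, compatible with a presentation of the algebra. -/
theorem exists_polyModel (A₀ : Type u) [CommRing A₀] {B₀ : Type u} [CommRing B₀] [Algebra A₀ B₀]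
    [Algebra.FinitePresentation A₀ B₀] (M₀ : Type u) [AddCommGroup M₀] [Module B₀ M₀]
    [Module A₀ M₀] [IsScalarTower A₀ B₀ M₀] [Module.FinitePresentation B₀ M₀] :
    ∃ (d n : ℕ) (R : Subalgebra ℤ A₀) (_ : IsNoetherianRing R)
      (K : Submodule (MvPolynomial (Fin d) R) (F d n R)) (φ : MvPolynomial (Fin d) A₀ →ₐ[A₀] B₀)
      (e : M₀ ≃ₗ[A₀] MP K A₀), Function.Surjective φ ∧ ∀ p m, e (φ p • m) = p • e m := by
  classical
  obtain ⟨d, φ', hφ', hker'⟩ := Algebra.FinitePresentation.out (R := A₀) (A := B₀)
  letI := φ'.toRingHom.toAlgebra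
  haveI : IsScalarTower A₀ (MvPolynomial (Fin d) A₀) B₀ :=
    IsScalarTower.of_algebraMap_eq fun a => (φ'.commutes a).symm
  haveI : Module.FinitePresentation (MvPolynomial (Fin d) A₀) B₀ :=
    Module.finitePresentation_of_surjective (Algebra.linearMap _ B₀) hφ' hker'
  letI : Module (MvPolynomial (Fin d) A₀) M₀ := Module.compHom M₀ φ'.toRingHom
  haveI : IsScalarTower (MvPolynomial (Fin d) A₀) B₀ M₀ :=
    ⟨fun p b m => by rw [Algebra.smul_def, mul_smul]; rfl⟩
  haveI : IsScalarTower A₀ (MvPolynomial (Fin d) A₀) M₀ :=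
    ⟨fun a p m => by
      show φ' (a • p) • m = a • φ' p • m
      rw [map_smul, smul_assoc]⟩
  haveI : Module.FinitePresentation (MvPolynomial (Fin d) A₀) M₀ :=
    Module.FinitePresentation.trans (MvPolynomial (Fin d) A₀) M₀ B₀
  obtain ⟨n, L, e, hL⟩ := Module.FinitePresentation.exists_fin (MvPolynomial (Fin d) A₀) M₀
  obtain ⟨G, hG⟩ := hL
  let W : Finset A₀ := G.biUnion fun y => (supp y).image (co y)
  let R := Algebra.adjoin ℤ (W : Set A₀)
  haveI : IsNoetherianRing R := by
    haveI : Algebra.FiniteType ℤ R := R.fg_iff_finiteType.mp ⟨W, rfl⟩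
    exact Algebra.FiniteType.isNoetherianRing ℤ R
  have hlift : ∀ y ∈ G, ∃ z : F d n R, ψ A₀ z = y := by
    intro y hy
    have : ∀ i, y i ∈ Set.range (MvPolynomial.map (algebraMap R A₀)) := fun i => by
      rw [MvPolynomial.mem_range_map_iff_coeffs_subset]
      intro c hc
      obtain ⟨m, hm, rfl⟩ := MvPolynomial.mem_coeffs_iff.mp hc
      exact ⟨⟨_, Algebra.subset_adjoin (Finset.mem_biUnion.mpr ⟨y, hy, Finset.mem_image.mpr
        ⟨(i, m), Finset.mem_biUnion.mpr ⟨i, Finset.mem_univ _, Finset.mem_map.mpr ⟨m, hm, rfl⟩⟩,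
          rfl⟩⟩)⟩, rfl⟩
    choose z hz using this
    exact ⟨z, funext hz⟩
  choose! z hz using hlift
  let K : Submodule (MvPolynomial (Fin d) R) (F d n R) := Submodule.span _ (z '' G)
  have hKL : KP (C := A₀) K = L := by
    apply le_antisymm
    · intro x hx
      rw [mem_KP] at hx
      refine (Submodule.span_le (p := L.restrictScalars A₀)).mpr ?_ hx
      rintro _ ⟨k, hk, rfl⟩
      refine Submodule.span_induction (p := fun k _ => ψ A₀ k ∈ L) ?_ (by simp) ?_ ?_ hk
      · rintro _ ⟨y, hy, rfl⟩
        rw [hz y hy, ← hG]; exact Submodule.subset_span hy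
      · intro a b _ _ ha hb; rw [map_add]; exact add_mem ha hb
      · intro c a _ ha; rw [ψ_poly_smul]; exact L.smul_mem _ ha
    · rw [← hG, Submodule.span_le]
      intro g hg
      rw [← hz g hg]
      exact ψ_mem K (Submodule.subset_span ⟨g, hg, rfl⟩)
  let e' : M₀ ≃ₗ[MvPolynomial (Fin d) A₀] MP K A₀ := e ≪≫ₗ Submodule.quotEquivOfEq _ _ hKL.symm
  exact ⟨d, n, R, inferInstance, K, φ', e'.restrictScalars A₀, hφ', fun p m => e'.map_smul p m⟩

/-- Flatness at a prime spreads to a basic open, for finitely presented modules over finitely presented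
algebras. -/
theorem exists_flat_away {R S M : Type u} [CommRing R] [CommRing S] [Algebra R S]
    [Algebra.FinitePresentation R S] [AddCommGroup M] [Module S M] [Module R M] [IsScalarTower R S M]
    [Module.FinitePresentation S M] (T : Submonoid S) [Module.Flat R (LocalizedModule T M)] :
    ∃ g ∈ T, Module.Flat R (LocalizedModule (Submonoid.powers g) M) := by
  obtain ⟨d, n, R₀, _, K, φ, e, hφ, he⟩ := exists_polyModel R (B₀ := S) M
  have hT : T = (T.comap φ.toRingHom).map φ.toRingHom :=
    (Submonoid.map_comap_eq_of_surjective (f := φ.toRingHom) hφ T).symm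
  have h1 := (flat_localizedModule_iff_of_semilinear φ.toRingHom e he (T.comap φ.toRingHom) T hT).mp
    (inferInstance : Module.Flat R (LocalizedModule T M))
  obtain ⟨B, _, g, hg, hB⟩ := FlatLocus.exists_stage K _ (FlatLocus.locFlat_of_flat K (T.comap φ.toRingHom))
  have hA : FlatLocus.LocFlat K (Submonoid.powers (MvPolynomial.map (algebraMap B R) g)) :=
    FlatLocus.locFlat_baseChange K (B := B) _ _ (by rintro _ ⟨k, rfl⟩; exact ⟨k, (map_pow _ _ _).symm⟩) hB
  refine ⟨φ (MvPolynomial.map (algebraMap B R) g), hg, ?_⟩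
  exact (flat_localizedModule_iff_of_semilinear φ.toRingHom e he _ _
    (Submonoid.map_powers _ _).symm).mpr (FlatLocus.flat_of_locFlat K _ hA)

/-- Localizing further keeps flatness. -/
theorem flat_localizedModule_of_le {R S M : Type*} [CommRing R] [CommRing S] [Algebra R S]
    [AddCommGroup M] [Module R M] [Module S M] [IsScalarTower R S M] {T T' : Submonoid S} (h : T ≤ T')
    (hf : Module.Flat R (LocalizedModule T M)) : Module.Flat R (LocalizedModule T' M) := by
  rw [flat_localizedModule_iff_forall] at hf ⊢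
  exact fun J z hz => let ⟨t, ht, htz⟩ := hf J z hz; ⟨t, h ht, htz⟩

/-- The flat locus of a finitely presented module is open. -/
theorem isOpen_flatLocus {R S M : Type u} [CommRing R] [CommRing S] [Algebra R S]
    [Algebra.FinitePresentation R S] [AddCommGroup M] [Module S M] [Module R M] [IsScalarTower R S M]
    [Module.FinitePresentation S M] :
    IsOpen {q : PrimeSpectrum S | Module.Flat R (LocalizedModule q.asIdeal.primeCompl M)} := by
  rw [isOpen_iff_forall_mem_open]
  intro q hq
  have : Module.Flat R (LocalizedModule q.asIdeal.primeCompl M) := hq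
  obtain ⟨g, hg, hflat⟩ := exists_flat_away q.asIdeal.primeCompl (R := R) (M := M)
  refine ⟨PrimeSpectrum.basicOpen g, fun q' hq' => ?_, (PrimeSpectrum.basicOpen g).2, hg⟩
  exact flat_localizedModule_of_le ((Submonoid.powers_le).mpr hq') hflat

end Groth.L20
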