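import Groth.Agent.L20.ModFlat
import Groth.Agent.L20.FlatAtBaseChange
import Groth.Agent.L00.PullStalk
import Mathlib.AlgebraicGeometry.Morphisms.Affine
import Mathlib.Algebra.Category.Ring.Constructions
import Mathlib.RingTheory.Localization.BaseChange
import Mathlib.RingTheory.Flat.Stability

/-!
# Stalks of pullbacks of quasi-coherent modules in terms of sections
-/

set_option autoImplicit false
set_option linter.style.haveILetI false

universe u

open CategoryTheory CategoryTheory.Limits AlgebraicGeometry TopologicalSpace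
open scoped TensorProduct

namespace Groth.L20.ModStalk

/-- A tensor product of a flat module over the intermediate ring and a flat module over the base is flat. -/
theorem flat_tensorProduct {R S T M : Type u} [CommRing R] [CommRing S] [CommRing T] [Algebra R S] [Algebra S T]
    [Algebra R T] [IsScalarTower R S T] [AddCommGroup M] [Module R M] [Module S M] [IsScalarTower R S M]
    [Module.Flat S T] [Module.Flat R M] : Module.Flat R (T ⊗[S] M) := by
  rw [Module.Flat.iff_lTensor_injective']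
  intro J
  have h1 : Function.Injective (TensorProduct.AlgebraTensorModule.lTensor S M J.subtype : M ⊗[R] J →ₗ[S] M ⊗[R] R) :=
    Module.Flat.lTensor_preserves_injective_linearMap (M := M) J.subtype Subtype.val_injective
  have h2 := Module.Flat.lTensor_preserves_injective_linearMap (M := T)
    (TensorProduct.AlgebraTensorModule.lTensor S M J.subtype) h1
  intro a b hab
  apply (TensorProduct.AlgebraTensorModule.assoc R S S T M J).injective
  apply h2
  have key : ∀ z : (T ⊗[S] M) ⊗[R] J, (TensorProduct.AlgebraTensorModule.lTensor S M J.subtype).lTensor T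
      (TensorProduct.AlgebraTensorModule.assoc R S S T M J z) =
      TensorProduct.AlgebraTensorModule.assoc R S S T M R (J.subtype.lTensor (T ⊗[S] M) z) := by
    intro z
    induction z using TensorProduct.induction_on with
    | zero => simp
    | tmul w j =>
      induction w using TensorProduct.induction_on with
      | zero => simp
      | tmul t m => simp
      | add x y hx hy => simp only [TensorProduct.add_tmul, map_add, hx, hy]
    | add x y hx hy => simp only [map_add, hx, hy]
  rw [key, key, hab]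

variable {X Y : Scheme.{u}}

/-- The stalk of a pullback is the extension of scalars of the sections. -/
theorem exists_isBaseChange_pullback_stalk (h : X ⟶ Y) (G : Y.Modules) [Coh.IsQCoh G] {V : Y.Opens}
    (hV : IsAffineOpen V) {x : X} (hx : h x ∈ V) :
    letI : Algebra Γ(Y, V) (X.presheaf.stalk x) :=
      ((h.stalkMap x).hom.comp (Y.presheaf.germ V (h x) hx).hom).toAlgebra
    letI : Module Γ(Y, V) (((Scheme.Modules.pullback h).obj G).presheaf.stalk x) :=
      Module.compHom _ ((h.stalkMap x).hom.comp (Y.presheaf.germ V (h x) hx).hom)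
    haveI : IsScalarTower Γ(Y, V) (X.presheaf.stalk x) (((Scheme.Modules.pullback h).obj G).presheaf.stalk x) :=
      IsScalarTower.of_algebraMap_smul fun _ _ => rfl
    ∃ g : Γ(G, V) →ₗ[Γ(Y, V)] ((Scheme.Modules.pullback h).obj G).presheaf.stalk x,
      IsBaseChange (X.presheaf.stalk x) g := by
  letI : Algebra Γ(Y, V) (X.presheaf.stalk x) :=
    ((h.stalkMap x).hom.comp (Y.presheaf.germ V (h x) hx).hom).toAlgebra
  letI : Algebra (Y.presheaf.stalk (h x)) (X.presheaf.stalk x) := (h.stalkMap x).hom.toAlgebra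
  letI := Y.presheaf.algebra_section_stalk ⟨h x, hx⟩
  haveI := hV.isLocalization_stalk ⟨h x, hx⟩
  haveI : IsScalarTower Γ(Y, V) (Y.presheaf.stalk (h x)) (X.presheaf.stalk x) :=
    IsScalarTower.of_algebraMap_eq fun _ => rfl
  letI : Module Γ(Y, V) (((Scheme.Modules.pullback h).obj G).presheaf.stalk x) :=
    Module.compHom _ ((h.stalkMap x).hom.comp (Y.presheaf.germ V (h x) hx).hom)
  letI : Module (Y.presheaf.stalk (h x)) (((Scheme.Modules.pullback h).obj G).presheaf.stalk x) :=
    Module.compHom _ (h.stalkMap x).hom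
  haveI : IsScalarTower (Y.presheaf.stalk (h x)) (X.presheaf.stalk x)
      (((Scheme.Modules.pullback h).obj G).presheaf.stalk x) := IsScalarTower.of_algebraMap_smul fun _ _ => rfl
  haveI : IsScalarTower Γ(Y, V) (Y.presheaf.stalk (h x))
      (((Scheme.Modules.pullback h).obj G).presheaf.stalk x) := IsScalarTower.of_algebraMap_smul fun _ _ => rfl
  letI := stalkModule G hx
  haveI : IsScalarTower Γ(Y, V) (Y.presheaf.stalk (h x)) (G.presheaf.stalk (h x)) :=
    IsScalarTower.of_algebraMap_smul fun _ _ => rfl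
  haveI := isLocalizedModule_germ G hV hx
  have h1 : IsBaseChange (Y.presheaf.stalk (h x)) (germₗ G hx) :=
    IsLocalizedModule.isBaseChange (hV.primeIdealOf ⟨h x, hx⟩).asIdeal.primeCompl _ _
  let e : ((Scheme.Modules.pullback h).obj G).presheaf.stalk x ≃ₗ[X.presheaf.stalk x]
      X.presheaf.stalk x ⊗[Y.presheaf.stalk (h x)] G.presheaf.stalk (h x) :=
    ((Groth.L00.PullStalk.stalkIso h x).app G).toLinearEquiv
  let g₂ : G.presheaf.stalk (h x) →ₗ[Y.presheaf.stalk (h x)] ((Scheme.Modules.pullback h).obj G).presheaf.stalk x :=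
    (e.symm.toLinearMap.restrictScalars (Y.presheaf.stalk (h x))) ∘ₗ
      TensorProduct.mk (Y.presheaf.stalk (h x)) (X.presheaf.stalk x) (G.presheaf.stalk (h x)) 1
  have h2 : IsBaseChange (X.presheaf.stalk x) g₂ :=
    IsBaseChange.of_equiv e.symm fun m => rfl
  haveI : IsScalarTower Γ(Y, V) (X.presheaf.stalk x) (((Scheme.Modules.pullback h).obj G).presheaf.stalk x) :=
    IsScalarTower.of_algebraMap_smul fun _ _ => rfl
  exact ⟨_, h1.comp h2⟩

/-- An affine chart of a cartesian square at a point. -/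
theorem exists_affine_square {X S X' S' : Scheme.{u}} {f : X ⟶ S} {f' : X' ⟶ S'} {g' : X' ⟶ X} {g : S' ⟶ S}
    (hc : IsPullback g' f' f g) (x' : X') :
    ∃ (W : S.Opens) (V : X.Opens) (W' : S'.Opens) (U : X'.Opens) (eV : V ≤ f ⁻¹ᵁ W) (eW : W' ≤ g ⁻¹ᵁ W)
      (eU : U ≤ g' ⁻¹ᵁ V) (eU' : U ≤ f' ⁻¹ᵁ W'), IsAffineOpen W ∧ IsAffineOpen V ∧ IsAffineOpen W' ∧ IsAffineOpen U ∧
      x' ∈ U ∧ IsPushout (f.appLE W V eV) (g.appLE W W' eW) (g'.appLE V U eU) (f'.appLE W' U eU') := by
  obtain ⟨_, ⟨W, hW, rfl⟩, hxW, -⟩ :=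
    S.isBasis_affineOpens.exists_subset_of_mem_open (Set.mem_univ (f (g' x'))) isOpen_univ
  obtain ⟨_, ⟨V, hV, rfl⟩, hxV, hVW⟩ :=
    X.isBasis_affineOpens.exists_subset_of_mem_open (a := g' x') (show g' x' ∈ f ⁻¹ᵁ W from hxW) (f ⁻¹ᵁ W).2
  have hxW' : f' x' ∈ g ⁻¹ᵁ W := by
    show g (f' x') ∈ W
    rw [← Scheme.Hom.comp_apply, ← hc.w, Scheme.Hom.comp_apply]
    exact hxW
  obtain ⟨_, ⟨W', hW', rfl⟩, hxW'', hW'W⟩ :=
    S'.isBasis_affineOpens.exists_subset_of_mem_open hxW' (g ⁻¹ᵁ W).2
  change S.Opens at W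
  change X.Opens at V
  change S'.Opens at W'
  replace hW : IsAffineOpen W := hW
  replace hV : IsAffineOpen V := hV
  replace hW' : IsAffineOpen W' := hW'
  have eV : V ≤ f ⁻¹ᵁ W := hVW
  have eW : W' ≤ g ⁻¹ᵁ W := hW'W
  have hpb := Scheme.Hom.isPullback_resLE hc (UT := W') eW eV (UY := g' ⁻¹ᵁ V ⊓ f' ⁻¹ᵁ W') rfl
  haveI : IsAffine W.toScheme := hW
  haveI : IsAffine V.toScheme := hV
  haveI : IsAffine W'.toScheme := hW'
  have hU : IsAffineOpen (g' ⁻¹ᵁ V ⊓ f' ⁻¹ᵁ W') := IsAffine.of_isPullback hpb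
  refine ⟨W, V, W', g' ⁻¹ᵁ V ⊓ f' ⁻¹ᵁ W', eV, eW, inf_le_left, inf_le_right, hW, hV, hW', hU,
    ⟨hxV, hxW''⟩, ?_⟩
  refine (isPushout_appTop_of_isPullback hpb).of_iso W.topIso V.topIso W'.topIso
    (g' ⁻¹ᵁ V ⊓ f' ⁻¹ᵁ W').topIso ?_ ?_ ?_ ?_ <;>
  simp only [Scheme.Hom.appTop, Scheme.Hom.resLE_app_top, Category.assoc, Iso.inv_hom_id, Category.comp_id]

end Groth.L20.ModStalk

namespace Groth.L20.ModStalk

variable {X S : Scheme.{u}}

/-- Flatness over the base at a point is flatness of the stalk over the sections on an affine open. -/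
theorem isFlatOverAt_iff_sections (f : X ⟶ S) (M : X.Modules) {W : S.Opens} (hW : IsAffineOpen W)
    {V : X.Opens} (hVW : V ≤ f ⁻¹ᵁ W) {x : X} (hx : x ∈ V) :
    FlatMod.IsFlatOverAt f M x ↔
      @Module.Flat Γ(S, W) (M.presheaf.stalk x) _ _
        (Module.compHom _ ((X.presheaf.germ V x hx).hom.comp (f.appLE W V hVW).hom)) := by
  letI : Module Γ(S, W) (M.presheaf.stalk x) :=
    Module.compHom _ ((X.presheaf.germ V x hx).hom.comp (f.appLE W V hVW).hom)
  letI := S.presheaf.algebra_section_stalk ⟨f x, hVW hx⟩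
  haveI := hW.isLocalization_stalk ⟨f x, hVW hx⟩
  letI := FlatMod.moduleStalkOver f M x
  haveI : IsScalarTower Γ(S, W) (S.presheaf.stalk (f x)) (M.presheaf.stalk x) :=
    IsScalarTower.of_algebraMap_smul fun a m => by
      show (f.stalkMap x).hom (S.presheaf.germ W (f x) (hVW hx) a) • m =
        (X.presheaf.germ V x hx).hom ((f.appLE W V hVW).hom a) • m
      congr 1
      exact stalkMap_germ hVW hx (hVW hx) a
  exact Module.flat_iff_of_isLocalization (S.presheaf.stalk (f x)) (hW.primeIdealOf ⟨f x, hVW hx⟩).asIdeal.primeCompl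
    (M.presheaf.stalk x)

end Groth.L20.ModStalk
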