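import Groth.Agent.L16.QCohSections
import Groth.Agent.L00.LocalData
import Groth.Prelude.Def_FlatMod2
import Mathlib.AlgebraicGeometry.Modules.Tilde
import Mathlib.AlgebraicGeometry.AffineScheme
import Mathlib.RingTheory.LocalProperties.FinitePresentation

/-!
# Stalks and sections of quasi-coherent modules on affine opens
-/

set_option autoImplicit false
set_option linter.style.haveILetI false

universe u

open CategoryTheory CategoryTheory.Limits AlgebraicGeometry TopologicalSpace Opposite

noncomputable section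

namespace Groth.L20.ModStalk

open Groth.L18.Frame (rs ro rs_rs ro_ro rs_smul)

variable {X : Scheme.{u}} (M : X.Modules)

theorem germ_rs {U V : X.Opens} (h : V ≤ U) {x : X} (hx : x ∈ V) (s : Γ(M, U)) :
    M.presheaf.germ V x hx (rs M h s) = M.presheaf.germ U x (h hx) s :=
  TopCat.Presheaf.germ_res_apply M.presheaf (homOfLE h) x hx s

theorem germ_smul {U : X.Opens} {x : X} (hx : x ∈ U) (r : Γ(X, U)) (m : Γ(M, U)) :
    M.presheaf.germ U x hx (r • m) = X.presheaf.germ U x hx r • M.presheaf.germ U x hx m :=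
  PresheafOfModules.germ_smul (R := X.presheaf)
    (show PresheafOfModules (X.presheaf ⋙ forget₂ CommRingCat RingCat) from M.val) x U hx r m

/-- The stalk as a module over the sections on a neighbourhood. -/
abbrev stalkModule {V : X.Opens} {x : X} (hx : x ∈ V) : Module Γ(X, V) (M.presheaf.stalk x) :=
  Module.compHom _ (X.presheaf.germ V x hx).hom

/-- The germ as a linear map. -/
def germₗ {V : X.Opens} {x : X} (hx : x ∈ V) :
    letI := stalkModule M hx
    Γ(M, V) →ₗ[Γ(X, V)] M.presheaf.stalk x :=
  letI := stalkModule M hx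
  { toFun := fun m => M.presheaf.germ V x hx m
    map_add' := fun a b => map_add _ a b
    map_smul' := fun r m => germ_smul M hx r m }

/-- The stalk of a quasi-coherent module at a point of an affine open is the localization of the sections. -/
theorem isLocalizedModule_germ {V : X.Opens} (hV : IsAffineOpen V) [Coh.IsQCoh M] {x : X} (hx : x ∈ V) :
    letI := stalkModule M hx
    IsLocalizedModule (hV.primeIdealOf ⟨x, hx⟩).asIdeal.primeCompl (germₗ M hx) := by
  letI := stalkModule M hx
  letI := X.presheaf.algebra_section_stalk ⟨x, hx⟩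
  haveI := hV.isLocalization_stalk ⟨x, hx⟩
  have key : ∀ g : Γ(X, V), x ∈ X.basicOpen g → g ∈ (hV.primeIdealOf ⟨x, hx⟩).asIdeal.primeCompl := by
    intro g hg
    rw [Scheme.mem_basicOpen X g x hx] at hg
    exact fun hmem => (IsLocalRing.mem_maximalIdeal _).mp
      ((IsLocalization.AtPrime.to_map_mem_maximal_iff (X.presheaf.stalk x) (hV.primeIdealOf ⟨x, hx⟩).asIdeal g).mpr hmem) hg
  refine (isLocalizedModule_iff _ _).mpr ⟨fun t => ?_, fun y => ?_, fun {m₁ m₂} he => ?_⟩
  · have hu : IsUnit (X.presheaf.germ V x hx (t : Γ(X, V))) :=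
      IsLocalization.map_units (X.presheaf.stalk x) t
    obtain ⟨w, hw⟩ := hu.exists_right_inv
    rw [Module.End.isUnit_iff]
    refine Function.bijective_iff_has_inverse.mpr ⟨fun z => w • z, fun z => ?_, fun z => ?_⟩
    · show w • ((X.presheaf.germ V x hx).hom t • z) = z
      rw [smul_smul, mul_comm]
      exact (congrArg (· • z) hw).trans (one_smul _ z)
    · show (X.presheaf.germ V x hx).hom t • (w • z) = z
      rw [smul_smul]
      exact (congrArg (· • z) hw).trans (one_smul _ z)
  · obtain ⟨W, hxW, s, rfl⟩ := TopCat.Presheaf.exists_germ_eq M.presheaf y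
    obtain ⟨g, hgW, hxg⟩ := hV.exists_basicOpen_le (V := W) ⟨x, hxW⟩ hx
    obtain ⟨n, t, ht⟩ := Groth.L16.QCohSect.exists_pow_smul_eq_res hV M g (rs M hgW s)
    refine ⟨⟨t, g ^ n, pow_mem (key g hxg) n⟩, ?_⟩
    have h1 := congrArg (fun z => M.presheaf.germ _ x hxg z) ht
    simp only [germ_rs, germ_smul] at h1
    show (X.presheaf.germ V x hx).hom (g ^ n) • _ = M.presheaf.germ V x hx t
    rw [h1]
    congr 1
    exact (TopCat.Presheaf.germ_res_apply X.presheaf (homOfLE (X.basicOpen_le g)) x hxg (g ^ n)).symm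
  · obtain ⟨W, hxW, i₁, i₂, hW⟩ := TopCat.Presheaf.germ_eq M.presheaf x hx hx m₁ m₂ he
    obtain ⟨g, hgW, hxg⟩ := hV.exists_basicOpen_le (V := W) ⟨x, hxW⟩ hx
    have h0 : rs M (X.basicOpen_le g) (m₁ - m₂) = 0 := by
      have h1 : rs M (hgW.trans i₁.le) m₁ = rs M (hgW.trans i₂.le) m₂ := by
        rw [← rs_rs M i₁.le hgW m₁, ← rs_rs M i₂.le hgW m₂]
        exact congrArg (rs M hgW) hW
      rw [show rs M (X.basicOpen_le g) (m₁ - m₂) = rs M (X.basicOpen_le g) m₁ - rs M (X.basicOpen_le g) m₂ from
        map_sub _ _ _, sub_eq_zero]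
      exact h1
    obtain ⟨n, hn⟩ := Groth.L16.QCohSect.exists_pow_smul_eq_zero hV M g (m₁ - m₂) h0
    refine ⟨⟨g ^ n, pow_mem (key g hxg) n⟩, ?_⟩
    show g ^ n • m₁ = g ^ n • m₂
    rw [← sub_eq_zero, ← smul_sub]
    exact hn

set_option backward.isDefEq.respectTransparency false in
/-- A module on an affine scheme with a finite presentation has finitely presented global sections. -/
theorem finitePresentation_sections_spec {R : CommRingCat.{u}} (N : (Spec R).Modules) (P : N.Presentation)
    [P.IsFinite] : Module.FinitePresentation R ((moduleSpecΓFunctor (R := R)).obj N) := by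
  let g := (tilde.functor R).preimage <| (tildeFinsupp _).hom ≫ P.relations.π ≫ kernel.ι _ ≫
    (tildeFinsupp _).inv
  let iso : cokernel ((tilde.functor R).map g) ≅ cokernel (P.relations.π ≫ kernel.ι _) := by
    refine cokernel.mapIso _ _ (tildeFinsupp _) (tildeFinsupp _) ?_
    simp only [g, (tilde.functor R).map_preimage]
    simp
  let e : tilde (cokernel g) ≅ N := PreservesCokernel.iso (tilde.functor R) g ≪≫ iso ≪≫
    IsColimit.coconePointUniqueUpToIso (colimit.isColimit _) P.isColimit
  let e' : (moduleSpecΓFunctor (R := R)).obj N ≅ cokernel g :=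
    (moduleSpecΓFunctor (R := R)).mapIso e.symm ≪≫ (tilde.toTildeΓNatIso.app (cokernel g)).symm
  haveI : Finite P.generators.I := (SheafOfModules.Presentation.IsFinite.isFiniteType_generators (p := P)).finite
  haveI : Finite P.relations.I := (SheafOfModules.Presentation.IsFinite.isFiniteType_relations (p := P)).finite
  haveI : Module.FinitePresentation R (P.generators.I →₀ R) := Module.finitePresentation_of_projective _ _
  haveI : Module.FinitePresentation R ((P.generators.I →₀ R) ⧸ LinearMap.range g.hom) :=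
    Module.finitePresentation_of_surjective (LinearMap.range g.hom).mkQ (Submodule.mkQ_surjective _) (by
      rw [Submodule.ker_mkQ]
      haveI : Module.Finite R (P.relations.I →₀ R) := inferInstance
      exact Submodule.fg_range g.hom)
  exact Module.FinitePresentation.of_equiv (e'.toLinearEquiv.trans (ModuleCat.cokernelIsoRangeQuotient g).toLinearEquiv).symm

set_option backward.isDefEq.respectTransparency false in
/-- Local finite presentations restrict to affine basic opens. -/
theorem exists_presentation_near (hM : CohB1.IsFP M) {V : X.Opens} (hV : IsAffineOpen V) {x : X} (hx : x ∈ V) :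
    ∃ g : Γ(X, V), x ∈ X.basicOpen g ∧
      ∃ P : (M.restrict (hV.basicOpen g).fromSpec).Presentation, P.IsFinite := by
  obtain ⟨d, hd⟩ := hM.exists_quasicoherentData
  have hc : TopologicalSpace.IsOpenCover d.X := (Opens.coversTop_iff _ d.X).1 d.coversTop
  obtain ⟨i, hi⟩ := TopologicalSpace.Opens.mem_iSup.1
    (show x ∈ ⨆ i, d.X i from hc.symm ▸ TopologicalSpace.Opens.mem_top x)
  let U : X.Opens := d.X i
  obtain ⟨g, hgU, hxg⟩ := hV.exists_basicOpen_le (V := U) ⟨x, hi⟩ hx
  refine ⟨g, hxg, ?_⟩
  haveI := hd.isFinite_presentation i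
  haveI : PreservesColimitsOfSize.{u, u} (Scheme.Modules.overEquiv (d.X i)).functor :=
    (Scheme.Modules.overEquiv (d.X i)).toAdjunction.leftAdjoint_preservesColimits
  let P₁ := ((d.presentation i).map (Scheme.Modules.overEquiv (d.X i)).functor
    (TopologicalSpace.Opens.sheafOfModulesEquivOverUnit (d.X i) X.ringCatSheaf).symm).ofIsIso
      ((Scheme.Modules.overFunctorEquiv (d.X i)).app M).hom
  haveI : P₁.IsFinite :=
    ⟨⟨inferInstanceAs (Finite (d.presentation i).generators.I)⟩,
      ⟨inferInstanceAs (Finite (d.presentation i).relations.I)⟩⟩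
  let j : Spec Γ(X, X.basicOpen g) ⟶ U.toScheme :=
    IsOpenImmersion.lift U.ι (hV.basicOpen g).fromSpec (by
      rw [Scheme.Opens.range_ι, (hV.basicOpen g).range_fromSpec]; exact hgU)
  have hj : j ≫ U.ι = (hV.basicOpen g).fromSpec := IsOpenImmersion.lift_fac _ _ _
  haveI : IsOpenImmersion (j ≫ U.ι) := hj ▸ inferInstance
  haveI : IsOpenImmersion j := IsOpenImmersion.of_comp j U.ι
  haveI : PreservesColimitsOfSize.{u, u} (Scheme.Modules.restrictFunctor j) :=
    (Scheme.Modules.restrictAdjunction j).leftAdjoint_preservesColimits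
  let e : (Scheme.Modules.restrictFunctor j).obj (M.restrict U.ι) ≅ M.restrict (hV.basicOpen g).fromSpec :=
    ((Scheme.Modules.restrictFunctorComp j U.ι).symm ≪≫ Scheme.Modules.restrictFunctorCongr hj).app M
  exact ⟨(P₁.map (Scheme.Modules.restrictFunctor j) (Scheme.Modules.restrictUnitIso j).symm).ofIsIso e.hom,
    ⟨inferInstanceAs (Finite P₁.generators.I)⟩, ⟨inferInstanceAs (Finite P₁.relations.I)⟩⟩

/-- Finite presentation passes along a semilinear equivalence. -/
theorem finitePresentation_of_semilinear {R : Type u} [CommRing R] {N N' : Type u} [AddCommGroup N]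
    [Module R N] [AddCommGroup N'] [Module R N'] (e : N ≃+ N') (he : ∀ (r : R) n, e (r • n) = r • e n)
    [Module.FinitePresentation R N] : Module.FinitePresentation R N' :=
  Module.FinitePresentation.of_equiv { e with map_smul' := he }

theorem finitePresentation_sections_affine {W : X.Opens} (hW : IsAffineOpen W)
    (P : (M.restrict hW.fromSpec).Presentation) [P.IsFinite] : Module.FinitePresentation Γ(X, W) Γ(M, W) := by
  haveI := finitePresentation_sections_spec _ P
  have e2 : hW.fromSpec ''ᵁ ⊤ = W := by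
    rw [Scheme.Hom.image_top_eq_opensRange, hW.opensRange_fromSpec]
  let e : (moduleSpecΓFunctor (R := Γ(X, W))).obj (M.restrict hW.fromSpec) ≃+ Γ(M, W) :=
    { toFun := fun s => rs M e2.ge (show Γ(M, hW.fromSpec ''ᵁ ⊤) from s)
      invFun := fun t => (show Γ(M, hW.fromSpec ''ᵁ ⊤) from rs M e2.le t)
      left_inv := fun s => by
        show rs M e2.le (rs M e2.ge (show Γ(M, hW.fromSpec ''ᵁ ⊤) from s)) = _
        rw [rs_rs]
        exact Groth.L18.Frame.rs_self M _ _
      right_inv := fun t => by
        show rs M e2.ge (rs M e2.le t) = t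
        rw [rs_rs]
        exact Groth.L18.Frame.rs_self M _ _
      map_add' := fun a b => map_add (M.presheaf.map (homOfLE e2.ge).op).hom a b }
  refine finitePresentation_of_semilinear e fun r s => ?_
  have h := appIso_smul M hW r (show Γ(M, hW.fromSpec ''ᵁ ⊤) from s)
  exact h
where
  appIso_smul (M : X.Modules) {W : X.Opens} (hW : IsAffineOpen W) (r : Γ(X, W)) (s : Γ(M, hW.fromSpec ''ᵁ ⊤)) :
      rs M (show W ≤ hW.fromSpec ''ᵁ ⊤ by rw [Scheme.Hom.image_top_eq_opensRange, hW.opensRange_fromSpec])
        (show Γ(M, hW.fromSpec ''ᵁ ⊤) from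
          (r • (show (moduleSpecΓFunctor (R := Γ(X, W))).obj (M.restrict hW.fromSpec) from s) :
            (moduleSpecΓFunctor (R := Γ(X, W))).obj (M.restrict hW.fromSpec))) =
      r • rs M (show W ≤ hW.fromSpec ''ᵁ ⊤ by rw [Scheme.Hom.image_top_eq_opensRange, hW.opensRange_fromSpec]) s := by
    have h1 : (show Γ(M, hW.fromSpec ''ᵁ ⊤) from
          (r • (show (moduleSpecΓFunctor (R := Γ(X, W))).obj (M.restrict hW.fromSpec) from s) :
            (moduleSpecΓFunctor (R := Γ(X, W))).obj (M.restrict hW.fromSpec))) =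
        ro (Groth.L16.QCohSect.image_le hW ⊤) r • s := by
      rw [← Groth.L16.QCohSect.appIso_inv_scalar hW ⊤ r]
      rfl
    rw [h1, rs_smul, ro_ro, Groth.L18.Frame.ro_self]

/-- Sections over a basic open are the localization. -/
theorem isLocalizedModule_res {V : X.Opens} (hV : IsAffineOpen V) [Coh.IsQCoh M] (g : Γ(X, V)) :
    letI := Module.compHom Γ(M, X.basicOpen g) (X.presheaf.map (homOfLE (X.basicOpen_le g)).op).hom
    IsLocalizedModule (Submonoid.powers g)
      ({ toFun := fun s => rs M (X.basicOpen_le g) s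
         map_add' := fun a b => map_add _ a b
         map_smul' := fun a s => rs_smul M (X.basicOpen_le g) a s } : Γ(M, V) →ₗ[Γ(X, V)] Γ(M, X.basicOpen g)) := by
  letI := Module.compHom Γ(M, X.basicOpen g) (X.presheaf.map (homOfLE (X.basicOpen_le g)).op).hom
  letI : Algebra Γ(X, V) Γ(X, X.basicOpen g) := (X.presheaf.map (homOfLE (X.basicOpen_le g)).op).hom.toAlgebra
  haveI : IsScalarTower Γ(X, V) Γ(X, X.basicOpen g) Γ(M, X.basicOpen g) := IsScalarTower.of_algebraMap_smul fun _ _ => rfl
  haveI : IsLocalization.Away g Γ(X, X.basicOpen g) := hV.isLocalization_basicOpen g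
  refine (isLocalizedModule_iff _ _).mpr ⟨fun t => ?_, fun s => ?_, fun {m₁ m₂} he => ?_⟩
  · have hu : IsUnit (algebraMap Γ(X, V) Γ(X, X.basicOpen g) t) :=
      IsLocalization.map_units Γ(X, X.basicOpen g) t
    obtain ⟨w, hw⟩ := hu.exists_right_inv
    rw [Module.End.isUnit_iff]
    refine Function.bijective_iff_has_inverse.mpr ⟨fun z => w • z, fun z => ?_, fun z => ?_⟩
    · show w • ((t : Γ(X, V)) • z) = z
      rw [← algebraMap_smul Γ(X, X.basicOpen g) (t : Γ(X, V)) z, smul_smul, mul_comm, hw, one_smul]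
    · show (t : Γ(X, V)) • (w • z) = z
      rw [← algebraMap_smul Γ(X, X.basicOpen g) (t : Γ(X, V)), smul_smul, hw, one_smul]
  · obtain ⟨n, t, ht⟩ := Groth.L16.QCohSect.exists_pow_smul_eq_res hV M g s
    exact ⟨⟨t, g ^ n, n, rfl⟩, ht.symm⟩
  · have h0 : rs M (X.basicOpen_le g) (m₁ - m₂) = 0 := by
      rw [show rs M (X.basicOpen_le g) (m₁ - m₂) = rs M (X.basicOpen_le g) m₁ - rs M (X.basicOpen_le g) m₂ from
        map_sub _ _ _, sub_eq_zero]
      exact he
    obtain ⟨n, hn⟩ := Groth.L16.QCohSect.exists_pow_smul_eq_zero hV M g _ h0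
    refine ⟨⟨g ^ n, n, rfl⟩, ?_⟩
    show g ^ n • m₁ = g ^ n • m₂
    rw [← sub_eq_zero, ← smul_sub]
    exact hn

/-- Sections of a finitely presented module over an affine open form a finitely presented module. -/
theorem finitePresentation_sections (hM : CohB1.IsFP M) {V : X.Opens} (hV : IsAffineOpen V) :
    Module.FinitePresentation Γ(X, V) Γ(M, V) := by
  classical
  haveI : SheafOfModules.IsFinitePresentation (R := X.ringCatSheaf) M := hM
  haveI : Coh.IsQCoh M := { nonempty_quasicoherentData := ⟨hM.exists_quasicoherentData.choose⟩ }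
  have hloc : ∀ x : V, ∃ g : Γ(X, V), x.1 ∈ X.basicOpen g ∧
      Module.FinitePresentation Γ(X, X.basicOpen g) Γ(M, X.basicOpen g) := fun x => by
    obtain ⟨g, hg, P, hP⟩ := exists_presentation_near M hM hV x.2
    exact ⟨g, hg, finitePresentation_sections_affine M (hV.basicOpen g) P⟩
  choose g hxg hfp using hloc
  have hspan : Ideal.span (Set.range g) = ⊤ := hV.iSup_basicOpen_eq_self_iff.mp (by
    refine le_antisymm (iSup_le fun i => X.basicOpen_le _) fun x hx => ?_
    exact Opens.mem_iSup.mpr ⟨⟨g ⟨x, hx⟩, ⟨⟨x, hx⟩, rfl⟩⟩, hxg ⟨x, hx⟩⟩)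
  have hsel : ∀ r : Set.range g, ∃ x, g x = r.1 := fun r => r.2
  choose sel hsel using hsel
  letI alg : ∀ r : Set.range g, Algebra Γ(X, V) Γ(X, X.basicOpen r.1) := fun r =>
    (X.presheaf.map (homOfLE (X.basicOpen_le r.1)).op).hom.toAlgebra
  letI mod : ∀ r : Set.range g, Module Γ(X, V) Γ(M, X.basicOpen r.1) := fun r =>
    Module.compHom _ (X.presheaf.map (homOfLE (X.basicOpen_le r.1)).op).hom
  haveI tow : ∀ r : Set.range g, IsScalarTower Γ(X, V) Γ(X, X.basicOpen r.1) Γ(M, X.basicOpen r.1) := fun r =>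
    IsScalarTower.of_algebraMap_smul fun _ _ => rfl
  haveI : ∀ r : Set.range g, IsLocalization.Away r.1 Γ(X, X.basicOpen r.1) := fun r => hV.isLocalization_basicOpen r.1
  let res : ∀ r : Set.range g, Γ(M, V) →ₗ[Γ(X, V)] Γ(M, X.basicOpen r.1) := fun r =>
    { toFun := fun s => rs M (X.basicOpen_le r.1) s
      map_add' := fun a b => map_add _ a b
      map_smul' := fun a s => rs_smul M (X.basicOpen_le r.1) a s }
  haveI : ∀ r : Set.range g, IsLocalizedModule (Submonoid.powers r.1) (res r) := fun r =>
    isLocalizedModule_res M hV r.1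
  haveI : ∀ r : Set.range g, Module.FinitePresentation Γ(X, X.basicOpen r.1) Γ(M, X.basicOpen r.1) := fun r => by
    have := hfp (sel r)
    rw [hsel r] at this
    exact this
  exact Module.FinitePresentation.of_localizationSpan' (Set.range g) hspan (Rₚ := fun r => Γ(X, X.basicOpen r.1)) res
    (fun r => inferInstance)

set_option backward.isDefEq.respectTransparency false in
/-- A quasi-coherent module on an affine scheme with finitely many generators has finite sections. -/
theorem finite_sections_spec {R : CommRingCat.{u}} (N : (Spec R).Modules) [N.IsQuasicoherent]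
    (σ : N.GeneratingSections) [Finite σ.I] : Module.Finite R ((moduleSpecΓFunctor (R := R)).obj N) := by
  haveI : IsIso N.fromTildeΓ :=
    Scheme.Modules.isIso_fromTildeΓ_of_isQuasicoherent N
  let φ : tilde (ModuleCat.of R (σ.I →₀ R)) ⟶ tilde ((moduleSpecΓFunctor (R := R)).obj N) :=
    (tildeFinsupp σ.I).hom ≫ σ.π ≫ inv N.fromTildeΓ
  haveI : Epi ((tilde.functor R).map ((tilde.functor R).preimage φ)) := by
    rw [(tilde.functor R).map_preimage]
    haveI h₁ : Epi σ.π := σ.epi
    exact @epi_comp _ _ _ _ _ _ inferInstance _ (@epi_comp _ _ _ _ _ σ.π h₁ (inv N.fromTildeΓ) inferInstance)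
  haveI : Epi ((tilde.functor R).preimage φ) := (tilde.functor R).epi_of_epi_map inferInstance
  exact Module.Finite.of_surjective ((tilde.functor R).preimage φ).hom
    ((ModuleCat.epi_iff_surjective _).mp inferInstance)

/-- Sections on an affine basic open given by restricting the source of a semilinear iso. -/
theorem finite_sections_affine {W : X.Opens} (hW : IsAffineOpen W) [Coh.IsQCoh M]
    (σ : (M.restrict hW.fromSpec).GeneratingSections) [Finite σ.I] : Module.Finite Γ(X, W) Γ(M, W) := by
  haveI : (M.restrict hW.fromSpec).IsQuasicoherent := Scheme.Modules.isQuasicoherent_restrictFunctor _ M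
  haveI := finite_sections_spec _ σ
  have e2 : hW.fromSpec ''ᵁ ⊤ = W := by
    rw [Scheme.Hom.image_top_eq_opensRange, hW.opensRange_fromSpec]
  let φ : (moduleSpecΓFunctor (R := Γ(X, W))).obj (M.restrict hW.fromSpec) →ₗ[Γ(X, W)] Γ(M, W) :=
    { toFun := fun s => rs M e2.ge (show Γ(M, hW.fromSpec ''ᵁ ⊤) from s)
      map_add' := fun a b => map_add (M.presheaf.map (homOfLE e2.ge).op).hom a b
      map_smul' := fun r s => finitePresentation_sections_affine.appIso_smul M hW r (show Γ(M, hW.fromSpec ''ᵁ ⊤) from s) }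
  refine Module.Finite.of_surjective φ fun t => ⟨(show Γ(M, hW.fromSpec ''ᵁ ⊤) from rs M e2.le t), ?_⟩
  show rs M e2.ge (rs M e2.le t) = t
  rw [rs_rs]
  exact Groth.L18.Frame.rs_self M _ _

set_option backward.isDefEq.respectTransparency false in
/-- Sections of a coherent module over an affine open form a finite module. -/
theorem finite_sections (hM : Coh.IsCoh M) {V : X.Opens} (hV : IsAffineOpen V) :
    Module.Finite Γ(X, V) Γ(M, V) := by
  classical
  haveI : Coh.IsQCoh M := hM.1
  have hloc : ∀ x : V, ∃ g : Γ(X, V), x.1 ∈ X.basicOpen g ∧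
      Module.Finite Γ(X, X.basicOpen g) Γ(M, X.basicOpen g) := fun x => by
    obtain ⟨U, σ, hxU, hfin⟩ := Groth.L00.Local.exists_generators_of_isFT M hM.2 x.1
    obtain ⟨g, hgU, hxg⟩ := hV.exists_basicOpen_le (V := U) ⟨x.1, hxU⟩ x.2
    refine ⟨g, hxg, ?_⟩
    let j : Spec Γ(X, X.basicOpen g) ⟶ U.toScheme :=
      IsOpenImmersion.lift U.ι (hV.basicOpen g).fromSpec (by
        rw [Scheme.Opens.range_ι, (hV.basicOpen g).range_fromSpec]; exact hgU)
    have hj : j ≫ U.ι = (hV.basicOpen g).fromSpec := IsOpenImmersion.lift_fac _ _ _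
    haveI : IsOpenImmersion (j ≫ U.ι) := hj ▸ inferInstance
    haveI : IsOpenImmersion j := IsOpenImmersion.of_comp j U.ι
    haveI : PreservesColimitsOfSize.{u, u} (Scheme.Modules.restrictFunctor j) :=
      (Scheme.Modules.restrictAdjunction j).leftAdjoint_preservesColimits
    let e : (Scheme.Modules.restrictFunctor j).obj (M.restrict U.ι) ≅ M.restrict (hV.basicOpen g).fromSpec :=
      ((Scheme.Modules.restrictFunctorComp j U.ι).symm ≪≫ Scheme.Modules.restrictFunctorCongr hj).app M
    let τ := (σ.map (Scheme.Modules.restrictFunctor j) (Scheme.Modules.restrictUnitIso j).symm).ofEpi e.hom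
    haveI : Finite τ.I := hfin
    exact finite_sections_affine M (hV.basicOpen g) τ
  choose g hxg hfp using hloc
  have hspan : Ideal.span (Set.range g) = ⊤ := hV.iSup_basicOpen_eq_self_iff.mp (by
    refine le_antisymm (iSup_le fun i => X.basicOpen_le _) fun x hx => ?_
    exact Opens.mem_iSup.mpr ⟨⟨g ⟨x, hx⟩, ⟨⟨x, hx⟩, rfl⟩⟩, hxg ⟨x, hx⟩⟩)
  choose sel hsel using fun r : Set.range g => r.2
  letI alg : ∀ r : Set.range g, Algebra Γ(X, V) Γ(X, X.basicOpen r.1) := fun r =>
    (X.presheaf.map (homOfLE (X.basicOpen_le r.1)).op).hom.toAlgebra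
  letI mod : ∀ r : Set.range g, Module Γ(X, V) Γ(M, X.basicOpen r.1) := fun r =>
    Module.compHom _ (X.presheaf.map (homOfLE (X.basicOpen_le r.1)).op).hom
  haveI tow : ∀ r : Set.range g, IsScalarTower Γ(X, V) Γ(X, X.basicOpen r.1) Γ(M, X.basicOpen r.1) := fun r =>
    IsScalarTower.of_algebraMap_smul fun _ _ => rfl
  haveI : ∀ r : Set.range g, IsLocalization.Away r.1 Γ(X, X.basicOpen r.1) := fun r => hV.isLocalization_basicOpen r.1
  let res : ∀ r : Set.range g, Γ(M, V) →ₗ[Γ(X, V)] Γ(M, X.basicOpen r.1) := fun r =>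
    { toFun := fun s => rs M (X.basicOpen_le r.1) s
      map_add' := fun a b => map_add _ a b
      map_smul' := fun a s => rs_smul M (X.basicOpen_le r.1) a s }
  haveI : ∀ r : Set.range g, IsLocalizedModule (Submonoid.powers r.1) (res r) := fun r =>
    isLocalizedModule_res M hV r.1
  refine Module.Finite.of_localizationSpan' (Set.range g) hspan (Rₚ := fun r => Γ(X, X.basicOpen r.1)) res fun r => ?_
  have := hfp (sel r)
  rw [hsel r] at this
  exact this

end Groth.L20.ModStalk
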