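import Mathlib.Algebra.MvPolynomial.Monad
import Mathlib.Algebra.MvPolynomial.Equiv
import Mathlib.Data.List.Indexes
import Mathlib.Data.Nat.Digits.Lemmas
import Mathlib.Algebra.Module.FinitePresentation
import Mathlib.RingTheory.MvPolynomial.Basic
import Mathlib.RingTheory.FinitePresentation
import Mathlib.RingTheory.TensorProduct.MvPolynomial
import Mathlib.RingTheory.Flat.Basic
import Mathlib.RingTheory.Flat.Localization
import Mathlib.RingTheory.Localization.BaseChange
import Mathlib.LinearAlgebra.TensorProduct.RightExactness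
import Mathlib.LinearAlgebra.Dimension.Free

/-!
# Generic freeness over an arbitrary domain
-/

universe u

namespace Groth.L20.GF

/-! ## Nagata's change of variables over a domain -/

section Nagata

open Polynomial MvPolynomial List

variable {k : Type u} [CommRing k] [IsDomain k] {n : ℕ} (f : MvPolynomial (Fin (n + 1)) k)
variable (v w : Fin (n + 1) →₀ ℕ)

local notation3 "up" => 2 + f.totalDegree

variable {f v} in
private lemma lt_up (vlt : ∀ i, v i < up) : ∀ l ∈ ofFn v, l < up := by
  grind

local notation3 "r" => fun (i : Fin (n + 1)) ↦ up ^ i.1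

noncomputable abbrev T1 (c : k) :
    MvPolynomial (Fin (n + 1)) k →ₐ[k] MvPolynomial (Fin (n + 1)) k :=
  MvPolynomial.aeval fun i ↦
    if i = 0 then MvPolynomial.X 0 else MvPolynomial.X i + c • MvPolynomial.X 0 ^ r i

private lemma t1_comp_t1_neg (c : k) : (T1 f c).comp (T1 f (-c)) = AlgHom.id _ _ := by
  rw [MvPolynomial.comp_aeval, ← MvPolynomial.aeval_X_left]
  ext i v
  cases i using Fin.cases <;> simp

noncomputable abbrev T := AlgEquiv.ofAlgHom (T1 f 1) (T1 f (-1))
  (t1_comp_t1_neg f 1) (by simpa using t1_comp_t1_neg f (-1))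

private lemma sum_r_mul_ne (vlt : ∀ i, v i < up) (wlt : ∀ i, w i < up) (ne : v ≠ w) :
    ∑ x : Fin (n + 1), r x * v x ≠ ∑ x : Fin (n + 1), r x * w x := by
  intro h
  refine ne <| Finsupp.ext <| congrFun <| ofFn_inj.mp ?_
  apply Nat.ofDigits_inj_of_len_eq (Nat.lt_add_right f.totalDegree Nat.one_lt_two)
    (by simp) (lt_up vlt) (lt_up wlt)
  simpa only [Nat.ofDigits_eq_sum_mapIdx, mapIdx_eq_ofFn, get_ofFn, length_ofFn,
    Fin.val_cast, mul_comm, sum_ofFn] using! h

private lemma degreeOf_zero_t {a : k} (ha : a ≠ 0) :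
    ((T f) (MvPolynomial.monomial v a)).degreeOf 0 = ∑ i : Fin (n + 1), (r i) * v i := by
  rw [← natDegree_finSuccEquiv, MvPolynomial.monomial_eq, Finsupp.prod_pow v fun a ↦ MvPolynomial.X a]
  simp only [Fin.prod_univ_succ, Fin.sum_univ_succ, map_mul, map_prod, map_pow,
    AlgEquiv.ofAlgHom_apply, MvPolynomial.aeval_C, MvPolynomial.aeval_X, if_pos, Fin.succ_ne_zero,
    ite_false, one_smul, map_add, finSuccEquiv_X_zero, finSuccEquiv_X_succ, MvPolynomial.algebraMap_eq]
  have h (i : Fin n) :
      (Polynomial.C (MvPolynomial.X (R := k) i) + Polynomial.X ^ r i.succ) ^ v i.succ ≠ 0 :=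
    pow_ne_zero (v i.succ) (leadingCoeff_ne_zero.mp <| by simp [add_comm, leadingCoeff_X_pow_add_C])
  rw [natDegree_mul (by simp [ha]) (mul_ne_zero (by simp) (Finset.prod_ne_zero_iff.mpr
    (fun i _ ↦ h i))), natDegree_mul (by simp) (Finset.prod_ne_zero_iff.mpr (fun i _ ↦ h i)),
    natDegree_prod _ _ (fun i _ ↦ h i), natDegree_finSuccEquiv, degreeOf_C]
  simpa only [natDegree_pow, zero_add, natDegree_X, mul_one, Fin.val_zero, pow_zero, one_mul,
    add_right_inj] using Finset.sum_congr rfl (fun i _ ↦ by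
    rw [add_comm (Polynomial.C _), natDegree_X_pow_add_C, mul_comm])

private lemma degreeOf_t_ne_of_ne (hv : v ∈ f.support) (hw : w ∈ f.support) (ne : v ≠ w) :
    (T f <| MvPolynomial.monomial v <| f.coeff v).degreeOf 0 ≠
    (T f <| MvPolynomial.monomial w <| f.coeff w).degreeOf 0 := by
  rw [degreeOf_zero_t _ _ <| MvPolynomial.mem_support_iff.mp hv,
    degreeOf_zero_t _ _ <| MvPolynomial.mem_support_iff.mp hw]
  refine sum_r_mul_ne f v w (fun i ↦ ?_) (fun i ↦ ?_) ne <;>
  exact lt_of_le_of_lt ((monomial_le_degreeOf i ‹_›).trans (degreeOf_le_totalDegree f i))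
    (by lia)

private lemma leadingCoeff_finSuccEquiv_t :
    (finSuccEquiv k n ((T f) ((MvPolynomial.monomial v) (f.coeff v)))).leadingCoeff =
    MvPolynomial.C (f.coeff v) := by
  rw [MvPolynomial.monomial_eq, Finsupp.prod_fintype]
  · simp only [map_mul, map_prod, leadingCoeff_mul, leadingCoeff_prod]
    rw [AlgEquiv.ofAlgHom_apply, MvPolynomial.algHom_C, MvPolynomial.algebraMap_eq, finSuccEquiv_apply,
      eval₂Hom_C, RingHom.coe_comp]
    simp only [AlgEquiv.ofAlgHom_apply, Function.comp_apply, leadingCoeff_C, map_pow,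
      leadingCoeff_pow]
    have : ∀ j, ((finSuccEquiv k n) ((T1 f) 1 (MvPolynomial.X j))).leadingCoeff = 1 := fun j ↦ by
      by_cases h : j = 0
      · simp [h, finSuccEquiv_apply]
      · simp only [aeval_eq_bind₁, bind₁_X_right, if_neg h, one_smul, map_add, map_pow]
        obtain ⟨i, rfl⟩ := Fin.exists_succ_eq.mpr h
        simp [finSuccEquiv_X_succ, finSuccEquiv_X_zero, add_comm]
    simp only [this, one_pow, Finset.prod_const_one, mul_one]
  exact fun i ↦ pow_zero _

/-- A change of variables making the leading coefficient in the first variable a constant. -/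
theorem exists_algEquiv_leadingCoeff (fne : f ≠ 0) :
    ∃ (e : MvPolynomial (Fin (n + 1)) k ≃ₐ[k] MvPolynomial (Fin (n + 1)) k) (c : k), c ≠ 0 ∧
      (finSuccEquiv k n (e f)).leadingCoeff = MvPolynomial.C c := by
  obtain ⟨v, vin, vs⟩ := Finset.exists_max_image f.support
    (fun v ↦ (T f ((MvPolynomial.monomial v) (f.coeff v))).degreeOf 0) (support_nonempty.mpr fne)
  refine ⟨T f, f.coeff v, MvPolynomial.mem_support_iff.mp vin, ?_⟩
  set h := fun w ↦ (MvPolynomial.monomial w) (f.coeff w)
  simp only [← natDegree_finSuccEquiv] at vs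
  replace vs : ∀ x ∈ f.support \ {v}, (finSuccEquiv k n ((T f) (h x))).degree <
      (finSuccEquiv k n ((T f) (h v))).degree := by
    intro x hx
    obtain ⟨h1, h2⟩ := Finset.mem_sdiff.mp hx
    apply degree_lt_degree <| lt_of_le_of_ne (vs x h1) ?_
    simpa only [natDegree_finSuccEquiv]
      using degreeOf_t_ne_of_ne f _ _ h1 vin <| ne_of_not_mem_cons h2
  have hcoeff : (finSuccEquiv k n ((T f) (h v + ∑ x ∈ f.support \ {v}, h x))).leadingCoeff =
      (finSuccEquiv k n ((T f) (h v))).leadingCoeff := by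
    simp only [map_add, map_sum]
    rw [add_comm]
    apply leadingCoeff_add_of_degree_lt <| (lt_of_le_of_lt <| Polynomial.degree_sum_le _ _) ?_
    have h2 : h v ≠ 0 := by simpa [h] using MvPolynomial.mem_support_iff.mp vin
    replace h2 : (finSuccEquiv k n ((T f) (h v))) ≠ 0 := fun eq ↦ h2 <|
      by simpa only [map_eq_zero_iff _ (AlgEquiv.injective _)] using eq
    exact (Finset.sup_lt_iff <| Ne.bot_lt (fun x ↦ h2 <| degree_eq_bot.mp x)).mpr vs
  nth_rw 2 [← f.support_sum_monomial_coeff]
  rw [Finset.sum_eq_add_sum_sdiff_singleton_of_mem vin h, hcoeff]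
  exact leadingCoeff_finSuccEquiv_t f v

end Nagata

open TensorProduct

variable {R : Type u} [CommRing R]

/-! ## Finite presentation up to `f`-power torsion -/

/-- `M` is finitely presented over `P` up to `f`-power torsion. -/
def NearlyFP (f : R) (P : Type u) [CommRing P] [Algebra R P] (M : Type u) [AddCommGroup M]
    [Module P M] : Prop :=
  ∃ (a : ℕ) (π : (Fin a → P) →ₗ[P] M),
    (∀ m, ∃ k : ℕ, algebraMap R P f ^ k • m ∈ LinearMap.range π) ∧
    ∃ K : Submodule P (Fin a → P), K.FG ∧ K ≤ LinearMap.ker π ∧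
      ∀ x ∈ LinearMap.ker π, ∃ k : ℕ, algebraMap R P f ^ k • x ∈ K

section

variable {P : Type u} [CommRing P] [Algebra R P] {M : Type u} [AddCommGroup M] [Module P M]

theorem NearlyFP.mul {f : R} (h : NearlyFP f P M) (g : R) : NearlyFP (f * g) P M := by
  obtain ⟨a, π, hsurj, K, hK, hle, hker⟩ := h
  refine ⟨a, π, fun m => ?_, K, hK, hle, fun x hx => ?_⟩
  · obtain ⟨k, hk⟩ := hsurj m
    exact ⟨k, by rw [map_mul, mul_pow, mul_comm, mul_smul]; exact Submodule.smul_mem _ _ hk⟩
  · obtain ⟨k, hk⟩ := hker x hx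
    exact ⟨k, by rw [map_mul, mul_pow, mul_comm, mul_smul]; exact Submodule.smul_mem _ _ hk⟩

theorem NearlyFP.of_linearEquiv {f : R} {N : Type u} [AddCommGroup N] [Module P N]
    (h : NearlyFP f P M) (e : M ≃ₗ[P] N) : NearlyFP f P N := by
  obtain ⟨a, π, hsurj, K, hK, hle, hker⟩ := h
  have hk' : LinearMap.ker (e.toLinearMap ∘ₗ π) = LinearMap.ker π :=
    LinearMap.ker_comp_of_ker_eq_bot _ e.ker
  refine ⟨a, e.toLinearMap ∘ₗ π, fun m => ?_, K, hK, hk' ▸ hle, fun x hx => hker x (hk' ▸ hx)⟩
  obtain ⟨k, v, hv⟩ := hsurj (e.symm m)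
  exact ⟨k, v, by simp [hv]⟩

theorem NearlyFP.of_exact {f : R} {A Q : Type u} [AddCommGroup A] [Module P A] [AddCommGroup Q]
    [Module P Q] (i : A →ₗ[P] M) (g : M →ₗ[P] Q) (hi : Function.Injective i) (hex : Function.Exact i g)
    (hg : Function.Surjective g) (hA : NearlyFP f P A) (hQ : NearlyFP f P Q) : NearlyFP f P M := by
  classical
  obtain ⟨a, πA, hsA, KA, hKA, hleA, hkA⟩ := hA
  obtain ⟨b, πQ, hsQ, KQ, hKQ, hleQ, hkQ⟩ := hQ
  obtain ⟨σ, hσ⟩ := Module.projective_lifting_property g πQ hg
  let E : (Fin (a + b) → P) ≃ₗ[P] (Fin a → P) × (Fin b → P) :=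
    (LinearEquiv.funCongrLeft P P finSumFinEquiv) ≪≫ₗ LinearEquiv.sumArrowLequivProdArrow _ _ P P
  let π : (Fin a → P) × (Fin b → P) →ₗ[P] M := (i ∘ₗ πA).coprod σ
  let F := algebraMap R P f
  obtain ⟨s, hs⟩ := hKQ
  have hlift : ∀ w ∈ s, ∃ (k : ℕ) (u : Fin a → P), π (u, F ^ k • w) = 0 := by
    intro w hw
    have h0 : g (σ w) = 0 := by
      rw [← LinearMap.comp_apply, hσ]
      exact hleQ (hs ▸ Submodule.subset_span hw)
    obtain ⟨y, hy⟩ := (hex _).mp h0
    obtain ⟨k, v, hv⟩ := hsA y
    refine ⟨k, -v, ?_⟩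
    simp only [π, LinearMap.coprod_apply, LinearMap.comp_apply, map_neg, hv, map_smul]
    rw [hy, neg_add_cancel]
  choose kw uw huw using hlift
  obtain ⟨N, hN⟩ : ∃ N, ∀ w (hw : w ∈ s), kw w hw ≤ N :=
    ⟨s.attach.sup (fun w => kw w.1 w.2), fun w hw => Finset.le_sup (f := fun w : s => kw w.1 w.2) (Finset.mem_attach _ ⟨w, hw⟩)⟩
  let lift : s → (Fin a → P) × (Fin b → P) := fun w => (uw w.1 w.2, F ^ kw w.1 w.2 • w.1)
  let K : Submodule P ((Fin a → P) × (Fin b → P)) :=
    KA.map (LinearMap.inl P _ _) ⊔ Submodule.span P (Set.range lift)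
  have hKle : K ≤ LinearMap.ker π := by
    refine sup_le ?_ (Submodule.span_le.mpr ?_)
    · rintro _ ⟨u, hu, rfl⟩
      have h0 : πA u = 0 := hleA hu
      simp [π, h0]
    · rintro _ ⟨w, rfl⟩
      exact huw w.1 w.2
  refine ⟨a + b, π ∘ₗ E.toLinearMap, fun m => ?_, K.map E.symm.toLinearMap,
    (Submodule.FG.sup (hKA.map _) (Submodule.fg_span (Set.finite_range _))).map _, ?_, ?_⟩
  · obtain ⟨k, v, hv⟩ := hsQ (g m)
    have h0 : g (F ^ k • m - σ v) = 0 := by
      rw [map_sub, map_smul, ← hv, ← LinearMap.comp_apply, hσ, sub_self]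
    obtain ⟨y, hy⟩ := (hex _).mp h0
    obtain ⟨l, w, hw⟩ := hsA y
    refine ⟨l + k, E.symm (w, F ^ l • v), ?_⟩
    simp only [LinearMap.comp_apply, LinearEquiv.coe_coe, LinearEquiv.apply_symm_apply, π,
      LinearMap.coprod_apply, hw, map_smul, hy]
    rw [pow_add, mul_smul, smul_sub, sub_add_cancel]
  · rintro _ ⟨x, hx, rfl⟩
    simp only [LinearMap.mem_ker, LinearMap.comp_apply, LinearEquiv.coe_coe, LinearEquiv.apply_symm_apply]
    exact hKle hx
  · intro x hx
    obtain ⟨⟨u, v⟩, rfl⟩ := E.symm.surjective x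
    simp only [LinearMap.mem_ker, LinearMap.comp_apply, LinearEquiv.coe_coe, LinearEquiv.apply_symm_apply] at hx
    have hv : v ∈ LinearMap.ker πQ := by
      have h1 : g (i (πA u) + σ v) = 0 := by
        have h2 : i (πA u) + σ v = 0 := hx
        rw [h2, map_zero]
      rw [map_add, hex.apply_apply_eq_zero, zero_add] at h1
      rw [LinearMap.mem_ker, ← hσ]
      exact h1
    obtain ⟨k, hk⟩ := hkQ v hv
    have key : ∀ z ∈ KQ, ∃ u', ((u', F ^ N • z) : (Fin a → P) × (Fin b → P)) ∈ K := by
      rw [← hs]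
      intro z hz
      induction hz using Submodule.span_induction with
      | mem w hw =>
        refine ⟨F ^ (N - kw w hw) • uw w hw, ?_⟩
        have : F ^ (N - kw w hw) • lift ⟨w, hw⟩ ∈ K :=
          Submodule.smul_mem _ _ (le_sup_right (a := KA.map (LinearMap.inl P _ _))
            (Submodule.subset_span ⟨⟨w, hw⟩, rfl⟩))
        simpa [lift, smul_smul, ← pow_add, Nat.sub_add_cancel (hN w hw)] using this
      | zero => exact ⟨0, by rw [smul_zero]; exact zero_mem K⟩
      | add y z _ _ hy hz =>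
        obtain ⟨p, hp⟩ := hy
        obtain ⟨q, hq⟩ := hz
        exact ⟨p + q, by rw [smul_add]; exact add_mem hp hq⟩
      | smul c y _ hy =>
        obtain ⟨p, hp⟩ := hy
        exact ⟨c • p, by rw [smul_comm]; exact Submodule.smul_mem _ c hp⟩
    obtain ⟨u', hu'⟩ := key _ hk
    have h3 : π (F ^ (N + k) • u - u', (0 : Fin b → P)) = 0 := by
      have h4 : ((F ^ (N + k) • u - u', 0) : (Fin a → P) × (Fin b → P)) =
          F ^ (N + k) • (u, v) - (u', F ^ N • (F ^ k • v)) := by
        ext <;> simp [smul_smul, pow_add]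
      rw [h4, map_sub, map_smul, hx, show π (u', F ^ N • F ^ k • v) = 0 from hKle hu', smul_zero, sub_self]
    have h5 : F ^ (N + k) • u - u' ∈ LinearMap.ker πA := by
      apply hi
      simpa [π] using h3
    obtain ⟨l, hl⟩ := hkA _ h5
    refine ⟨l + (N + k), ?_⟩
    rw [← map_smul]
    refine Submodule.mem_map_of_mem ?_
    have h6 : F ^ (l + (N + k)) • ((u, v) : (Fin a → P) × (Fin b → P)) =
        (F ^ l • (F ^ (N + k) • u - u'), 0) + F ^ l • (u', F ^ N • F ^ k • v) := by
      simp [smul_sub, smul_smul, ← pow_add, add_assoc]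
    rw [h6]
    exact add_mem (le_sup_left (b := Submodule.span P (Set.range lift)) (Submodule.mem_map_of_mem hl))
      (Submodule.smul_mem _ _ hu')

end

/-- Change of rings: from `N` over `P'` to `M` over a finite type algebra `P`, for an injection
`N → M` with `f`-power torsion cokernel. -/
theorem NearlyFP.change {P' P : Type u} [CommRing P'] [CommRing P] [Algebra R P'] [Algebra R P]
    [Algebra.FiniteType R P] (φ : P' →ₐ[R] P) {M N : Type u} [AddCommGroup M] [Module P M]
    [AddCommGroup N] [Module P' N] {f : R} (h : NearlyFP f P' N)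
    (θ : N →+ M) (hθ : ∀ (p : P') n, θ (p • n) = φ p • θ n) (hinj : Function.Injective θ)
    (hcoker : ∀ m, ∃ k : ℕ, algebraMap R P f ^ k • m ∈ Set.range θ) : NearlyFP f P M := by
  classical
  obtain ⟨a, π₀, hs₀, K₀, hK₀, hle₀, hker₀⟩ := h
  let F := algebraMap R P f
  have hF : ∀ k, F ^ k = φ (algebraMap R P' f ^ k) := fun k => by rw [map_pow, AlgHom.commutes]
  let ι : (Fin a → P') → (Fin a → P) := fun w j => φ (w j)
  let e : Fin a → M := fun j => θ (π₀ (Pi.single j 1))
  let π : (Fin a → P) →ₗ[P] M := Fintype.linearCombination P e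
  have hπι : ∀ w, π (ι w) = θ (π₀ w) := by
    intro w
    conv_rhs => rw [pi_eq_sum_univ' w]
    simp only [π, Fintype.linearCombination_apply, map_sum, map_smul, hθ, ι, e]
  have hrange : ∀ m, ∃ k : ℕ, ∃ w, F ^ k • m = θ (π₀ w) := by
    intro m
    obtain ⟨k, n, hn⟩ := hcoker m
    obtain ⟨l, w, hw⟩ := hs₀ n
    exact ⟨l + k, w, by rw [hw, hθ, ← hF, hn, pow_add, mul_smul]⟩
  obtain ⟨T, hT⟩ := (Algebra.FiniteType.out : (⊤ : Subalgebra R P).FG)
  choose kr wr hwr using fun (tj : T × Fin a) => hrange ((tj.1 : P) • e tj.2)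
  let rel : T × Fin a → (Fin a → P) := fun tj =>
    F ^ kr tj • Pi.single tj.2 (tj.1 : P) - ι (wr tj)
  obtain ⟨s, hs⟩ := hK₀
  let K : Submodule P (Fin a → P) := Submodule.span P (ι '' s ∪ Set.range rel)
  have hιK : ∀ w ∈ K₀, ι w ∈ K := by
    rw [← hs]
    intro w hw
    induction hw using Submodule.span_induction with
    | mem x hx => exact Submodule.subset_span (Or.inl ⟨x, hx, rfl⟩)
    | zero => convert K.zero_mem; simp [ι]; rfl
    | add x y _ _ hx hy => convert add_mem hx hy; ext j; simp [ι]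
    | smul c x _ hx => convert K.smul_mem (φ c) hx; ext j; simp [ι]
  have hKle : K ≤ LinearMap.ker π := by
    refine Submodule.span_le.mpr ?_
    rintro _ (⟨w, hw, rfl⟩ | ⟨tj, rfl⟩)
    · rw [SetLike.mem_coe, LinearMap.mem_ker, hπι, show π₀ w = 0 from hle₀ (hs ▸ Submodule.subset_span hw), map_zero]
    · rw [SetLike.mem_coe, LinearMap.mem_ker, map_sub, map_smul, hπι, ← hwr, sub_eq_zero]
      simp [π, Fintype.linearCombination_apply_single]
  let W : Set (Fin a → P) := {v | ∃ k : ℕ, ∃ w, F ^ k • v - ι w ∈ K}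
  have hι0 : ι 0 = 0 := by ext j; simp [ι]
  have hιadd : ∀ x y, ι (x + y) = ι x + ι y := fun x y => by ext j; simp [ι]
  have hιF : ∀ k x, F ^ k • ι x = ι (algebraMap R P' f ^ k • x) := fun k x => by
    ext j; simp [ι, hF]
  have hW0 : (0 : Fin a → P) ∈ W := ⟨0, 0, by simp [hι0]⟩
  have hWadd : ∀ x y, x ∈ W → y ∈ W → x + y ∈ W := by
    rintro x y ⟨k, w, hw⟩ ⟨l, z, hz⟩
    refine ⟨k + l, algebraMap R P' f ^ l • w + algebraMap R P' f ^ k • z, ?_⟩
    have := add_mem (K.smul_mem (F ^ l) hw) (K.smul_mem (F ^ k) hz)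
    convert this using 1
    rw [hιadd, ← hιF, ← hιF, smul_sub, smul_sub, smul_smul, smul_smul, ← pow_add, ← pow_add, smul_add,
      add_comm l k]
    abel
  have hWφ : ∀ (p : P') x, x ∈ W → φ p • x ∈ W := by
    rintro p x ⟨k, w, hw⟩
    refine ⟨k, p • w, ?_⟩
    convert K.smul_mem (φ p) hw using 1
    rw [smul_sub, smul_comm]
    congr 1
    ext j; simp [ι]
  have hWK : ∀ x ∈ K, x ∈ W := fun x hx => ⟨0, 0, by simpa [hι0] using hx⟩
  have hsum : ∀ w : Fin a → P', ι w = ∑ j, φ (w j) • (Pi.single j 1 : Fin a → P) := fun w =>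
    pi_eq_sum_univ' (ι w)
  have hWt : ∀ t : T, ∀ x ∈ W, (t : P) • x ∈ W := by
    rintro t x ⟨k, w, hw⟩
    have h1 : ∀ j, (Pi.single j (t : P) : Fin a → P) ∈ W := fun j =>
      ⟨kr (t, j), wr (t, j), Submodule.subset_span (Or.inr ⟨(t, j), rfl⟩)⟩
    have h2 : (t : P) • ι w ∈ W := by
      rw [hsum, Finset.smul_sum]
      refine Finset.sum_induction _ (· ∈ W) hWadd hW0 fun j _ => ?_
      rw [smul_comm]
      have : (t : P) • (Pi.single j 1 : Fin a → P) = Pi.single j (t : P) := by
        rw [← Pi.single_smul, smul_eq_mul, mul_one]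
      rw [this]
      exact hWφ _ _ (h1 j)
    obtain ⟨l, z, hz⟩ := hWadd _ _ h2 (hWK _ (K.smul_mem (t : P) hw))
    refine ⟨l + k, z, ?_⟩
    convert hz using 2
    rw [← smul_add, add_sub_cancel, pow_add, mul_smul, smul_comm (t : P)]
  have hWall : ∀ p : P, ∀ x ∈ W, p • x ∈ W := by
    intro p
    have hp : p ∈ Algebra.adjoin R (T : Set P) := by rw [hT]; trivial
    induction hp using Algebra.adjoin_induction with
    | mem t ht => exact hWt ⟨t, ht⟩
    | algebraMap r => intro x hx; rw [← φ.commutes]; exact hWφ _ x hx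
    | add p q _ _ hp hq => intro x hx; rw [add_smul]; exact hWadd _ _ (hp x hx) (hq x hx)
    | mul p q _ _ hp hq => intro x hx; rw [mul_smul]; exact hp _ (hq x hx)
  have hWtop : ∀ v, v ∈ W := by
    intro v
    rw [pi_eq_sum_univ' v]
    refine Finset.sum_induction _ (· ∈ W) hWadd hW0 fun j _ => hWall _ _ ⟨0, Pi.single j 1, ?_⟩
    convert K.zero_mem
    rw [pow_zero, one_smul, sub_eq_zero]
    ext l
    rcases eq_or_ne l j with rfl | h
    · simp [ι]
    · simp [ι, Pi.single_eq_of_ne h]
  refine ⟨a, π, fun m => ?_, K, Submodule.fg_span ((s.finite_toSet.image _).union (Set.finite_range _)), hKle, ?_⟩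
  · obtain ⟨k, w, hw⟩ := hrange m
    exact ⟨k, ι w, by rw [hπι, hw]⟩
  · intro v hv
    obtain ⟨k, w, hw⟩ := hWtop v
    have h0 : π₀ w = 0 := by
      apply hinj
      rw [map_zero, ← hπι]
      have := hKle hw
      simpa [show π v = 0 from hv] using this
    obtain ⟨l, hl⟩ := hker₀ w h0
    refine ⟨l + k, ?_⟩
    have := add_mem (K.smul_mem (F ^ l) hw) (hιK _ hl)
    convert this using 1
    rw [← hιF, smul_sub, sub_add_cancel, pow_add, mul_smul]

/-! ## Freeness after inverting an element -/

theorem free_of_isUnit {f : R} (R' : Type u) [CommRing R'] [Algebra R R']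
    (hf : IsUnit (algebraMap R R' f)) (M : Type u) [AddCommGroup M] [Module R M]
    [Module.Free (Localization.Away f) (Localization.Away f ⊗[R] M)] : Module.Free R' (R' ⊗[R] M) := by
  let φ : Localization.Away f →+* R' := IsLocalization.Away.lift f hf
  let _ : Algebra (Localization.Away f) R' := φ.toAlgebra
  have : IsScalarTower R (Localization.Away f) R' :=
    IsScalarTower.of_algebraMap_eq fun x => (IsLocalization.Away.lift_eq f hf x).symm
  exact Module.Free.of_equiv (AlgebraTensorModule.cancelBaseChange R (Localization.Away f) R' R' M)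

theorem free_of_exact (R' : Type u) [CommRing R'] [Algebra R R'] [Module.Flat R R'] {A M Q : Type u}
    [AddCommGroup A] [Module R A] [AddCommGroup M] [Module R M] [AddCommGroup Q] [Module R Q]
    (i : A →ₗ[R] M) (g : M →ₗ[R] Q) (hi : Function.Injective i) (hex : Function.Exact i g)
    (hg : Function.Surjective g) [Module.Free R' (R' ⊗[R] A)] [Module.Free R' (R' ⊗[R] Q)] :
    Module.Free R' (R' ⊗[R] M) := by
  obtain ⟨l, hl⟩ := Module.projective_lifting_property (g.baseChange R') LinearMap.id
    (g.lTensor_surjective R' hg)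
  have h1 : Function.Exact (i.baseChange R') (g.baseChange R') := lTensor_exact R' hex hg
  have h2 : Function.Injective (i.baseChange R') := Module.Flat.lTensor_preserves_injective_linearMap i hi
  exact Module.Free.of_equiv (h1.splitSurjectiveEquiv h2 ⟨l, hl⟩).1.symm

/-- Generic freeness and nearly finite presentation. -/
def Good (R P : Type u) [CommRing R] [CommRing P] [Algebra R P] (M : Type u) [AddCommGroup M]
    [Module P M] [Module R M] : Prop :=
  ∃ f : R, f ≠ 0 ∧ Module.Free (Localization.Away f) (Localization.Away f ⊗[R] M) ∧ NearlyFP f P M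

variable [IsDomain R]

theorem Good.of_exact {P : Type u} [CommRing P] [Algebra R P] {A M Q : Type u} [AddCommGroup A]
    [Module P A] [Module R A] [IsScalarTower R P A] [AddCommGroup M] [Module P M] [Module R M]
    [IsScalarTower R P M] [AddCommGroup Q] [Module P Q] [Module R Q] [IsScalarTower R P Q]
    (i : A →ₗ[P] M) (g : M →ₗ[P] Q) (hi : Function.Injective i) (hex : Function.Exact i g)
    (hg : Function.Surjective g) (hA : Good R P A) (hQ : Good R P Q) : Good R P M := by
  obtain ⟨f₁, hf₁, hA, hA'⟩ := hA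
  obtain ⟨f₂, hf₂, hQ, hQ'⟩ := hQ
  refine ⟨f₁ * f₂, mul_ne_zero hf₁ hf₂, ?_,
    NearlyFP.of_exact i g hi hex hg (hA'.mul f₂) (mul_comm f₂ f₁ ▸ hQ'.mul f₁)⟩
  have hu : IsUnit (algebraMap R (Localization.Away (f₁ * f₂)) (f₁ * f₂)) :=
    IsLocalization.Away.algebraMap_isUnit _
  rw [map_mul, IsUnit.mul_iff] at hu
  have : Module.Flat R (Localization.Away (f₁ * f₂)) := IsLocalization.flat _ (Submonoid.powers (f₁ * f₂))
  have := free_of_isUnit (Localization.Away (f₁ * f₂)) hu.1 A
  have := free_of_isUnit (Localization.Away (f₁ * f₂)) hu.2 Q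
  exact free_of_exact _ (i.restrictScalars R) (g.restrictScalars R) hi hex hg

theorem Good.of_linearEquiv {P : Type u} [CommRing P] [Algebra R P] {M N : Type u} [AddCommGroup M]
    [Module P M] [Module R M] [IsScalarTower R P M] [AddCommGroup N] [Module P N] [Module R N]
    [IsScalarTower R P N] (e : M ≃ₗ[P] N) (h : Good R P M) : Good R P N := by
  obtain ⟨f, hf, hM, hM'⟩ := h
  exact ⟨f, hf, Module.Free.of_equiv (LinearEquiv.baseChange R (Localization.Away f) M N (e.restrictScalars R)),
    hM'.of_linearEquiv e⟩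

theorem good_self (P : Type u) [CommRing P] [Algebra R P] [Module.Free R P] : Good R P P := by
  refine ⟨1, one_ne_zero, inferInstance, 1, Fintype.linearCombination P (fun _ => 1),
    fun m => ⟨0, fun _ => m, by simp [Fintype.linearCombination_apply]⟩, ⊥, Submodule.fg_bot, bot_le,
    fun x hx => ⟨0, ?_⟩⟩
  have : x 0 = 0 := by simpa [Fintype.linearCombination_apply] using hx
  simp only [pow_zero, one_smul, Submodule.mem_bot]
  ext i
  rw [Subsingleton.elim i 0]
  exact this

theorem good_of_subsingleton (P : Type u) [CommRing P] [Algebra R P] (M : Type u) [AddCommGroup M]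
    [Module P M] [Module R M] [Subsingleton M] : Good R P M := by
  have : Subsingleton (Localization.Away (1 : R) ⊗[R] M) := subsingleton_of_forall_eq 0 fun x => by
    induction x using TensorProduct.induction_on with
    | zero => rfl
    | tmul a m => rw [Subsingleton.elim m 0, TensorProduct.tmul_zero]
    | add a b ha hb => rw [ha, hb, add_zero]
  refine ⟨1, one_ne_zero, Module.Free.of_subsingleton _ _, 0, 0, fun m => ⟨0, 0, Subsingleton.elim _ _⟩, ⊤,
    Module.Finite.fg_top, fun x _ => Subsingleton.elim _ _, fun x _ => ⟨0, trivial⟩⟩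

/-- Extensions: it is enough to treat cyclic modules. -/
theorem good_of_cyclic {P : Type u} [CommRing P] [Algebra R P]
    (h : ∀ I : Ideal P, Good R P (P ⧸ I)) (a : ℕ) :
    ∀ (M : Type u) [AddCommGroup M] [Module P M] [Module R M] [IsScalarTower R P M] (m : Fin a → M),
      Submodule.span P (Set.range m) = ⊤ → Good R P M := by
  induction a with
  | zero =>
    intro M _ _ _ _ m hm
    have : Subsingleton M := by
      refine subsingleton_of_forall_eq 0 fun x => ?_
      have : x ∈ Submodule.span P (Set.range m) := by rw [hm]; trivial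
      rw [Set.range_eq_empty, Submodule.span_empty] at this
      exact (Submodule.mem_bot P).mp this
    exact good_of_subsingleton P M
  | succ a ih =>
    intro M _ _ _ _ m hm
    let A := Submodule.span P {m 0}
    refine Good.of_exact A.subtype A.mkQ Subtype.val_injective (LinearMap.exact_subtype_mkQ A)
      A.mkQ_surjective ?_ (ih _ (fun i => A.mkQ (m i.succ)) ?_)
    · exact Good.of_linearEquiv ((LinearMap.quotKerEquivRange (LinearMap.toSpanSingleton P M (m 0))).trans
        (LinearEquiv.ofEq _ _ (LinearMap.span_singleton_eq_range P M (m 0)).symm)) (h _)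
    · rw [eq_top_iff, ← A.range_mkQ, LinearMap.range_eq_map, ← hm, Submodule.map_span, Submodule.span_le]
      rintro _ ⟨_, ⟨i, rfl⟩, rfl⟩
      cases i using Fin.cases with
      | zero =>
        rw [show A.mkQ (m 0) = 0 from (Submodule.Quotient.mk_eq_zero A).mpr (Submodule.mem_span_singleton_self _)]
        exact zero_mem _
      | succ i => exact Submodule.subset_span ⟨i, rfl⟩

open Polynomial in
/-- A module killed by a polynomial with leading coefficient `c` is finite up to `c`-power torsion. -/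
theorem exists_pow_smul_mem_span {P' : Type u} [CommRing P'] (G : P'[X]) (c : P') (hc : G.leadingCoeff = c)
    {M : Type u} [AddCommGroup M] [Module P'[X] M] [Module P' M] [IsScalarTower P' P'[X] M]
    {a : ℕ} (m : Fin a → M) (hm : Submodule.span P'[X] (Set.range m) = ⊤) (hG : ∀ x : M, G • x = 0) (x : M) :
    ∃ k : ℕ, c ^ k • x ∈ Submodule.span P'
      (Set.range fun ij : Fin G.natDegree × Fin a => (X : P'[X]) ^ (ij.1 : ℕ) • m ij.2) := by
  let N := Submodule.span P' (Set.range fun ij : Fin G.natDegree × Fin a => (X : P'[X]) ^ (ij.1 : ℕ) • m ij.2)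
  let S : Set M := {x | ∃ k : ℕ, c ^ k • x ∈ N}
  have hSadd : ∀ x y, x ∈ S → y ∈ S → x + y ∈ S := by
    rintro x y ⟨k, hk⟩ ⟨l, hl⟩
    refine ⟨k + l, ?_⟩
    rw [smul_add, add_comm k l, pow_add, mul_smul]
    refine add_mem (N.smul_mem _ hk) ?_
    rw [mul_comm, mul_smul]
    exact N.smul_mem _ hl
  have hS0 : (0 : M) ∈ S := ⟨0, by simp⟩
  have hSP : ∀ (p : P') x, x ∈ S → p • x ∈ S := fun p x ⟨k, hk⟩ => ⟨k, by
    rw [smul_comm]; exact N.smul_mem _ hk⟩
  have hbase : ∀ (j : Fin a) (i : ℕ), (X : P'[X]) ^ i • m j ∈ S := by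
    intro j i
    induction i using Nat.strong_induction_on with
    | _ i ih =>
      by_cases hi : i < G.natDegree
      · exact ⟨0, by rw [pow_zero, one_smul]; exact Submodule.subset_span ⟨(⟨i, hi⟩, j), rfl⟩⟩
      obtain ⟨e, rfl⟩ := Nat.exists_eq_add_of_le (not_lt.mp hi)
      have h0 : (X ^ e * G) • m j = 0 := by rw [mul_smul, hG, smul_zero]
      rw [G.as_sum_range, Finset.mul_sum, Finset.sum_smul, Finset.sum_range_succ] at h0
      have hterm : ∀ l, (X ^ e * monomial l (G.coeff l)) • m j = G.coeff l • ((X : P'[X]) ^ (l + e) • m j) := by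
        intro l
        rw [← C_mul_X_pow_eq_monomial, ← mul_assoc, mul_comm (X ^ e), mul_assoc, ← pow_add, mul_smul,
          add_comm e l, ← Polynomial.algebraMap_eq, algebraMap_smul]
      rw [hterm, Polynomial.coeff_natDegree, hc, add_comm] at h0
      rw [← eq_neg_iff_add_eq_zero] at h0
      have h1 : c • ((X : P'[X]) ^ (G.natDegree + e) • m j) ∈ S := by
        rw [h0, ← neg_one_smul P']
        refine hSP _ _ (Finset.sum_induction _ (· ∈ S) hSadd hS0 fun l hl => ?_)
        rw [hterm]
        exact hSP _ _ (ih _ (by rw [Finset.mem_range] at hl; omega))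
      obtain ⟨k, hk⟩ := h1
      exact ⟨k + 1, by rw [pow_succ, mul_smul]; exact hk⟩
  have hx : x ∈ Submodule.span P'[X] (Set.range m) := by rw [hm]; trivial
  obtain ⟨p, rfl⟩ := (Submodule.mem_span_range_iff_exists_fun _).mp hx
  refine Finset.sum_induction _ (· ∈ S) hSadd hS0 fun j _ => ?_
  rw [(p j).as_sum_range_C_mul_X_pow, Finset.sum_smul]
  refine Finset.sum_induction _ (· ∈ S) hSadd hS0 fun l _ => ?_
  rw [mul_smul, ← Polynomial.algebraMap_eq, algebraMap_smul]
  exact hSP _ _ (hbase j l)

theorem good_quotient (n : ℕ) : ∀ I : Ideal (MvPolynomial (Fin n) R),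
    Good R (MvPolynomial (Fin n) R) (MvPolynomial (Fin n) R ⧸ I) := by
  induction n with
  | zero =>
    intro I
    rcases eq_or_ne I ⊥ with rfl | hI
    · exact Good.of_linearEquiv (Submodule.quotEquivOfEqBot _ rfl).symm (good_self _)
    obtain ⟨g, hg, hg0⟩ := Submodule.exists_mem_ne_zero_of_ne_bot hI
    obtain ⟨c, rfl⟩ := MvPolynomial.C_surjective (Fin 0) g
    have hc : c ≠ 0 := fun h => hg0 (by rw [h, map_zero])
    have hkill : ∀ y : MvPolynomial (Fin 0) R ⧸ I, c • y = 0 := by
      intro y
      obtain ⟨y, rfl⟩ := Ideal.Quotient.mk_surjective y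
      show Ideal.Quotient.mk I (c • y) = 0
      rw [Ideal.Quotient.eq_zero_iff_mem, Algebra.smul_def]
      exact I.mul_mem_right _ hg
    refine ⟨c, hc, ?_, 0, 0, fun m => ⟨1, 0, ?_⟩, ⊤, Module.Finite.fg_top,
      fun x _ => rfl, fun x _ => ⟨0, trivial⟩⟩
    · have : Subsingleton (Localization.Away c ⊗[R] (MvPolynomial (Fin 0) R ⧸ I)) :=
        subsingleton_of_forall_eq 0 fun x => by
          induction x using TensorProduct.induction_on with
          | zero => rfl
          | add a b ha hb => rw [ha, hb, add_zero]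
          | tmul a y =>
            obtain ⟨b, hb⟩ := IsLocalization.Away.algebraMap_isUnit (S := Localization.Away c) c
            have : a = c • ((↑b⁻¹ : Localization.Away c) * a) := by
              rw [Algebra.smul_def, ← hb, Units.mul_inv_cancel_left]
            rw [this, TensorProduct.smul_tmul, hkill, TensorProduct.tmul_zero]
      exact Module.Free.of_subsingleton _ _
    · rw [pow_one, LinearMap.zero_apply, algebraMap_smul, hkill]
  | succ n ih =>
    intro I
    rcases eq_or_ne I ⊥ with rfl | hI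
    · exact Good.of_linearEquiv (Submodule.quotEquivOfEqBot _ rfl).symm (good_self _)
    obtain ⟨g, hg, hg0⟩ := Submodule.exists_mem_ne_zero_of_ne_bot hI
    obtain ⟨e, c, hc, hlead⟩ := exists_algEquiv_leadingCoeff g hg0
    let ψ : Polynomial (MvPolynomial (Fin n) R) ≃ₐ[R] MvPolynomial (Fin (n + 1)) R :=
      (e.trans (MvPolynomial.finSuccEquiv R n)).symm
    let G := MvPolynomial.finSuccEquiv R n (e g)
    have hG : ψ G = g := (e.trans (MvPolynomial.finSuccEquiv R n)).symm_apply_apply g
    let M := MvPolynomial (Fin (n + 1)) R ⧸ I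
    let _ : Module (Polynomial (MvPolynomial (Fin n) R)) M := Module.compHom M ψ.toRingEquiv.toRingHom
    let _ : Module (MvPolynomial (Fin n) R) M :=
      Module.compHom M (algebraMap (MvPolynomial (Fin n) R) (Polynomial (MvPolynomial (Fin n) R)))
    have : IsScalarTower (MvPolynomial (Fin n) R) (Polynomial (MvPolynomial (Fin n) R)) M :=
      IsScalarTower.of_algebraMap_smul fun _ _ => rfl
    have : IsScalarTower R (MvPolynomial (Fin n) R) M := IsScalarTower.of_algebraMap_smul fun r y => by
      show ψ (algebraMap (MvPolynomial (Fin n) R) (Polynomial (MvPolynomial (Fin n) R)) (algebraMap R _ r)) • y = r • y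
      rw [← IsScalarTower.algebraMap_apply, AlgEquiv.commutes, algebraMap_smul]
    have hsmul : ∀ (p : Polynomial (MvPolynomial (Fin n) R)) (y : M), p • y = ψ p • y := fun _ _ => rfl
    have hkill : ∀ y : M, G • y = 0 := by
      intro y
      rw [hsmul, hG]
      obtain ⟨y, rfl⟩ := Ideal.Quotient.mk_surjective y
      show Ideal.Quotient.mk I (g • y) = 0
      rw [Ideal.Quotient.eq_zero_iff_mem, smul_eq_mul]
      exact I.mul_mem_right _ hg
    have hgen : Submodule.span (Polynomial (MvPolynomial (Fin n) R)) (Set.range fun _ : Fin 1 => (1 : M)) = ⊤ := by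
      rw [eq_top_iff]
      rintro y -
      obtain ⟨y, rfl⟩ := Ideal.Quotient.mk_surjective y
      have : Ideal.Quotient.mk I y = ψ.symm y • (1 : M) := by
        rw [hsmul, AlgEquiv.apply_symm_apply]
        show _ = Ideal.Quotient.mk I (y • (1 : MvPolynomial (Fin (n + 1)) R))
        rw [smul_eq_mul, mul_one]
      rw [this]
      exact Submodule.smul_mem _ _ (Submodule.subset_span ⟨0, rfl⟩)
    have hfin := exists_pow_smul_mem_span G (MvPolynomial.C c) hlead (fun _ : Fin 1 => (1 : M)) hgen hkill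
    let N := Submodule.span (MvPolynomial (Fin n) R) (Set.range fun ij : Fin G.natDegree × Fin 1 =>
        (Polynomial.X : Polynomial (MvPolynomial (Fin n) R)) ^ (ij.1 : ℕ) • (1 : M))
    have : Module.Finite (MvPolynomial (Fin n) R) N := Module.Finite.span_of_finite _ (Set.finite_range _)
    obtain ⟨b, v, hv⟩ := Module.Finite.exists_fin (R := MvPolynomial (Fin n) R) (M := N)
    obtain ⟨f, hf, hfree, hnfp⟩ := good_of_cyclic ih b N v hv
    have hcR : ∀ (k : ℕ) (y : M), (MvPolynomial.C c : MvPolynomial (Fin n) R) ^ k • y = c ^ k • y := fun k y => by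
      rw [← algebraMap_smul (MvPolynomial (Fin n) R) (c ^ k) y, map_pow]; rfl
    refine ⟨f * c, mul_ne_zero hf hc, ?_, ?_⟩
    · have hu : IsUnit (algebraMap R (Localization.Away (f * c)) (f * c)) :=
        IsLocalization.Away.algebraMap_isUnit _
      rw [map_mul, IsUnit.mul_iff] at hu
      have : Module.Flat R (Localization.Away (f * c)) := IsLocalization.flat _ (Submonoid.powers (f * c))
      have := free_of_isUnit (Localization.Away (f * c)) hu.1 N
      let θ : Localization.Away (f * c) ⊗[R] N →ₗ[Localization.Away (f * c)] Localization.Away (f * c) ⊗[R] M :=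
        (N.subtype.restrictScalars R).baseChange (Localization.Away (f * c))
      have hsurj : Function.Surjective θ := by
        intro x
        induction x using TensorProduct.induction_on with
        | zero => exact ⟨0, map_zero _⟩
        | add a b ha hb =>
          obtain ⟨u, rfl⟩ := ha
          obtain ⟨w, rfl⟩ := hb
          exact ⟨u + w, map_add _ _ _⟩
        | tmul a y =>
          obtain ⟨k, hk⟩ := hfin y
          rw [hcR] at hk
          obtain ⟨w, hw⟩ := (hu.2.pow k)
          refine ⟨((↑w⁻¹ : Localization.Away (f * c)) * a) ⊗ₜ ⟨c ^ k • y, hk⟩, ?_⟩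
          show ((↑w⁻¹ : Localization.Away (f * c)) * a) ⊗ₜ (c ^ k • y) = _
          rw [← TensorProduct.smul_tmul, Algebra.smul_def, map_pow, ← hw, Units.mul_inv_cancel_left]
      exact Module.Free.of_equiv (LinearEquiv.ofBijective θ
        ⟨Module.Flat.lTensor_preserves_injective_linearMap (N.subtype.restrictScalars R) Subtype.val_injective, hsurj⟩)
    · refine NearlyFP.change
        (ψ.toAlgHom.comp (IsScalarTower.toAlgHom R (MvPolynomial (Fin n) R) (Polynomial (MvPolynomial (Fin n) R))))
        (hnfp.mul c) N.subtype.toAddMonoidHom (fun p y => rfl) Subtype.val_injective fun y => ?_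
      obtain ⟨k, hk⟩ := hfin y
      rw [hcR] at hk
      refine ⟨k, ⟨f ^ k • c ^ k • y, N.smul_of_tower_mem (f ^ k) hk⟩, ?_⟩
      show f ^ k • c ^ k • y = _
      rw [smul_smul, ← mul_pow, ← map_pow, algebraMap_smul]

/-- Generic freeness for a finite module over a finite type algebra over a domain. -/
theorem exists_free_and_nearlyFP {S : Type u} [CommRing S] [Algebra R S] [Algebra.FiniteType R S]
    (M : Type u) [AddCommGroup M] [Module S M] [Module R M] [IsScalarTower R S M] [Module.Finite S M] :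
    ∃ f : R, f ≠ 0 ∧ Module.Free (Localization.Away f) (Localization.Away f ⊗[R] M) ∧ NearlyFP f S M := by
  obtain ⟨n, φ, hφ⟩ := Algebra.FiniteType.iff_quotient_mvPolynomial''.mp (inferInstance : Algebra.FiniteType R S)
  let _ : Module (MvPolynomial (Fin n) R) M := Module.compHom M φ.toRingHom
  have : IsScalarTower R (MvPolynomial (Fin n) R) M := IsScalarTower.of_algebraMap_smul fun r m => by
    show φ (algebraMap R _ r) • m = r • m
    rw [AlgHom.commutes, algebraMap_smul]
  obtain ⟨a, m, hm⟩ := Module.Finite.exists_fin (R := S) (M := M)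
  have hm' : Submodule.span (MvPolynomial (Fin n) R) (Set.range m) = ⊤ := by
    rw [eq_top_iff]
    intro x _
    have hx : x ∈ Submodule.span S (Set.range m) := by rw [hm]; trivial
    induction hx using Submodule.span_induction with
    | mem y hy => exact Submodule.subset_span hy
    | zero => exact zero_mem _
    | add y z _ _ hy hz => exact add_mem (hy trivial) (hz trivial)
    | smul s y _ hy =>
      obtain ⟨p, rfl⟩ := hφ s
      exact Submodule.smul_mem _ p (hy trivial)
  obtain ⟨f, hf, hfree, h⟩ := good_of_cyclic (good_quotient n) a M m hm'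
  exact ⟨f, hf, hfree, NearlyFP.change φ h (AddMonoidHom.id M) (fun _ _ => rfl) Function.injective_id
    fun x => ⟨0, x, by simp⟩⟩

/-- Nearly finitely presented modules are finitely presented after inverting `f`. -/
theorem NearlyFP.finitePresentation_localizedModule {R : Type u} [CommRing R] {P : Type u} [CommRing P]
    [Algebra R P] {M : Type u} [AddCommGroup M] [Module P M] {f : R} (h : NearlyFP f P M) :
    Module.FinitePresentation (Localization.Away (algebraMap R P f))
      (LocalizedModule (Submonoid.powers (algebraMap R P f)) M) := by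
  obtain ⟨a, π, hsurj, K, hK, hle, hker⟩ := h
  let T := Submonoid.powers (algebraMap R P f)
  let L := Localization.Away (algebraMap R P f)
  have hM₀ : Module.FinitePresentation P ((Fin a → P) ⧸ K) :=
    Module.finitePresentation_of_surjective K.mkQ K.mkQ_surjective (by rwa [Submodule.ker_mkQ])
  let π₀ : ((Fin a → P) ⧸ K) →ₗ[P] M := K.liftQ π hle
  have : Module.FinitePresentation L (LocalizedModule T ((Fin a → P) ⧸ K)) := inferInstance
  have hbij : Function.Bijective (LocalizedModule.map T π₀) := by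
    constructor
    · rw [injective_iff_map_eq_zero]
      intro z hz
      induction z using LocalizedModule.induction_on with
      | _ y s =>
        rw [LocalizedModule.map_mk] at hz
        obtain ⟨⟨_, k, rfl⟩, hk⟩ := (IsLocalizedModule.mk'_eq_zero' (LocalizedModule.mkLinearMap T M) s).mp
          (by rw [← IsLocalizedModule.mk_eq_mk']; exact hz)
        obtain ⟨y, rfl⟩ := K.mkQ_surjective y
        have hk0 : algebraMap R P f ^ k • y ∈ LinearMap.ker π := by
          rw [LinearMap.mem_ker, map_smul]; exact hk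
        obtain ⟨l, hl⟩ := hker _ hk0
        rw [IsLocalizedModule.mk_eq_mk', IsLocalizedModule.mk'_eq_zero']
        refine ⟨⟨_, l + k, rfl⟩, ?_⟩
        show algebraMap R P f ^ (l + k) • K.mkQ y = 0
        rw [← map_smul, Submodule.mkQ_apply, Submodule.Quotient.mk_eq_zero, pow_add, mul_smul]
        exact hl
    · intro z
      induction z using LocalizedModule.induction_on with
      | _ m s =>
        obtain ⟨k, v, hv⟩ := hsurj m
        refine ⟨LocalizedModule.mk (K.mkQ v) (⟨_, k, rfl⟩ * s), ?_⟩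
        rw [LocalizedModule.map_mk, show π₀ (K.mkQ v) = π v from rfl, hv, ← Submonoid.smul_def (⟨_, k, rfl⟩ : T)]
        exact LocalizedModule.mk_cancel_common_left _ _ _
  exact Module.FinitePresentation.of_equiv (LinearEquiv.ofBijective (LocalizedModule.map T π₀) hbij)

/-- A nearly finitely presented quotient algebra is cut out by a finitely generated ideal up to torsion. -/
theorem NearlyFP.exists_fg_ideal {R : Type u} [CommRing R] {P : Type u} [CommRing P] [Algebra R P]
    {S : Type u} [CommRing S] [Algebra P S] (hφ : Function.Surjective (algebraMap P S)) {f : R}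
    (h : NearlyFP f P S) :
    ∃ I : Ideal P, I.FG ∧ I ≤ RingHom.ker (algebraMap P S) ∧
      ∀ x ∈ RingHom.ker (algebraMap P S), ∃ k : ℕ, algebraMap R P f ^ k * x ∈ I := by
  obtain ⟨a, π, hsurj, K, hK, hle, hker⟩ := h
  obtain ⟨α, hα⟩ := Module.projective_lifting_property (Algebra.linearMap P S) π hφ
  obtain ⟨k, v, hv⟩ := hsurj 1
  let F := algebraMap R P f
  have hd : algebraMap P S (α v - F ^ k) = 0 := by
    rw [map_sub, ← Algebra.linearMap_apply, ← LinearMap.comp_apply, hα, hv, Algebra.smul_def, mul_one, sub_self]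
  refine ⟨K.map α ⊔ Ideal.span {α v - F ^ k}, Submodule.FG.sup (hK.map α) (Submodule.fg_span_singleton _),
    sup_le ?_ ?_, fun x hx => ?_⟩
  · rintro _ ⟨y, hy, rfl⟩
    show (Algebra.linearMap P S ∘ₗ α) y = 0
    rw [hα]
    exact hle hy
  · rw [Ideal.span_le, Set.singleton_subset_iff]
    exact hd
  · have h0 : x • v ∈ LinearMap.ker π := by
      have hx0 : algebraMap P S x = 0 := hx
      rw [LinearMap.mem_ker, map_smul, hv, smul_comm, Algebra.smul_def x, hx0, zero_mul, smul_zero]
    obtain ⟨l, hl⟩ := hker _ h0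
    refine ⟨l + k, ?_⟩
    have h1 : α (F ^ l • x • v) = F ^ l * (x * α v) := by simp [map_smul]
    have h2 : F ^ (l + k) * x = α (F ^ l • x • v) - (F ^ l * x) * (α v - F ^ k) := by rw [h1]; ring
    rw [h2]
    exact sub_mem (le_sup_left (b := Ideal.span {α v - F ^ k}) (Submodule.mem_map_of_mem hl))
      (Ideal.mul_mem_left _ _ (le_sup_right (a := (K.map α : Ideal P)) (Ideal.mem_span_singleton_self _)))

theorem ker_map_eq_of_torsion {R : Type u} [CommRing R] {P S : Type u} [CommRing P] [CommRing S]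
    [Algebra R P] [Algebra R S] (φ : P →ₐ[R] S) (hφ : Function.Surjective φ) {f : R} {I : Ideal P}
    (hle : I ≤ RingHom.ker φ) (htor : ∀ x ∈ RingHom.ker φ, ∃ k : ℕ, algebraMap R P f ^ k * x ∈ I)
    (R' : Type u) [CommRing R'] [Algebra R R'] (hf : IsUnit (algebraMap R R' f)) :
    RingHom.ker (Algebra.TensorProduct.map (AlgHom.id R R') φ) =
      I.map (Algebra.TensorProduct.includeRight : P →ₐ[R] R' ⊗[R] P) := by
  rw [Algebra.TensorProduct.lTensor_ker φ hφ]
  refine le_antisymm ?_ (Ideal.map_mono hle)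
  rw [Ideal.map_le_iff_le_comap]
  intro x hx
  obtain ⟨k, hk⟩ := htor x hx
  let incl := (Algebra.TensorProduct.includeRight : P →ₐ[R] R' ⊗[R] P)
  have hu : IsUnit (incl (algebraMap R P f ^ k)) := by
    rw [map_pow, AlgHom.commutes, IsScalarTower.algebraMap_apply R R' (R' ⊗[R] P)]
    exact (hf.map _).pow k
  have h2 : incl (algebraMap R P f ^ k * x) ∈ I.map incl := Ideal.mem_map_of_mem _ hk
  rw [map_mul] at h2
  rw [Ideal.mem_comap, ← hu.unit.inv_mul_cancel_left (incl x)]
  exact Ideal.mul_mem_left _ _ h2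

theorem finitePresentation_baseChange_quotient {R : Type u} [CommRing R] {S : Type u} [CommRing S]
    [Algebra R S] {n : ℕ} (φ : MvPolynomial (Fin n) R →ₐ[R] S) (hφ : Function.Surjective φ) {f : R}
    {I : Ideal (MvPolynomial (Fin n) R)} (hI : I.FG)
    (hle : I ≤ RingHom.ker φ) (htor : ∀ x ∈ RingHom.ker φ, ∃ k : ℕ, algebraMap R _ f ^ k * x ∈ I)
    (R' : Type u) [CommRing R'] [Algebra R R'] (hf : IsUnit (algebraMap R R' f)) :
    Algebra.FinitePresentation R' (R' ⊗[R] S) := by
  let ψ : R' ⊗[R] MvPolynomial (Fin n) R →ₐ[R'] R' ⊗[R] S := Algebra.TensorProduct.map (AlgHom.id R' R') φ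
  let e := (MvPolynomial.algebraTensorAlgEquiv R (σ := Fin n) R').symm
  have hψ : Function.Surjective ψ := fun x => by
    induction x using TensorProduct.induction_on with
    | zero => exact ⟨0, map_zero _⟩
    | tmul a b =>
      obtain ⟨c, rfl⟩ := hφ b
      exact ⟨a ⊗ₜ c, Algebra.TensorProduct.map_tmul _ _ _ _⟩
    | add a b ha hb =>
      obtain ⟨u, rfl⟩ := ha
      obtain ⟨v, rfl⟩ := hb
      exact ⟨u + v, map_add _ _ _⟩
  refine Algebra.FinitePresentation.of_surjective (f := ψ.comp e.toAlgHom) (hψ.comp e.surjective) ?_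
  have h1 : ∀ x, ψ x = Algebra.TensorProduct.map (AlgHom.id R R') φ x := fun x => by
    induction x using TensorProduct.induction_on with
    | zero => simp only [map_zero]
    | tmul a b => simp [ψ]
    | add a b ha hb => simp only [map_add, ha, hb]
  have h2 : RingHom.ker (ψ.comp e.toAlgHom).toRingHom =
      (I.map (Algebra.TensorProduct.includeRight : MvPolynomial (Fin n) R →ₐ[R] R' ⊗[R] MvPolynomial (Fin n) R)).map
        e.symm.toRingEquiv.toRingHom := by
    rw [← ker_map_eq_of_torsion φ hφ hle htor R' hf]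
    refine le_antisymm (fun x hx => ?_) (Ideal.map_le_iff_le_comap.mpr fun x hx => ?_)
    · have : e x ∈ RingHom.ker (Algebra.TensorProduct.map (AlgHom.id R R') φ) := by
        rw [RingHom.mem_ker, ← h1]; exact hx
      have h3 := Ideal.mem_map_of_mem e.symm.toRingEquiv.toRingHom this
      rwa [show e.symm.toRingEquiv.toRingHom (e x) = x from e.symm_apply_apply x] at h3
    · show ψ (e (e.symm x)) = 0
      rw [e.apply_symm_apply, h1]
      exact hx
  rw [h2]
  exact (hI.map _).map _

end Groth.L20.GF
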