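import Groth.Agent.L20.ModStalk
import Groth.Agent.L20.FlatLocusOpen
import Groth.Agent.L20.GenericFreeness
import Mathlib.AlgebraicGeometry.Morphisms.FiniteType
import Mathlib.RingTheory.Flat.Localization

/-!
# Flatness of quasi-coherent modules over a base on affine pieces
-/

set_option autoImplicit false
set_option linter.style.haveILetI false

universe u

open CategoryTheory AlgebraicGeometry TopologicalSpace
open scoped TensorProduct

namespace Groth.L20.ModStalk

variable {X S : Scheme.{u}}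

theorem stalkMap_germ {f : X ⟶ S} {W : S.Opens} {V : X.Opens} (hVW : V ≤ f ⁻¹ᵁ W) {x : X} (hx : x ∈ V)
    (hy : f x ∈ W) (a : Γ(S, W)) :
    f.stalkMap x (S.presheaf.germ W (f x) hy a) = X.presheaf.germ V x hx (f.appLE W V hVW a) := by
  rw [Scheme.Hom.germ_stalkMap_apply]
  show _ = X.presheaf.germ V x hx (X.presheaf.map (homOfLE hVW).op (f.app W a))
  rw [TopCat.Presheaf.germ_res_apply]

/-- Flatness of a quasi-coherent module over the base at a point, on affine pieces. -/
theorem isFlatOverAt_iff (f : X ⟶ S) (M : X.Modules) [Coh.IsQCoh M] {W : S.Opens} (hW : IsAffineOpen W)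
    {V : X.Opens} (hV : IsAffineOpen V) (hVW : V ≤ f ⁻¹ᵁ W) {x : X} (hx : x ∈ V) :
    FlatMod.IsFlatOverAt f M x ↔
      letI := (f.appLE W V hVW).hom.toAlgebra
      letI := Module.compHom Γ(M, V) (f.appLE W V hVW).hom
      haveI : IsScalarTower Γ(S, W) Γ(X, V) Γ(M, V) := IsScalarTower.of_algebraMap_smul fun _ _ => rfl
      Module.Flat Γ(S, W) (LocalizedModule (hV.primeIdealOf ⟨x, hx⟩).asIdeal.primeCompl Γ(M, V)) := by
  letI := (f.appLE W V hVW).hom.toAlgebra
  letI := Module.compHom Γ(M, V) (f.appLE W V hVW).hom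
  haveI : IsScalarTower Γ(S, W) Γ(X, V) Γ(M, V) := IsScalarTower.of_algebraMap_smul fun _ _ => rfl
  letI := stalkModule M hx
  haveI := isLocalizedModule_germ M hV hx
  letI : Module Γ(S, W) (M.presheaf.stalk x) :=
    Module.compHom _ ((X.presheaf.germ V x hx).hom.comp (f.appLE W V hVW).hom)
  haveI : IsScalarTower Γ(S, W) Γ(X, V) (M.presheaf.stalk x) := IsScalarTower.of_algebraMap_smul fun _ _ => rfl
  let e := (IsLocalizedModule.linearEquiv (hV.primeIdealOf ⟨x, hx⟩).asIdeal.primeCompl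
    (LocalizedModule.mkLinearMap (hV.primeIdealOf ⟨x, hx⟩).asIdeal.primeCompl Γ(M, V)) (germₗ M hx)).restrictScalars Γ(S, W)
  rw [Module.Flat.equiv_iff e]
  letI := S.presheaf.algebra_section_stalk ⟨f x, hVW hx⟩
  haveI := hW.isLocalization_stalk ⟨f x, hVW hx⟩
  letI := FlatMod.moduleStalkOver f M x
  haveI : IsScalarTower Γ(S, W) (S.presheaf.stalk (f x)) (M.presheaf.stalk x) :=
    IsScalarTower.of_algebraMap_smul fun a m => by
      show (f.stalkMap x).hom (S.presheaf.germ W (f x) (hVW hx) a) • m =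
        (X.presheaf.germ V x hx).hom ((f.appLE W V hVW).hom a) • m
      congr 1
      exact stalkMap_germ hVW hx (hVW hx) a
  exact Module.flat_iff_of_isLocalization (S.presheaf.stalk (f x)) (hW.primeIdealOf ⟨f x, hVW hx⟩).asIdeal.primeCompl
    (M.presheaf.stalk x)

/-- Generic freeness gives flatness at all primes avoiding the element. -/
theorem flat_of_free_away {R A N : Type u} [CommRing R] [CommRing A] [Algebra R A] [AddCommGroup N] [Module A N]
    [Module R N] [IsScalarTower R A N] {f : R} (h : Module.Free (Localization.Away f) (Localization.Away f ⊗[R] N))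
    (T : Submonoid A) (hf : algebraMap R A f ∈ T) : Module.Flat R (LocalizedModule T N) := by
  haveI := h
  haveI : Module.Flat (Localization.Away f) (LocalizedModule (Submonoid.powers f) N) :=
    Module.Flat.of_linearEquiv (LocalizedModule.equivTensorProduct (Submonoid.powers f) N)
  haveI : Module.Flat R (LocalizedModule (Submonoid.powers f) N) :=
    Module.Flat.trans R (Localization.Away f) _
  refine Groth.L20.flat_localizedModule_of_forall T fun J z hz => ?_
  obtain ⟨_, ⟨k, rfl⟩, hk⟩ :=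
    Groth.L20.exists_smul_eq_zero_of_flat (S := R) (Submonoid.powers f) J.subtype Subtype.val_injective z hz
  refine ⟨algebraMap R A f ^ k, pow_mem hf k, ?_⟩
  rw [← map_pow, algebraMap_smul]
  exact hk

/-- Generic flatness of a module on an integral base, given finiteness on affine opens. -/
theorem exists_generic_flat [IsIntegral S] (f : X ⟶ S) [LocallyOfFiniteType f] [QuasiCompact f]
    (M : X.Modules) [Coh.IsQCoh M] (hM : ∀ V : X.Opens, IsAffineOpen V → Module.Finite Γ(X, V) Γ(M, V)) :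
    ∃ U : S.Opens, (U : Set S).Nonempty ∧ ∀ x : X, f.base x ∈ U → FlatMod.IsFlatOverAt f M x := by
  classical
  obtain ⟨u⟩ := (inferInstance : Nonempty S)
  obtain ⟨_, ⟨W, hW, rfl⟩, huW, -⟩ :=
    S.isBasis_affineOpens.exists_subset_of_mem_open (Set.mem_univ u) isOpen_univ
  haveI : Nonempty W := ⟨⟨u, huW⟩⟩
  haveI : IsDomain Γ(S, W) := inferInstance
  have hcpt : IsCompact (f ⁻¹ᵁ W : Set X) := f.isCompact_preimage hW.isCompact
  have hcov : ∀ x : (f ⁻¹ᵁ W : Set X), ∃ V : X.affineOpens, x.1 ∈ V.1 ∧ V.1 ≤ f ⁻¹ᵁ W := fun x => by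
    obtain ⟨_, ⟨V, hV, rfl⟩, hxV, hVW⟩ :=
      X.isBasis_affineOpens.exists_subset_of_mem_open x.2 (f ⁻¹ᵁ W).2
    exact ⟨⟨V, hV⟩, hxV, hVW⟩
  choose V hxV hVW using hcov
  obtain ⟨s, hs⟩ := hcpt.elim_finite_subcover (fun x => ((V x).1 : Set X)) (fun x => (V x).1.2)
    (fun x hx => Set.mem_iUnion.mpr ⟨⟨x, hx⟩, hxV ⟨x, hx⟩⟩)
  have hgen : ∀ i, ∃ g : Γ(S, W), g ≠ 0 ∧
      (letI := (f.appLE W (V i) (hVW i)).hom.toAlgebra
       letI := Module.compHom Γ(M, V i) (f.appLE W (V i) (hVW i)).hom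
       Module.Free (Localization.Away g) (Localization.Away g ⊗[Γ(S, W)] Γ(M, V i))) := fun i => by
    letI := (f.appLE W (V i) (hVW i)).hom.toAlgebra
    letI := Module.compHom Γ(M, V i) (f.appLE W (V i) (hVW i)).hom
    haveI : IsScalarTower Γ(S, W) Γ(X, (V i).1) Γ(M, V i) := IsScalarTower.of_algebraMap_smul fun _ _ => rfl
    haveI : Algebra.FiniteType Γ(S, W) Γ(X, (V i).1) :=
      RingHom.finiteType_algebraMap.mp (f.finiteType_appLE hW (V i).2 (hVW i))
    haveI := hM (V i) (V i).2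
    obtain ⟨g, hg, hfree, -⟩ := Groth.L20.GF.exists_free_and_nearlyFP (R := Γ(S, W)) (S := Γ(X, (V i).1)) Γ(M, V i)
    exact ⟨g, hg, hfree⟩
  choose g hg hfree using hgen
  refine ⟨S.basicOpen (∏ i ∈ s, g i), ?_, fun x hx => ?_⟩
  · by_contra hemp
    rw [Set.not_nonempty_iff_eq_empty] at hemp
    exact (Finset.prod_ne_zero_iff.mpr fun i _ => hg i)
      ((basicOpen_eq_bot_iff _).mp (TopologicalSpace.Opens.ext hemp))
  obtain ⟨i, hi, hxi⟩ : ∃ i ∈ s, x ∈ (V i).1 := by
    simpa [Set.mem_iUnion] using hs (S.basicOpen_le _ hx : x ∈ f ⁻¹ᵁ W)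
  rw [isFlatOverAt_iff f M hW (V i).2 (hVW i) hxi]
  letI := (f.appLE W (V i) (hVW i)).hom.toAlgebra
  letI := Module.compHom Γ(M, V i) (f.appLE W (V i) (hVW i)).hom
  haveI : IsScalarTower Γ(S, W) Γ(X, (V i).1) Γ(M, V i) := IsScalarTower.of_algebraMap_smul fun _ _ => rfl
  refine flat_of_free_away (A := Γ(X, (V i).1)) (hfree i) _ ?_
  intro hmem
  have hxg : f x ∈ S.basicOpen (g i) := by
    obtain ⟨c, hc⟩ := Finset.dvd_prod_of_mem g hi
    rw [hc, Scheme.basicOpen_mul] at hx
    exact hx.1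
  have hxb : x ∈ X.basicOpen (f.appLE W (V i) (hVW i) (g i)) := by
    have : X.basicOpen (f.appLE W (V i) (hVW i) (g i)) = (V i).1 ⊓ f ⁻¹ᵁ S.basicOpen (g i) := by
      simp [Scheme.Hom.appLE, Scheme.basicOpen_res]
    rw [this]
    exact ⟨hxi, hxg⟩
  letI := X.presheaf.algebra_section_stalk ⟨x, hxi⟩
  haveI := (V i).2.isLocalization_stalk ⟨x, hxi⟩
  exact (IsLocalRing.mem_maximalIdeal _).mp
    ((IsLocalization.AtPrime.to_map_mem_maximal_iff (X.presheaf.stalk x) ((V i).2.primeIdealOf ⟨x, hxi⟩).asIdeal _).mpr hmem)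
    ((Scheme.mem_basicOpen X _ x hxi).mp hxb)

end Groth.L20.ModStalk
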