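import Groth.Prelude.Def_MoreMor
import Mathlib.AlgebraicGeometry.QuasiAffine
import Mathlib.AlgebraicGeometry.Morphisms.Immersion
import Mathlib.AlgebraicGeometry.Morphisms.QuasiSeparated
import Mathlib.AlgebraicGeometry.Pullbacks
import Mathlib.AlgebraicGeometry.Morphisms.Separated

/-!
# Quasi-affine schemes and ind-quasi-affine morphisms
-/

universe u

open CategoryTheory CategoryTheory.Limits AlgebraicGeometry TopologicalSpace

namespace Groth.L20

variable {X Y Z : Scheme.{u}}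

theorem isQuasiAffine_of_le {U W : X.Opens} (h : U ≤ W) [(W : Scheme).IsQuasiAffine]
    (hU : IsCompact (U : Set X)) : (U : Scheme).IsQuasiAffine :=
  have : CompactSpace U := isCompact_iff_compactSpace.mp hU
  Scheme.IsQuasiAffine.of_isImmersion (X.homOfLE h)

/-- A compact scheme covered by quasi-affine basic opens of global sections is quasi-affine. -/
theorem isQuasiAffine_of_forall_exists_basicOpen (X : Scheme.{u}) [CompactSpace X]
    (H : ∀ x : X, ∃ r : Γ(X, ⊤), x ∈ X.basicOpen r ∧ (X.basicOpen r : Scheme).IsQuasiAffine) :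
    X.IsQuasiAffine := by
  choose r hxr hr using H
  have : QuasiSeparatedSpace X :=
    .of_isOpenCover (U := (X.basicOpen <| r ·))
      (eq_top_iff.mpr fun _ _ ↦ Opens.mem_iSup.mpr ⟨_, hxr _⟩)
      (fun _ ↦ isRetrocompact_basicOpen _) fun x ↦ by
        have := hr x
        exact (isQuasiSeparated_iff_quasiSeparatedSpace _ (X.basicOpen (r x)).2).mpr
          (inferInstance : QuasiSeparatedSpace ((X.basicOpen (r x) : X.Opens) : Scheme))
  refine Scheme.IsQuasiAffine.of_forall_exists_mem_basicOpen X fun x => ?_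
  let D := X.basicOpen (r x)
  have := hr x
  obtain ⟨_, ⟨_, ⟨s, hs, rfl⟩, rfl⟩, hxs, -⟩ := (Scheme.IsQuasiAffine.isBasis_basicOpen
    (D : Scheme)).exists_subset_of_mem_open (Set.mem_univ (⟨x, hxr x⟩ : D)) isOpen_univ
  let s₁ : Γ(X, D.ι ''ᵁ ⊤) := (D.ι.appIso ⊤).inv s
  have h₁ : D.ι ''ᵁ (D : Scheme).basicOpen s = X.basicOpen s₁ := Scheme.image_basicOpen D.ι s
  let s₂ : Γ(X, D) := X.presheaf.map (eqToHom D.ι_image_top.symm).op s₁
  have h₂ : X.basicOpen s₂ = X.basicOpen s₁ := X.basicOpen_res_eq _ _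
  obtain ⟨n, y, hy⟩ := exists_eq_pow_mul_of_isCompact_of_isQuasiSeparated X ⊤ isCompact_univ
    isQuasiSeparated_univ (r x) s₂
  refine ⟨y * r x, ?_⟩
  have heq : X.basicOpen (y * r x) = X.basicOpen s₁ := by
    rw [X.basicOpen_mul, ← h₂]
    have h3 : X.basicOpen (y |_ D) = D ⊓ X.basicOpen y := X.basicOpen_res _ _
    change X.basicOpen y ⊓ D = _
    rw [inf_comm, ← h3, hy, X.basicOpen_mul]
    refine inf_eq_right.mpr ((X.basicOpen_le s₂).trans ?_)
    rcases n.eq_zero_or_pos with rfl | hn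
    · rw [pow_zero, X.basicOpen_of_isUnit isUnit_one]
    · rw [X.basicOpen_pow _ hn]
      exact (inf_eq_left.mpr le_rfl).ge.trans (X.basicOpen_res _ _).ge
  rw [heq, ← h₁]
  exact ⟨hs.image_of_isOpenImmersion D.ι, ⟨⟨x, hxr x⟩, hxs, rfl⟩⟩

/-- A scheme over a quasi-affine scheme, quasi-affine over its affine opens, is quasi-affine. -/
theorem isQuasiAffine_of_hom (f : X ⟶ Y) [CompactSpace X] [Y.IsQuasiAffine]
    (h : ∀ V : Y.Opens, IsAffineOpen V → (f ⁻¹ᵁ V : Scheme).IsQuasiAffine) : X.IsQuasiAffine := by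
  refine isQuasiAffine_of_forall_exists_basicOpen X fun x => ?_
  obtain ⟨_, ⟨_, ⟨r, hr, rfl⟩, rfl⟩, hxr, -⟩ := (Scheme.IsQuasiAffine.isBasis_basicOpen
    Y).exists_subset_of_mem_open (Set.mem_univ (f x)) isOpen_univ
  refine ⟨f.appTop r, ?_⟩
  rw [← Scheme.preimage_basicOpen_top]
  exact ⟨hxr, h _ hr⟩

theorem isIndQuasiAffineHom_iff (f : X ⟶ Y) :
    MoreMor.IsIndQuasiAffineHom f ↔ ∀ V : Y.Opens, IsAffineOpen V → ∀ U : X.Opens,
      U ≤ f ⁻¹ᵁ V → IsCompact (U : Set X) → (U : Scheme).IsQuasiAffine := by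
  constructor
  · intro h V hV U hle hU
    have : CompactSpace U := isCompact_iff_compactSpace.mp hU
    let j := X.homOfLE hle
    have := h V hV j.opensRange (isCompact_range j.continuous)
    exact Scheme.IsQuasiAffine.of_isImmersion j.isoOpensRange.hom
  · intro h V hV U hU
    have hc : IsCompact (((f ⁻¹ᵁ V).ι ''ᵁ U : X.Opens) : Set X) := hU.image (f ⁻¹ᵁ V).ι.continuous
    have := h V hV _ ((f ⁻¹ᵁ V).ι_image_le U) hc
    have : CompactSpace U := isCompact_iff_compactSpace.mp hU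
    exact Scheme.IsQuasiAffine.of_isImmersion ((f ⁻¹ᵁ V).ι.isoImage U).hom

theorem exists_isCompact_open_between {s : Set X} (hs : IsCompact s) {W : X.Opens}
    (h : s ⊆ W) : ∃ U : X.Opens, IsCompact (U : Set X) ∧ s ⊆ U ∧ U ≤ W := by
  have hb : ∀ x : s, ∃ A : X.Opens, IsAffineOpen A ∧ x.1 ∈ A ∧ A ≤ W := fun x => by
    obtain ⟨A, hA, hxA, hle⟩ := Opens.isBasis_iff_nbhd.mp X.isBasis_affineOpens (h x.2)
    exact ⟨A, hA, hxA, hle⟩
  choose A hA hxA hle using hb
  obtain ⟨t, ht⟩ := hs.elim_finite_subcover (fun x => (A x : Set X)) (fun x => (A x).2)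
    fun x hx => Set.mem_iUnion.mpr ⟨⟨x, hx⟩, hxA _⟩
  refine ⟨⟨⋃ x ∈ t, (A x : Set X), isOpen_biUnion fun x _ => (A x).2⟩, ?_, ht, ?_⟩
  · exact t.isCompact_biUnion fun x _ => (hA x).isCompact
  · exact Set.iUnion₂_subset fun x _ => hle x

theorem isIndQuasiAffineHom_of_isImmersion (f : X ⟶ Y) [IsImmersion f] :
    MoreMor.IsIndQuasiAffineHom f := by
  rw [isIndQuasiAffineHom_iff]
  intro V hV U hle hU
  have : CompactSpace U := isCompact_iff_compactSpace.mp hU
  have : IsAffine V := hV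
  have : IsImmersion (f.resLE V U hle ≫ V.ι) := by
    rw [Scheme.Hom.resLE_comp_ι]; infer_instance
  have : IsImmersion (f.resLE V U hle) := IsImmersion.of_comp _ V.ι
  exact Scheme.IsQuasiAffine.of_isImmersion (f.resLE V U hle)

theorem isIndQuasiAffineHom_of_isQuasiAffineHom (f : X ⟶ Y) (h : MoreMor.IsQuasiAffineHom f) :
    MoreMor.IsIndQuasiAffineHom f := by
  rw [isIndQuasiAffineHom_iff]
  intro V hV U hle hU
  have := h.2 V hV
  exact isQuasiAffine_of_le hle hU

theorem isQuasiAffineHom_resLE {f : X ⟶ Y} (hf : MoreMor.IsIndQuasiAffineHom f) {V : Y.Opens}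
    (hV' : IsQuasiSeparated (V : Set Y)) {U : X.Opens} (hle : U ≤ f ⁻¹ᵁ V)
    (hU : IsCompact (U : Set X)) : MoreMor.IsQuasiAffineHom (f.resLE V U hle) := by
  rw [isIndQuasiAffineHom_iff] at hf
  have : CompactSpace U := isCompact_iff_compactSpace.mp hU
  have : QuasiSeparatedSpace V := (isQuasiSeparated_iff_quasiSeparatedSpace _ V.2).mp hV'
  refine ⟨inferInstance, fun D hD => ?_⟩
  let P := f.resLE V U hle ⁻¹ᵁ D
  have hPc : IsCompact (P : Set U) :=
    (f.resLE V U hle).isCompact_preimage hD.isCompact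
  have hsub : U.ι ''ᵁ P ≤ f ⁻¹ᵁ (V.ι ''ᵁ D) := by
    rintro _ ⟨z, hz, rfl⟩
    exact ⟨f.resLE V U hle z, hz, by
      erw [← Scheme.Hom.comp_apply, Scheme.Hom.resLE_comp_ι]; rfl⟩
  have := hf _ (hD.image_of_isOpenImmersion V.ι) _ hsub (hPc.image U.ι.continuous)
  have : CompactSpace P := isCompact_iff_compactSpace.mp hPc
  exact Scheme.IsQuasiAffine.of_isImmersion (U.ι.isoImage P).hom

theorem isIndQuasiAffineHom_comp {f : X ⟶ Y} {g : Y ⟶ Z} (hf : MoreMor.IsIndQuasiAffineHom f)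
    (hg : MoreMor.IsIndQuasiAffineHom g) : MoreMor.IsIndQuasiAffineHom (f ≫ g) := by
  rw [isIndQuasiAffineHom_iff] at hg ⊢
  intro W hW U hle hU
  obtain ⟨V, hVc, hUV, hVW⟩ := exists_isCompact_open_between (hU.image f.continuous) (W := g ⁻¹ᵁ W)
    (by rintro _ ⟨x, hx, rfl⟩; exact hle hx)
  have := hg W hW V hVW hVc
  have hle' : U ≤ f ⁻¹ᵁ V := fun x hx => hUV ⟨x, hx, rfl⟩
  have hqs : IsQuasiSeparated (V : Set Y) :=
    (isQuasiSeparated_iff_quasiSeparatedSpace _ V.2).mpr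
      (inferInstance : QuasiSeparatedSpace (V : Scheme))
  have : CompactSpace U := isCompact_iff_compactSpace.mp hU
  exact isQuasiAffine_of_hom (f.resLE V U hle') (isQuasiAffineHom_resLE hf hqs hle' hU).2

theorem isIndQuasiAffineHom_of_isPullback {S X' S' : Scheme.{u}} {f : X ⟶ S} {f' : X' ⟶ S'}
    {g' : X' ⟶ X} {g : S' ⟶ S} (hc : IsPullback g' f' f g) (hf : MoreMor.IsIndQuasiAffineHom f) :
    MoreMor.IsIndQuasiAffineHom f' := by
  rw [isIndQuasiAffineHom_iff] at hf ⊢
  -- the case where the base maps into an affine open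
  have key : ∀ (V' : S'.Opens) (W : S.Opens), IsAffineOpen V' → IsAffineOpen W → V' ≤ g ⁻¹ᵁ W →
      ∀ U : X'.Opens, U ≤ f' ⁻¹ᵁ V' → IsCompact (U : Set X') → (U : Scheme).IsQuasiAffine := by
    intro V' W hV' hW hVW U hUV hU
    have hgU : g' '' U ⊆ (f ⁻¹ᵁ W : X.Opens) := by
      rintro _ ⟨x, hx, rfl⟩
      show f (g' x) ∈ W
      rw [← Scheme.Hom.comp_apply, hc.w, Scheme.Hom.comp_apply]
      exact hVW (hUV hx)
    obtain ⟨U₀, hU₀c, hUU₀, hU₀W⟩ := exists_isCompact_open_between (hU.image g'.continuous) hgU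
    have := hf W hW U₀ hU₀W hU₀c
    have : IsAffine W := hW
    have : IsAffine V' := hV'
    have : CompactSpace U := isCompact_iff_compactSpace.mp hU
    have hUU₀' : U ≤ g' ⁻¹ᵁ U₀ := fun x hx => hUU₀ ⟨x, hx, rfl⟩
    -- the map to `X`'s affine envelope
    let q := f.resLE W U₀ hU₀W
    let b : Spec Γ(U₀, ⊤) ⟶ W := Spec.map q.appTop ≫ (W : Scheme).isoSpec.inv
    have hb : (U₀ : Scheme).toSpecΓ ≫ b = q := by
      simp only [b, ← Scheme.toSpecΓ_naturality_assoc]
      erw [(W : Scheme).toSpecΓ_isoSpec_inv, Category.comp_id]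
    let c := g.resLE W V' hVW
    let p₀ := g'.resLE U₀ U hUU₀'
    let p₁ := f'.resLE V' U hUV
    have hw : p₀ ≫ q = p₁ ≫ c := by
      simp only [p₀, q, p₁, c, Scheme.Hom.resLE_comp_resLE]
      congr 1
      exact hc.w
    let u : (U : Scheme) ⟶ pullback b c :=
      pullback.lift (p₀ ≫ (U₀ : Scheme).toSpecΓ) p₁ (by rw [Category.assoc, hb, hw])
    -- `u` factors through `U₀ ×_W V'`
    let v : (U : Scheme) ⟶ pullback q c := pullback.lift p₀ p₁ hw
    let m : pullback q c ⟶ pullback b c :=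
      pullback.map _ _ _ _ (U₀ : Scheme).toSpecΓ (𝟙 _) (𝟙 _) (by simp [hb]) (by simp)
    let k : pullback q c ⟶ X' := hc.lift (pullback.fst _ _ ≫ U₀.ι) (pullback.snd _ _ ≫ V'.ι) (by
      rw [Category.assoc, Category.assoc, ← Scheme.Hom.resLE_comp_ι f hU₀W,
        ← Scheme.Hom.resLE_comp_ι g hVW, ← Category.assoc, ← Category.assoc]
      congr 1
      exact pullback.condition)
    have hvk : v ≫ k = U.ι := by
      apply hc.hom_ext
      · simp only [v, k, p₀, Category.assoc, hc.lift_fst, pullback.lift_fst_assoc,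
          Scheme.Hom.resLE_comp_ι]
      · simp only [v, k, p₁, Category.assoc, hc.lift_snd, pullback.lift_snd_assoc,
          Scheme.Hom.resLE_comp_ι]
    have : IsImmersion (v ≫ k) := by rw [hvk]; infer_instance
    have : IsImmersion v := IsImmersion.of_comp v k
    have hu : u = v ≫ m := by
      apply pullback.hom_ext
      · simp only [u, v, m, pullback.map, Category.assoc, pullback.lift_fst, pullback.lift_fst_assoc]
      · simp only [u, v, m, pullback.map, Category.assoc, pullback.lift_snd, pullback.lift_snd_assoc,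
          Category.comp_id]
    have : IsImmersion u := by rw [hu]; infer_instance
    exact Scheme.IsQuasiAffine.of_isImmersion u
  intro V' hV' U hUV hU
  have : CompactSpace U := isCompact_iff_compactSpace.mp hU
  refine isQuasiAffine_of_forall_exists_basicOpen _ fun x => ?_
  obtain ⟨W, hW, hxW, -⟩ := Opens.isBasis_iff_nbhd.mp S.isBasis_affineOpens
    (Opens.mem_top (g (f' x.1)))
  obtain ⟨r, hr, hxr⟩ := hV'.exists_basicOpen_le (V := g ⁻¹ᵁ W) ⟨f' x.1, hxW⟩ (hUV x.2)
  let U' : X'.Opens := U ⊓ f' ⁻¹ᵁ S'.basicOpen r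
  let s₁ : Γ(X', U) := f'.appLE V' U hUV r
  have hs₁ : X'.basicOpen s₁ = U' := by
    simp only [s₁, U', Scheme.Hom.appLE, CommRingCat.comp_apply, Scheme.basicOpen_res,
      ← Scheme.preimage_basicOpen]
  let s : Γ(U, ⊤) := U.topIso.inv s₁
  have hs : U.ι ''ᵁ (U : Scheme).basicOpen s = U' := by
    rw [Scheme.image_basicOpen, ← hs₁]
    simp only [s, Scheme.Opens.ι_appIso, Scheme.Opens.topIso_inv]
    exact X'.basicOpen_res_eq _ _
  refine ⟨s, ?_, ?_⟩
  · have : x.1 ∈ U.ι ''ᵁ (U : Scheme).basicOpen s := hs.ge ⟨x.2, hxr⟩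
    obtain ⟨y, hy, e⟩ := this
    rwa [U.ι.isOpenEmbedding.injective e] at hy
  · have hc' : IsCompact ((U : Scheme).basicOpen s : Set U) :=
      isCompact_basicOpen (U : Scheme) (U := ⊤) isCompact_univ _
    have hU'c : IsCompact (U' : Set X') := hs ▸ hc'.image U.ι.continuous
    have := key (S'.basicOpen r) W (hV'.basicOpen r) hW hr U' inf_le_right hU'c
    have : CompactSpace ((U : Scheme).basicOpen s) := isCompact_iff_compactSpace.mp hc'
    exact Scheme.IsQuasiAffine.of_isImmersion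
      ((U.ι.isoImage ((U : Scheme).basicOpen s)).hom ≫ (X'.isoOfEq hs).hom)

theorem isIndQuasiAffineHom_of_comp {f : X ⟶ Y} {g : Y ⟶ Z}
    (h : MoreMor.IsIndQuasiAffineHom (f ≫ g)) : MoreMor.IsIndQuasiAffineHom f := by
  let G : X ⟶ pullback (f ≫ g) g := pullback.lift (𝟙 X) f (by simp)
  have : IsImmersion (G ≫ pullback.fst (f ≫ g) g) := by simp only [G, pullback.lift_fst]; infer_instance
  have : IsImmersion G := IsImmersion.of_comp G (pullback.fst (f ≫ g) g)
  have := isIndQuasiAffineHom_comp (isIndQuasiAffineHom_of_isImmersion G)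
    (isIndQuasiAffineHom_of_isPullback (IsPullback.of_hasPullback (f ≫ g) g) h)
  have e : G ≫ pullback.snd (f ≫ g) g = f := pullback.lift_snd _ _ _
  rwa [e] at this

end Groth.L20
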