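import Groth.Prelude.Def_MoreMor
import Mathlib.AlgebraicGeometry.Morphisms.UniversallyOpen
import Mathlib.AlgebraicGeometry.Morphisms.UniversallyClosed
import Mathlib.AlgebraicGeometry.Morphisms.UniversallyInjective
import Mathlib.AlgebraicGeometry.Morphisms.QuasiSeparated
import Mathlib.AlgebraicGeometry.Morphisms.ClosedImmersion
import Mathlib.AlgebraicGeometry.PullbackCarrier
import Mathlib.AlgebraicGeometry.Morphisms.Separated

/-!
# Topological properties and thickenings
-/

universe u

open CategoryTheory CategoryTheory.Limits AlgebraicGeometry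

namespace Groth.L20.Thick

variable {X Y Z : Scheme.{u}}

theorem universallyOpen_of_surjective_closedImmersion (i : X ⟶ Y) [IsClosedImmersion i] [Surjective i] :
    UniversallyOpen i := by
  constructor
  intro X' Y' a b i' h
  have : IsClosedImmersion i' := MorphismProperty.of_isPullback h.flip inferInstance
  have : Surjective i' := MorphismProperty.of_isPullback h.flip inferInstance
  exact ((i'.isClosedEmbedding.isEmbedding).toHomeomorphOfSurjective i'.surjective).isOpenMap

theorem universallyOpen_of_comp_surjective (f : X ⟶ Y) (g : Y ⟶ Z)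
    [UniversallyOpen (f ≫ g)] [Surjective f] : UniversallyOpen g := by
  constructor
  intro X' Y' i₁ i₂ f' H
  have := UniversallyOpen.universally_isOpenMap _ _ _ ((IsPullback.of_hasPullback i₁ f).paste_horiz H)
  exact IsOpenMap.of_comp (Scheme.Hom.continuous _)
    (Scheme.Hom.surjective (pullback.fst i₁ f)) this

theorem universallyInjective_of_comp_surjective (f : X ⟶ Y) (g : Y ⟶ Z)
    [UniversallyInjective (f ≫ g)] [Surjective f] : UniversallyInjective g := by
  constructor
  intro X' Y' i₁ i₂ f' H a b hab
  have hinj := UniversallyInjective.universally_injective _ _ _ ((IsPullback.of_hasPullback i₁ f).paste_horiz H)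
  have hs : Function.Surjective (pullback.fst i₁ f) := (pullback.fst i₁ f).surjective
  obtain ⟨a, rfl⟩ := hs a
  obtain ⟨b, rfl⟩ := hs b
  refine congrArg _ (hinj ?_)
  exact hab

theorem quasiCompact_of_comp_surjective (f : X ⟶ Y) (g : Y ⟶ Z)
    [QuasiCompact (f ≫ g)] [Surjective f] : QuasiCompact g := by
  refine ⟨fun U hU hU' => ?_⟩
  have h := ((f ≫ g).isSpectralMap.isCompact_preimage_of_isOpen hU hU').image f.continuous
  have he : f '' ((f ≫ g) ⁻¹' U) = g ⁻¹' U := by
    rw [show ((f ≫ g) ⁻¹' U) = f ⁻¹' (g ⁻¹' U) from rfl, Set.image_preimage_eq _ f.surjective]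
  rwa [he] at h

theorem quasiSeparated_of_comp_surjective (f : X ⟶ Y) (g : Y ⟶ Z)
    [QuasiSeparated (f ≫ g)] [Surjective f] [QuasiCompact f] : QuasiSeparated g := by
  constructor
  have hm : QuasiCompact (pullback.map (f ≫ g) (f ≫ g) g g f f (𝟙 Z) (Category.comp_id _) (Category.comp_id _)) :=
    MorphismProperty.pullbackMap (P := @QuasiCompact) ‹_› ‹_› rfl rfl
  have heq : f ≫ pullback.diagonal g = pullback.diagonal (f ≫ g) ≫
      pullback.map (f ≫ g) (f ≫ g) g g f f (𝟙 Z) (Category.comp_id _) (Category.comp_id _) := by
    apply pullback.hom_ext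
    · rw [Category.assoc, Category.assoc, pullback.diagonal_fst, pullback.map, pullback.lift_fst,
        pullback.diagonal_fst_assoc, Category.comp_id]
    · rw [Category.assoc, Category.assoc, pullback.diagonal_snd, pullback.map, pullback.lift_snd,
        pullback.diagonal_snd_assoc, Category.comp_id]
  have : QuasiCompact (f ≫ pullback.diagonal g) := by rw [heq]; infer_instance
  exact quasiCompact_of_comp_surjective f (pullback.diagonal g)

theorem isSeparated_of_comp_surjective (f : X ⟶ Y) (g : Y ⟶ Z)
    [IsSeparated (f ≫ g)] [Surjective f] [UniversallyClosed f] : IsSeparated g := by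
  constructor
  have hm : UniversallyClosed (pullback.map (f ≫ g) (f ≫ g) g g f f (𝟙 Z) (Category.comp_id _) (Category.comp_id _)) :=
    MorphismProperty.pullbackMap (P := @UniversallyClosed) ‹_› ‹_› rfl rfl
  have heq : f ≫ pullback.diagonal g = pullback.diagonal (f ≫ g) ≫
      pullback.map (f ≫ g) (f ≫ g) g g f f (𝟙 Z) (Category.comp_id _) (Category.comp_id _) := by
    apply pullback.hom_ext
    · rw [Category.assoc, Category.assoc, pullback.diagonal_fst, pullback.map, pullback.lift_fst,
        pullback.diagonal_fst_assoc, Category.comp_id]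
    · rw [Category.assoc, Category.assoc, pullback.diagonal_snd, pullback.map, pullback.lift_snd,
        pullback.diagonal_snd_assoc, Category.comp_id]
  refine IsClosedImmersion.of_isPreimmersion _ ?_
  rw [← f.surjective.range_comp (pullback.diagonal g), ← TopCat.coe_comp, ← Scheme.Hom.comp_base, heq,
    Scheme.Hom.comp_base, TopCat.coe_comp, Set.range_comp]
  exact Scheme.Hom.isClosedMap _ _ (pullback.diagonal (f ≫ g)).isClosedEmbedding.isClosed_range

end Groth.L20.Thick
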