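import Groth.Agent.L20.FlatLocusOpen
import Mathlib.RingTheory.TensorProduct.IsBaseChangePi
import Mathlib.RingTheory.TensorProduct.MvPolynomial

/-!
# Base change of presentations and descent of flatness at a prime to a finitely generated stage
-/

set_option autoImplicit false
set_option linter.style.haveILetI false

universe u

open scoped TensorProduct

namespace Groth.L20.FibreCrit

/-- Base change of a quotient. -/
theorem isBaseChange_quotient {A A' F₀ F M₀ M : Type*} [CommRing A] [CommRing A'] [Algebra A A']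
    [AddCommGroup F₀] [Module A F₀] [AddCommGroup F] [Module A F] [Module A' F] [IsScalarTower A A' F]
    [AddCommGroup M₀] [Module A M₀] [AddCommGroup M] [Module A M] [Module A' M] [IsScalarTower A A' M]
    {j : F₀ →ₗ[A] F} (hj : IsBaseChange A' j) (p₀ : F₀ →ₗ[A] M₀) (hp₀ : Function.Surjective p₀)
    (p : F →ₗ[A'] M) (hp : Function.Surjective p) (h : M₀ →ₗ[A] M) (hcomm : ∀ x, h (p₀ x) = p (j x))
    (hker : LinearMap.ker p ≤ Submodule.span A' (j '' (LinearMap.ker p₀ : Set F₀))) :
    IsBaseChange A' h := by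
  let e : A' ⊗[A] M₀ →ₗ[A'] M := h.liftBaseChange A'
  have hnat : ∀ w : A' ⊗[A] F₀, e (p₀.lTensor A' w) = p (hj.equiv w) := by
    intro w
    induction w using TensorProduct.induction_on with
    | zero => simp
    | tmul a x => simp [e, hcomm, hj.equiv_tmul]
    | add a b ha hb => simp only [map_add, ha, hb]
  have he : Function.Bijective e := by
    constructor
    · rw [injective_iff_map_eq_zero]
      intro z hz
      obtain ⟨w, rfl⟩ := LinearMap.lTensor_surjective A' hp₀ z
      have hw : hj.equiv w ∈ Submodule.span A' (j '' (LinearMap.ker p₀ : Set F₀)) :=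
        hker (by rw [LinearMap.mem_ker, ← hnat, hz])
      rw [← hj.equiv.symm_apply_apply w]
      generalize hj.equiv w = y at hw ⊢
      clear hz w
      induction hw using Submodule.span_induction with
      | mem y hy =>
        obtain ⟨x, hx, rfl⟩ := hy
        rw [hj.equiv_symm_apply, LinearMap.lTensor_tmul, hx, TensorProduct.tmul_zero]
      | zero => simp
      | add a b _ _ ha hb => simp only [map_add, ha, hb, add_zero]
      | smul a y _ hy =>
        rw [map_smul, ← LinearMap.baseChange_eq_ltensor] at *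
        rw [map_smul, hy, smul_zero]
    · intro m
      obtain ⟨y, rfl⟩ := hp m
      exact ⟨p₀.lTensor A' (hj.equiv.symm y), by rw [hnat, LinearEquiv.apply_symm_apply]⟩
  exact IsBaseChange.of_equiv (LinearEquiv.ofBijective e he) fun x => by simp [e]

/-- A quotient of a pushout by an extended ideal is a pushout. -/
theorem isPushout_of_surjective {A₀ A P₀ P Q₀ Q : Type*} [CommRing A₀] [CommRing A] [CommRing P₀]
    [CommRing P] [CommRing Q₀] [CommRing Q] [Algebra A₀ A] [Algebra A₀ P₀] [Algebra A P] [Algebra P₀ P]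
    [Algebra A₀ P] [IsScalarTower A₀ A P] [IsScalarTower A₀ P₀ P] [Algebra.IsPushout A₀ A P₀ P]
    [Algebra P₀ Q₀] [Algebra A₀ Q₀] [IsScalarTower A₀ P₀ Q₀]
    [Algebra P Q] [Algebra Q₀ Q] [Algebra A Q] [Algebra A₀ Q] [Algebra P₀ Q]
    [IsScalarTower A₀ A Q] [IsScalarTower A₀ Q₀ Q] [IsScalarTower A P Q] [IsScalarTower P₀ P Q]
    [IsScalarTower P₀ Q₀ Q] [IsScalarTower A₀ P₀ Q] [IsScalarTower A₀ P Q]
    (h₀ : Function.Surjective (algebraMap P₀ Q₀)) (h : Function.Surjective (algebraMap P Q))
    (hker : RingHom.ker (algebraMap P Q) ≤ (RingHom.ker (algebraMap P₀ Q₀)).map (algebraMap P₀ P)) :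
    Algebra.IsPushout A₀ A Q₀ Q := by
  have : Algebra.IsPushout P₀ P Q₀ Q := by
    refine ⟨isBaseChange_quotient (IsBaseChange.linearMap P₀ P) (Algebra.linearMap P₀ Q₀) h₀
      (Algebra.linearMap P Q) h (IsScalarTower.toAlgHom P₀ Q₀ Q).toLinearMap (fun x => ?_) ?_⟩
    · simp [← IsScalarTower.algebraMap_apply]
    · intro x hx
      exact hker hx
  have h1 : Algebra.IsPushout A₀ P₀ A P := .symm inferInstance
  exact .symm ((Algebra.IsPushout.comp_iff (R := A₀) (S := P₀) (R' := A) (S' := P) (T := Q₀) (T' := Q)).mpr this.symm)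

open MvPolynomial Groth.L07.FlatDescent FlatLocus in
attribute [local instance] MvPolynomial.algebraMvPolynomial in
/-- Flatness of a localization of a base change already holds over a finitely generated stage. -/
theorem exists_flat_stage_prime {R₀ A U₀ M₀ U M : Type u} [CommRing R₀] [IsNoetherianRing R₀] [CommRing A]
    [Algebra R₀ A] [CommRing U₀] [Algebra R₀ U₀] [Algebra.FiniteType R₀ U₀]
    [AddCommGroup M₀] [Module U₀ M₀] [Module R₀ M₀] [IsScalarTower R₀ U₀ M₀] [Module.Finite U₀ M₀]
    [CommRing U] [Algebra A U] [Algebra U₀ U] [Algebra R₀ U] [IsScalarTower R₀ A U] [IsScalarTower R₀ U₀ U]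
    [Algebra.IsPushout R₀ A U₀ U]
    [AddCommGroup M] [Module U M] [Module A M] [IsScalarTower A U M] [Module U₀ M] [IsScalarTower U₀ U M]
    [Module R₀ M] [IsScalarTower R₀ A M] [IsScalarTower R₀ U₀ M]
    (f : M₀ →ₗ[U₀] M) (hf : IsBaseChange U f) (T : Submonoid U) [Module.Flat A (LocalizedModule T M)] :
    ∃ B : Subalgebra R₀ A, B.FG ∧
      ∀ (U₁ M₁ : Type u) [CommRing U₁] [Algebra B U₁] [Algebra U₀ U₁] [Algebra R₀ U₁]
        [IsScalarTower R₀ B U₁] [IsScalarTower R₀ U₀ U₁] [Algebra.IsPushout R₀ B U₀ U₁]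
        [AddCommGroup M₁] [Module U₁ M₁] [Module B M₁] [IsScalarTower B U₁ M₁] [Module U₀ M₁]
        [IsScalarTower U₀ U₁ M₁] [Module R₀ M₁] [IsScalarTower R₀ B M₁] [IsScalarTower R₀ U₀ M₁]
        (f₁ : M₀ →ₗ[U₀] M₁) (_ : IsBaseChange U₁ f₁) (χ : U₁ →+* U)
        (_ : ∀ b : B, χ (algebraMap B U₁ b) = algebraMap A U b)
        (_ : ∀ u, χ (algebraMap U₀ U₁ u) = algebraMap U₀ U u),
        Module.Flat B (LocalizedModule (T.comap χ) M₁) := by
  classical
  obtain ⟨d, π, hπ⟩ := Algebra.FiniteType.iff_quotient_mvPolynomial''.mp ‹Algebra.FiniteType R₀ U₀›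
  letI : Module (MvPolynomial (Fin d) R₀) M₀ := Module.compHom M₀ π.toRingHom
  haveI : IsScalarTower R₀ (MvPolynomial (Fin d) R₀) M₀ :=
    IsScalarTower.of_algebraMap_smul fun r m => by
      show π (algebraMap R₀ _ r) • m = r • m
      rw [π.commutes, algebraMap_smul]
  haveI : Module.Finite (MvPolynomial (Fin d) R₀) M₀ := by
    obtain ⟨s, hs⟩ := ‹Module.Finite U₀ M₀›.fg_top
    refine ⟨⟨s, eq_top_iff.mpr fun m _ => ?_⟩⟩
    have hm : m ∈ Submodule.span U₀ (s : Set M₀) := hs ▸ Submodule.mem_top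
    induction hm using Submodule.span_induction with
    | mem x hx => exact Submodule.subset_span hx
    | zero => exact zero_mem _
    | add a b _ _ ha hb => exact add_mem (ha trivial) (hb trivial)
    | smul u x _ hx =>
      obtain ⟨p, rfl⟩ := hπ u
      exact Submodule.smul_mem _ p (hx trivial)
  obtain ⟨n, p₀, hp₀⟩ := Module.Finite.exists_fin' (MvPolynomial (Fin d) R₀) M₀
  let K : Submodule (MvPolynomial (Fin d) R₀) (F d n R₀) := LinearMap.ker p₀
  -- the model over an arbitrary algebra
  have model : ∀ (C V N : Type u) [CommRing C] [Algebra R₀ C] [CommRing V] [Algebra C V] [Algebra U₀ V]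
      [Algebra R₀ V] [IsScalarTower R₀ C V] [IsScalarTower R₀ U₀ V] [Algebra.IsPushout R₀ C U₀ V]
      [AddCommGroup N] [Module V N] [Module C N] [IsScalarTower C V N] [Module U₀ N] [IsScalarTower U₀ V N]
      [Module R₀ N] [IsScalarTower R₀ C N] [IsScalarTower R₀ U₀ N]
      (g : M₀ →ₗ[U₀] N) (_ : IsBaseChange V g),
      ∃ (φ : MvPolynomial (Fin d) C →ₐ[C] V) (e : N ≃ₗ[C] MP K C),
        Function.Surjective φ ∧ (∀ x, φ (MvPolynomial.map (algebraMap R₀ C) x) = algebraMap U₀ V (π x)) ∧
          ∀ x m, e (φ x • m) = x • e m := by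
    intro C V N _ _ _ _ _ _ _ _ _ _ _ _ _ _ _ _ _ _ g hg
    let φ : MvPolynomial (Fin d) C →ₐ[C] V := MvPolynomial.aeval fun i => algebraMap U₀ V (π (MvPolynomial.X i))
    have hφ : ∀ x, φ (MvPolynomial.map (algebraMap R₀ C) x) = algebraMap U₀ V (π x) := by
      intro x
      induction x using MvPolynomial.induction_on with
      | C r =>
        rw [MvPolynomial.map_C, ← MvPolynomial.algebraMap_eq, ← MvPolynomial.algebraMap_eq, φ.commutes, π.commutes,
          ← IsScalarTower.algebraMap_apply, ← IsScalarTower.algebraMap_apply]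
      | add a b ha hb => simp only [map_add, ha, hb]
      | mul_X a i ha => simp only [map_mul, ha, MvPolynomial.map_X]; simp [φ]
    have hφs : Function.Surjective φ := by
      intro v
      induction v using (Algebra.IsPushout.out (R := R₀) (S := C) (R' := U₀) (S' := V)).inductionOn with
      | zero => exact ⟨0, map_zero _⟩
      | tmul u =>
        obtain ⟨x, rfl⟩ := hπ u
        exact ⟨_, hφ x⟩
      | smul c v ih =>
        obtain ⟨x, rfl⟩ := ih
        exact ⟨c • x, map_smul φ c x⟩
      | add a b ha hb =>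
        obtain ⟨x, rfl⟩ := ha
        obtain ⟨y, rfl⟩ := hb
        exact ⟨x + y, map_add φ x y⟩
    let h₀ : M₀ →ₗ[MvPolynomial (Fin d) R₀] MP K C :=
      (Submodule.liftQ K (((KP (C := C) K).mkQ.restrictScalars (MvPolynomial (Fin d) R₀)) ∘ₗ
          (Algebra.linearMap (MvPolynomial (Fin d) R₀) (MvPolynomial (Fin d) C)).compLeft (Fin n))
        (fun y hy => LinearMap.mem_ker.mpr ((Submodule.Quotient.mk_eq_zero _).mpr (ψ_mem K hy)))) ∘ₗ
        (p₀.quotKerEquivOfSurjective hp₀).symm.toLinearMap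
    have hcomm : ∀ y, h₀ (p₀ y) = (KP (C := C) K).mkQ (ψ C y) := by
      intro y
      have : (p₀.quotKerEquivOfSurjective hp₀).symm (p₀ y) = Submodule.Quotient.mk y := by
        rw [LinearEquiv.symm_apply_eq]; rfl
      simp only [h₀, LinearMap.comp_apply, LinearEquiv.coe_coe, this]
      rfl
    haveI : Algebra.IsPushout R₀ C (MvPolynomial (Fin d) R₀) (MvPolynomial (Fin d) C) := inferInstance
    have hbP : IsBaseChange (MvPolynomial (Fin d) C) h₀ := by
      refine isBaseChange_quotient ((IsBaseChange.linearMap (MvPolynomial (Fin d) R₀) (MvPolynomial (Fin d) C)).finitePow (Fin n))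
        p₀ hp₀ (KP (C := C) K).mkQ (Submodule.mkQ_surjective _) h₀ hcomm ?_
      rw [Submodule.ker_mkQ]
      intro y hy
      refine (Submodule.span_le (p := (Submodule.span (MvPolynomial (Fin d) C)
        ((Algebra.linearMap (MvPolynomial (Fin d) R₀) (MvPolynomial (Fin d) C)).compLeft (Fin n) '' (LinearMap.ker p₀ : Set (F d n R₀)))).restrictScalars C)).mpr ?_ hy
      rintro _ ⟨k, hk, rfl⟩
      exact Submodule.subset_span ⟨k, hk, rfl⟩
    haveI : IsScalarTower R₀ (MvPolynomial (Fin d) R₀) (MP K C) := inferInstance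
    haveI : Algebra.IsPushout R₀ U₀ C V := .symm inferInstance
    have hb₁ : IsBaseChange C (h₀.restrictScalars R₀) := Groth.L20.isBaseChange_restrictScalars hbP
    have hb₂ : IsBaseChange C (g.restrictScalars R₀) := Groth.L20.isBaseChange_restrictScalars hg
    let e : N ≃ₗ[C] MP K C := hb₂.equiv.symm ≪≫ₗ hb₁.equiv
    have heg : ∀ m, e (g m) = h₀ m := by
      intro m
      show hb₁.equiv (hb₂.equiv.symm ((g.restrictScalars R₀) m)) = h₀ m
      rw [hb₂.equiv_symm_apply, hb₁.equiv_tmul, one_smul]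
      rfl
    have hX : ∀ j m₀, φ (MvPolynomial.X j) • g m₀ = g (π (MvPolynomial.X j) • m₀) := by
      intro j m₀
      rw [map_smul, ← algebraMap_smul V (π (MvPolynomial.X j)) (g m₀)]
      simp [φ]
    have key : ∀ x m₀, e (φ x • g m₀) = x • e (g m₀) := by
      intro x
      induction x using MvPolynomial.induction_on with
      | C c =>
        intro m₀
        rw [← MvPolynomial.algebraMap_eq, φ.commutes, algebraMap_smul, algebraMap_smul, map_smul]
      | add a b ha hb => intro m₀; simp only [map_add, add_smul, ha, hb]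
      | mul_X a j ha =>
        intro m₀
        rw [map_mul, mul_smul, hX, ha, mul_smul, heg, heg,
          show π (MvPolynomial.X j) • m₀ = (MvPolynomial.X j : MvPolynomial (Fin d) R₀) • m₀ from rfl, map_smul]
        congr 1
        rw [← algebraMap_smul (MvPolynomial (Fin d) C) (MvPolynomial.X j : MvPolynomial (Fin d) R₀)]
        exact congrArg (· • h₀ m₀) (MvPolynomial.map_X _ j)
    refine ⟨φ, e, hφs, hφ, fun x m => ?_⟩
    induction m using hb₂.inductionOn generalizing x with
    | zero => simp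
    | add a b ha hb => simp only [smul_add, map_add, ha, hb]
    | smul c m ih =>
      rw [smul_comm, map_smul, ih, map_smul, smul_comm]
    | tmul m => exact key x m
  -- descent
  obtain ⟨φ, e, hφs, hφ, he⟩ := model A U M f hf
  have hT : T = (T.comap φ.toRingHom).map φ.toRingHom :=
    (Submonoid.map_comap_eq_of_surjective (f := φ.toRingHom) hφs T).symm
  have h1 := (Groth.L20.flat_localizedModule_iff_of_semilinear φ.toRingHom e he (T.comap φ.toRingHom) T hT).mp
    (inferInstance : Module.Flat A (LocalizedModule T M))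
  obtain ⟨B, hB, g, hgT, hloc⟩ := FlatLocus.exists_stage K _ (FlatLocus.locFlat_of_flat K (T.comap φ.toRingHom))
  refine ⟨B, hB, fun U₁ M₁ _ _ _ _ _ _ _ _ _ _ _ _ _ _ _ _ f₁ hf₁ χ hχB hχU => ?_⟩
  obtain ⟨φ₁, e₁, hφ₁s, hφ₁, he₁⟩ := model B U₁ M₁ f₁ hf₁
  have h2 : Module.Flat B (LocalizedModule (Submonoid.powers g) (MP K B)) := FlatLocus.flat_of_locFlat K _ hloc
  have h3 := (Groth.L20.flat_localizedModule_iff_of_semilinear φ₁.toRingHom e₁ he₁ (Submonoid.powers g) _
    (Submonoid.map_powers _ _).symm).mpr h2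
  refine Groth.L20.flat_localizedModule_of_le ?_ h3
  rw [Submonoid.powers_le, Submonoid.mem_comap]
  have hcompat : χ.comp φ₁.toRingHom = φ.toRingHom.comp (MvPolynomial.map (algebraMap B A)) := by
    refine MvPolynomial.ringHom_ext (fun b => ?_) fun i => ?_
    · show χ (φ₁ (MvPolynomial.C b)) = φ (MvPolynomial.map (algebraMap B A) (MvPolynomial.C b))
      rw [MvPolynomial.map_C, ← MvPolynomial.algebraMap_eq, ← MvPolynomial.algebraMap_eq, φ₁.commutes, φ.commutes, hχB]
      rfl
    · show χ (φ₁ (MvPolynomial.X i)) = φ (MvPolynomial.map (algebraMap B A) (MvPolynomial.X i))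
      have a1 := hφ₁ (MvPolynomial.X i)
      have a2 := hφ (MvPolynomial.X i)
      rw [MvPolynomial.map_X] at a1 a2 ⊢
      rw [a1, a2, hχU]
  show χ (φ₁.toRingHom g) ∈ T
  rw [← RingHom.comp_apply, hcompat]
  exact hgT

end Groth.L20.FibreCrit
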