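import Groth.Agent.L20.FibreCriterion
import Groth.Agent.L20.FibreStage
import Mathlib.RingTheory.Flat.Stability
import Mathlib.RingTheory.Localization.FractionRing

/-!
# The fibrewise criterion of flatness for finitely presented algebras and modules
-/

set_option autoImplicit false
set_option linter.style.haveILetI false

universe u

open scoped TensorProduct

namespace Groth.L20.FibreCrit

theorem isScalarTower_quotient {P S : Type u} [CommRing P] [CommRing S] [Algebra P S] (I : Ideal P)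
    [Algebra (P ⧸ I) S] (h : ∀ x, algebraMap (P ⧸ I) S (Ideal.Quotient.mk I x) = algebraMap P S x) :
    IsScalarTower P (P ⧸ I) S :=
  ⟨fun a b c => by
    obtain ⟨b, rfl⟩ := Ideal.Quotient.mk_surjective b
    change Ideal.Quotient.mk I (a * b) • c = a • Ideal.Quotient.mk I b • c
    rw [Algebra.smul_def, Algebra.smul_def (Ideal.Quotient.mk I b), Algebra.smul_def a, h, h, map_mul, mul_assoc]⟩

/-- A field is flat over any domain mapping injectively to it. -/
theorem flat_field_of_injective {k K : Type u} [CommRing k] [IsDomain k] [Field K] [Algebra k K]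
    (h : Function.Injective (algebraMap k K)) : Module.Flat k K := by
  letI : Algebra (FractionRing k) K := (IsFractionRing.lift h).toAlgebra
  haveI : IsScalarTower k (FractionRing k) K :=
    IsScalarTower.of_algebraMap_eq fun x => (IsFractionRing.lift_algebraMap h x).symm
  exact Module.Flat.trans k (FractionRing k) K

/-- The special fibre ring of a point is flat over the quotient by the prime. -/
theorem exists_flat_hom_fibre {A X K Y : Type u} [CommRing A] [CommRing X] [Algebra A X] [Field K]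
    [Algebra A K] [CommRing Y] [Algebra K Y] [Algebra X Y] [Algebra A Y] [IsScalarTower A K Y]
    [IsScalarTower A X Y] [Algebra.IsPushout A K X Y] (p : Ideal A) (hp : RingHom.ker (algebraMap A K) = p) :
    ∃ χ : (X ⧸ p.map (algebraMap A X)) →+* Y,
      χ.comp (Ideal.Quotient.mk _) = algebraMap X Y ∧ χ.Flat := by
  haveI : p.IsPrime := hp ▸ RingHom.ker_isPrime _
  let χ : (X ⧸ p.map (algebraMap A X)) →+* Y := Ideal.Quotient.lift _ (algebraMap X Y) (fun x hx => by
    have : p.map (algebraMap A X) ≤ RingHom.ker (algebraMap X Y) := Ideal.map_le_iff_le_comap.mpr fun a ha => by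
      rw [← hp, RingHom.mem_ker] at ha
      rw [Ideal.mem_comap, RingHom.mem_ker, ← IsScalarTower.algebraMap_apply, IsScalarTower.algebraMap_apply A K Y,
        ha, map_zero]
    exact this hx)
  refine ⟨χ, RingHom.ext fun x => rfl, ?_⟩
  letI : Algebra (A ⧸ p) K := (Ideal.Quotient.lift p (algebraMap A K) (fun a ha => by rwa [← hp, RingHom.mem_ker] at ha)).toAlgebra
  haveI : IsScalarTower A (A ⧸ p) K := IsScalarTower.of_algebraMap_eq fun x => rfl
  haveI : Module.Flat (A ⧸ p) K := flat_field_of_injective ((injective_iff_map_eq_zero _).mpr fun x hx => by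
    obtain ⟨x, rfl⟩ := Ideal.Quotient.mk_surjective x
    exact Ideal.Quotient.eq_zero_iff_mem.mpr (hp ▸ hx))
  letI : Algebra (A ⧸ p) (X ⧸ p.map (algebraMap A X)) := (Ideal.quotientMap _ (algebraMap A X) Ideal.le_comap_map).toAlgebra
  haveI : IsScalarTower A (A ⧸ p) (X ⧸ p.map (algebraMap A X)) := IsScalarTower.of_algebraMap_eq fun x => rfl
  haveI : Algebra.IsPushout A X A X := ⟨IsBaseChange.linearMap A X⟩
  haveI : Algebra.IsPushout A X (A ⧸ p) (X ⧸ p.map (algebraMap A X)) :=
    isPushout_of_surjective (P₀ := A) (P := X) Ideal.Quotient.mk_surjective Ideal.Quotient.mk_surjective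
      (by rw [Ideal.Quotient.algebraMap_eq, Ideal.Quotient.algebraMap_eq, Ideal.mk_ker, Ideal.mk_ker])
  haveI : Algebra.IsPushout A (A ⧸ p) X (X ⧸ p.map (algebraMap A X)) := .symm inferInstance
  letI := χ.toAlgebra
  letI : Algebra (A ⧸ p) Y := ((algebraMap K Y).comp (algebraMap (A ⧸ p) K)).toAlgebra
  haveI : IsScalarTower (A ⧸ p) K Y := IsScalarTower.of_algebraMap_eq fun x => rfl
  haveI : IsScalarTower X (X ⧸ p.map (algebraMap A X)) Y := IsScalarTower.of_algebraMap_eq fun x => rfl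
  haveI : IsScalarTower A (X ⧸ p.map (algebraMap A X)) Y := IsScalarTower.of_algebraMap_eq fun x => by
    show algebraMap A Y x = algebraMap X Y (algebraMap A X x)
    rw [← IsScalarTower.algebraMap_apply]
  haveI : IsScalarTower (A ⧸ p) (X ⧸ p.map (algebraMap A X)) Y := IsScalarTower.of_algebraMap_eq fun x => by
    obtain ⟨x, rfl⟩ := Ideal.Quotient.mk_surjective x
    show algebraMap K Y (algebraMap A K x) = algebraMap X Y (algebraMap A X x)
    rw [← IsScalarTower.algebraMap_apply, ← IsScalarTower.algebraMap_apply]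
  haveI : Algebra.IsPushout (A ⧸ p) K (X ⧸ p.map (algebraMap A X)) Y :=
    (Algebra.IsPushout.comp_iff (R := A) (S := A ⧸ p) (R' := X) (S' := X ⧸ p.map (algebraMap A X)) (T := K) (T' := Y)).mp
      inferInstance
  haveI : Algebra.IsPushout (A ⧸ p) (X ⧸ p.map (algebraMap A X)) K Y := .symm inferInstance
  show Module.Flat (X ⧸ p.map (algebraMap A X)) Y
  exact Module.Flat.isBaseChange _ _ _ _ (Algebra.IsPushout.out (R := A ⧸ p) (S := X ⧸ p.map (algebraMap A X)) (R' := K) (S' := Y))

/-- The criterion, given a Noetherian model. -/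
theorem flat_of_model {R₁ S₁ U₁ M₁ R S U M K B C : Type u}
    [CommRing R₁] [CommRing S₁] [CommRing U₁] [CommRing R] [CommRing S] [CommRing U]
    [IsNoetherianRing S₁] [IsNoetherianRing U₁]
    [Algebra R₁ S₁] [Algebra S₁ U₁] [Algebra R₁ U₁] [IsScalarTower R₁ S₁ U₁]
    [AddCommGroup M₁] [Module U₁ M₁] [Module S₁ M₁] [Module R₁ M₁] [IsScalarTower S₁ U₁ M₁]
    [IsScalarTower R₁ S₁ M₁] [IsScalarTower R₁ U₁ M₁] [Module.Finite U₁ M₁]
    [Algebra R S] [Algebra S U] [Algebra R U] [IsScalarTower R S U]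
    [Algebra R₁ R] [Algebra S₁ S] [Algebra U₁ U] [Algebra R₁ S] [Algebra R₁ U] [Algebra S₁ U]
    [IsScalarTower R₁ R S] [IsScalarTower R₁ S₁ S] [IsScalarTower R₁ R U] [IsScalarTower R₁ U₁ U]
    [IsScalarTower S₁ S U] [IsScalarTower S₁ U₁ U]
    [Algebra.IsPushout R₁ R S₁ S] [Algebra.IsPushout R₁ R U₁ U]
    [AddCommGroup M] [Module U M] [Module S M] [IsScalarTower S U M] [Module U₁ M] [IsScalarTower U₁ U M]
    (g : M₁ →ₗ[U₁] M) (hg : IsBaseChange U g)
    (q : Ideal U) [q.IsPrime]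
    [Module.Flat R₁ (LocalizedModule (q.comap (algebraMap U₁ U)).primeCompl M₁)]
    [Field K] [Algebra R K] (hK : RingHom.ker (algebraMap R K) = q.comap (algebraMap R U))
    [CommRing B] [Algebra K B] [Algebra S B] [Algebra R B] [IsScalarTower R K B] [IsScalarTower R S B]
    [Algebra.IsPushout R K S B]
    [CommRing C] [Algebra K C] [Algebra U C] [Algebra R C] [Algebra B C] [Algebra S C]
    [IsScalarTower R K C] [IsScalarTower R U C] [IsScalarTower S B C] [IsScalarTower S U C]
    [Algebra.IsPushout R K U C]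
    (q' : Ideal C) [q'.IsPrime] (hq' : q'.comap (algebraMap U C) = q)
    (h : Module.Flat B (Localization.AtPrime q' ⊗[U] M)) :
    Module.Flat S (LocalizedModule q.primeCompl M) := by
  -- the model in the fibre
  haveI : IsScalarTower R₁ S U := IsScalarTower.of_algebraMap_eq fun x => by
    rw [IsScalarTower.algebraMap_apply R₁ R U, IsScalarTower.algebraMap_apply R₁ R S, ← IsScalarTower.algebraMap_apply R S U]
  set q₁ := q.comap (algebraMap U₁ U) with hq₁
  set p₁ := q₁.comap (algebraMap R₁ U₁) with hp₁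
  algebraize [(algebraMap R K).comp (algebraMap R₁ R), (algebraMap R B).comp (algebraMap R₁ R),
    (algebraMap R C).comp (algebraMap R₁ R), (algebraMap S B).comp (algebraMap S₁ S), (algebraMap S C).comp (algebraMap S₁ S), (algebraMap U C).comp (algebraMap U₁ U)]
  haveI : IsScalarTower R₁ K B := IsScalarTower.of_algebraMap_eq fun x => IsScalarTower.algebraMap_apply R K B _
  haveI : IsScalarTower R₁ K C := IsScalarTower.of_algebraMap_eq fun x => IsScalarTower.algebraMap_apply R K C _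
  haveI : IsScalarTower R₁ S₁ B := IsScalarTower.of_algebraMap_eq fun x => by
    show algebraMap R B (algebraMap R₁ R x) = algebraMap S B (algebraMap S₁ S (algebraMap R₁ S₁ x))
    rw [← IsScalarTower.algebraMap_apply R₁ S₁ S, IsScalarTower.algebraMap_apply R₁ R S, ← IsScalarTower.algebraMap_apply R S B]
  haveI : IsScalarTower R₁ U₁ C := IsScalarTower.of_algebraMap_eq fun x => by
    show algebraMap R C (algebraMap R₁ R x) = algebraMap U C (algebraMap U₁ U (algebraMap R₁ U₁ x))
    rw [← IsScalarTower.algebraMap_apply R₁ U₁ U, IsScalarTower.algebraMap_apply R₁ R U, ← IsScalarTower.algebraMap_apply R U C]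
  haveI : IsScalarTower R₁ S B := IsScalarTower.of_algebraMap_eq fun x => by
    show algebraMap R B (algebraMap R₁ R x) = algebraMap S B (algebraMap R₁ S x)
    rw [IsScalarTower.algebraMap_apply R₁ R S, ← IsScalarTower.algebraMap_apply R S B]
  haveI : IsScalarTower R₁ U C := IsScalarTower.of_algebraMap_eq fun x => by
    show algebraMap R C (algebraMap R₁ R x) = algebraMap U C (algebraMap R₁ U x)
    rw [IsScalarTower.algebraMap_apply R₁ R U, ← IsScalarTower.algebraMap_apply R U C]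
  haveI hB : Algebra.IsPushout R₁ K S₁ B :=
    (Algebra.IsPushout.comp_iff (R := R₁) (S := R) (R' := S₁) (S' := S) (T := K) (T' := B)).mpr inferInstance
  haveI hC : Algebra.IsPushout R₁ K U₁ C :=
    (Algebra.IsPushout.comp_iff (R := R₁) (S := R) (R' := U₁) (S' := U) (T := K) (T' := C)).mpr inferInstance
  have hker : RingHom.ker (algebraMap R₁ K) = p₁ := by
    rw [RingHom.algebraMap_toAlgebra, ← RingHom.comap_ker, hK, hp₁, hq₁, Ideal.comap_comap, Ideal.comap_comap,
      ← IsScalarTower.algebraMap_eq, ← IsScalarTower.algebraMap_eq]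
  obtain ⟨χS, hχS, hχSflat⟩ := exists_flat_hom_fibre (X := S₁) (Y := B) p₁ hker
  obtain ⟨χU, hχU, hχUflat⟩ := exists_flat_hom_fibre (X := U₁) (Y := C) p₁ hker
  algebraize [χS, χU]
  haveI : IsScalarTower S₁ (S₁ ⧸ p₁.map (algebraMap R₁ S₁)) B :=
    IsScalarTower.of_algebraMap_eq fun x => (RingHom.congr_fun hχS x).symm
  haveI : IsScalarTower U₁ (U₁ ⧸ p₁.map (algebraMap R₁ U₁)) C :=
    IsScalarTower.of_algebraMap_eq fun x => (RingHom.congr_fun hχU x).symm
  haveI : Module.Flat (S₁ ⧸ p₁.map (algebraMap R₁ S₁)) B := hχSflat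
  haveI : Module.Flat (U₁ ⧸ p₁.map (algebraMap R₁ U₁)) C := hχUflat
  haveI : Module.Flat (U₁ ⧸ p₁.map (algebraMap R₁ U₁)) (Localization.AtPrime q') :=
    Module.Flat.trans _ C _
  haveI : IsScalarTower S₁ B (Localization.AtPrime q') := IsScalarTower.of_algebraMap_eq fun x => by
    show algebraMap C (Localization.AtPrime q') (algebraMap S C (algebraMap S₁ S x)) =
      algebraMap C (Localization.AtPrime q') (algebraMap B C (algebraMap S B (algebraMap S₁ S x)))
    rw [← IsScalarTower.algebraMap_apply S B C]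
  haveI hUT : IsScalarTower U₁ U (Localization.AtPrime q') := IsScalarTower.of_algebraMap_eq fun x => rfl
  haveI : IsScalarTower S₁ U₁ (Localization.AtPrime q') := IsScalarTower.of_algebraMap_eq fun x => by
    show algebraMap C (Localization.AtPrime q') (algebraMap S C (algebraMap S₁ S x)) =
      algebraMap C (Localization.AtPrime q') (algebraMap U C (algebraMap U₁ U (algebraMap S₁ U₁ x)))
    rw [IsScalarTower.algebraMap_apply S U C,
      ← IsScalarTower.algebraMap_apply S₁ S U, IsScalarTower.algebraMap_apply S₁ U₁ U]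
  haveI : IsScalarTower U₁ (U₁ ⧸ p₁.map (algebraMap R₁ U₁)) (Localization.AtPrime q') :=
    IsScalarTower.of_algebraMap_eq fun x => congrArg (algebraMap C _) (RingHom.congr_fun hχU x).symm
  letI : Module U₁ (Localization.AtPrime q' ⊗[U] M) := TensorProduct.leftModule
  let f : M₁ →ₗ[U₁] Localization.AtPrime q' ⊗[U] M :=
    ((TensorProduct.mk U (Localization.AtPrime q') M 1).restrictScalars U₁) ∘ₗ g
  have hf : IsBaseChange (Localization.AtPrime q') f := hg.comp (TensorProduct.isBaseChange U M _)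
  have key : Module.Flat S₁ (LocalizedModule q₁.primeCompl M₁) := by
    refine flat_of_fibre_noetherian (B := B) q₁ p₁ hp₁ f hf ?_ ?_
    · have hle : q₁.map (algebraMap U₁ (Localization.AtPrime q')) ≤ IsLocalRing.maximalIdeal (Localization.AtPrime q') := by
        refine Ideal.map_le_iff_le_comap.mpr fun x hx => ?_
        rw [Ideal.mem_comap, IsScalarTower.algebraMap_apply U₁ C (Localization.AtPrime q'),
          IsLocalization.AtPrime.to_map_mem_maximal_iff (Localization.AtPrime q') q']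
        show algebraMap U C (algebraMap U₁ U x) ∈ q'
        rw [← Ideal.mem_comap, hq']
        exact hx
      exact fun htop => (IsLocalRing.maximalIdeal.isMaximal _).ne_top (top_le_iff.mp (htop.ge.trans hle))
    · intro x hx
      rw [IsScalarTower.algebraMap_apply U₁ C (Localization.AtPrime q')]
      refine IsLocalization.map_units (Localization.AtPrime q') (⟨_, ?_⟩ : q'.primeCompl)
      show algebraMap U C (algebraMap U₁ U x) ∉ q'
      rw [← Ideal.mem_comap, hq']
      exact hx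
  -- base change to `S`
  haveI : Algebra.IsPushout S₁ U₁ S U := by
    haveI : Algebra.IsPushout R₁ U₁ R U := .symm inferInstance
    haveI : Algebra.IsPushout R₁ S₁ R S := .symm inferInstance
    exact (Algebra.IsPushout.comp_iff (R := R₁) (S := S₁) (R' := R) (S' := S) (T := U₁) (T' := U)).mp inferInstance
  letI : Module S₁ M := Module.compHom M (algebraMap S₁ U)
  haveI : IsScalarTower S₁ U M := IsScalarTower.of_algebraMap_smul fun _ _ => rfl
  haveI : IsScalarTower S₁ U₁ M := IsScalarTower.of_algebraMap_smul fun x m => by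
    rw [← algebraMap_smul U (algebraMap S₁ U₁ x) m, ← IsScalarTower.algebraMap_apply, algebraMap_smul]
  haveI : IsScalarTower S₁ S M := IsScalarTower.of_algebraMap_smul fun x m => by
    rw [← algebraMap_smul U (algebraMap S₁ S x) m, ← IsScalarTower.algebraMap_apply, algebraMap_smul]
  exact flat_localizedModule_of_isBaseChange g (isBaseChange_restrictScalars (R := S₁) (S := U₁) (R' := S) (S' := U) hg) q₁.primeCompl q.primeCompl
    (fun t ht => ht)

/-- Descent of flatness at a prime to a stage, for the tensor model of the module. -/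
theorem exists_flat_stage_tensor {R₀ A U₀ M₀ U M : Type u} [CommRing R₀] [IsNoetherianRing R₀] [CommRing A]
    [Algebra R₀ A] [CommRing U₀] [Algebra R₀ U₀] [Algebra.FiniteType R₀ U₀]
    [AddCommGroup M₀] [Module U₀ M₀] [Module R₀ M₀] [IsScalarTower R₀ U₀ M₀] [Module.Finite U₀ M₀]
    [CommRing U] [Algebra A U] [Algebra U₀ U] [Algebra R₀ U] [IsScalarTower R₀ A U] [IsScalarTower R₀ U₀ U]
    [Algebra.IsPushout R₀ A U₀ U]
    [AddCommGroup M] [Module U M] [Module A M] [IsScalarTower A U M] [Module U₀ M] [IsScalarTower U₀ U M]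
    [Module R₀ M] [IsScalarTower R₀ A M] [IsScalarTower R₀ U₀ M]
    (f : M₀ →ₗ[U₀] M) (hf : IsBaseChange U f) (T : Submonoid U) [Module.Flat A (LocalizedModule T M)] :
    ∃ B : Subalgebra R₀ A, B.FG ∧
      ∀ (U₁ : Type u) [CommRing U₁] [Algebra B U₁] [Algebra U₀ U₁] [Algebra R₀ U₁]
        [IsScalarTower R₀ B U₁] [IsScalarTower R₀ U₀ U₁] [Algebra.IsPushout R₀ B U₀ U₁] [SMulCommClass U₀ B U₁]
        (χ : U₁ →+* U) (_ : ∀ b : B, χ (algebraMap B U₁ b) = algebraMap A U b)
        (_ : ∀ u, χ (algebraMap U₀ U₁ u) = algebraMap U₀ U u),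
        Module.Flat B (LocalizedModule (T.comap χ) (U₁ ⊗[U₀] M₀)) := by
  obtain ⟨B, hB, h⟩ := exists_flat_stage_prime (R₀ := R₀) (A := A) f hf T
  refine ⟨B, hB, fun U₁ _ _ _ _ _ _ _ _ χ hχ hχ' => ?_⟩
  haveI : IsScalarTower R₀ U₁ (U₁ ⊗[U₀] M₀) := IsScalarTower.of_algebraMap_smul fun r x => by
    induction x using TensorProduct.induction_on with
    | zero => simp
    | tmul u m => simp [TensorProduct.smul_tmul', Algebra.smul_def]
    | add x y hx hy => simp only [smul_add, hx, hy]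
  haveI : IsScalarTower B U₁ (U₁ ⊗[U₀] M₀) := IsScalarTower.of_algebraMap_smul fun b x => by
    induction x using TensorProduct.induction_on with
    | zero => simp
    | tmul u m => simp [TensorProduct.smul_tmul', Algebra.smul_def]
    | add x y hx hy => simp only [smul_add, hx, hy]
  haveI : IsScalarTower R₀ B (U₁ ⊗[U₀] M₀) := IsScalarTower.of_algebraMap_smul fun r x => by
    rw [← algebraMap_smul U₁ (algebraMap R₀ B r) x, ← IsScalarTower.algebraMap_apply, algebraMap_smul]
  haveI : IsScalarTower U₀ U₁ (U₁ ⊗[U₀] M₀) := IsScalarTower.of_algebraMap_smul fun r x => by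
    induction x using TensorProduct.induction_on with
    | zero => simp
    | tmul u m => simp [TensorProduct.smul_tmul', Algebra.smul_def]
    | add x y hx hy => simp only [smul_add, hx, hy]
  haveI : IsScalarTower R₀ U₀ (U₁ ⊗[U₀] M₀) := IsScalarTower.of_algebraMap_smul fun r x => by
    rw [← algebraMap_smul U₁ (algebraMap R₀ U₀ r) x, ← IsScalarTower.algebraMap_apply, algebraMap_smul]
  exact h U₁ (U₁ ⊗[U₀] M₀) (TensorProduct.mk U₀ U₁ M₀ 1) (TensorProduct.isBaseChange U₀ M₀ U₁) χ hχ hχ'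

/-- Factorization of a base change through an intermediate one. -/
theorem exists_lift_isBaseChange {U₀ U₁ U M₀ M : Type u} [CommRing U₀] [CommRing U₁] [CommRing U]
    [Algebra U₀ U₁] [Algebra U₁ U] [Algebra U₀ U] [IsScalarTower U₀ U₁ U] [AddCommGroup M₀] [Module U₀ M₀]
    [AddCommGroup M] [Module U₀ M] [Module U₁ M] [Module U M] [IsScalarTower U₀ U₁ M]
    [IsScalarTower U₁ U M] [IsScalarTower U₀ U M] {g : M₀ →ₗ[U₀] M} (hg : IsBaseChange U g) :
    ∃ g₁ : U₁ ⊗[U₀] M₀ →ₗ[U₁] M, IsBaseChange U g₁ := by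
  have hb₁ : IsBaseChange U₁ (TensorProduct.mk U₀ U₁ M₀ 1) := TensorProduct.isBaseChange _ _ _
  refine ⟨hb₁.lift g, IsBaseChange.of_comp hb₁ ?_⟩
  have : (hb₁.lift g).restrictScalars U₀ ∘ₗ (TensorProduct.mk U₀ U₁ M₀ 1) = g :=
    LinearMap.ext fun x => hb₁.lift_eq g x
  rw [this]; exact hg

/-- The criterion, given a Noetherian model and a tensor model of the module. -/
theorem flat_of_model_tensor {R₁ S₁ U₀ U₁ M₀ R S U M K B C : Type u}
    [CommRing R₁] [CommRing S₁] [CommRing U₁] [CommRing R] [CommRing S] [CommRing U]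
    [IsNoetherianRing S₁] [IsNoetherianRing U₁]
    [Algebra R₁ S₁] [Algebra S₁ U₁] [Algebra R₁ U₁] [IsScalarTower R₁ S₁ U₁]
    [CommRing U₀] [Algebra U₀ U₁] [AddCommGroup M₀] [Module U₀ M₀] [Module.Finite U₀ M₀]
    [SMulCommClass U₀ R₁ U₁]
    [Algebra R S] [Algebra S U] [Algebra R U] [IsScalarTower R S U]
    [Algebra R₁ R] [Algebra S₁ S] [Algebra U₁ U] [Algebra R₁ S] [Algebra R₁ U] [Algebra S₁ U]
    [IsScalarTower R₁ R S] [IsScalarTower R₁ S₁ S] [IsScalarTower R₁ R U] [IsScalarTower R₁ U₁ U]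
    [IsScalarTower S₁ S U] [IsScalarTower S₁ U₁ U]
    [Algebra.IsPushout R₁ R S₁ S] [Algebra.IsPushout R₁ R U₁ U]
    [AddCommGroup M] [Module U M] [Module S M] [IsScalarTower S U M] [Module U₀ M] [Algebra U₀ U] [IsScalarTower U₀ U M] [IsScalarTower U₀ U₁ U]
    (g : M₀ →ₗ[U₀] M) (hg : IsBaseChange U g)
    (q : Ideal U) [q.IsPrime]
    [Module.Flat R₁ (LocalizedModule (q.comap (algebraMap U₁ U)).primeCompl (U₁ ⊗[U₀] M₀))]
    [Field K] [Algebra R K] (hK : RingHom.ker (algebraMap R K) = q.comap (algebraMap R U))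
    [CommRing B] [Algebra K B] [Algebra S B] [Algebra R B] [IsScalarTower R K B] [IsScalarTower R S B]
    [Algebra.IsPushout R K S B]
    [CommRing C] [Algebra K C] [Algebra U C] [Algebra R C] [Algebra B C] [Algebra S C]
    [IsScalarTower R K C] [IsScalarTower R U C] [IsScalarTower S B C] [IsScalarTower S U C]
    [Algebra.IsPushout R K U C]
    (q' : Ideal C) [q'.IsPrime] (hq' : q'.comap (algebraMap U C) = q)
    (h : Module.Flat B (Localization.AtPrime q' ⊗[U] M)) :
    Module.Flat S (LocalizedModule q.primeCompl M) := by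
  haveI : IsScalarTower S₁ U₁ (U₁ ⊗[U₀] M₀) := IsScalarTower.of_algebraMap_smul fun b x => by
    induction x using TensorProduct.induction_on with
    | zero => simp
    | tmul u m => simp [TensorProduct.smul_tmul', Algebra.smul_def]
    | add x y hx hy => simp only [smul_add, hx, hy]
  haveI : IsScalarTower R₁ U₁ (U₁ ⊗[U₀] M₀) := IsScalarTower.of_algebraMap_smul fun b x => by
    induction x using TensorProduct.induction_on with
    | zero => simp
    | tmul u m => simp [TensorProduct.smul_tmul', Algebra.smul_def]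
    | add x y hx hy => simp only [smul_add, hx, hy]
  haveI : IsScalarTower R₁ S₁ (U₁ ⊗[U₀] M₀) := IsScalarTower.of_algebraMap_smul fun r x => by
    rw [← algebraMap_smul U₁ (algebraMap R₁ S₁ r) x, ← IsScalarTower.algebraMap_apply, algebraMap_smul]
  haveI : Module.Finite U₁ (U₁ ⊗[U₀] M₀) := inferInstance
  letI : Module U₁ M := Module.compHom M (algebraMap U₁ U)
  haveI : IsScalarTower U₁ U M := IsScalarTower.of_algebraMap_smul fun _ _ => rfl
  haveI : IsScalarTower U₀ U₁ M := IsScalarTower.of_algebraMap_smul fun x m => by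
    show algebraMap U₁ U (algebraMap U₀ U₁ x) • m = x • m
    rw [← IsScalarTower.algebraMap_apply, algebraMap_smul]
  obtain ⟨g₁, hg₁⟩ := exists_lift_isBaseChange (U₁ := U₁) hg
  exact flat_of_model (R₁ := R₁) (S₁ := S₁) g₁ hg₁ q hK q' hq' h

set_option maxHeartbeats 800000 in
/-- The criterion, given any finitely generated Noetherian model. -/
theorem flat_of_model_stage {R₀ S₀ U₀ M₀ R S U M K B C : Type u}
    [CommRing R₀] [CommRing S₀] [CommRing U₀] [CommRing R] [CommRing S] [CommRing U] [IsNoetherianRing R₀]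
    [Algebra R₀ S₀] [Algebra S₀ U₀] [Algebra R₀ U₀] [IsScalarTower R₀ S₀ U₀]
    [Algebra.FiniteType R₀ S₀] [Algebra.FiniteType R₀ U₀]
    [AddCommGroup M₀] [Module U₀ M₀] [Module R₀ M₀] [IsScalarTower R₀ U₀ M₀] [Module.Finite U₀ M₀]
    [Algebra R S] [Algebra S U] [Algebra R U] [IsScalarTower R S U]
    [Algebra R₀ R] [Algebra S₀ S] [Algebra U₀ U] [Algebra R₀ S] [Algebra R₀ U] [Algebra S₀ U]
    [IsScalarTower R₀ R S] [IsScalarTower R₀ S₀ S] [IsScalarTower R₀ R U] [IsScalarTower R₀ U₀ U]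
    [IsScalarTower S₀ S U] [IsScalarTower S₀ U₀ U]
    [Algebra.IsPushout R₀ R S₀ S] [Algebra.IsPushout R₀ R U₀ U]
    [AddCommGroup M] [Module U M] [Module S M] [Module R M] [IsScalarTower S U M] [IsScalarTower R U M]
    [Module U₀ M] [IsScalarTower U₀ U M] [Module R₀ M] [IsScalarTower R₀ R M]
    (g : M₀ →ₗ[U₀] M) (hg : IsBaseChange U g)
    (q : Ideal U) [q.IsPrime] [Module.Flat R (LocalizedModule q.primeCompl M)]
    [Field K] [Algebra R K] (hK : RingHom.ker (algebraMap R K) = q.comap (algebraMap R U))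
    [CommRing B] [Algebra K B] [Algebra S B] [Algebra R B] [IsScalarTower R K B] [IsScalarTower R S B]
    [Algebra.IsPushout R K S B]
    [CommRing C] [Algebra K C] [Algebra U C] [Algebra R C] [Algebra B C] [Algebra S C]
    [IsScalarTower R K C] [IsScalarTower R U C] [IsScalarTower S B C] [IsScalarTower S U C]
    [Algebra.IsPushout R K U C]
    (q' : Ideal C) [q'.IsPrime] (hq' : q'.comap (algebraMap U C) = q)
    (h : Module.Flat B (Localization.AtPrime q' ⊗[U] M)) :
    Module.Flat S (LocalizedModule q.primeCompl M) := by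
  -- descend flatness
  haveI : IsScalarTower R₀ U₀ M := IsScalarTower.of_algebraMap_smul fun r m => by
    rw [← algebraMap_smul U (algebraMap R₀ U₀ r) m, ← IsScalarTower.algebraMap_apply,
      IsScalarTower.algebraMap_apply R₀ R U, algebraMap_smul, algebraMap_smul]
  obtain ⟨R₁, hR₁, hstage⟩ := exists_flat_stage_tensor (R₀ := R₀) (A := R) g hg q.primeCompl
  haveI : Algebra.FiniteType R₀ R₁ := R₁.fg_iff_finiteType.mp hR₁
  letI : Algebra S₀ (↥R₁ ⊗[R₀] S₀) := Algebra.TensorProduct.rightAlgebra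
  letI : Algebra U₀ (↥R₁ ⊗[R₀] U₀) := Algebra.TensorProduct.rightAlgebra
  letI : Algebra (↥R₁ ⊗[R₀] S₀) (↥R₁ ⊗[R₀] U₀) :=
    (Algebra.TensorProduct.map (AlgHom.id R₁ R₁) (IsScalarTower.toAlgHom R₀ S₀ U₀)).toRingHom.toAlgebra
  let lS : (↥R₁ ⊗[R₀] S₀) →ₐ[R₁] S :=
    Algebra.TensorProduct.lift (Algebra.ofId R₁ S) (IsScalarTower.toAlgHom R₀ S₀ S) fun _ _ => Commute.all _ _
  let lU : (↥R₁ ⊗[R₀] U₀) →ₐ[R₁] U :=
    Algebra.TensorProduct.lift (Algebra.ofId R₁ U) (IsScalarTower.toAlgHom R₀ U₀ U) fun _ _ => Commute.all _ _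
  letI := lS.toRingHom.toAlgebra
  letI := lU.toRingHom.toAlgebra
  letI : Algebra (↥R₁ ⊗[R₀] S₀) U :=
    ((algebraMap S U).comp (algebraMap (↥R₁ ⊗[R₀] S₀) S)).toAlgebra
  haveI : IsScalarTower (↥R₁ ⊗[R₀] S₀) S U := IsScalarTower.of_algebraMap_eq fun x => rfl
  haveI : IsScalarTower R₁ (↥R₁ ⊗[R₀] S₀) (↥R₁ ⊗[R₀] U₀) :=
    ⟨fun r x y => by
      show Algebra.TensorProduct.map (AlgHom.id R₁ R₁) (IsScalarTower.toAlgHom R₀ S₀ U₀) (r • x) * y =
        r • (Algebra.TensorProduct.map (AlgHom.id R₁ R₁) (IsScalarTower.toAlgHom R₀ S₀ U₀) x * y)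
      rw [map_smul, smul_mul_assoc]⟩
  haveI : IsScalarTower R₁ R S := IsScalarTower.of_algebraMap_eq fun x => rfl
  haveI : IsScalarTower R₁ R U := IsScalarTower.of_algebraMap_eq fun x => rfl
  haveI : IsScalarTower R₁ (↥R₁ ⊗[R₀] S₀) S :=
    ⟨fun r x y => by
      show lS (r • x) * y = r • (lS x * y)
      rw [map_smul, smul_mul_assoc]⟩
  haveI : IsScalarTower R₀ (↥R₁ ⊗[R₀] S₀) S :=
    ⟨fun r x y => by
      show lS (r • x) * y = r • (lS x * y)
      rw [AlgHom.map_smul_of_tower, smul_mul_assoc]⟩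
  haveI : IsScalarTower R₁ (↥R₁ ⊗[R₀] U₀) U :=
    ⟨fun r x y => by
      show lU (r • x) * y = r • (lU x * y)
      rw [map_smul, smul_mul_assoc]⟩
  haveI : IsScalarTower R₀ (↥R₁ ⊗[R₀] U₀) U :=
    ⟨fun r x y => by
      show lU (r • x) * y = r • (lU x * y)
      rw [AlgHom.map_smul_of_tower, smul_mul_assoc]⟩
  haveI : IsScalarTower S₀ (↥R₁ ⊗[R₀] S₀) S :=
    IsScalarTower.of_algebraMap_eq fun x => by simp [RingHom.algebraMap_toAlgebra, lS]
  haveI : IsScalarTower U₀ (↥R₁ ⊗[R₀] U₀) U :=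
    IsScalarTower.of_algebraMap_eq fun x => by simp [RingHom.algebraMap_toAlgebra, lU]
  haveI : IsScalarTower (↥R₁ ⊗[R₀] S₀) (↥R₁ ⊗[R₀] U₀) U := by
    refine IsScalarTower.of_algebraMap_eq fun x => ?_
    show algebraMap S U (lS x) = lU (Algebra.TensorProduct.map (AlgHom.id R₁ R₁) (IsScalarTower.toAlgHom R₀ S₀ U₀) x)
    induction x using TensorProduct.induction_on with
    | zero => simp
    | add y z hy hz => simp only [map_add, hy, hz]
    | tmul r s => simp [lS, lU, ← IsScalarTower.algebraMap_apply]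
  haveI : Algebra.IsPushout R₁ R (↥R₁ ⊗[R₀] S₀) S :=
    (Algebra.IsPushout.comp_iff (R := R₀) (S := R₁) (R' := S₀) (S' := ↥R₁ ⊗[R₀] S₀) (T := R) (T' := S)).mp inferInstance
  haveI : Algebra.IsPushout R₁ R (↥R₁ ⊗[R₀] U₀) U :=
    (Algebra.IsPushout.comp_iff (R := R₀) (S := R₁) (R' := U₀) (S' := ↥R₁ ⊗[R₀] U₀) (T := R) (T' := U)).mp inferInstance
  haveI : IsNoetherianRing ↥R₁ := Algebra.FiniteType.isNoetherianRing R₀ ↥R₁
  haveI : IsNoetherianRing (↥R₁ ⊗[R₀] S₀) := Algebra.FiniteType.isNoetherianRing ↥R₁ _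
  haveI : IsNoetherianRing (↥R₁ ⊗[R₀] U₀) := Algebra.FiniteType.isNoetherianRing ↥R₁ _
  have hflat := hstage (↥R₁ ⊗[R₀] U₀) lU.toRingHom
    (fun r => by simp [lU, Algebra.TensorProduct.algebraMap_apply]; rfl)
    (fun u => by simp [RingHom.algebraMap_toAlgebra, lU])
  haveI : Module.Flat R₁ (LocalizedModule (q.comap (algebraMap (↥R₁ ⊗[R₀] U₀) U)).primeCompl
      ((↥R₁ ⊗[R₀] U₀) ⊗[U₀] M₀)) := hflat
  exact flat_of_model_tensor (R₁ := R₁) (S₁ := ↥R₁ ⊗[R₀] S₀) (U₁ := ↥R₁ ⊗[R₀] U₀) g hg q hK q' hq' h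


/-- Structure tower of a quotient of a polynomial ring. -/
theorem isScalarTower_polyQuot {A₀ A Q : Type u} [CommRing A₀] [CommRing A] [CommRing Q] [Algebra A₀ A]
    [Algebra A Q] [Algebra A₀ Q] [IsScalarTower A₀ A Q] {κ : Type} (π : MvPolynomial κ A →ₐ[A] Q)
    (I₀ : Ideal (MvPolynomial κ A₀)) [Algebra (MvPolynomial κ A₀ ⧸ I₀) Q]
    (hmk : ∀ z, algebraMap (MvPolynomial κ A₀ ⧸ I₀) Q (Ideal.Quotient.mk I₀ z) =
      π (MvPolynomial.map (algebraMap A₀ A) z)) :
    IsScalarTower A₀ (MvPolynomial κ A₀ ⧸ I₀) Q :=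
  IsScalarTower.of_algebraMap_eq fun x => by
    show _ = algebraMap (MvPolynomial κ A₀ ⧸ I₀) Q (Ideal.Quotient.mk I₀ (algebraMap A₀ (MvPolynomial κ A₀) x))
    rw [hmk, MvPolynomial.algebraMap_eq, MvPolynomial.map_C, ← MvPolynomial.algebraMap_eq, π.commutes,
      ← IsScalarTower.algebraMap_apply]

/-- A quotient of a polynomial ring over the base is a model of a presented algebra. -/
theorem isPushout_polyQuot {A₀ A Q : Type u} [CommRing A₀] [CommRing A] [CommRing Q] [Algebra A₀ A]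
    [Algebra A Q] [Algebra A₀ Q] [IsScalarTower A₀ A Q] {κ : Type} (π : MvPolynomial κ A →ₐ[A] Q)
    (hπ : Function.Surjective π) (I₀ : Ideal (MvPolynomial κ A₀)) [Algebra (MvPolynomial κ A₀ ⧸ I₀) Q]
    [IsScalarTower A₀ (MvPolynomial κ A₀ ⧸ I₀) Q]
    (hmk : ∀ z, algebraMap (MvPolynomial κ A₀ ⧸ I₀) Q (Ideal.Quotient.mk I₀ z) =
      π (MvPolynomial.map (algebraMap A₀ A) z))
    (hker : RingHom.ker π.toRingHom ≤ I₀.map (MvPolynomial.map (algebraMap A₀ A))) :
    Algebra.IsPushout A₀ A (MvPolynomial κ A₀ ⧸ I₀) Q := by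
  letI : Algebra (MvPolynomial κ A₀) (MvPolynomial κ A) := MvPolynomial.algebraMvPolynomial
  letI : Algebra (MvPolynomial κ A) Q := π.toRingHom.toAlgebra
  letI : Algebra (MvPolynomial κ A₀) Q := (π.toRingHom.comp (MvPolynomial.map (algebraMap A₀ A))).toAlgebra
  haveI : IsScalarTower (MvPolynomial κ A₀) (MvPolynomial κ A) Q := IsScalarTower.of_algebraMap_eq fun x => rfl
  haveI : IsScalarTower (MvPolynomial κ A₀) (MvPolynomial κ A₀ ⧸ I₀) Q := isScalarTower_quotient I₀ hmk
  haveI : IsScalarTower A (MvPolynomial κ A) Q := IsScalarTower.of_algebraMap_eq fun x => (π.commutes x).symm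
  haveI : IsScalarTower A₀ (MvPolynomial κ A) Q := IsScalarTower.of_algebraMap_eq fun x => by
    rw [IsScalarTower.algebraMap_apply A₀ A Q, IsScalarTower.algebraMap_apply A₀ A (MvPolynomial κ A),
      ← IsScalarTower.algebraMap_apply A (MvPolynomial κ A) Q]
  haveI : IsScalarTower A₀ (MvPolynomial κ A₀) Q := IsScalarTower.of_algebraMap_eq fun x => by
    rw [IsScalarTower.algebraMap_apply (MvPolynomial κ A₀) (MvPolynomial κ A) Q,
      ← IsScalarTower.algebraMap_apply A₀ (MvPolynomial κ A₀) (MvPolynomial κ A), ← IsScalarTower.algebraMap_apply]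
  refine isPushout_of_surjective (P₀ := MvPolynomial κ A₀) (P := MvPolynomial κ A)
    (Q₀ := MvPolynomial κ A₀ ⧸ I₀) Ideal.Quotient.mk_surjective hπ ?_
  rw [Ideal.Quotient.algebraMap_eq, Ideal.mk_ker]
  exact hker

/-- The criterion, given a model of the algebras, containing the relations of the module. -/
theorem flat_of_presentation {R₀ S₀ U₀ R S U M K B C : Type u}
    [CommRing R₀] [CommRing S₀] [CommRing U₀] [CommRing R] [CommRing S] [CommRing U] [IsNoetherianRing R₀]
    [Algebra R₀ S₀] [Algebra S₀ U₀] [Algebra R₀ U₀] [IsScalarTower R₀ S₀ U₀]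
    [Algebra.FiniteType R₀ S₀] [Algebra.FiniteType S₀ U₀]
    [Algebra R S] [Algebra S U] [Algebra R U] [IsScalarTower R S U]
    [Algebra R₀ R] [Algebra S₀ S] [Algebra U₀ U] [Algebra R₀ S] [Algebra R₀ U] [Algebra S₀ U]
    [IsScalarTower R₀ R S] [IsScalarTower R₀ S₀ S] [IsScalarTower R₀ R U] [IsScalarTower R₀ U₀ U]
    [IsScalarTower S₀ S U] [IsScalarTower S₀ U₀ U]
    [Algebra.IsPushout R₀ R S₀ S] [Algebra.IsPushout S₀ S U₀ U]
    [AddCommGroup M] [Module U M] [Module S M] [Module R M] [IsScalarTower S U M] [IsScalarTower R U M]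
    {n : ℕ} {L : Submodule U (Fin n → U)} (eM : M ≃ₗ[U] (Fin n → U) ⧸ L) (N : Finset (Fin n → U))
    (hN : Submodule.span U (N : Set (Fin n → U)) = L)
    (hN' : ∀ v ∈ N, ∀ i, v i ∈ Set.range (algebraMap U₀ U))
    (q : Ideal U) [q.IsPrime] [Module.Flat R (LocalizedModule q.primeCompl M)]
    [Field K] [Algebra R K] (hK : RingHom.ker (algebraMap R K) = q.comap (algebraMap R U))
    [CommRing B] [Algebra K B] [Algebra S B] [Algebra R B] [IsScalarTower R K B] [IsScalarTower R S B]
    [Algebra.IsPushout R K S B]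
    [CommRing C] [Algebra K C] [Algebra U C] [Algebra R C] [Algebra B C] [Algebra S C]
    [IsScalarTower R K C] [IsScalarTower R U C] [IsScalarTower S B C] [IsScalarTower S U C]
    [Algebra.IsPushout R K U C]
    (q' : Ideal C) [q'.IsPrime] (hq' : q'.comap (algebraMap U C) = q)
    (h : Module.Flat B (Localization.AtPrime q' ⊗[U] M)) :
    Module.Flat S (LocalizedModule q.primeCompl M) := by
  classical
  haveI : Algebra.FiniteType R₀ U₀ := Algebra.FiniteType.trans (R := R₀) (S := S₀) (A := U₀) inferInstance inferInstance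
  haveI : IsScalarTower R₀ S U := IsScalarTower.of_algebraMap_eq fun x => by
    rw [IsScalarTower.algebraMap_apply R₀ R U, IsScalarTower.algebraMap_apply R₀ R S, ← IsScalarTower.algebraMap_apply R S U]
  haveI hU₀ : Algebra.IsPushout R₀ R U₀ U := by
    haveI : Algebra.IsPushout R₀ S₀ R S := .symm inferInstance
    exact .symm ((Algebra.IsPushout.comp_iff (R := R₀) (S := S₀) (R' := R) (S' := S) (T := U₀) (T' := U)).mpr
      (.symm inferInstance))
  choose! v₀ hv₀ using hN'
  let N₀ : Submodule U₀ (Fin n → U₀) := Submodule.span _ (v₀ '' N)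
  letI : Module U₀ M := Module.compHom M (algebraMap U₀ U)
  haveI : IsScalarTower U₀ U M := IsScalarTower.of_algebraMap_smul fun _ _ => rfl
  let pM : (Fin n → U) →ₗ[U] M := eM.symm.toLinearMap ∘ₗ L.mkQ
  let j : (Fin n → U₀) →ₗ[U₀] (Fin n → U) := (Algebra.linearMap U₀ U).compLeft (Fin n)
  have hpj : N₀ ≤ LinearMap.ker ((pM.restrictScalars U₀) ∘ₗ j) := by
    rw [Submodule.span_le]
    rintro _ ⟨v, hv, rfl⟩
    show eM.symm (L.mkQ (j (v₀ v))) = 0
    have : j (v₀ v) = v := funext fun i => hv₀ v hv i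
    rw [this, Submodule.mkQ_apply, (Submodule.Quotient.mk_eq_zero L).mpr (hN ▸ Submodule.subset_span hv), map_zero]
  let g : ((Fin n → U₀) ⧸ N₀) →ₗ[U₀] M := N₀.liftQ _ hpj
  have hg : IsBaseChange U g := by
    refine isBaseChange_quotient ((IsBaseChange.linearMap U₀ U).finitePow (Fin n)) N₀.mkQ
      (Submodule.mkQ_surjective _) pM (eM.symm.surjective.comp (Submodule.mkQ_surjective _)) g (fun x => rfl) ?_
    intro y hy
    have hyL : y ∈ L := by
      rw [LinearMap.mem_ker] at hy
      exact (Submodule.Quotient.mk_eq_zero L).mp (eM.symm.map_eq_zero_iff.mp hy)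
    rw [← hN] at hyL
    refine (Submodule.span_le.mpr ?_) hyL
    intro v hv
    exact Submodule.subset_span ⟨v₀ v, by rw [SetLike.mem_coe, Submodule.ker_mkQ]; exact Submodule.subset_span ⟨v, hv, rfl⟩,
      funext fun i => hv₀ v hv i⟩
  letI : Module R₀ M := Module.compHom M (algebraMap R₀ R)
  haveI : IsScalarTower R₀ R M := IsScalarTower.of_algebraMap_smul fun _ _ => rfl
  exact flat_of_model_stage (R₀ := R₀) (S₀ := S₀) g hg q hK q' hq' h

open MvPolynomial in
/-- The criterion, given a model of the base algebra. -/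
theorem flat_of_algebra_model {R₀ S₀ R S U M K B C : Type u}
    [CommRing R₀] [CommRing S₀] [CommRing R] [CommRing S] [CommRing U] [IsNoetherianRing R₀]
    [Algebra R₀ S₀] [Algebra.FiniteType R₀ S₀]
    [Algebra R S] [Algebra S U] [Algebra R U] [IsScalarTower R S U]
    [Algebra R₀ R] [Algebra S₀ S] [Algebra R₀ S] [Algebra R₀ U]
    [IsScalarTower R₀ R S] [IsScalarTower R₀ S₀ S] [IsScalarTower R₀ R U]
    [Algebra.IsPushout R₀ R S₀ S]
    [AddCommGroup M] [Module U M] [Module S M] [Module R M] [IsScalarTower S U M] [IsScalarTower R U M]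
    {b : ℕ} (ρ : MvPolynomial (Fin b) S →ₐ[S] U) (hρ : Function.Surjective ρ)
    (H : Finset (MvPolynomial (Fin b) S)) (hH : Ideal.span (H : Set (MvPolynomial (Fin b) S)) = RingHom.ker ρ.toRingHom)
    {n : ℕ} {L : Submodule U (Fin n → U)} (eM : M ≃ₗ[U] (Fin n → U) ⧸ L) (N : Finset (Fin n → U))
    (hN : Submodule.span U (N : Set (Fin n → U)) = L)
    (hH' : ∀ z ∈ H, ∃ z₀, MvPolynomial.map (algebraMap S₀ S) z₀ = z)
    (hN' : ∀ v ∈ N, ∀ i, ∃ w, ρ w = v i ∧ ∃ w₀, MvPolynomial.map (algebraMap S₀ S) w₀ = w)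
    (q : Ideal U) [q.IsPrime] [Module.Flat R (LocalizedModule q.primeCompl M)]
    [Field K] [Algebra R K] (hK : RingHom.ker (algebraMap R K) = q.comap (algebraMap R U))
    [CommRing B] [Algebra K B] [Algebra S B] [Algebra R B] [IsScalarTower R K B] [IsScalarTower R S B]
    [Algebra.IsPushout R K S B]
    [CommRing C] [Algebra K C] [Algebra U C] [Algebra R C] [Algebra B C] [Algebra S C]
    [IsScalarTower R K C] [IsScalarTower R U C] [IsScalarTower S B C] [IsScalarTower S U C]
    [Algebra.IsPushout R K U C]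
    (q' : Ideal C) [q'.IsPrime] (hq' : q'.comap (algebraMap U C) = q)
    (h : Module.Flat B (Localization.AtPrime q' ⊗[U] M)) :
    Module.Flat S (LocalizedModule q.primeCompl M) := by
  classical
  choose! h₀ hh₀ using hH'
  obtain ⟨J₀, hJ₀⟩ : ∃ J₀ : Ideal (MvPolynomial (Fin b) S₀), J₀ = Ideal.span (h₀ '' H) := ⟨_, rfl⟩
  let sU : (MvPolynomial (Fin b) S₀ ⧸ J₀) →+* U :=
    Ideal.Quotient.lift J₀ (ρ.toRingHom.comp (MvPolynomial.map (algebraMap S₀ S))) (fun x hx => by
      have : J₀ ≤ RingHom.ker (ρ.toRingHom.comp (MvPolynomial.map (algebraMap S₀ S))) := by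
        rw [hJ₀, Ideal.span_le]
        rintro _ ⟨z, hz, rfl⟩
        show ρ (MvPolynomial.map (algebraMap S₀ S) (h₀ z)) = 0
        rw [hh₀ z hz]
        exact (hH ▸ Ideal.subset_span hz : z ∈ RingHom.ker ρ.toRingHom)
      exact this hx)
  letI : Algebra (MvPolynomial (Fin b) S₀ ⧸ J₀) U := sU.toAlgebra
  letI : Algebra S₀ U := ((algebraMap S U).comp (algebraMap S₀ S)).toAlgebra
  haveI : IsScalarTower S₀ S U := IsScalarTower.of_algebraMap_eq fun x => rfl
  haveI hUt : IsScalarTower S₀ (MvPolynomial (Fin b) S₀ ⧸ J₀) U := isScalarTower_polyQuot (A := S) ρ J₀ fun z => rfl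
  haveI hUp : Algebra.IsPushout S₀ S (MvPolynomial (Fin b) S₀ ⧸ J₀) U :=
    isPushout_polyQuot (A := S) ρ hρ J₀ (fun z => rfl) (by
      rw [← hH, Ideal.span_le, hJ₀]
      intro z hz
      rw [← hh₀ z hz]
      exact Ideal.mem_map_of_mem _ (Ideal.subset_span ⟨z, hz, rfl⟩))
  haveI : IsScalarTower R₀ (MvPolynomial (Fin b) S₀ ⧸ J₀) U :=
    IsScalarTower.of_algebraMap_eq (R := R₀) (S := MvPolynomial (Fin b) S₀ ⧸ J₀) (A := U) fun x => by
      rw [IsScalarTower.algebraMap_apply R₀ S₀ (MvPolynomial (Fin b) S₀ ⧸ J₀), ← hUt.algebraMap_apply,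
        IsScalarTower.algebraMap_apply S₀ S U, ← IsScalarTower.algebraMap_apply R₀ S₀ S,
        IsScalarTower.algebraMap_apply R₀ R U, IsScalarTower.algebraMap_apply R₀ R S,
        ← IsScalarTower.algebraMap_apply R S U]
  refine flat_of_presentation (R₀ := R₀) (S₀ := S₀) (U₀ := MvPolynomial (Fin b) S₀ ⧸ J₀) eM N hN
    (fun v hv i => ?_) q hK q' hq' h
  obtain ⟨w, hw, w₀, hw₀⟩ := hN' v hv i
  refine ⟨Ideal.Quotient.mk _ w₀, ?_⟩
  show ρ (MvPolynomial.map (algebraMap S₀ S) w₀) = v i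
  rw [hw₀, hw]

/-- **Fibrewise criterion of flatness**: for finitely presented algebras `S`, `U` over `R` and a finitely
presented `U`-module `M` which is flat over `R` at `q`, if the fibre of `M` at `q` is flat over the fibre
ring of `S`, then `M` is flat over `S` at `q`. -/
theorem flat_of_fibre {R S U M K B C : Type u} [CommRing R] [CommRing S] [CommRing U]
    [Algebra R S] [Algebra.FinitePresentation R S]
    [Algebra S U] [Algebra R U] [IsScalarTower R S U] [Algebra.FinitePresentation R U]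
    [AddCommGroup M] [Module U M] [Module S M] [Module R M] [IsScalarTower S U M] [IsScalarTower R U M]
    [Module.FinitePresentation U M]
    (q : Ideal U) [q.IsPrime] [Module.Flat R (LocalizedModule q.primeCompl M)]
    [Field K] [Algebra R K] (hK : RingHom.ker (algebraMap R K) = q.comap (algebraMap R U))
    [CommRing B] [Algebra K B] [Algebra S B] [Algebra R B] [IsScalarTower R K B] [IsScalarTower R S B]
    [Algebra.IsPushout R K S B]
    [CommRing C] [Algebra K C] [Algebra U C] [Algebra R C] [Algebra B C] [Algebra S C]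
    [IsScalarTower R K C] [IsScalarTower R U C] [IsScalarTower S B C] [IsScalarTower S U C]
    [Algebra.IsPushout R K U C]
    (q' : Ideal C) [q'.IsPrime] (hq' : q'.comap (algebraMap U C) = q)
    (h : Module.Flat B (Localization.AtPrime q' ⊗[U] M)) :
    Module.Flat S (LocalizedModule q.primeCompl M) := by
  classical
  -- presentations
  obtain ⟨a, π, hπ, G, hG⟩ := Algebra.FinitePresentation.out (R := R) (A := S)
  haveI : Algebra.FinitePresentation S U := Algebra.FinitePresentation.of_restrict_scalars_finitePresentation R S U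
  obtain ⟨b, ρ, hρ, H, hH⟩ := Algebra.FinitePresentation.out (R := S) (A := U)
  obtain ⟨n, L, eM, hL⟩ := Module.FinitePresentation.exists_fin U M
  obtain ⟨N, hN⟩ := hL
  choose σ hσ using hπ
  choose τ hτ using hρ
  -- the finitely generated base
  let sc : Finset S := H.biUnion (fun z => z.support.image fun m => z.coeff m) ∪
    N.biUnion (fun v => Finset.univ.biUnion fun i => (τ (v i)).support.image fun m => (τ (v i)).coeff m)
  let W : Finset R := G.biUnion (fun z => z.support.image fun m => z.coeff m) ∪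
    sc.biUnion (fun s => (σ s).support.image fun m => (σ s).coeff m)
  let R₀ := Algebra.adjoin ℤ (W : Set R)
  haveI : IsNoetherianRing R₀ := by
    haveI : Algebra.FiniteType ℤ R₀ := R₀.fg_iff_finiteType.mp ⟨W, rfl⟩
    exact Algebra.FiniteType.isNoetherianRing ℤ R₀
  have hrange : ∀ {ι : Type} (z : MvPolynomial ι R), (∀ m ∈ z.support, z.coeff m ∈ W) →
      ∃ z₀ : MvPolynomial ι R₀, MvPolynomial.map (algebraMap R₀ R) z₀ = z := by
    intro ι z hz
    have : z ∈ Set.range (MvPolynomial.map (algebraMap R₀ R)) := by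
      rw [MvPolynomial.mem_range_map_iff_coeffs_subset]
      intro c hc
      obtain ⟨m, hm, rfl⟩ := MvPolynomial.mem_coeffs_iff.mp hc
      exact ⟨⟨_, Algebra.subset_adjoin (hz m hm)⟩, rfl⟩
    exact this
  have hG' : ∀ z ∈ G, ∃ z₀ : MvPolynomial (Fin a) R₀, MvPolynomial.map (algebraMap R₀ R) z₀ = z := fun z hz =>
    hrange z fun m hm => Finset.mem_union_left _ (Finset.mem_biUnion.mpr ⟨z, hz, Finset.mem_image_of_mem _ hm⟩)
  choose! g₀ hg₀ using hG'
  -- `S₀`
  obtain ⟨I₀, hI₀⟩ : ∃ I₀ : Ideal (MvPolynomial (Fin a) R₀), I₀ = Ideal.span (g₀ '' G) := ⟨_, rfl⟩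
  let sS : (MvPolynomial (Fin a) R₀ ⧸ I₀) →+* S :=
    Ideal.Quotient.lift I₀ (π.toRingHom.comp (MvPolynomial.map (algebraMap R₀ R))) (fun x hx => by
      have : I₀ ≤ RingHom.ker (π.toRingHom.comp (MvPolynomial.map (algebraMap R₀ R))) := by
        rw [hI₀, Ideal.span_le]
        rintro _ ⟨z, hz, rfl⟩
        show π (MvPolynomial.map (algebraMap R₀ R) (g₀ z)) = 0
        rw [hg₀ z hz]
        exact (hG ▸ Ideal.subset_span hz : z ∈ RingHom.ker π.toRingHom)
      exact this hx)
  letI : Algebra (MvPolynomial (Fin a) R₀ ⧸ I₀) S := sS.toAlgebra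
  haveI hSt : IsScalarTower R₀ (MvPolynomial (Fin a) R₀ ⧸ I₀) S := isScalarTower_polyQuot (A := R) π I₀ fun z => rfl
  haveI hSp : Algebra.IsPushout R₀ R (MvPolynomial (Fin a) R₀ ⧸ I₀) S := isPushout_polyQuot (A := R) π (fun s => ⟨σ s, hσ s⟩) I₀ (fun z => rfl) (by
    rw [← hG, Ideal.span_le, hI₀]
    intro z hz
    rw [← hg₀ z hz]
    exact Ideal.mem_map_of_mem _ (Ideal.subset_span ⟨z, hz, rfl⟩))
  have hsc : ∀ s ∈ sc, s ∈ Set.range sS := by
    intro s hs
    obtain ⟨z₀, hz₀⟩ := hrange (σ s) fun m hm =>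
      Finset.mem_union_right _ (Finset.mem_biUnion.mpr ⟨s, hs, Finset.mem_image_of_mem _ hm⟩)
    exact ⟨Ideal.Quotient.mk _ z₀, by show π (MvPolynomial.map (algebraMap R₀ R) z₀) = s; rw [hz₀, hσ]⟩
  have hrangeS : ∀ z : MvPolynomial (Fin b) S, (∀ m ∈ z.support, z.coeff m ∈ sc) →
      ∃ z₀ : MvPolynomial (Fin b) (MvPolynomial (Fin a) R₀ ⧸ I₀),
        MvPolynomial.map (algebraMap (MvPolynomial (Fin a) R₀ ⧸ I₀) S) z₀ = z := by
    intro z hz
    have : z ∈ Set.range (MvPolynomial.map (algebraMap (MvPolynomial (Fin a) R₀ ⧸ I₀) S)) := by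
      rw [MvPolynomial.mem_range_map_iff_coeffs_subset]
      intro c hc
      obtain ⟨m, hm, rfl⟩ := MvPolynomial.mem_coeffs_iff.mp hc
      exact hsc _ (hz m hm)
    exact this
  exact flat_of_algebra_model (R₀ := R₀) (S₀ := MvPolynomial (Fin a) R₀ ⧸ I₀) ρ (fun u => ⟨τ u, hτ u⟩) H hH eM N hN (fun z hz =>
      hrangeS z fun m hm => Finset.mem_union_left _ (Finset.mem_biUnion.mpr ⟨z, hz, Finset.mem_image_of_mem _ hm⟩))
    (fun v hv i => ⟨τ (v i), hτ _, hrangeS _ fun m hm => Finset.mem_union_right _ (Finset.mem_biUnion.mpr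
      ⟨v, hv, Finset.mem_biUnion.mpr ⟨i, Finset.mem_univ _, Finset.mem_image_of_mem _ hm⟩⟩)⟩) q hK q' hq' h

end Groth.L20.FibreCrit
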