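import Groth.Agent.L19.FinLocPush
import Groth.Agent.L19.ProjBdl.Basis
import Groth.Agent.L17.ProjFormula
import Groth.Agent.L29.DCoh.TensorPerfect
import Groth.Agent.L29.DCoh.QCohOps
import Groth.Agent.L29.DCoh.PCQCoh
import Groth.Agent.L16.AffineBC.Pullback
import Groth.Prelude.Def_PerfAux

/-!
# Descent of the resolution property along finite locally free morphisms
-/

set_option autoImplicit false
set_option linter.style.haveILetI false
set_option backward.isDefEq.respectTransparency.types false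
set_option backward.isDefEq.respectTransparency false

universe u

open CategoryTheory CategoryTheory.Limits AlgebraicGeometry TopologicalSpace Opposite MonoidalCategory TensorProduct

noncomputable section

namespace Groth.L20.ResDescent

open Groth.L18.Frame (rs ro rs_rs ro_ro rs_smul ro_self rs_self pull)

variable {X Y : Scheme.{u}}

/-- A module with a basis over everything is free. -/
theorem nonempty_iso_free {Z : Scheme.{u}} {M : Z.Modules} {n : ℕ} {W : Z.Opens} (hW : ⊤ ≤ W)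
    {b : Fin n → Γ(M, W)} (hb : Groth.L19.ProjBdl.IsBasisOn M W b) :
    Nonempty (M ≅ FlatMod.freeMod Z n) := by
  obtain ⟨s, hs⟩ := Groth.L17.FinLocBases.exists_isBasis (FlatMod.freeMod Z n) (U := ⊤)
    ((Scheme.Modules.restrictFunctorIsoPullback (⊤ : Z.Opens).ι).app _ ≪≫
      Groth.L29.LocFree.pullbackFreeIso _ n)
  have hT : ⊤ ≤ (⊤ : Z.Opens).ι ''ᵁ ⊤ :=
    ((Scheme.Hom.image_top_eq_opensRange (⊤ : Z.Opens).ι).trans (⊤ : Z.Opens).opensRange_ι).ge
  have hs' := (Groth.L19.ProjBdl.isBasisOn_of_locBases hs).mono (W' := W) (le_top.trans hT)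
  obtain ⟨φ, hφ⟩ := Groth.L19.ProjBdl.exists_hom_basis hb hW (fun i => rs (FlatMod.freeMod Z n) (le_top.trans hT) (s i))
  obtain ⟨ψ, hψ⟩ := Groth.L19.ProjBdl.exists_hom_basis hs' hW b
  refine ⟨⟨φ, ψ, Groth.L19.ProjBdl.hom_ext_basis hb hW _ _ fun i => ?_,
    Groth.L19.ProjBdl.hom_ext_basis hs' hW _ _ fun i => ?_⟩⟩
  · exact (congrArg (ψ.app W) (hφ i)).trans (hψ i)
  · exact (congrArg (φ.app W) (hψ i)).trans (hφ i)

set_option maxHeartbeats 800000 in
/-- Local bases give local freeness. -/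
theorem isFinLocFree_of_hasLocBases {M : Y.Modules}
    (h : Groth.L17.LocBases.HasLocBases (O := Y.sheaf) M) : FlatMod.IsFinLocFree M := by
  intro y
  obtain ⟨S, hS, hb⟩ := h ⊤
  obtain ⟨W₀, g, hg, hy⟩ := hS y trivial
  let W : Y.Opens := W₀
  obtain ⟨n, t, ht⟩ := hb W₀ g hg
  obtain ⟨e⟩ := nonempty_iso_free (le_of_eq (W.ι_preimage_self).symm)
    ((Groth.L19.ProjBdl.isBasisOn_of_locBases ht).pullback W.ι)
  exact ⟨W, n, hy, ⟨(Scheme.Modules.restrictFunctorIsoPullback W.ι).app M ≪≫ e⟩⟩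

/-- The dual of a finite locally free module is finite locally free. -/
theorem isFinLocFree_dual (E : Y.Modules) [ModSite.HasSheafHom (O := Y.sheaf) E] (hE : FlatMod.IsFinLocFree E) :
    FlatMod.IsFinLocFree (Groth.L17.Duality.dual E) :=
  isFinLocFree_of_hasLocBases
    (Groth.L17.LocBases.hasLocBases_dual (O := Y.sheaf) (F := E) (Groth.L17.FinLocBases.hasLocBases hE))

/-- The direct image along an affine morphism on affine charts. -/
theorem exists_chart (f : X ⟶ Y) [IsAffineHom f] (E : X.Modules) [Coh.IsQCoh E] {V : Y.Opens}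
    (hV : IsAffineOpen V) :
    ∃ (N : ModuleCat.{u} Γ(Y, V)),
      Nonempty (((Scheme.Modules.pushforward f).obj E).restrict hV.fromSpec ≅ tilde N) ∧
        Nonempty ((N : Type u) ≃ₗ[Γ(Y, V)] Γ((Scheme.Modules.pushforward f).obj E, V)) := by
  haveI : Coh.IsQCoh ((Scheme.Modules.pushforward f).obj E) := Groth.L16.QcqsPush.isQCoh_push _ f
  obtain ⟨N, ⟨e⟩⟩ := Groth.L00.Local.exists_tilde_iso_restrict hV.fromSpec
    ((Scheme.Modules.pushforward f).obj E)
  refine ⟨N, ⟨e⟩, ?_⟩
  let M := (Scheme.Modules.pushforward f).obj E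
  let j := hV.fromSpec
  have hle : j ''ᵁ ⊤ ≤ V := ((Scheme.Hom.image_top_eq_opensRange j).trans hV.opensRange_fromSpec).le
  have hge : V ≤ j ''ᵁ ⊤ := ((Scheme.Hom.image_top_eq_opensRange j).trans hV.opensRange_fromSpec).ge
  have hW : ⊤ ≤ j ⁻¹ᵁ V := hV.fromSpec_preimage_self.ge
  have hγ : ∀ a : Γ(Y, V), (j.appIso ⊤).inv ((Scheme.ΓSpecIso Γ(Y, V)).inv a) = ro hle a := by
    intro a
    have h1 : j.appLE V ⊤ hW = (Scheme.ΓSpecIso Γ(Y, V)).inv := by
      rw [Scheme.Hom.appLE, hV.fromSpec_app_self, Category.assoc, ← Functor.map_comp]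
      exact (congrArg ((Scheme.ΓSpecIso Γ(Y, V)).inv ≫ ·) ((Spec Γ(Y, V)).presheaf.map_id _)).trans
        (Category.comp_id _)
    rw [← h1]
    exact congr($(Scheme.Hom.appLE_appIso_inv j hW) a)
  have hsmulN : ∀ (a : Γ(Y, V)) (m : N), (show Γ(tilde N, ⊤) from (tilde.toOpen N ⊤).hom (a • m)) =
      (Scheme.ΓSpecIso Γ(Y, V)).inv a • (show Γ(tilde N, ⊤) from (tilde.toOpen N ⊤).hom m) := fun a m =>
    ((tilde.toOpen N ⊤).hom.map_smul _ _).trans ((Scheme.Modules.smul_Spec_def a _).trans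
      (congrArg (· • (show Γ(tilde N, ⊤) from (tilde.toOpen N ⊤).hom m)) (ro_self _ _)))
  let Φ : N → Γ(M, V) := fun m =>
    rs M hge (show Γ(M, j ''ᵁ ⊤) from e.inv.app ⊤ (show Γ(tilde N, ⊤) from tilde.toOpen N ⊤ m))
  have hadd : ∀ x y : N, Φ (x + y) = Φ x + Φ y := fun x y => by
    show rs M hge (e.inv.app ⊤ (show Γ(tilde N, ⊤) from (tilde.toOpen N ⊤).hom (x + y))) = _
    exact (congrArg (fun z => rs M hge (e.inv.app ⊤ z)) (map_add (tilde.toOpen N ⊤).hom x y)).trans
      ((congrArg (rs M hge) (map_add (e.inv.app ⊤).hom _ _)).trans (map_add _ _ _))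
  have hsmul : ∀ (a : Γ(Y, V)) (m : N), Φ (a • m) = a • Φ m := fun a m => by
    show rs M hge (e.inv.app ⊤ (show Γ(tilde N, ⊤) from (tilde.toOpen N ⊤).hom (a • m))) = _
    rw [hsmulN, Scheme.Modules.Hom.app_smul]
    show rs M hge ((j.appIso ⊤).inv ((Scheme.ΓSpecIso Γ(Y, V)).inv a) •
      (show Γ(M, j ''ᵁ ⊤) from e.inv.app ⊤ (show Γ(tilde N, ⊤) from tilde.toOpen N ⊤ m))) = _
    rw [hγ, rs_smul, ro_ro, ro_self]
  have hbij : Function.Bijective Φ := by
    refine Function.Bijective.comp ⟨fun a b e => ?_, fun b => ⟨rs M hle b, (rs_rs M hle hge b).trans (rs_self M _ b)⟩⟩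
      ((ConcreteCategory.bijective_of_isIso (e.inv.app ⊤)).comp
        (ConcreteCategory.bijective_of_isIso (tilde.isoTop N).hom))
    have := congrArg (rs M hle) e
    rwa [rs_rs, rs_rs, rs_self, rs_self] at this
  let L : (N : Type u) →ₗ[Γ(Y, V)] Γ(M, V) :=
    { toFun := fun m => Φ m
      map_add' := hadd
      map_smul' := fun a m => hsmul a m }
  exact ⟨LinearEquiv.ofBijective L hbij⟩

/-- The direct image of a finite locally free module along a finite locally free morphism is finite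
locally free. -/
theorem isFinLocFree_push (f : X ⟶ Y) (h : Mor2.IsFinLocFree f) (E : X.Modules)
    (hE : FlatMod.IsFinLocFree E) : FlatMod.IsFinLocFree ((Scheme.Modules.pushforward f).obj E) := by
  obtain ⟨h1, h2, h3⟩ := h
  haveI : Coh.IsQCoh E := Groth.L29.DC.PCQCoh.isQCoh_of_isFinLocFree hE
  refine Groth.L19.PullChart.isFinLocFree_of_projective_charts _ fun x => ?_
  obtain ⟨_, ⟨V, hV, rfl⟩, hxV, -⟩ :=
    Y.isBasis_affineOpens.exists_subset_of_mem_open (Set.mem_univ x) isOpen_univ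
  replace hV : IsAffineOpen V := hV
  obtain ⟨N, ⟨e⟩, ⟨L⟩⟩ := exists_chart f E hV
  letI := (f.app V).hom.toAlgebra
  haveI : Module.Finite Γ(Y, V) Γ(X, f ⁻¹ᵁ V) := f.finite_app V hV
  have hfl : (f.app V).hom.Flat := by
    rw [Scheme.Hom.app_eq_appLE]
    exact h2.flat_appLE hV (hV.preimage f) le_rfl
  have hfp : (f.app V).hom.FinitePresentation := by
    rw [Scheme.Hom.app_eq_appLE]
    exact h3.finitePresentation_appLE hV (hV.preimage f) le_rfl
  haveI : Module.Flat Γ(Y, V) Γ(X, f ⁻¹ᵁ V) := hfl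
  haveI : Algebra.FinitePresentation Γ(Y, V) Γ(X, f ⁻¹ᵁ V) := hfp
  haveI := Module.FinitePresentation.of_finite_of_finitePresentation Γ(Y, V) Γ(X, f ⁻¹ᵁ V)
  haveI : Module.FinitePresentation Γ(X, f ⁻¹ᵁ V) Γ(E, f ⁻¹ᵁ V) :=
    Groth.L20.ModStalk.finitePresentation_sections E (Groth.L18.LFP.isFP_of_isFinLocFree E hE) (hV.preimage f)
  haveI : Module.Flat Γ(X, f ⁻¹ᵁ V) Γ(E, f ⁻¹ᵁ V) :=
    Groth.L18.LFP.flat_sections E (Groth.L29.DC.isFlat_of_isFinLocFree hE) (hV.preimage f)
  letI : Module Γ(Y, V) Γ(E, f ⁻¹ᵁ V) := Module.compHom _ (f.app V).hom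
  haveI : IsScalarTower Γ(Y, V) Γ(X, f ⁻¹ᵁ V) Γ(E, f ⁻¹ᵁ V) := IsScalarTower.of_algebraMap_smul fun _ _ => rfl
  haveI hq1 : Module.Projective Γ(Y, V) Γ(X, f ⁻¹ᵁ V) := Module.Flat.projective_of_finitePresentation
  haveI hq2 : Module.Projective Γ(X, f ⁻¹ᵁ V) Γ(E, f ⁻¹ᵁ V) := Module.Flat.projective_of_finitePresentation
  haveI : Module.Finite Γ(Y, V) Γ(E, f ⁻¹ᵁ V) := Module.Finite.trans Γ(X, f ⁻¹ᵁ V) _
  haveI : Module.Flat Γ(Y, V) Γ(E, f ⁻¹ᵁ V) := Module.Flat.trans Γ(Y, V) Γ(X, f ⁻¹ᵁ V) _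
  haveI : Module.FinitePresentation Γ(Y, V) Γ(E, f ⁻¹ᵁ V) :=
    Module.FinitePresentation.trans Γ(Y, V) Γ(E, f ⁻¹ᵁ V) Γ(X, f ⁻¹ᵁ V)
  let L' : (N : Type u) ≃ₗ[Γ(Y, V)] Γ(E, f ⁻¹ᵁ V) :=
    { toFun := fun m => L m
      invFun := fun m => L.symm m
      left_inv := L.left_inv
      right_inv := L.right_inv
      map_add' := fun a b => map_add L a b
      map_smul' := fun a b => L.map_smul a b }
  haveI : Module.FinitePresentation Γ(Y, V) N := Module.FinitePresentation.of_equiv L'.symm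
  haveI : Module.Flat Γ(Y, V) N := Module.Flat.of_linearEquiv L'
  exact ⟨Γ(Y, V), hV.fromSpec, inferInstance, N, hV.opensRange_fromSpec.ge hxV, inferInstance,
    Module.Flat.projective_of_finitePresentation, ⟨e⟩⟩

section Unit

open Groth.L00.Tensor

variable {Z : Scheme.{u}}

/-- The counit of sheafification undoes the unit. -/
theorem counit_app_unit (M : Z.Modules) (U : Z.Opens) (w : (pre M).obj (op U)) :
    (counitIso M).hom.app U ((Groth.L00.Tensor.unit (pre M)).app (op U) w) = w :=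
  congrArg (fun k : pre M ⟶ pre M => k.app (op U) w)
    ((Groth.L17.ClosedPush.shAdj Z).right_triangle_components M)

/-- The value of the right unitor on an elementary tensor. -/
theorem tensorUnitRight_app (M : Z.Modules) (U : Z.Opens) (m : Γ(M, U)) (r : Γ(Z, U)) :
    (tensorUnitRight M).hom.app U ((Groth.L00.Tensor.unit (pre M ⊗ pre (Coh.structureModule Z))).app (op U)
      ((m : (pre M).obj (op U)) ⊗ₜ[Z.sheaf.obj.obj (op U)] (r : (pre (Coh.structureModule Z)).obj (op U)))) = r • m := by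
  have hn : (ρ_ (pre M)).hom ≫ Groth.L00.Tensor.unit (pre M) =
      Groth.L00.Tensor.unit (pre M ⊗ 𝟙_ (PX Z)) ≫ (preF Z).map ((shf Z).map (ρ_ (pre M)).hom) :=
    (Groth.L17.ClosedPush.shAdj Z).unit.naturality (ρ_ (pre M)).hom
  refine (congrArg ((counitIso M).hom.app U) (congrArg (fun k : pre M ⊗ 𝟙_ (PX Z) ⟶ pre ((shf Z).obj (pre M)) =>
    k.app (op U) ((m : (pre M).obj (op U)) ⊗ₜ[Z.sheaf.obj.obj (op U)]
      (r : (pre (Coh.structureModule Z)).obj (op U)))) hn).symm).trans ?_
  exact counit_app_unit M U _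

end Unit

section Key

open Groth.L00.Tensor

variable (f : X ⟶ Y)

/-- `M ⊗ f_* O ⟶ f_* f^* M`. -/
def ψ (M : Y.Modules) : CohB1.tensorMod M ((Scheme.Modules.pushforward f).obj (Coh.structureModule X)) ⟶
    (Scheme.Modules.pushforward f).obj ((Scheme.Modules.pullback f).obj M) :=
  Groth.L17.ClosedPush.θ f (Coh.structureModule X) M ≫
    (Scheme.Modules.pushforward f).map (tensorUnitRight ((Scheme.Modules.pullback f).obj M)).hom

theorem tensorUnitRight_natural {M N : X.Modules} (g : M ⟶ N) :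
    tensorMap g (𝟙 (Coh.structureModule X)) ≫ (tensorUnitRight N).hom = (tensorUnitRight M).hom ≫ g := by
  refine ((Groth.L17.ClosedPush.shAdj X).homEquiv (pre M ⊗ pre (Coh.structureModule X)) N).injective ?_
  refine ((Groth.L17.ClosedPush.shAdj X).homEquiv_unit ..).trans (Eq.trans ?_ ((Groth.L17.ClosedPush.shAdj X).homEquiv_unit ..).symm)
  refine PresheafOfModules.hom_ext fun V => ModuleCat.MonoidalCategory.tensor_ext fun m a => ?_
  exact ((congrArg ((tensorUnitRight N).hom.app V.unop)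
      (Groth.L17.ClosedPush.tensorMap_unit g (𝟙 (Coh.structureModule X)) V.unop m a)).trans
      (tensorUnitRight_app N V.unop _ _)).trans
    ((congrArg (g.app V.unop) (tensorUnitRight_app M V.unop m a)).trans (g.app_smul _ _)).symm

theorem ψ_natural {M N : Y.Modules} (g : M ⟶ N) :
    tensorMap g (𝟙 ((Scheme.Modules.pushforward f).obj (Coh.structureModule X))) ≫ ψ f N =
      ψ f M ≫ (Scheme.Modules.pushforward f).map ((Scheme.Modules.pullback f).map g) := by
  rw [ψ, ψ, ← Category.assoc, Groth.L17.ClosedPush.θ_natural, Category.assoc, Category.assoc,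
    ← Functor.map_comp, ← Functor.map_comp, tensorUnitRight_natural]

theorem ψ_app (M : Y.Modules) (V : Y.Opens) (m : Γ(M, V)) (a : Γ(X, f ⁻¹ᵁ V)) :
    (ψ f M).app V ((Groth.L00.Tensor.unit (pre M ⊗ pre ((Scheme.Modules.pushforward f).obj (Coh.structureModule X)))).app
      (op V) ((m : (pre M).obj (op V)) ⊗ₜ[Y.sheaf.obj.obj (op V)]
        (a : (pre ((Scheme.Modules.pushforward f).obj (Coh.structureModule X))).obj (op V)))) =
      a • pull f M V m :=
  (congrArg ((tensorUnitRight ((Scheme.Modules.pullback f).obj M)).hom.app (f ⁻¹ᵁ V))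
    (Groth.L17.ClosedPush.θ_app f (Coh.structureModule X) M V _ _)).trans
    (tensorUnitRight_app _ _ _ _)

/-- Sections of the pullback over the preimage of an affine open on which `f_* O` has a basis. -/
theorem bijective_pull_coords [IsAffineHom f] (M : Y.Modules) [Coh.IsQCoh M] {W : Y.Opens} (hW : IsAffineOpen W)
    {n : ℕ} (t : Fin n → Γ(X, f ⁻¹ᵁ W))
    (ht : Groth.L17.LocBases.IsBasis (O := Y.sheaf) ((Scheme.Modules.pushforward f).obj (Coh.structureModule X)) (W := W) t) :
    Function.Bijective fun a : Fin n → Γ(M, W) => ∑ i, t i • pull f M W (a i) := by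
  let U := f ⁻¹ᵁ W
  have hbc := Groth.L16.AffineBC.isBaseChange_pull f M hW (hW.preimage f) (le_rfl : U ≤ f ⁻¹ᵁ W)
  letI : Algebra Γ(Y, W) Γ(X, U) := (f.appLE W U le_rfl).hom.toAlgebra
  letI := Module.compHom Γ((Scheme.Modules.pullback f).obj M, U) (f.appLE W U le_rfl).hom
  haveI : IsScalarTower Γ(Y, W) Γ(X, U) Γ((Scheme.Modules.pullback f).obj M, U) :=
    IsScalarTower.of_algebraMap_smul fun _ _ => rfl
  have hA : ∀ r : Γ(Y, W), algebraMap Γ(Y, W) Γ(X, U) r = f.app W r := fun r =>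
    congr($(Scheme.Hom.app_eq_appLE (f := f) (U := W)).hom r).symm
  have hbij : Function.Bijective fun r : Fin n → Γ(Y, W) => ∑ i, r i • t i := by
    have h := ht W (𝟙 W)
    refine Eq.mp (congrArg Function.Bijective ?_) h
    funext r
    refine Finset.sum_congr rfl fun i _ => ?_
    rw [Groth.L17.LocBases.res_id]
    exact ((Algebra.smul_def (R := Γ(Y, W)) (A := Γ(X, U)) (r i) (t i)).trans (congrArg (· * t i) (hA (r i)))).symm
  let L : (Fin n → Γ(Y, W)) →ₗ[Γ(Y, W)] Γ(X, U) :=
    { toFun := fun r => ∑ i, r i • t i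
      map_add' := fun r s => by simp [add_smul, Finset.sum_add_distrib]
      map_smul' := fun c r => by simp [mul_smul, Finset.smul_sum] }
  let b : Module.Basis (Fin n) Γ(Y, W) Γ(X, U) := Module.Basis.ofEquivFun (LinearEquiv.ofBijective L hbij).symm
  have hb : ∀ i, b i = t i := fun i => by
    simp only [b, Module.Basis.coe_ofEquivFun, LinearEquiv.symm_symm]
    show ∑ j, (Pi.single i 1 : Fin n → Γ(Y, W)) j • t j = t i
    rw [Finset.sum_eq_single i (fun j _ hj => by rw [Pi.single_eq_of_ne hj, zero_smul])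
      (fun h => (h (Finset.mem_univ i)).elim), Pi.single_eq_same, one_smul]
  let E := (TensorProduct.equivFinsuppOfBasisLeft (N := Γ(M, W)) b).trans
    (Finsupp.linearEquivFunOnFinite Γ(Y, W) _ (Fin n))
  have : (fun a : Fin n → Γ(M, W) => ∑ i, t i • pull f M W (a i)) = hbc.equiv ∘ E.symm := by
    funext a
    show _ = hbc.equiv ((TensorProduct.equivFinsuppOfBasisLeft b).symm
      ((Finsupp.linearEquivFunOnFinite Γ(Y, W) _ (Fin n)).symm a))
    rw [TensorProduct.equivFinsuppOfBasisLeft_symm_apply, Finsupp.sum_fintype _ _ (fun i => TensorProduct.tmul_zero _ _),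
      map_sum]
    refine Finset.sum_congr rfl fun i _ => ?_
    refine Eq.trans ?_ (hbc.equiv_tmul _ _).symm
    rw [hb]
    exact congrArg (t i • ·) (rs_self _ _ _).symm
  rw [this]
  exact hbc.equiv.bijective.comp E.symm.bijective

/-- The projection morphism is an isomorphism for a quasi-coherent module. -/
theorem isIso_ψ [IsAffineHom f]
    (hA : FlatMod.IsFinLocFree ((Scheme.Modules.pushforward f).obj (Coh.structureModule X)))
    (M : Y.Modules) [Coh.IsQCoh M] : IsIso (ψ f M) := by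
  let A := (Scheme.Modules.pushforward f).obj (Coh.structureModule X)
  let P := pre M ⊗ pre A
  let S := (Scheme.Modules.pushforward f).obj ((Scheme.Modules.pullback f).obj M)
  let p : P ⟶ pre S := Groth.L00.Tensor.unit P ≫ (preF Y).map (ψ f M)
  have hbij : ∀ {W : Y.Opens}, IsAffineOpen W → ∀ {n : ℕ} (t : Fin n → Γ(X, f ⁻¹ᵁ W)),
      Groth.L17.LocBases.IsBasis (O := Y.sheaf) A (W := W) t → Function.Bijective (p.app (op W)) := by
    intro W hW n t ht
    have hβ : Function.Bijective ((β_ (pre A) (pre M)).hom.app (op W)) := by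
      haveI : IsIso ((β_ (pre A) (pre M)).hom.app (op W)) :=
        inferInstanceAs (IsIso ((PresheafOfModules.evaluation _ (op W)).map (β_ (pre A) (pre M)).hom))
      exact ConcreteCategory.bijective_of_isIso _
    have hc := hβ.comp (Groth.L17.ProjFormula.bijective_coords A M t ht)
    refine (Function.Bijective.of_comp_iff _ hc).1 ?_
    refine Eq.mp (congrArg Function.Bijective ?_) (bijective_pull_coords f M hW t ht)
    funext a
    refine Eq.trans ?_ ((congrArg (p.app (op W)) (map_sum _ _ _)).trans (map_sum _ _ _)).symm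
    exact Finset.sum_congr rfl fun i _ => (ψ_app f M W (a i) (t i)).symm
  have hp : IsIso ((shf Y).map p) := by
    have key : ∀ V : Y.Opens, ∃ S₀ ∈ (Opens.grothendieckTopology Y) V, ∀ (W : Y.Opens) (g : W ⟶ V), S₀ g →
        ∃ W' : Y.Opens, W' ≤ V ∧ W ≤ W' ∧ Function.Bijective (p.app (op W')) := by
      intro V
      let S₁ : Sieve V :=
        { arrows := fun W g => ∃ W' : Y.Opens, W' ≤ V ∧ W ≤ W' ∧ Function.Bijective (p.app (op W'))
          downward_closed := fun {W W₂} g ⟨W', h1, h2, h3⟩ g' => ⟨W', h1, (leOfHom g').trans h2, h3⟩ }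
      refine ⟨S₁, fun x hx => ?_, fun W g hg => hg⟩
      obtain ⟨W, n, b, hW, hxW, hWV, hb⟩ := Groth.L19.ProjBdl.exists_basisOn hA x V hx
      exact ⟨W, homOfLE hWV, ⟨W, hWV, le_rfl, hbij hW _ hb.locBases⟩, hxW⟩
    refine Groth.L00.ModSiteTensor.isIso_shf_map (O := Y.sheaf) p
      (((Opens.grothendieckTopology Y).W_iff_isLocallyBijective _).2 ⟨⟨fun {V} x y hxy => ?_⟩, ⟨fun {V} t => ?_⟩⟩)
    · obtain ⟨S₁, hS, hb⟩ := key V.unop
      refine (Opens.grothendieckTopology Y).superset_covering (fun W g hg => ?_) hS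
      obtain ⟨W', h1, h2, h3⟩ := hb W g hg
      have e1 : P.map (homOfLE h1).op x = P.map (homOfLE h1).op y := by
        refine h3.1 ?_
        exact (PresheafOfModules.naturality_apply p (homOfLE h1).op x).trans
          ((congrArg ((pre S).map (homOfLE h1).op) hxy).trans
            (PresheafOfModules.naturality_apply p (homOfLE h1).op y).symm)
      show P.presheaf.map g.op x = P.presheaf.map g.op y
      rw [show g.op = (homOfLE h1).op ≫ (homOfLE h2).op from rfl, Functor.map_comp]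
      exact congrArg (P.presheaf.map (homOfLE h2).op) e1
    · obtain ⟨S₁, hS, hb⟩ := key V
      refine (Opens.grothendieckTopology Y).superset_covering (fun W g hg => ?_) hS
      obtain ⟨W', h1, h2, h3⟩ := hb W g hg
      obtain ⟨z, hz⟩ := h3.2 ((pre S).map (homOfLE h1).op t)
      refine ⟨P.map (homOfLE h2).op z, ?_⟩
      refine (PresheafOfModules.naturality_apply p (homOfLE h2).op z).trans ?_
      refine (congrArg ((pre S).map (homOfLE h2).op) hz).trans ?_
      show (pre S).presheaf.map (homOfLE h2).op ((pre S).presheaf.map (homOfLE h1).op t) = (pre S).presheaf.map g.op t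
      rw [show g.op = (homOfLE h1).op ≫ (homOfLE h2).op from rfl, Functor.map_comp]
      rfl
  haveI : IsIso (Groth.L17.ClosedPush.shAdj Y).counit :=
    inferInstanceAs (IsIso (PresheafOfModules.sheafificationAdjunction (𝟙 Y.ringCatSheaf.obj)).counit)
  have h : ψ f M = ((Groth.L17.ClosedPush.shAdj Y).homEquiv P S).symm p := by
    refine (Equiv.eq_symm_apply ((Groth.L17.ClosedPush.shAdj Y).homEquiv P S)).2 ?_
    exact (Groth.L17.ClosedPush.shAdj Y).homEquiv_unit P _ (ψ f M)
  rw [h, Adjunction.homEquiv_counit]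
  exact IsIso.comp_isIso

end Key

section Main

/-- Pullbacks of modules of finite type are of finite type. -/
theorem isFT_pullback (f : X ⟶ Y) (M : Y.Modules) (hM : CohB1.IsFT M) :
    CohB1.IsFT ((Scheme.Modules.pullback f).obj M) := by
  refine Groth.L00.Local.isFT_of_generators _ fun x => ?_
  obtain ⟨U, σ, hxU, hσ⟩ := Groth.L00.Local.exists_generators_of_isFT M hM (f x)
  let F : SheafOfModules.{u} (U : Scheme.{u}).ringCatSheaf ⥤ SheafOfModules.{u} ((f ⁻¹ᵁ U : X.Opens) : Scheme.{u}).ringCatSheaf :=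
    Scheme.Modules.pullback (f ∣_ U)
  haveI : PreservesColimitsOfSize.{u, u} F :=
    (Scheme.Modules.pullbackPushforwardAdjunction (f ∣_ U)).leftAdjoint_preservesColimits
  refine ⟨f ⁻¹ᵁ U, (σ.map F (Groth.L29.LocFree.pullbackUnitIso (f ∣_ U)).symm).ofEpi
    ((Scheme.Modules.restrictFunctorIsoPullback _).app _ ≪≫
      (Scheme.Modules.pullbackComp (f ⁻¹ᵁ U).ι f).app M ≪≫
      (Scheme.Modules.pullbackCongr (morphismRestrict_ι f U).symm).app M ≪≫
      ((Scheme.Modules.pullbackComp (f ∣_ U) U.ι).app M).symm ≪≫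
      (Scheme.Modules.pullback (f ∣_ U)).mapIso
        ((Scheme.Modules.restrictFunctorIsoPullback U.ι).app M).symm).inv, hxU, hσ⟩

/-- A morphism out of a quasi-coherent module is zero if it is zero on sections over affine opens
around every point. -/
theorem eq_zero_of_affine {E F : X.Modules} [Coh.IsQCoh E] (φ : E ⟶ F)
    (h : ∀ x : X, ∃ V : X.Opens, IsAffineOpen V ∧ x ∈ V ∧ ∀ m : Γ(E, V), φ.app V m = 0) : φ = 0 := by
  refine Scheme.Modules.hom_ext _ _ fun U => ConcreteCategory.hom_ext _ _ fun m => ?_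
  show φ.app U m = 0
  refine TopCat.Presheaf.section_ext ⟨F.presheaf, F.isSheaf⟩ U _ _ fun x hx => ?_
  obtain ⟨V, hV, hxV, hz⟩ := h x
  letI := Groth.L20.ModStalk.stalkModule E hxV
  haveI := Groth.L20.ModStalk.isLocalizedModule_germ E hV hxV
  letI := X.presheaf.algebra_section_stalk (⟨x, hxV⟩ : V)
  haveI := hV.isLocalization_stalk ⟨x, hxV⟩
  obtain ⟨⟨m', s⟩, hs⟩ := IsLocalizedModule.surj (hV.primeIdealOf ⟨x, hxV⟩).asIdeal.primeCompl
    (Groth.L20.ModStalk.germₗ E hxV) (E.presheaf.germ U x hx m)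
  have hu : IsUnit (X.presheaf.germ V x hxV (s : Γ(X, V))) := IsLocalization.map_units (X.presheaf.stalk x) s
  let W := U ⊓ V
  have hW : x ∈ W := ⟨hx, hxV⟩
  have e1 : E.presheaf.germ W x hW (ro (inf_le_right : W ≤ V) (s : Γ(X, V)) • rs E (inf_le_left : W ≤ U) m) =
      E.presheaf.germ W x hW (rs E (inf_le_right : W ≤ V) m') := by
    rw [Groth.L20.ModStalk.germ_smul]
    refine Eq.trans ?_ (TopCat.Presheaf.germ_res_apply E.presheaf (homOfLE inf_le_right) x hW m').symm
    refine Eq.trans ?_ hs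
    exact congrArg₂ (· • ·) (TopCat.Presheaf.germ_res_apply X.presheaf (homOfLE inf_le_right) x hW (s : Γ(X, V)))
      (TopCat.Presheaf.germ_res_apply E.presheaf (homOfLE inf_le_left) x hW m)
  obtain ⟨W', hW', i₁, i₂, he⟩ := E.presheaf.germ_eq x hW hW _ _ e1
  have e2 : φ.app W (rs E (inf_le_right : W ≤ V) m') = 0 := by
    rw [Groth.L19.ProjBdl.app_rs, hz]
    exact map_zero _
  have e3 : F.presheaf.germ W x hW (φ.app W (ro (inf_le_right : W ≤ V) (s : Γ(X, V)) • rs E (inf_le_left : W ≤ U) m)) = 0 := by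
    have h' := congrArg (F.presheaf.germ W' x hW') (congrArg (φ.app W') he)
    erw [Groth.L19.ProjBdl.app_rs φ i₁.le, Groth.L19.ProjBdl.app_rs φ i₂.le,
      TopCat.Presheaf.germ_res_apply F.presheaf i₁ x hW', TopCat.Presheaf.germ_res_apply F.presheaf i₂ x hW', e2,
      map_zero] at h'
    exact h'
  rw [Scheme.Modules.Hom.app_smul, Groth.L20.ModStalk.germ_smul, Groth.L19.ProjBdl.app_rs] at e3
  erw [TopCat.Presheaf.germ_res_apply X.presheaf (homOfLE (inf_le_right : W ≤ V)) x hW,
    TopCat.Presheaf.germ_res_apply F.presheaf (homOfLE (inf_le_left : W ≤ U)) x hW] at e3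
  exact ((IsUnit.smul_eq_zero hu).1 e3).trans (map_zero _).symm

/-- The direct image along an affine morphism detects morphisms out of quasi-coherent modules. -/
theorem eq_zero_of_push (f : X ⟶ Y) [IsAffineHom f] {E F : X.Modules} [Coh.IsQCoh E] (φ : E ⟶ F)
    (h : (Scheme.Modules.pushforward f).map φ = 0) : φ = 0 := by
  refine eq_zero_of_affine φ fun x => ?_
  obtain ⟨_, ⟨V, hV, rfl⟩, hxV, -⟩ :=
    Y.isBasis_affineOpens.exists_subset_of_mem_open (Set.mem_univ (f x)) isOpen_univ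
  replace hV : IsAffineOpen V := hV
  exact ⟨f ⁻¹ᵁ V, hV.preimage f, hxV,
    fun m => congr($(congrArg (fun k => Scheme.Modules.Hom.app k V) h) m)⟩

/-- The pullback along a flat, affine, surjective morphism detects morphisms of quasi-coherent modules. -/
theorem eq_zero_of_pullback (f : X ⟶ Y) [IsAffineHom f] [Flat f] [Surjective f] {M C : Y.Modules}
    [Coh.IsQCoh M] [Coh.IsQCoh C] (c : M ⟶ C) (h : (Scheme.Modules.pullback f).map c = 0) : c = 0 := by
  refine eq_zero_of_affine c fun y => ?_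
  obtain ⟨_, ⟨V, hV, rfl⟩, hyV, -⟩ :=
    Y.isBasis_affineOpens.exists_subset_of_mem_open (Set.mem_univ y) isOpen_univ
  replace hV : IsAffineOpen V := hV
  refine ⟨V, hV, hyV, fun m => ?_⟩
  let U := f ⁻¹ᵁ V
  have hU : IsAffineOpen U := hV.preimage f
  have hbc := Groth.L16.AffineBC.isBaseChange_pull f C hV hU (le_rfl : U ≤ f ⁻¹ᵁ V)
  letI : Algebra Γ(Y, V) Γ(X, U) := (f.appLE V U le_rfl).hom.toAlgebra
  letI := Module.compHom Γ((Scheme.Modules.pullback f).obj C, U) (f.appLE V U le_rfl).hom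
  haveI : IsScalarTower Γ(Y, V) Γ(X, U) Γ((Scheme.Modules.pullback f).obj C, U) :=
    IsScalarTower.of_algebraMap_smul fun _ _ => rfl
  have hn : pull f C V (c.app V m) = ((Scheme.Modules.pullback f).map c).app U (pull f M V m) :=
    congr($(congrArg (fun k => Scheme.Modules.Hom.app k V)
      ((Scheme.Modules.pullbackPushforwardAdjunction f).unit.naturality c)) m)
  rw [h] at hn
  haveI : Module.Flat Γ(Y, V) Γ(X, U) := Flat.flat_appLE f hV hU le_rfl
  haveI : ∀ _ : PUnit.{u + 1}, Module.Flat Γ(Y, V) Γ(X, U) := fun _ => inferInstance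
  refine Groth.L19.PullChart.eq_zero_of_one_tmul (R := Γ(Y, V)) (fun _ : PUnit.{u + 1} => (Γ(X, U) : Type u))
    (fun p => ?_) (fun _ => hbc.equiv.injective ?_)
  · let y₀ := hV.fromSpec p
    obtain ⟨x, hx⟩ := f.surjective y₀
    have hxU : x ∈ U := by
      show f x ∈ V
      rw [hx]
      exact hV.opensRange_fromSpec.le ⟨p, rfl⟩
    refine ⟨PUnit.unit, hU.primeIdealOf ⟨x, hxU⟩, hV.fromSpec.isOpenEmbedding.injective ?_⟩
    show (Spec.map (f.appLE V U le_rfl) ≫ hV.fromSpec) (hU.primeIdealOf ⟨x, hxU⟩) = hV.fromSpec p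
    rw [hV.SpecMap_appLE_fromSpec f hU le_rfl]
    exact (congrArg f (hU.fromSpec_primeIdealOf ⟨x, hxU⟩)).trans hx
  · rw [map_zero]
    refine (hbc.equiv_tmul _ _).trans ((one_smul _ _).trans ?_)
    exact (rs_self _ _ _).trans hn

/-- The resolution property descends along finite locally free surjective morphisms. -/
theorem hasResolutionProperty_descends (f : X ⟶ Y) (hf : Mor2.IsFinLocFree f) [Surjective f]
    (hX : PerfAux.HasResolutionProperty X) : PerfAux.HasResolutionProperty Y := by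
  intro M hMq hMft
  haveI : Coh.IsQCoh M := hMq
  obtain ⟨hfin, hflat, hfp⟩ := id hf
  haveI : IsAffineHom f := inferInstance
  haveI : Coh.IsQCoh ((Scheme.Modules.pullback f).obj M) := Groth.L16.AffineBC.isQCoh_pullback f M
  obtain ⟨E, π, hE, hπ⟩ := hX _ inferInstance (isFT_pullback f M hMft)
  haveI : Coh.IsQCoh E := Groth.L29.DC.PCQCoh.isQCoh_of_isFinLocFree hE
  let A := (Scheme.Modules.pushforward f).obj (Coh.structureModule X)
  have hA : FlatMod.IsFinLocFree A := (Groth.L19.FinLocPush.isFinLocFree_push f hf).2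
  haveI := Groth.L17.Duality.hasSheafHom A
  let G := (Scheme.Modules.pushforward f).obj E
  haveI : IsIso (ψ f M) := isIso_ψ f hA M
  let D := Groth.L17.Duality.dualAdj A hA
  haveI : (Groth.L00.Tensor.tensorRightF A).IsRightAdjoint := D.isRightAdjoint
  let g : G ⟶ (Groth.L00.Tensor.tensorRightF A).obj M :=
    (Scheme.Modules.pushforward f).map π ≫ (inv (ψ f M) :)
  let η := (D.homEquiv G M).symm g
  have hGA : FlatMod.IsFinLocFree ((Groth.L00.Tensor.tensorRightF (Groth.L17.Duality.dual A)).obj G) :=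
    Groth.L29.DC.isFinLocFree_tensor (isFinLocFree_push f hf E hE) (isFinLocFree_dual A hA)
  refine ⟨_, η, hGA, ?_⟩
  haveI : Coh.IsQCoh ((Groth.L00.Tensor.tensorRightF (Groth.L17.Duality.dual A)).obj G) :=
    Groth.L29.DC.PCQCoh.isQCoh_of_isFinLocFree hGA
  haveI : Coh.IsQCoh (cokernel η) := Groth.L16.Devissage.isQCoh_cokernel η
  refine Abelian.epi_of_cokernel_π_eq_zero η ?_
  let c := cokernel.π η
  have h1 : g ≫ (Groth.L00.Tensor.tensorRightF A).map c = 0 := by
    have h2 := D.homEquiv_naturality_right η c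
    rw [cokernel.condition, Equiv.apply_symm_apply] at h2
    refine h2.symm.trans ?_
    rw [Adjunction.homEquiv_unit, Functor.map_zero, comp_zero]
  have h3 : (Scheme.Modules.pushforward f).map (π ≫ (Scheme.Modules.pullback f).map c) = 0 := by
    have h4 := congrArg (· ≫ ψ f (cokernel η)) h1
    simp only [zero_comp, Category.assoc] at h4
    rw [Functor.map_comp]
    refine Eq.trans ?_ h4
    show _ = g ≫ Groth.L00.Tensor.tensorMap c (𝟙 A) ≫ ψ f (cokernel η)
    rw [ψ_natural f c]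
    show _ = ((Scheme.Modules.pushforward f).map π ≫ inv (ψ f M)) ≫ ψ f M ≫ _
    simp
  have h5 : (Scheme.Modules.pullback f).map c = 0 := by
    rw [← cancel_epi π, comp_zero]
    exact eq_zero_of_push f _ h3
  exact eq_zero_of_pullback f c h5

end Main

end Groth.L20.ResDescent
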