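import Mathlib.AlgebraicGeometry.Geometrically.Reduced
import Mathlib.AlgebraicGeometry.Geometrically.Connected
import Mathlib.AlgebraicGeometry.Geometrically.Irreducible
import Mathlib.AlgebraicGeometry.Morphisms.Flat
import Mathlib.RingTheory.Flat.FaithfullyFlat.Basic

/-!
# Geometric properties of fibres under base change
-/

universe u

open CategoryTheory CategoryTheory.Limits AlgebraicGeometry

namespace Groth.L20

theorem exists_field_over (k K L : Type u) [Field k] [Field K] [Field L] (a : k →+* K) (b : k →+* L) :
    ∃ (M : Type u) (_ : Field M) (a' : K →+* M) (b' : L →+* M), a'.comp a = b'.comp b := by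
  algebraize [a, b]
  have : Nontrivial (TensorProduct k K L) :=
    Algebra.TensorProduct.includeLeft_injective (S := k) (R := k) (A := K) (B := L)
      (algebraMap k L).injective |>.nontrivial
  obtain ⟨m, hm⟩ := Ideal.exists_maximal (TensorProduct k K L)
  let _ : Field (TensorProduct k K L ⧸ m) := Ideal.Quotient.field m
  refine ⟨TensorProduct k K L ⧸ m, inferInstance,
    (Ideal.Quotient.mk m).comp (Algebra.TensorProduct.includeLeftRingHom),
    (Ideal.Quotient.mk m).comp (Algebra.TensorProduct.includeRight : L →ₐ[k] TensorProduct k K L).toRingHom, ?_⟩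
  ext x
  simp only [RingHom.comp_apply, AlgHom.toRingHom_eq_coe, RingHom.coe_coe]
  congr 1
  exact ((Algebra.TensorProduct.includeRight : L →ₐ[k] TensorProduct k K L).commutes x).symm.trans rfl

/-- A property descending along surjective flat maps which holds geometrically after a field
extension holds geometrically. -/
theorem geometrically_iff_of_field_extension (P : ObjectProperty Scheme.{u})
    (hP : ∀ {Z' Z : Scheme.{u}} (p : Z' ⟶ Z) [Surjective p] [Flat p], P Z' → P Z)
    {k L : Type u} [Field k] [Field L] (b : k →+* L) {F F' : Scheme.{u}} {π : F ⟶ Spec (.of k)}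
    {π' : F' ⟶ Spec (.of L)} {q : F' ⟶ F}
    (hq : IsPullback q π' π (Spec.map (CommRingCat.ofHom b))) :
    geometrically P π' ↔ geometrically P π := by
  refine ⟨fun h => ?_, fun h => MorphismProperty.of_isPullback hq h⟩
  intro K _ y Z fst snd hZ
  obtain ⟨ψ, rfl⟩ := Spec.map_surjective y
  obtain ⟨M, _, a', b', hab⟩ := exists_field_over k K L ψ.hom b
  let α := Spec.map (CommRingCat.ofHom a')
  let β := Spec.map (CommRingCat.ofHom b')
  have hαβ : α ≫ Spec.map ψ = β ≫ Spec.map (CommRingCat.ofHom b) := by
    simp only [α, β, ← Spec.map_comp]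
    exact congrArg (fun r => Spec.map (CommRingCat.ofHom r)) hab
  have big := (IsPullback.of_hasPullback snd α).paste_horiz hZ
  rw [hαβ] at big
  let u := hq.lift (pullback.fst snd α ≫ fst) (pullback.snd snd α ≫ β)
    (by rw [big.w, Category.assoc])
  have hu : IsPullback u (pullback.snd snd α) π' β :=
    IsPullback.of_right (h₁₂ := q) (h₂₂ := Spec.map (CommRingCat.ofHom b))
      (by rw [hq.lift_fst]; exact big) (hq.lift_snd _ _ _) hq
  have : Surjective α := ⟨fun (x : PrimeSpectrum K) =>
    ⟨(default : PrimeSpectrum M), Subsingleton.elim (α := PrimeSpectrum K) _ x⟩⟩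
  have : Flat α := by
    rw [HasRingHomProperty.Spec_iff (P := @Flat)]
    letI := a'.toAlgebra
    exact (inferInstance : Module.Flat K M)
  have := MorphismProperty.pullback_fst (P := @Surjective) snd α ‹_›
  have := MorphismProperty.pullback_fst (P := @Flat) snd α ‹_›
  exact hP (pullback.fst snd α) (h _ _ _ hu)

/-- Base change invariance of geometric properties of fibres. -/
theorem geometrically_fiber_iff (P : ObjectProperty Scheme.{u})
    (hP : ∀ {Z' Z : Scheme.{u}} (p : Z' ⟶ Z) [Surjective p] [Flat p], P Z' → P Z)
    {X Y X' Y' : Scheme.{u}} (f : X ⟶ Y) (g : Y' ⟶ Y) (f' : X' ⟶ Y') (g' : X' ⟶ X)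
    (hc : IsPullback g' f' f g) (y' : Y') :
    geometrically P (f'.fiberToSpecResidueField y') ↔
      geometrically P (f.fiberToSpecResidueField (g y')) := by
  let φ := g.residueFieldMap y'
  have big := (IsPullback.of_hasPullback f' (Y'.fromSpecResidueField y')).paste_horiz hc
  rw [← Scheme.Hom.SpecMap_residueFieldMap_fromSpecResidueField] at big
  let hr := IsPullback.of_hasPullback f (Y.fromSpecResidueField (g y'))
  let u := hr.lift (pullback.fst f' (Y'.fromSpecResidueField y') ≫ g')
    (pullback.snd f' (Y'.fromSpecResidueField y') ≫ Spec.map φ) (by rw [big.w, Category.assoc])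
  refine geometrically_iff_of_field_extension P hP φ.hom (F := f.fiber (g y'))
    (F' := f'.fiber y') (q := u) ?_
  have e₁ : u ≫ pullback.fst f (Y.fromSpecResidueField (g y')) =
      pullback.fst f' (Y'.fromSpecResidueField y') ≫ g' := hr.lift_fst _ _ _
  exact IsPullback.of_right (h₁₂ := pullback.fst f (Y.fromSpecResidueField (g y')))
    (h₂₂ := Y.fromSpecResidueField (g y')) (e₁.symm ▸ big) (hr.lift_snd _ _ _) hr

theorem isReduced_of_surjective_of_flat {Z' Z : Scheme.{u}} (p : Z' ⟶ Z) [Surjective p] [Flat p]
    [IsReduced Z'] : IsReduced Z := by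
  have : ∀ z : Z, _root_.IsReduced (Z.presheaf.stalk z) := by
    intro z
    obtain ⟨w, rfl⟩ := p.surjective z
    have hflat := Flat.stalkMap p w
    algebraize [(p.stalkMap w).hom]
    have : Module.FaithfullyFlat (Z.presheaf.stalk (p w)) (Z'.presheaf.stalk w) :=
      @Module.FaithfullyFlat.of_flat_of_isLocalHom _ _ _ _ _ _ _ (hflat : _) (by
        rw [RingHom.algebraMap_toAlgebra]; infer_instance)
    exact isReduced_of_injective (algebraMap (Z.presheaf.stalk (p w)) (Z'.presheaf.stalk w))
      (FaithfulSMul.algebraMap_injective _ _)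
  exact isReduced_of_isReduced_stalk Z

theorem connectedSpace_of_surjective {Z' Z : Scheme.{u}} (p : Z' ⟶ Z) [Surjective p]
    [ConnectedSpace Z'] : ConnectedSpace Z :=
  p.surjective.connectedSpace p.continuous

theorem irreducibleSpace_of_surjective {Z' Z : Scheme.{u}} (p : Z' ⟶ Z) [Surjective p]
    [IrreducibleSpace Z'] : IrreducibleSpace Z := by
  have := (IrreducibleSpace.isIrreducible_univ Z').image p p.continuous.continuousOn
  rw [Set.image_univ, p.surjective.range_eq] at this
  exact { toPreirreducibleSpace := ⟨this.2⟩, toNonempty := ⟨this.1.some⟩ }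

end Groth.L20
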