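import Groth.Agent.L20.FibreModuleScheme
import Groth.Agent.L20.FlatLocusOpen
import Groth.Agent.L16.AffineBC.Pullback
import Groth.Agent.S1391
import Groth.Agent.S1392
import Mathlib.LinearAlgebra.TensorProduct.Quotient

/-!
# The flat locus over the middle scheme and base change
-/

set_option autoImplicit false
set_option linter.style.haveILetI false
set_option backward.isDefEq.respectTransparency.types false

universe u

open CategoryTheory CategoryTheory.Limits AlgebraicGeometry
open scoped TensorProduct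

namespace Groth.L20.FibreModule

/-- Flatness of `B' ⊗ N` over `A'` gives flatness of `N/IN` over `A/I`. -/
theorem flat_quotient_of_tensor {A A' B B' N : Type u} [CommRing A] [CommRing A'] [CommRing B]
    [CommRing B'] [Algebra A A'] [Algebra B B'] [Algebra A B] [Algebra A' B'] [Algebra A B']
    [IsScalarTower A A' B'] [IsScalarTower A B B'] [AddCommGroup N] [Module B N] [Module A N]
    [IsScalarTower A B N]
    (ha : Function.Surjective (algebraMap A A')) (hb : Function.Surjective (algebraMap B B'))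
    (I : Ideal A) (hI : RingHom.ker (algebraMap A A') = I)
    (hJ : RingHom.ker (algebraMap B B') = I.map (algebraMap A B))
    [Module.Flat A' (B' ⊗[B] N)] : Module.Flat (A ⧸ I) (N ⧸ (I • ⊤ : Submodule A N)) := by
  subst hI
  let ea := RingHom.quotientKerEquivOfSurjective ha
  letI : Algebra (A ⧸ RingHom.ker (algebraMap A A')) A' := ea.toRingHom.toAlgebra
  haveI : IsScalarTower A (A ⧸ RingHom.ker (algebraMap A A')) A' := IsScalarTower.of_algebraMap_eq fun _ => rfl
  haveI : Module.Flat (A ⧸ RingHom.ker (algebraMap A A')) A' := RingHom.Flat.of_bijective ea.bijective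
  let f : N →ₗ[A] B' ⊗[B] N := (TensorProduct.mk B B' N 1).restrictScalars A
  have hf : Function.Surjective f := TensorProduct.mk_surjective B N B' hb
  let eB : B' ≃ₗ[B] B ⧸ RingHom.ker (algebraMap B B') :=
    ((Ideal.quotientKerAlgEquivOfSurjective (f := Algebra.ofId B B') hb).toLinearEquiv).symm
  have hker : LinearMap.ker f = (RingHom.ker (algebraMap A A') • ⊤ : Submodule A N) := by
    refine le_antisymm ?_ ?_
    · intro n hn
      have h1 : ((1 : B') ⊗ₜ[B] n) = 0 := hn
      have h2 : n ∈ (RingHom.ker (algebraMap B B') • ⊤ : Submodule B N) := by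
        have h3 := congrArg (fun z => TensorProduct.quotTensorEquivQuotSMul N (RingHom.ker (algebraMap B B'))
          (TensorProduct.congr eB (LinearEquiv.refl B N) z)) h1
        simp only [TensorProduct.congr_tmul, LinearEquiv.refl_apply, map_zero] at h3
        have he : eB 1 = Ideal.Quotient.mk _ 1 := by
          change _ = (1 : B ⧸ RingHom.ker (algebraMap B B'))
          exact map_one (Ideal.quotientKerAlgEquivOfSurjective (f := Algebra.ofId B B') hb).symm
        rw [he] at h3
        exact (Submodule.Quotient.mk_eq_zero _).1 (by simpa using h3)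
      rw [hJ] at h2
      refine Submodule.smul_induction_on h2 (fun b hb m _ => ?_) (fun x y hx hy => add_mem hx hy)
      induction hb using Submodule.span_induction generalizing m with
      | mem x hx =>
        obtain ⟨a, ha, rfl⟩ := hx
        rw [algebraMap_smul]
        exact Submodule.smul_mem_smul ha Submodule.mem_top
      | zero => rw [zero_smul]; exact zero_mem _
      | add x y _ _ hx hy => rw [add_smul]; exact add_mem (hx _ Submodule.mem_top) (hy _ Submodule.mem_top)
      | smul c x _ hx => rw [smul_eq_mul, mul_comm, mul_smul]; exact hx _ Submodule.mem_top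
    · refine Submodule.smul_le.2 fun a ha n _ => ?_
      rw [LinearMap.mem_ker, map_smul, ← algebraMap_smul A' a, RingHom.mem_ker.1 ha, zero_smul]
  let e : (N ⧸ (RingHom.ker (algebraMap A A') • ⊤ : Submodule A N)) ≃ₗ[A] B' ⊗[B] N :=
    Submodule.quotEquivOfEq _ _ hker.symm ≪≫ₗ f.quotKerEquivOfSurjective hf
  letI : Module (A ⧸ RingHom.ker (algebraMap A A')) (B' ⊗[B] N) := Module.compHom _ ea.toRingHom
  haveI : IsScalarTower (A ⧸ RingHom.ker (algebraMap A A')) A' (B' ⊗[B] N) :=
    IsScalarTower.of_algebraMap_smul fun _ _ => rfl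
  haveI : IsScalarTower A (A ⧸ RingHom.ker (algebraMap A A')) (B' ⊗[B] N) :=
    IsScalarTower.of_algebraMap_smul fun a z => by
      show algebraMap A A' a • z = a • z
      rw [algebraMap_smul]
  haveI : Module.Flat (A ⧸ RingHom.ker (algebraMap A A')) (B' ⊗[B] N) := Module.Flat.trans _ A' _
  exact Module.Flat.of_linearEquiv
    (e.extendScalarsOfSurjective (S := A ⧸ RingHom.ker (algebraMap A A')) Ideal.Quotient.mk_surjective)

variable {X Y S : Scheme.{u}}

/-- Flatness at a point is invariant under isomorphism. -/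
theorem isFlatOverAt_congr (f : X ⟶ Y) {M N : X.Modules} (e : M ≅ N) {x : X}
    (h : FlatMod.IsFlatOverAt f M x) : FlatMod.IsFlatOverAt f N x := by
  let l : M.presheaf.stalk x ≃ₗ[X.presheaf.stalk x] N.presheaf.stalk x :=
    ((Groth.L00.Stk.F X x).mapIso e).toLinearEquiv
  letI := FlatMod.moduleStalkOver f M x
  letI := FlatMod.moduleStalkOver f N x
  haveI : Module.Flat (Y.presheaf.stalk (f x)) (M.presheaf.stalk x) := h
  let l' : M.presheaf.stalk x ≃ₗ[Y.presheaf.stalk (f x)] N.presheaf.stalk x :=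
    { l.toAddEquiv with map_smul' := fun a m => l.map_smul ((f.stalkMap x).hom a) m }
  exact Module.Flat.of_linearEquiv l'.symm

/-- Flatness of the restriction to a fibre gives flatness of the quotient of the stalk. -/
theorem flat_quotient_of_fibre (f : X ⟶ Y) (g : Y ⟶ S) (F : X.Modules) (s : S) (z : (f ≫ g).fiber s)
    (h : FlatMod.IsFlatOverAt (MoreMor.fiberMap f g s)
      ((Scheme.Modules.pullback ((f ≫ g).fiberι s)).obj F) z)
    {x : X} (hx : ((f ≫ g).fiberι s) z = x) :
    letI := FlatMod.moduleStalkOver f F x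
    Module.Flat (↑(Y.presheaf.stalk (f x)) ⧸ Ideal.map (g.stalkMap (f x)).hom (IsLocalRing.maximalIdeal ↑(S.presheaf.stalk (g (f x)))))
      (↑(F.presheaf.stalk x) ⧸ (Ideal.map (g.stalkMap (f x)).hom (IsLocalRing.maximalIdeal ↑(S.presheaf.stalk (g (f x)))) •
        (⊤ : Submodule ↑(Y.presheaf.stalk (f x)) ↑(F.presheaf.stalk x)))) := by
  subst hx
  let ι := (f ≫ g).fiberι s
  let fm := MoreMor.fiberMap f g s
  have hcomp : fm ≫ g.fiberι s = ι ≫ f := pullback.lift_fst _ _ _
  have e : (g.fiberι s) (fm z) = f (ι z) := congrArg (fun k : (f ≫ g).fiber s ⟶ Y => k z) hcomp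
  have h1 := Scheme.Hom.stalkMap_congr_hom _ _ hcomp z
  rw [Scheme.Hom.stalkMap_comp, Scheme.Hom.stalkMap_comp] at h1
  have h2 : ((Y.presheaf.stalkCongr (.of_eq e)).inv ≫ (g.fiberι s).stalkMap (fm z)) ≫ fm.stalkMap z =
      f.stalkMap (ι z) ≫ ι.stalkMap z := by
    rw [Category.assoc]
    erw [h1]
    exact Iso.inv_hom_id_assoc _ _
  letI := FlatMod.moduleStalkOver f F (ι z)
  letI : Algebra (Y.presheaf.stalk (f (ι z))) (X.presheaf.stalk (ι z)) := (f.stalkMap (ι z)).hom.toAlgebra
  letI : Algebra (X.presheaf.stalk (ι z)) (((f ≫ g).fiber s).presheaf.stalk z) := (ι.stalkMap z).hom.toAlgebra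
  letI : Algebra ((g.fiber s).presheaf.stalk (fm z)) (((f ≫ g).fiber s).presheaf.stalk z) :=
    (fm.stalkMap z).hom.toAlgebra
  letI : Algebra (Y.presheaf.stalk (f (ι z))) ((g.fiber s).presheaf.stalk (fm z)) :=
    ((Y.presheaf.stalkCongr (.of_eq e)).inv ≫ (g.fiberι s).stalkMap (fm z)).hom.toAlgebra
  letI : Algebra (Y.presheaf.stalk (f (ι z))) (((f ≫ g).fiber s).presheaf.stalk z) :=
    ((ι.stalkMap z).hom.comp (f.stalkMap (ι z)).hom).toAlgebra
  haveI : IsScalarTower (Y.presheaf.stalk (f (ι z))) (X.presheaf.stalk (ι z))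
      (((f ≫ g).fiber s).presheaf.stalk z) := IsScalarTower.of_algebraMap_eq fun _ => rfl
  haveI : IsScalarTower (Y.presheaf.stalk (f (ι z))) ((g.fiber s).presheaf.stalk (fm z))
      (((f ≫ g).fiber s).presheaf.stalk z) :=
    IsScalarTower.of_algebraMap_eq fun a => (congrArg (fun φ => φ.hom a) h2).symm
  haveI : IsScalarTower (Y.presheaf.stalk (f (ι z))) (X.presheaf.stalk (ι z)) (F.presheaf.stalk (ι z)) :=
    IsScalarTower.of_algebraMap_smul fun _ _ => rfl
  let Fs := (Scheme.Modules.pullback ι).obj F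
  letI := FlatMod.moduleStalkOver fm Fs z
  haveI : IsScalarTower ((g.fiber s).presheaf.stalk (fm z)) (((f ≫ g).fiber s).presheaf.stalk z)
      (Fs.presheaf.stalk z) := IsScalarTower.of_algebraMap_smul fun _ _ => rfl
  haveI : Module.Flat ((g.fiber s).presheaf.stalk (fm z)) (Fs.presheaf.stalk z) := h
  let el : Fs.presheaf.stalk z ≃ₗ[((f ≫ g).fiber s).presheaf.stalk z]
      ((f ≫ g).fiber s).presheaf.stalk z ⊗[X.presheaf.stalk (ι z)] F.presheaf.stalk (ι z) :=
    ((Groth.L00.PullStalk.stalkIso ι z).app F).toLinearEquiv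
  haveI : Module.Flat ((g.fiber s).presheaf.stalk (fm z))
      (((f ≫ g).fiber s).presheaf.stalk z ⊗[X.presheaf.stalk (ι z)] F.presheaf.stalk (ι z)) :=
    Module.Flat.of_linearEquiv (el.restrictScalars _).symm
  refine flat_quotient_of_tensor (A' := (g.fiber s).presheaf.stalk (fm z))
    (B' := ((f ≫ g).fiber s).presheaf.stalk z) (surjective_stalkCongr_comp g s _ e)
    (Groth.L18.stalkMap_fiberι (f ≫ g) s z).1 _ (ker_stalkCongr_comp g s _ e) ?_
  rw [Ideal.map_map]
  refine (Groth.L18.stalkMap_fiberι (f ≫ g) s z).2.trans ?_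
  rw [Scheme.Hom.stalkMap_comp]
  rfl

/-- The flat locus of a finitely presented module is open. -/
theorem isOpen_isFlatOverAt (f : X ⟶ Y) [LocallyOfFinitePresentation f] (F : X.Modules)
    (hq : Coh.IsQCoh F) (hfp : CohB1.IsFP F) : IsOpen {x : X | FlatMod.IsFlatOverAt f F x} := by
  haveI := hq
  rw [isOpen_iff_forall_mem_open]
  intro x hx
  obtain ⟨_, ⟨V, hV, rfl⟩, hxV, -⟩ :=
    Y.isBasis_affineOpens.exists_subset_of_mem_open (Set.mem_univ (f x)) isOpen_univ
  obtain ⟨_, ⟨U, hU, rfl⟩, hxU, hUV⟩ :=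
    X.isBasis_affineOpens.exists_subset_of_mem_open (a := x) (show x ∈ f ⁻¹ᵁ V from hxV) (f ⁻¹ᵁ V).2
  letI := (f.appLE V U hUV).hom.toAlgebra
  letI := Module.compHom Γ(F, U) (f.appLE V U hUV).hom
  haveI : IsScalarTower Γ(Y, V) Γ(X, U) Γ(F, U) := IsScalarTower.of_algebraMap_smul fun _ _ => rfl
  haveI : Algebra.FinitePresentation Γ(Y, V) Γ(X, U) :=
    RingHom.finitePresentation_algebraMap.mp (f.finitePresentation_appLE hV hU hUV)
  haveI := ModStalk.finitePresentation_sections F hfp hU
  let O := {q : PrimeSpectrum Γ(X, U) | Module.Flat Γ(Y, V) (LocalizedModule q.asIdeal.primeCompl Γ(F, U))}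
  have hiff : ∀ q : PrimeSpectrum Γ(X, U), q ∈ O ↔ FlatMod.IsFlatOverAt f F (hU.fromSpec q) := fun q => by
    have hqU : hU.fromSpec q ∈ U := by
      rw [← SetLike.mem_coe, ← hU.range_fromSpec]; exact ⟨q, rfl⟩
    rw [ModStalk.isFlatOverAt_iff f F hV hU hUV hqU]
    have : hU.primeIdealOf ⟨hU.fromSpec q, hqU⟩ = q :=
      hU.fromSpec.isOpenEmbedding.injective (hU.fromSpec_primeIdealOf _)
    rw [this]
    rfl
  refine ⟨hU.fromSpec '' O, ?_, hU.fromSpec.isOpenEmbedding.isOpenMap _ isOpen_flatLocus,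
    ⟨hU.primeIdealOf ⟨x, hxU⟩, (hiff _).2 (by rw [hU.fromSpec_primeIdealOf]; exact hx),
      hU.fromSpec_primeIdealOf ⟨x, hxU⟩⟩⟩
  rintro _ ⟨q, hq, rfl⟩
  exact (hiff q).1 hq

/-- Flatness over the middle scheme descends along a change of base. -/
theorem isFlatOverAt_of_baseChange (f : X ⟶ Y) (g : Y ⟶ S) [LocallyOfFinitePresentation (f ≫ g)]
    [LocallyOfFiniteType g] (F : X.Modules) (hq : Coh.IsQCoh F) (hfp : CohB1.IsFP F)
    {X' Y' S' : Scheme.{u}} (h : S' ⟶ S) (gY : Y' ⟶ Y) (g' : Y' ⟶ S') (hY : IsPullback gY g' g h)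
    (gX : X' ⟶ X) (f' : X' ⟶ Y') (hX : IsPullback gX (f' ≫ g') (f ≫ g) h) (hsq : IsPullback gX f' f gY)
    (x' : X') (hfl : FlatMod.IsFlatOverAt (f ≫ g) F (gX x'))
    (hx' : FlatMod.IsFlatOverAt f' ((Scheme.Modules.pullback gX).obj F) x') :
    FlatMod.IsFlatOverAt f F (gX x') := by
  haveI := hq
  let s' := g' (f' x')
  let φ := Spec.map (h.residueFieldMap s')
  let s := h s'
  let mX : (f' ≫ g').fiber s' ⟶ (f ≫ g).fiber s :=
    pullback.map _ _ _ _ gX φ h hX.w.symm (by simp [φ, s])
  let mY : g'.fiber s' ⟶ g.fiber s := pullback.map _ _ _ _ gY φ h hY.w.symm (by simp [φ, s])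
  have HX : IsPullback mX ((f' ≫ g').fiberToSpecResidueField s') ((f ≫ g).fiberToSpecResidueField s) φ :=
    isPullback_fiberToSpecResidueField_of_isPullback hX s'
  have HY : IsPullback mY (g'.fiberToSpecResidueField s') (g.fiberToSpecResidueField s) φ :=
    isPullback_fiberToSpecResidueField_of_isPullback hY s'
  let fm := MoreMor.fiberMap f g s
  let fm' := MoreMor.fiberMap f' g' s'
  have hfm : fm ≫ g.fiberToSpecResidueField s = (f ≫ g).fiberToSpecResidueField s := pullback.lift_snd _ _ _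
  have hfm' : fm' ≫ g'.fiberToSpecResidueField s' = (f' ≫ g').fiberToSpecResidueField s' :=
    pullback.lift_snd _ _ _
  have hfmι : fm ≫ g.fiberι s = (f ≫ g).fiberι s ≫ f := pullback.lift_fst _ _ _
  have hfmι' : fm' ≫ g'.fiberι s' = (f' ≫ g').fiberι s' ≫ f' := pullback.lift_fst _ _ _
  have hmX : mX ≫ (f ≫ g).fiberι s = (f' ≫ g').fiberι s' ≫ gX := pullback.lift_fst _ _ _
  have hmY : mY ≫ g.fiberι s = g'.fiberι s' ≫ gY := pullback.lift_fst _ _ _
  have hw : mX ≫ fm = fm' ≫ mY := by
    apply pullback.hom_ext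
    · show (mX ≫ fm) ≫ g.fiberι s = (fm' ≫ mY) ≫ g.fiberι s
      rw [Category.assoc, Category.assoc, hfmι, hmY, reassoc_of% hmX, reassoc_of% hfmι', hsq.w]
    · show (mX ≫ fm) ≫ g.fiberToSpecResidueField s = (fm' ≫ mY) ≫ g.fiberToSpecResidueField s
      rw [Category.assoc, Category.assoc, hfm, HY.w, reassoc_of% hfm', HX.w]
  have sq1 : IsPullback mX fm' fm mY := by
    refine IsPullback.of_bot ?_ hw HY
    rw [hfm, hfm']
    exact HX
  have sq2 : IsPullback ((f' ≫ g').fiberι s') fm' f' (g'.fiberι s') := by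
    refine IsPullback.of_bot ?_ hfmι'.symm (IsPullback.of_hasPullback g' (S'.fromSpecResidueField s'))
    show IsPullback ((f' ≫ g').fiberι s') (fm' ≫ g'.fiberToSpecResidueField s') (f' ≫ g') _
    rw [hfm']
    exact IsPullback.of_hasPullback (f' ≫ g') (S'.fromSpecResidueField s')
  let z' : (f' ≫ g').fiber s' := (f' ≫ g').asFiber x'
  have hz' : (f' ≫ g').fiberι s' z' = x' := (f' ≫ g').fiberι_asFiber x'
  have h3 := Groth.Agent.S1391.result f' fm' ((f' ≫ g').fiberι s') (g'.fiberι s') sq2
    ((Scheme.Modules.pullback gX).obj F) (Groth.L16.AffineBC.isQCoh_pullback gX F) z' (hz'.symm ▸ hx')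
  have h4 : FlatMod.IsFlatOverAt fm'
      ((Scheme.Modules.pullback mX).obj ((Scheme.Modules.pullback ((f ≫ g).fiberι s)).obj F)) z' :=
    isFlatOverAt_congr fm' ((Scheme.Modules.pullbackComp _ _).app F ≪≫
      (Scheme.Modules.pullbackCongr hmX).symm.app F ≪≫
      ((Scheme.Modules.pullbackComp _ _).app F).symm) h3
  have hflatY : (mY.stalkMap (fm' z')).hom.Flat := by
    haveI : Flat φ := Flat.SpecMap_iff.mpr (by
      letI := (h.residueFieldMap s').hom.toAlgebra
      haveI : Module.Free (S.residueField (h s')) (S'.residueField s') :=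
        Module.Free.of_divisionRing _ _
      exact RingHom.flat_algebraMap_iff.mpr (Module.Flat.of_free (R := S.residueField (h s'))))
    haveI : Flat mY := MorphismProperty.of_isPullback HY.flip inferInstance
    exact Flat.stalkMap mY _
  have h5 := Groth.Agent.S1392.result fm fm' mX mY sq1
    ((Scheme.Modules.pullback ((f ≫ g).fiberι s)).obj F)
    (Groth.L16.AffineBC.isQCoh_pullback _ F) z' hflatY h4
  have hx : (f ≫ g).fiberι s (mX z') = gX x' := by
    rw [← Scheme.Hom.comp_apply, hmX, Scheme.Hom.comp_apply, hz']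
  exact isFlatOverAt_of_fibre f g F hq hfp _ hfl (flat_quotient_of_fibre f g F s _ h5 hx)

end Groth.L20.FibreModule
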