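import Groth.Agent.L22.Ideal
import Groth.Prelude

/-!
# An affine blowing up: an ideal which is free of rank one over a bigger ring
-/

set_option autoImplicit false
set_option linter.style.haveILetI false
set_option backward.isDefEq.respectTransparency false
set_option backward.isDefEq.respectTransparency.types false
universe u

open CategoryTheory AlgebraicGeometry TopologicalSpace Opposite

noncomputable section

namespace Groth.L20.AffBlow

variable {A B R : Type u} [CommRing A] [CommRing B] [Algebra A B] [CommRing R]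

/-- The image of the chosen generator generates and is a nonzerodivisor. -/
theorem isNZD_and_span_of_mul_eq {I : Ideal A} {a : A} (ha : a ∈ I)
    (hmul : ∀ i ∈ I, ∀ j ∈ I, ∃ k ∈ I, i * j = a * k) (χ : A →+* R) {t : R} (ht : t ∈ nonZeroDivisors R)
    (hI : I.map χ = Ideal.span {t}) : χ a ∈ nonZeroDivisors R ∧ I.map χ = Ideal.span {χ a} := by
  have hta : t ^ 2 ∈ Ideal.span {χ a} * I.map χ := by
    have h1 : t ^ 2 ∈ (I * I).map χ := by
      rw [Ideal.map_mul, hI, pow_two]
      exact Ideal.mul_mem_mul (Ideal.mem_span_singleton_self t) (Ideal.mem_span_singleton_self t)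
    have h2 : I * I ≤ Ideal.span {a} * I := Ideal.mul_le.2 fun i hi j hj => by
      obtain ⟨k, hk, e⟩ := hmul i hi j hj
      rw [e]
      exact Ideal.mul_mem_mul (Ideal.mem_span_singleton_self a) hk
    have h3 := Ideal.map_mono (f := χ) h2 h1
    rwa [Ideal.map_mul, Ideal.map_span, Set.image_singleton] at h3
  rw [hI, Ideal.span_singleton_mul_span_singleton, Ideal.mem_span_singleton'] at hta
  obtain ⟨w, hw⟩ := hta
  obtain ⟨v, hv⟩ := Ideal.mem_span_singleton'.1 (hI ▸ Ideal.mem_map_of_mem χ ha)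
  have hvw : v * w = 1 := by
    have h1 : (v * w - 1) * t * t = 0 := by rw [← hv] at hw; linear_combination hw
    exact sub_eq_zero.1 ((mem_nonZeroDivisors_iff_right.1 ht) _ ((mem_nonZeroDivisors_iff_right.1 ht) _ h1))
  refine ⟨hv ▸ mul_mem (IsUnit.of_mul_eq_one _ hvw).mem_nonZeroDivisors ht, ?_⟩
  rw [hI, ← hv, Ideal.span_singleton_mul_left_unit (IsUnit.of_mul_eq_one _ hvw)]

/-- The unique map from the bigger ring to a ring where the chosen generator is regular. -/
theorem exists_ringHom {a : A} (ψ : A →+* R) (hnzd : ψ a ∈ nonZeroDivisors R) (hinj : Function.Injective (algebraMap A B))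
    (H : ∀ b : B, ∃ (x : A) (y : R), algebraMap A B x = algebraMap A B a * b ∧ ψ x = ψ a * y) :
    ∃ Θ : B →+* R, Θ.comp (algebraMap A B) = ψ := by
  choose x y hx hy using H
  have key : ∀ (b : B) (x' : A) (y' : R), algebraMap A B x' = algebraMap A B a * b → ψ x' = ψ a * y' → y b = y' := by
    intro b x' y' h1 h2
    obtain rfl : x b = x' := hinj ((hx b).trans h1.symm)
    exact (mul_cancel_left_mem_nonZeroDivisors hnzd).1 ((hy b).symm.trans h2)
  refine ⟨{
    toFun := y
    map_one' := key 1 a 1 (mul_one _).symm (mul_one _).symm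
    map_zero' := key 0 0 0 (by simp) (by simp)
    map_add' := fun b c => key (b + c) (x b + x c) _ (by rw [map_add, hx, hx, mul_add]) (by rw [map_add, hy, hy, mul_add])
    map_mul' := fun b c => ?_ }, RingHom.ext fun r => key _ (a * r) _ (by rw [map_mul]) (by rw [map_mul])⟩
  have e : x b * x c = a * x (b * c) := hinj (by rw [map_mul, map_mul, hx, hx, hx]; ring)
  refine (mul_cancel_left_mem_nonZeroDivisors hnzd).1 ((hy (b * c)).symm.trans ?_)
  refine (mul_cancel_left_mem_nonZeroDivisors hnzd).1 ?_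
  rw [← map_mul, ← e, map_mul, hy, hy]
  ring

theorem ideal_comap_idealSheaf {Y : Scheme.{u}} (g : Y ⟶ Spec (CommRingCat.of A)) (I : Ideal A) (V : Y.affineOpens) :
    ((Curv2.idealSheaf A I).comap g).ideal V =
      I.map ((Y.presheaf.map (homOfLE (le_top : V.1 ≤ ⊤)).op).hom.comp
        ((Scheme.ΓSpecIso (CommRingCat.of A)).inv ≫ g.appTop).hom) := by
  rw [Groth.L22.Ideals.comap_ideal g _ ⟨⊤, isAffineOpen_top _⟩ V (fun _ _ => trivial), Curv2.idealSheaf,
    Scheme.IdealSheafData.ofIdealTop_ideal, Ideal.map_map, Ideal.map_map]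
  refine congrArg (fun χ => Ideal.map χ I) ?_
  rw [← CommRingCat.hom_comp, ← CommRingCat.hom_comp, ← CommRingCat.hom_comp]
  refine congrArg CommRingCat.Hom.hom ?_
  simp [Scheme.Hom.appLE]

theorem isBlowUp_of_free (A B : Type u) [CommRing A] [CommRing B] [Algebra A B]
    (hinj : Function.Injective (algebraMap A B)) (I : Ideal A)
    (hIB : (Ideal.map (algebraMap A B) I : Set B) ⊆ algebraMap A B '' (I : Set A))
    (f : B) (hf : f ∈ nonZeroDivisors B) (hgen : Ideal.map (algebraMap A B) I = Ideal.span {f}) :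
    BlowUp.IsBlowUp (Spec.map (CommRingCat.ofHom (algebraMap A B))) (Curv2.idealSheaf A I) := by
  let iB := (Scheme.ΓSpecIso (CommRingCat.of B)).commRingCatIsoToRingEquiv
  obtain ⟨a, ha, rfl⟩ := hIB (show f ∈ (Ideal.map (algebraMap A B) I : Set B) by
    rw [hgen]; exact Ideal.mem_span_singleton_self f)
  have hdiv : ∀ i ∈ I, ∃ b, algebraMap A B i = algebraMap A B a * b := fun i hi => by
    obtain ⟨b, hb⟩ := Ideal.mem_span_singleton'.1 (hgen ▸ Ideal.mem_map_of_mem (algebraMap A B) hi)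
    exact ⟨b, by rw [← hb, mul_comm]⟩
  have hback : ∀ b, ∃ x ∈ I, algebraMap A B x = algebraMap A B a * b := fun b => by
    obtain ⟨x, hx, e⟩ := hIB (show algebraMap A B a * b ∈ (Ideal.map (algebraMap A B) I : Set B) from
      Ideal.mul_mem_right _ _ (Ideal.mem_map_of_mem _ ha))
    exact ⟨x, hx, e⟩
  have hmul : ∀ i ∈ I, ∀ j ∈ I, ∃ k ∈ I, i * j = a * k := fun i hi j hj => by
    obtain ⟨b, hb⟩ := hdiv i hi
    obtain ⟨c, hc⟩ := hdiv j hj
    obtain ⟨k, hk, e⟩ := hback (b * c)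
    refine ⟨(k : A), hk, hinj ?_⟩
    rw [map_mul, map_mul, e, hb, hc]; ring
  refine ⟨fun p => ⟨⟨⊤, isAffineOpen_top _⟩, trivial, iB.symm (algebraMap A B a), ?_, ?_⟩, fun Y g hg => ?_⟩
  · refine mem_nonZeroDivisors_iff_right.2 fun w hw => iB.injective ?_
    rw [map_zero]
    refine (mem_nonZeroDivisors_iff_right.1 hf) _ ?_
    have h3 := congrArg iB hw
    rwa [map_mul, map_zero, iB.apply_symm_apply] at h3
  · rw [ideal_comap_idealSheaf]
    have e : ((Spec (CommRingCat.of B)).presheaf.map (homOfLE (le_top : (⊤ : (Spec (CommRingCat.of B)).Opens) ≤ ⊤)).op).hom.comp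
        ((Scheme.ΓSpecIso (CommRingCat.of A)).inv ≫ (Spec.map (CommRingCat.ofHom (algebraMap A B))).appTop).hom =
        iB.symm.toRingHom.comp (algebraMap A B) := by
      rw [← Scheme.ΓSpecIso_inv_naturality, ← CommRingCat.hom_comp, Category.assoc,
        show homOfLE (le_top : (⊤ : (Spec (CommRingCat.of B)).Opens) ≤ ⊤) = 𝟙 _ from rfl, op_id,
        CategoryTheory.Functor.map_id, Category.comp_id]
      rfl
    rw [e, ← Ideal.map_map, hgen, Ideal.map_span, Set.image_singleton]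
    rfl
  -- the universal property
  let ψ : A →+* Γ(Y, ⊤) := ((Scheme.ΓSpecIso (CommRingCat.of A)).inv ≫ g.appTop).hom
  choose V hyV t ht hVt using hg
  let res : ∀ y : Y, Γ(Y, ⊤) →+* Γ(Y, (V y).1) := fun y => (Y.presheaf.map (homOfLE (le_top : (V y).1 ≤ ⊤)).op).hom
  have hloc : ∀ y, res y (ψ a) ∈ nonZeroDivisors Γ(Y, (V y).1) ∧ I.map ((res y).comp ψ) = Ideal.span {res y (ψ a)} :=
    fun y => isNZD_and_span_of_mul_eq ha hmul ((res y).comp ψ) (ht y)
      ((ideal_comap_idealSheaf g I (V y)).symm.trans (hVt y))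
  have hcov : (⊤ : Y.Opens) ≤ iSup fun y => (V y).1 := fun y _ => Opens.mem_iSup.2 ⟨y, hyV y⟩
  let F : TopCat.Sheaf CommRingCat.{u} Y.toTopCat := ⟨Y.presheaf, Y.IsSheaf⟩
  let rs' : ∀ O : Y.Opens, Γ(Y, ⊤) →+* Γ(Y, O) := fun O => (Y.presheaf.map (homOfLE (le_top : O ≤ ⊤)).op).hom
  have hnzdO : ∀ O : Y.Opens, rs' O (ψ a) ∈ nonZeroDivisors Γ(Y, O) := fun O => by
    refine mem_nonZeroDivisors_iff_right.2 fun w hw => ?_
    have hW : ∀ y : O, ∃ W : Y.affineOpens, (y : Y) ∈ W.1 ∧ W.1 ≤ O ∧ W.1 ≤ (V y).1 := fun y => by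
      obtain ⟨W, hW, hyW, hle⟩ := exists_isAffineOpen_mem_and_subset (x := (y : Y)) (U := O ⊓ (V y).1) ⟨y.2, hyV y⟩
      exact ⟨⟨W, hW⟩, hyW, fun z hz => (hle hz).1, fun z hz => (hle hz).2⟩
    choose W hyW hWO hWV using hW
    refine TopCat.Sheaf.eq_of_locally_eq' F (fun y : O => (W y).1) O (fun y => homOfLE (hWO y))
      (fun y hy => Opens.mem_iSup.2 ⟨⟨y, hy⟩, hyW _⟩) _ _ fun y => ?_
    rw [map_zero]
    have hn := Groth.L22.Ideals.map_mem_nonZeroDivisors (U := V y) (V := W y) (hWV y) (hloc y).1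
    refine (mem_nonZeroDivisors_iff_right.1 hn) _ ?_
    have h1 := congrArg (Y.presheaf.map (homOfLE (hWO y)).op) hw
    rw [map_mul, map_zero] at h1
    convert h1 using 2
    simp only [res, rs', ← CategoryTheory.comp_apply, ← Functor.map_comp]
    rfl
  have hnzd : ψ a ∈ nonZeroDivisors Γ(Y, ⊤) := by
    have h1 := hnzdO ⊤
    simp only [rs', show homOfLE (le_top : (⊤ : Y.Opens) ≤ ⊤) = 𝟙 _ from rfl, op_id, CategoryTheory.Functor.map_id] at h1
    exact h1
  have H : ∀ b : B, ∃ (x : A) (z : Γ(Y, ⊤)), algebraMap A B x = algebraMap A B a * b ∧ ψ x = ψ a * z := fun b => by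
    obtain ⟨x, hx, e⟩ := hback b
    have h1 : ∀ y, ∃ z, z * res y (ψ a) = res y (ψ x) := fun y =>
      Ideal.mem_span_singleton'.1 ((hloc y).2 ▸ Ideal.mem_map_of_mem _ hx)
    choose z hz using h1
    have hcompat : TopCat.Presheaf.IsCompatible F.obj (fun y => (V y).1) z := fun i j => by
      refine (mul_cancel_right_mem_nonZeroDivisors (hnzdO ((V i).1 ⊓ (V j).1))).1 ?_
      have e1 := congrArg (Y.presheaf.map (homOfLE (inf_le_left : (V i).1 ⊓ (V j).1 ≤ (V i).1)).op) (hz i)
      have e2 := congrArg (Y.presheaf.map (homOfLE (inf_le_right : (V i).1 ⊓ (V j).1 ≤ (V j).1)).op) (hz j)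
      simp only [res, rs', map_mul, ← CategoryTheory.comp_apply, ← Functor.map_comp] at e1 e2 ⊢
      exact e1.trans e2.symm
    obtain ⟨z₀, hz₀, -⟩ := TopCat.Sheaf.existsUnique_gluing' F (fun y => (V y).1) ⊤ (fun y => homOfLE le_top) hcov z hcompat
    refine ⟨x, z₀, e, TopCat.Sheaf.eq_of_locally_eq' F (fun y => (V y).1) ⊤ (fun y => homOfLE le_top) hcov _ _ fun y => ?_⟩
    show res y (ψ x) = res y (ψ a * z₀)
    rw [map_mul, show res y z₀ = z y from hz₀ y, mul_comm, hz y]
  obtain ⟨Θ, hΘ⟩ := exists_ringHom ψ hnzd hinj H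
  refine ⟨Y.toSpecΓ ≫ Spec.map (CommRingCat.ofHom Θ), ?_, fun h hh => ?_⟩
  · refine ext_of_isAffine ?_
    rw [Category.assoc, ← Spec.map_comp, Scheme.Hom.comp_appTop, Scheme.toSpecΓ_appTop]
    have : CommRingCat.ofHom (algebraMap A B) ≫ CommRingCat.ofHom Θ =
        (Scheme.ΓSpecIso (CommRingCat.of A)).inv ≫ g.appTop := CommRingCat.hom_ext hΘ
    rw [this, Scheme.ΓSpecIso_naturality, Iso.hom_inv_id_assoc]
  · subst hh
    refine ext_of_isAffine ?_
    rw [Scheme.Hom.comp_appTop, Scheme.toSpecΓ_appTop, Scheme.ΓSpecIso_naturality]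
    let Θ' : B →+* Γ(Y, ⊤) := ((Scheme.ΓSpecIso (CommRingCat.of B)).inv ≫ h.appTop).hom
    have hψ : ψ = Θ'.comp (algebraMap A B) := by
      show ((Scheme.ΓSpecIso (CommRingCat.of A)).inv ≫ (h ≫ Spec.map (CommRingCat.ofHom (algebraMap A B))).appTop).hom = _
      rw [Scheme.Hom.comp_appTop, ← Category.assoc, ← Scheme.ΓSpecIso_inv_naturality, Category.assoc]
      rfl
    have : Θ' = Θ := RingHom.ext fun b => by
      obtain ⟨x, -, e⟩ := hback b
      refine (mul_cancel_left_mem_nonZeroDivisors hnzd).1 ?_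
      conv_lhs => rw [show ψ a = Θ' (algebraMap A B a) from RingHom.congr_fun hψ a, ← map_mul, ← e]
      conv_rhs => rw [← show Θ (algebraMap A B a) = ψ a from RingHom.congr_fun hΘ a, ← map_mul, ← e]
      exact (RingHom.congr_fun hψ x).symm.trans (RingHom.congr_fun hΘ x).symm
    rw [show CommRingCat.ofHom Θ = (Scheme.ΓSpecIso (CommRingCat.of B)).inv ≫ h.appTop from
      CommRingCat.hom_ext this.symm, Iso.hom_inv_id_assoc]

end Groth.L20.AffBlow
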