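import Groth.Agent.L20.UnivInj
import Mathlib.RingTheory.Flat.FaithfullyFlat.Basic

/-!
# Flatness along nilpotent ideals
-/

universe u v w

namespace Groth.L20

open TensorProduct LinearMap

/-- If `K` is nilpotent, `M/KM` is flat over `S/K` and all `K^j ⊗ M → M` are injective then `M` is
flat. -/
theorem flat_of_nilpotent {S : Type*} [CommRing S] (K : Ideal S) (hK : IsNilpotent K)
    {M : Type*} [AddCommGroup M] [Module S M]
    [Module.Flat (S ⧸ K) ((S ⧸ K) ⊗[S] M)]
    (hinj : ∀ j : ℕ, Function.Injective ((K ^ j).subtype.rTensor M)) : Module.Flat S M := by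
  rw [Module.Flat.iff_rTensor_injective']
  intro I
  rw [injective_iff_map_eq_zero]
  intro z hz
  have step : ∀ j : ℕ, ∃ w : (I ⊓ K ^ j : Ideal S) ⊗[S] M,
      (Submodule.inclusion (inf_le_left : I ⊓ K ^ j ≤ I)).rTensor M w = z := by
    intro j
    induction j with
    | zero =>
      have hs : Function.Surjective (Submodule.inclusion (inf_le_left : I ⊓ K ^ 0 ≤ I)) :=
        fun x => ⟨⟨x, x.2, by simp⟩, Subtype.ext rfl⟩
      exact rTensor_surjective M hs z
    | succ j ih =>
      obtain ⟨w, hw⟩ := ih
      let A : Submodule S (K ^ j : Ideal S) :=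
        Submodule.comap (K ^ j).subtype (K ^ (j + 1))
      let g : (I ⊓ K ^ j : Ideal S) →ₗ[S] (K ^ j : Ideal S) ⧸ A :=
        A.mkQ ∘ₗ Submodule.inclusion inf_le_right
      have hkill : ∀ a ∈ K, ∀ x : (K ^ j : Ideal S) ⧸ A, a • x = 0 := by
        intro a ha x
        obtain ⟨⟨y, hy⟩, rfl⟩ := A.mkQ_surjective x
        rw [← map_smul, Submodule.mkQ_apply, Submodule.Quotient.mk_eq_zero]
        change a * y ∈ K ^ (j + 1)
        rw [pow_succ']
        exact Ideal.mul_mem_mul ha hy
      have h0 : (Submodule.inclusion (inf_le_right : I ⊓ K ^ j ≤ K ^ j)).rTensor M w = 0 := by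
        apply hinj j
        rw [map_zero, ← rTensor_comp_apply, ← hz, ← hw, ← rTensor_comp_apply]
        rfl
      have hg : g.rangeRestrict.rTensor M w = 0 := by
        apply rTensor_injective_of_killed K hkill (LinearMap.range g).subtype Subtype.val_injective
        rw [map_zero, ← rTensor_comp_apply,
          show (LinearMap.range g).subtype ∘ₗ g.rangeRestrict = g from rfl, rTensor_comp_apply, h0,
          map_zero]
      obtain ⟨w', hw'⟩ := mem_range_rTensor_of_exact (A := LinearMap.ker g)
        (f := (LinearMap.ker g).subtype)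
        (by rw [LinearMap.exact_iff, ker_rangeRestrict, Submodule.range_subtype])
        (LinearMap.surjective_rangeRestrict g) hg
      have hle : ∀ x : LinearMap.ker g, ((x : (I ⊓ K ^ j : Ideal S)) : S) ∈ I ⊓ K ^ (j + 1) := by
        intro x
        refine ⟨(x : (I ⊓ K ^ j : Ideal S)).2.1, ?_⟩
        have := x.2
        rw [LinearMap.mem_ker] at this
        exact ((Submodule.Quotient.mk_eq_zero A).mp this : _)
      refine ⟨(LinearMap.codRestrict (I ⊓ K ^ (j + 1))
        ((I ⊓ K ^ j).subtype ∘ₗ (LinearMap.ker g).subtype) hle).rTensor M w', ?_⟩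
      rw [← hw, ← hw', ← rTensor_comp_apply, ← rTensor_comp_apply]
      rfl
  obtain ⟨n, hn⟩ := hK
  obtain ⟨w, hw⟩ := step n
  have : Submodule.inclusion (inf_le_left : I ⊓ K ^ n ≤ I) = 0 := by
    ext ⟨x, -, hx⟩
    simpa [hn] using hx
  rw [← hw, this, rTensor_zero, LinearMap.zero_apply]

/-- A sufficient condition for injectivity of `(IS)⊗_S M → M`, with `M` flat over the base. -/
theorem rTensor_map_injective_of_flat {R S : Type*} [CommRing R] [CommRing S] [Algebra R S]
    {M : Type*} [AddCommGroup M] [Module R M] [Module S M] [IsScalarTower R S M] [Module.Flat R M]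
    (I : Ideal R) : Function.Injective ((I.map (algebraMap R S)).subtype.rTensor M) := by
  let J := I.map (algebraMap R S)
  let ι : I →ₗ[R] J := LinearMap.codRestrict (J.restrictScalars R)
    (Algebra.linearMap R S ∘ₗ I.subtype) (fun a => Ideal.mem_map_of_mem _ a.2)
  let ψ : I ⊗[R] M →ₗ[R] J ⊗[S] M :=
    TensorProduct.lift (((TensorProduct.mk S J M).restrictScalars₁₂ R R).comp ι)
  have hsurj : Function.Surjective ψ := by
    have key : ∀ x : J, ∀ m : M, x ⊗ₜ[S] m ∈ LinearMap.range ψ := by
      rintro ⟨x, hx⟩
      induction hx using Submodule.span_induction with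
      | mem y hy =>
        obtain ⟨a, ha, rfl⟩ := hy
        exact fun m => ⟨(⟨a, ha⟩ : I) ⊗ₜ m, rfl⟩
      | zero =>
        intro m
        rw [show (⟨0, _⟩ : J) = 0 from rfl, zero_tmul]
        exact zero_mem _
      | add a b ha hb iha ihb =>
        intro m
        rw [show (⟨a + b, _⟩ : J) = ⟨a, ha⟩ + ⟨b, hb⟩ from rfl, add_tmul]
        exact add_mem (iha m) (ihb m)
      | smul s a ha iha =>
        intro m
        rw [show (⟨s • a, _⟩ : J) = s • (⟨a, ha⟩ : J) from rfl, smul_tmul]
        exact iha (s • m)
    intro y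
    induction y using TensorProduct.induction_on with
    | zero => exact ⟨0, map_zero _⟩
    | tmul x m => exact key x m
    | add a b ha hb =>
      obtain ⟨a, rfl⟩ := ha
      obtain ⟨b, rfl⟩ := hb
      exact ⟨a + b, map_add _ _ _⟩
  have hcomp : ∀ y, TensorProduct.lid S M (J.subtype.rTensor M (ψ y)) =
      TensorProduct.lid R M (I.subtype.rTensor M y) := by
    intro y
    induction y using TensorProduct.induction_on with
    | zero => simp
    | tmul a m =>
      change algebraMap R S (a : R) • m = (a : R) • m
      exact algebraMap_smul S _ m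
    | add a b ha hb => simp only [map_add, ha, hb]
  rw [injective_iff_map_eq_zero]
  intro z hz
  obtain ⟨y, rfl⟩ := hsurj z
  have hy : I.subtype.rTensor M y = 0 := by
    apply (TensorProduct.lid R M).injective
    rw [map_zero, ← hcomp, hz, map_zero]
  rw [(injective_iff_map_eq_zero _).mp
    (Module.Flat.rTensor_preserves_injective_linearMap (M := M) I.subtype Subtype.val_injective) y hy,
    map_zero]

/-- Nilpotent fibre criterion of flatness. -/
theorem flat_of_nilpotent_of_flat_base {R S : Type*} [CommRing R] [CommRing S] [Algebra R S]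
    (I : Ideal R) (hI : IsNilpotent I)
    {M : Type*} [AddCommGroup M] [Module R M] [Module S M] [IsScalarTower R S M] [Module.Flat R M]
    [Module.Flat (S ⧸ I.map (algebraMap R S)) ((S ⧸ I.map (algebraMap R S)) ⊗[S] M)] :
    Module.Flat S M := by
  refine flat_of_nilpotent (I.map (algebraMap R S)) ?_ fun j => ?_
  · obtain ⟨n, hn⟩ := hI
    exact ⟨n, by rw [← Ideal.map_pow, hn]; simp⟩
  · rw [← Ideal.map_pow]
    exact rTensor_map_injective_of_flat _

/-- A nilpotent ideal version of Nakayama. -/
theorem eq_bot_of_le_smul {R : Type*} [CommRing R] {M : Type*} [AddCommGroup M] [Module R M]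
    (I : Ideal R) (hI : IsNilpotent I) (L : Submodule R M) (h : L ≤ I • L) : L = ⊥ := by
  obtain ⟨n, hn⟩ := hI
  have : ∀ k : ℕ, L ≤ I ^ k • L := by
    intro k
    induction k with
    | zero => simp
    | succ k ih =>
      rw [pow_succ, ← smul_eq_mul, Submodule.smul_assoc]
      exact ih.trans (Submodule.smul_mono le_rfl h)
  simpa [hn] using this n

section Local

variable {R : Type u} [CommRing R] [IsLocalRing R] {M : Type v} [AddCommGroup M] [Module R M]

open IsLocalRing

/-- Over a local ring with nilpotent maximal ideal, any module is a quotient of a free module by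
relations with coefficients in the maximal ideal. -/
theorem exists_free_cover (hR : IsNilpotent (maximalIdeal R)) :
    ∃ (ι : Type (max u v)) (φ : (ι →₀ R) →ₗ[R] M), Function.Surjective φ ∧
      ∀ c, φ c ∈ maximalIdeal R • (⊤ : Submodule R M) →
        c ∈ maximalIdeal R • (⊤ : Submodule R (ι →₀ R)) := by
  classical
  let m := maximalIdeal R
  let b := Module.Free.chooseBasis (ResidueField R) (ResidueField R ⊗[R] M)
  let ι := Module.Free.ChooseBasisIndex (ResidueField R) (ResidueField R ⊗[R] M)
  choose v hv using fun i =>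
    TensorProduct.mk_surjective R M (ResidueField R) Ideal.Quotient.mk_surjective (b i)
  let φ : (ι →₀ R) →ₗ[R] M := Finsupp.linearCombination R v
  have hφ : ∀ c : ι →₀ R, TensorProduct.mk R (ResidueField R) M 1 (φ c) =
      Finsupp.linearCombination (ResidueField R) b (c.mapRange (algebraMap R (ResidueField R)) (map_zero _)) := by
    intro c
    rw [Finsupp.apply_linearCombination, Finsupp.linearCombination_apply,
      Finsupp.linearCombination_apply, Finsupp.sum_mapRange_index (by simp)]
    refine Finsupp.sum_congr fun i _ => ?_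
    rw [Function.comp_apply, hv, algebraMap_smul]
  have key : ∀ x : M, TensorProduct.mk R (ResidueField R) M 1 x = 0 ↔ x ∈ m • (⊤ : Submodule R M) := by
    intro x
    rw [← LinearMap.mem_ker]
    exact (SetLike.ext_iff.mp (LinearMap.ker_tensorProductMk M) x)
  refine ⟨ι, φ, ?_, ?_⟩
  · have hle : (⊤ : Submodule R M) ≤ LinearMap.range φ ⊔ m • ⊤ := by
      intro x _
      obtain ⟨c, hc⟩ := Finsupp.mapRange_surjective _ (map_zero _) Ideal.Quotient.mk_surjective
        (b.repr (TensorProduct.mk R (ResidueField R) M 1 x))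
      have : x - φ c ∈ m • (⊤ : Submodule R M) := by
        rw [← key, map_sub, sub_eq_zero, hφ]
        exact (by rw [show (c.mapRange (algebraMap R (ResidueField R)) (map_zero _)) = _ from hc,
          b.linearCombination_repr])
      exact Submodule.mem_sup.mpr ⟨φ c, ⟨c, rfl⟩, x - φ c, this, by abel⟩
    rw [← LinearMap.range_eq_top, ← Submodule.Quotient.subsingleton_iff, ← Submodule.subsingleton_iff R,
      ← subsingleton_iff_bot_eq_top, eq_comm]
    refine eq_bot_of_le_smul m hR ⊤ ?_
    intro x _
    obtain ⟨y, rfl⟩ := (LinearMap.range φ).mkQ_surjective x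
    obtain ⟨a, ha, b', hb', rfl⟩ := Submodule.mem_sup.mp (hle (Submodule.mem_top (x := y)))
    rw [map_add, Submodule.mkQ_apply, (Submodule.Quotient.mk_eq_zero _).mpr ha, zero_add]
    have := Submodule.mem_map_of_mem (f := (LinearMap.range φ).mkQ) hb'
    rw [Submodule.map_smul'', Submodule.map_top] at this
    exact Submodule.smul_mono le_rfl le_top this
  · intro c hc
    rw [← key, hφ] at hc
    have h0 := linearIndependent_iff.mp b.linearIndependent _ hc
    rw [← Finsupp.sum_single c]
    refine sum_mem fun i _ => ?_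
    have hi : c i ∈ m := by
      rw [← Ideal.Quotient.eq_zero_iff_mem]
      exact (Finsupp.mapRange_apply (f := algebraMap R (ResidueField R)) (hf := map_zero _)
        (g := c) (a := i)).symm.trans (DFunLike.congr_fun h0 i)
    rw [show Finsupp.single i (c i) = c i • Finsupp.single i (1 : R) by simp]
    exact Submodule.smul_mem_smul hi trivial

end Local

/-- If the presentation has relations in `J` and the base change to `A` is flat, the relations
vanish in `A`. -/
theorem baseChange_relations_eq_zero {R A : Type*} [CommRing R] [CommRing A] [Algebra R A]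
    (J : Ideal R) (hJ : IsNilpotent J) {F M : Type*} [AddCommGroup F] [Module R F]
    [AddCommGroup M] [Module R M] (φ : F →ₗ[R] M) (hφ : Function.Surjective φ)
    (hker : ∀ x, φ x = 0 → x ∈ J • (⊤ : Submodule R F))
    [Module.Flat A (A ⊗[R] M)] (x : F) (hx : φ x = 0) : (1 : A) ⊗ₜ[R] x = 0 := by
  let ψ := φ.baseChange A
  let L := LinearMap.ker ψ
  have hψ : Function.Surjective ψ := lTensor_surjective A hφ
  have hfl : Module.Flat A ((A ⊗[R] F) ⧸ L) :=
    Module.Flat.of_linearEquiv (ψ.quotKerEquivOfSurjective hψ)
  let I := J.map (algebraMap R A)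
  have hsub : ∀ y : F, φ y = 0 → (1 : A) ⊗ₜ[R] y ∈ L ⊓ I • (⊤ : Submodule A (A ⊗[R] F)) := by
    intro y hy
    refine ⟨by simp [L, ψ, hy], ?_⟩
    have hz := hker y hy
    clear hy
    change (1 : A) ⊗ₜ[R] y ∈ I • (⊤ : Submodule A (A ⊗[R] F))
    induction hz using Submodule.smul_induction_on' with
    | smul r hr z _ =>
      rw [tmul_smul, ← algebraMap_smul A r]
      exact Submodule.smul_mem_smul (Ideal.mem_map_of_mem _ hr) trivial
    | add a _ b _ ha hb => rw [tmul_add]; exact add_mem ha hb
  have hL : L ≤ I • L := by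
    have hex : Function.Exact ((LinearMap.ker φ).subtype.lTensor A) (φ.lTensor A) :=
      lTensor_exact A (LinearMap.exact_subtype_ker_map φ) hφ
    intro y hy
    obtain ⟨w, rfl⟩ := (hex y).mp hy
    have hw : ((LinearMap.ker φ).subtype.lTensor A w) ∈ I • (⊤ : Submodule A (A ⊗[R] F)) := by
      clear hy
      induction w using TensorProduct.induction_on with
      | zero => simp
      | add a b ha hb => rw [map_add]; exact add_mem ha hb
      | tmul a k =>
        rw [lTensor_tmul, Submodule.subtype_apply,
          show a ⊗ₜ[R] (k : F) = a • ((1 : A) ⊗ₜ[R] (k : F)) by simp [smul_tmul']]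
        exact Submodule.smul_mem _ _ (hsub k k.2).2
    exact mem_smul_of_flat_quotient L I hy hw
  have hI : IsNilpotent I := by
    obtain ⟨n, hn⟩ := hJ
    exact ⟨n, by rw [← Ideal.map_pow, hn]; simp⟩
  have := (hsub x hx).1
  rwa [eq_bot_of_le_smul I hI L hL, SetLike.mem_coe, Submodule.mem_bot] at this

end Groth.L20
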