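import Groth.Agent.L20.ThickeningDescent
import Groth.Agent.L20.Nilpotent
import Groth.Agent.L22.Ideal

/-!
# Deforming morphisms between flat schemes along finite order thickenings
-/

set_option autoImplicit false

universe u

open CategoryTheory CategoryTheory.Limits AlgebraicGeometry
open scoped TensorProduct

namespace Groth.L20.Thick

set_option linter.style.haveILetI false

section Ring

variable {A B C : Type u} [CommRing A] [CommRing B] [CommRing C] [Algebra A B] [Algebra B C]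
  [Algebra A C] [IsScalarTower A B C] (I : Ideal A)

/-- The quotient map `B/IB → C/IC`. -/
noncomputable def quotMap : (B ⧸ I.map (algebraMap A B)) →+* (C ⧸ I.map (algebraMap A C)) :=
  Ideal.quotientMap _ (algebraMap B C) (by
    rw [← Ideal.map_le_iff_le_comap, Ideal.map_map, ← IsScalarTower.algebraMap_eq])

theorem flat_of_flat_quotMap (hI : IsNilpotent I) [Module.Flat A C]
    (h : (quotMap (B := B) (C := C) I).Flat) : Module.Flat B C := by
  have hK : (I.map (algebraMap A B)).map (algebraMap B C) = I.map (algebraMap A C) := by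
    rw [Ideal.map_map, ← IsScalarTower.algebraMap_eq]
  letI := (quotMap (B := B) (C := C) I).toAlgebra
  haveI : IsScalarTower B (B ⧸ I.map (algebraMap A B)) (C ⧸ I.map (algebraMap A C)) :=
    IsScalarTower.of_algebraMap_eq fun b => rfl
  haveI hfl : Module.Flat (B ⧸ I.map (algebraMap A B)) (C ⧸ I.map (algebraMap A C)) := h
  let e : ((B ⧸ I.map (algebraMap A B)) ⊗[B] C) ≃ₗ[B] (C ⧸ I.map (algebraMap A C)) :=
    TensorProduct.quotTensorEquivQuotSMul C _ ≪≫ₗ
      Submodule.quotEquivOfEq _ ((I.map (algebraMap A C)).restrictScalars B)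
        (by rw [Ideal.smul_top_eq_map, hK]) ≪≫ₗ
      Submodule.Quotient.restrictScalarsEquiv B _
  haveI : Module.Flat (B ⧸ I.map (algebraMap A B)) ((B ⧸ I.map (algebraMap A B)) ⊗[B] C) :=
    Module.Flat.of_linearEquiv (e.extendScalarsOfSurjective Ideal.Quotient.mk_surjective)
  exact Groth.L20.flat_of_nilpotent_of_flat_base I hI

theorem finitePresentation_of_quotMap (hI : IsNilpotent I) [Module.Flat A C]
    (h : (quotMap (B := B) (C := C) I).FinitePresentation) : Algebra.FinitePresentation B C := by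
  classical
  obtain ⟨n, hn⟩ := hI
  have hK : IsNilpotent (I.map (algebraMap A B)) :=
    ⟨n, by rw [← Ideal.map_pow, hn, Ideal.zero_eq_bot, Ideal.map_bot, Ideal.zero_eq_bot]⟩
  -- finite type
  have hft : Algebra.FiniteType B C := by
    refine finiteType_of_baseChange (A₀ := B ⧸ I.map (algebraMap A B)) Ideal.Quotient.mk_surjective
      (by rwa [Ideal.Quotient.algebraMap_eq, Ideal.mk_ker]) ?_
    letI := (quotMap (B := B) (C := C) I).toAlgebra
    haveI : IsScalarTower B (B ⧸ I.map (algebraMap A B)) (C ⧸ I.map (algebraMap A C)) :=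
      IsScalarTower.of_algebraMap_eq fun b => rfl
    have hfp : Algebra.FinitePresentation (B ⧸ I.map (algebraMap A B)) (C ⧸ I.map (algebraMap A C)) := h
    haveI : Algebra.FiniteType (B ⧸ I.map (algebraMap A B)) (C ⧸ I.map (algebraMap A C)) := inferInstance
    let ψ : ((B ⧸ I.map (algebraMap A B)) ⊗[B] C) →ₐ[B ⧸ I.map (algebraMap A B)] (C ⧸ I.map (algebraMap A C)) :=
      Algebra.TensorProduct.lift (Algebra.ofId _ _) (IsScalarTower.toAlgHom B C _) fun _ _ => Commute.all _ _
    refine Algebra.FiniteType.equiv this (AlgEquiv.ofBijective ψ ?_).symm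
    let e : ((B ⧸ I.map (algebraMap A B)) ⊗[B] C) ≃ₗ[B] (C ⧸ I.map (algebraMap A C)) :=
      TensorProduct.quotTensorEquivQuotSMul C _ ≪≫ₗ
        Submodule.quotEquivOfEq _ ((I.map (algebraMap A C)).restrictScalars B)
          (by rw [Ideal.smul_top_eq_map, Ideal.map_map, ← IsScalarTower.algebraMap_eq]) ≪≫ₗ
        Submodule.Quotient.restrictScalarsEquiv B _
    have he : (ψ : _ → _) = e := by
      have : (ψ.toLinearMap.restrictScalars B) = e.toLinearMap := by
        refine TensorProduct.ext' fun x c => ?_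
        obtain ⟨b, rfl⟩ := Ideal.Quotient.mk_surjective x
        simp [ψ, e, Algebra.smul_def]
        rfl
      exact funext fun x => LinearMap.congr_fun this x
    rw [he]
    exact e.bijective
  obtain ⟨m, π, hπ⟩ := Algebra.FiniteType.iff_quotient_mvPolynomial''.mp hft
  set P := MvPolynomial (Fin m) B
  set IP := I.map (algebraMap A P)
  have hIC : IP.map (π : P →+* C) = I.map (algebraMap A C) := by
    rw [Ideal.map_map]
    congr 1
    exact RingHom.ext fun a => by
      rw [RingHom.comp_apply, IsScalarTower.algebraMap_apply A B P, IsScalarTower.algebraMap_apply A B C]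
      exact π.commutes _
  -- the reduced presentation
  let KB := I.map (algebraMap A B)
  letI := (quotMap (B := B) (C := C) I).toAlgebra
  haveI : Algebra.FinitePresentation (B ⧸ I.map (algebraMap A B)) (C ⧸ I.map (algebraMap A C)) := h
  let ρ : P →+* MvPolynomial (Fin m) (B ⧸ I.map (algebraMap A B)) := MvPolynomial.map (Ideal.Quotient.mk _)
  have hρ : Function.Surjective ρ := MvPolynomial.map_surjective _ Ideal.Quotient.mk_surjective
  let πb : MvPolynomial (Fin m) (B ⧸ I.map (algebraMap A B)) →ₐ[B ⧸ I.map (algebraMap A B)] (C ⧸ I.map (algebraMap A C)) :=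
    MvPolynomial.aeval fun i => Ideal.Quotient.mk _ (π (MvPolynomial.X i))
  have hcomm : πb.toRingHom.comp ρ = (Ideal.Quotient.mk (I.map (algebraMap A C))).comp (π : P →+* C) := by
    refine MvPolynomial.ringHom_ext (fun b => ?_) fun i => ?_
    · simp [πb, ρ, P]; rfl
    · simp [πb, ρ, P]
  have hπb : Function.Surjective πb := fun c => by
    obtain ⟨c, rfl⟩ := Ideal.Quotient.mk_surjective c
    obtain ⟨p, rfl⟩ := hπ c
    exact ⟨ρ p, RingHom.congr_fun hcomm p⟩
  obtain ⟨G, hG⟩ := Algebra.FinitePresentation.ker_fG_of_surjective πb hπb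
  let J := RingHom.ker (π : P →+* C)
  have hlift : ∀ g ∈ G, ∃ j ∈ J, ρ j = g := by
    intro g hg
    obtain ⟨p, rfl⟩ := hρ g
    have hp : π p ∈ IP.map (π : P →+* C) := by
      rw [hIC, ← Ideal.Quotient.eq_zero_iff_mem]
      have : ρ p ∈ RingHom.ker πb.toRingHom := hG ▸ Ideal.subset_span hg
      exact (RingHom.congr_fun hcomm p).symm.trans this
    obtain ⟨p', hp', hpp'⟩ := (Ideal.mem_map_iff_of_surjective _ hπ).mp hp
    refine ⟨p - p', by simp only [J, RingHom.mem_ker, map_sub, RingHom.coe_coe, hpp', sub_self], ?_⟩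
    rw [map_sub, sub_eq_self]
    have hle : IP ≤ RingHom.ker ρ := Ideal.map_le_iff_le_comap.mpr fun a ha => by
      rw [Ideal.mem_comap, RingHom.mem_ker, IsScalarTower.algebraMap_apply A B P]
      simp [ρ, P, Ideal.Quotient.eq_zero_iff_mem.mpr (Ideal.mem_map_of_mem _ ha)]
    exact hle hp'
  choose! jf hjf hjf' using hlift
  let G' : Ideal P := Ideal.span (jf '' G)
  have hG'J : G' ≤ J := Ideal.span_le.mpr fun _ ⟨g, hg, hg'⟩ => hg' ▸ hjf g hg
  -- `J ∩ IP ⊆ I J`
  have hcap : ∀ z ∈ J, z ∈ IP → z ∈ I • (J.restrictScalars A) := by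
    intro z hz hzI
    have hzI' : z ∈ I • (⊤ : Submodule A P) := by rwa [Ideal.smul_top_eq_map]
    let μ : ∀ (M : Type u) [AddCommGroup M] [Module A M], M ⊗[A] I →ₗ[A] M := fun M _ _ =>
      (TensorProduct.rid A M).toLinearMap ∘ₗ I.subtype.lTensor M
    obtain ⟨w, rfl⟩ : ∃ w : P ⊗[A] I, μ P w = z := by
      refine Submodule.smul_induction_on hzI' (fun a ha p _ => ⟨p ⊗ₜ ⟨a, ha⟩, by simp [μ]⟩) ?_
      rintro _ _ ⟨x, rfl⟩ ⟨y, rfl⟩
      exact ⟨x + y, map_add _ _ _⟩
    let πA : P →ₗ[A] C := (π.restrictScalars A).toLinearMap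
    have hnat : ∀ w : P ⊗[A] I, μ C (πA.rTensor I w) = πA (μ P w) := by
      intro w
      induction w using TensorProduct.induction_on with
      | zero => simp
      | tmul p a => simp [μ]
      | add a b ha hb => simp only [map_add, ha, hb]
    have h0 : πA.rTensor I w = 0 := by
      have hinj : Function.Injective (μ C) := (TensorProduct.rid A C).injective.comp
        (Module.Flat.lTensor_preserves_injective_linearMap _ I.injective_subtype)
      apply hinj
      rw [hnat, map_zero]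
      exact hz
    have hex : Function.Exact ((J.restrictScalars A).subtype) πA := fun x =>
      ⟨fun hx => ⟨⟨x, hx⟩, rfl⟩, by rintro ⟨x, rfl⟩; exact x.2⟩
    obtain ⟨v, rfl⟩ := Groth.L20.mem_range_rTensor_of_exact hex hπ h0
    clear h0 hz hzI hzI'
    induction v using TensorProduct.induction_on with
    | zero => simp
    | tmul j a =>
      simp only [μ, LinearMap.comp_apply, LinearMap.rTensor_tmul, LinearMap.lTensor_tmul,
        LinearEquiv.coe_coe, TensorProduct.rid_tmul, Submodule.subtype_apply]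
      exact Submodule.smul_mem_smul a.2 j.2
    | add a b ha hb => simp only [map_add]; exact add_mem ha hb
  have hker : RingHom.ker ρ ≤ IP := by
    rw [MvPolynomial.ker_map, Ideal.mk_ker]
    refine Ideal.map_le_iff_le_comap.mpr (Ideal.map_le_iff_le_comap.mpr fun a ha => ?_)
    exact Ideal.mem_map_of_mem (algebraMap A P) ha
  have htop : J.restrictScalars A ≤ G'.restrictScalars A ⊔ I • J.restrictScalars A := by
    intro z hz
    have hmem : ρ z ∈ G'.map ρ := by
      have h1 : ρ z ∈ RingHom.ker πb.toRingHom := by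
        refine (RingHom.congr_fun hcomm z).trans ?_
        rw [RingHom.comp_apply, show (π : P →+* C) z = 0 from hz, map_zero]
      have hle : RingHom.ker πb.toRingHom ≤ G'.map ρ := by
        refine hG.symm.le.trans (Ideal.span_le.mpr fun g hg => ?_)
        rw [← hjf' g hg]
        exact Ideal.mem_map_of_mem ρ (Ideal.subset_span ⟨g, hg, rfl⟩)
      exact hle h1
    obtain ⟨g, hg, hgz⟩ := (Ideal.mem_map_iff_of_surjective _ hρ).mp hmem
    refine Submodule.mem_sup.mpr ⟨g, hg, z - g, hcap _ (J.sub_mem hz (hG'J hg)) ?_, add_sub_cancel g z⟩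
    exact hker (by rw [RingHom.mem_ker, map_sub, hgz, sub_self])
  have hJG : J = G' := by
    refine le_antisymm ?_ hG'J
    have hk : ∀ k : ℕ, J.restrictScalars A ≤ G'.restrictScalars A ⊔ I ^ k • J.restrictScalars A := by
      intro k
      induction k with
      | zero => rw [pow_zero, Ideal.one_eq_top, Submodule.top_smul]; exact le_sup_right
      | succ k ih =>
        refine ih.trans (sup_le le_sup_left ?_)
        refine (Submodule.smul_mono le_rfl htop).trans ?_
        rw [Submodule.smul_sup, pow_succ, Submodule.mul_smul]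
        exact sup_le_sup Submodule.smul_le_right le_rfl
    intro z hz
    have := hk n hz
    rwa [hn, Ideal.zero_eq_bot, Submodule.bot_smul, sup_bot_eq] at this
  refine Algebra.FinitePresentation.of_surjective hπ ?_
  show J.FG
  rw [hJG]
  exact ⟨G.image jf, by rw [Finset.coe_image]⟩

end Ring

/-- Scheme-level setting: reductions of sections of `f'` and `f`. -/
theorem exists_setting {X X' Y Y' S S' : Scheme.{u}} {iX : X ⟶ X'} {iY : Y ⟶ Y'} {iS : S ⟶ S'}
    {f : X ⟶ Y} {f' : X' ⟶ Y'} {g : Y ⟶ S} {g' : Y' ⟶ S'}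
    [IsClosedImmersion iS] (hcX : IsPullback iX (f ≫ g) (f' ≫ g') iS) (hcY : IsPullback iY g g' iS)
    (w : iX ≫ f' = f ≫ iY) (Q : ∀ {R T : Type u} [CommRing R] [CommRing T], (R →+* T) → Prop)
    (hQ : RingHom.RespectsIso Q)
    {W : S'.affineOpens} {V : Y'.affineOpens} {U : X'.affineOpens}
    (eV : V.1 ≤ g' ⁻¹ᵁ W.1) (eU : U.1 ≤ f' ⁻¹ᵁ V.1)
    (h : ∀ (e : iX ⁻¹ᵁ U.1 ≤ f ⁻¹ᵁ (iY ⁻¹ᵁ V.1)), Q (f.appLE (iY ⁻¹ᵁ V.1) (iX ⁻¹ᵁ U.1) e).hom) :
    letI := (g'.appLE W.1 V.1 eV).hom.toAlgebra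
    letI := (f'.appLE V.1 U.1 eU).hom.toAlgebra
    letI := ((f'.appLE V.1 U.1 eU).hom.comp (g'.appLE W.1 V.1 eV).hom).toAlgebra
    haveI : IsScalarTower Γ(S', W.1) Γ(Y', V.1) Γ(X', U.1) := IsScalarTower.of_algebraMap_eq fun _ => rfl
    Q (quotMap (B := Γ(Y', V.1)) (C := Γ(X', U.1)) (iS.ker.ideal W)) := by
  have : IsClosedImmersion iY := MorphismProperty.of_isPullback hcY.flip inferInstance
  have : IsClosedImmersion iX := MorphismProperty.of_isPullback hcX.flip inferInstance
  letI := (g'.appLE W.1 V.1 eV).hom.toAlgebra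
  letI := (f'.appLE V.1 U.1 eU).hom.toAlgebra
  letI := ((f'.appLE V.1 U.1 eU).hom.comp (g'.appLE W.1 V.1 eV).hom).toAlgebra
  haveI : IsScalarTower Γ(S', W.1) Γ(Y', V.1) Γ(X', U.1) := IsScalarTower.of_algebraMap_eq fun _ => rfl
  have e : iX ⁻¹ᵁ U.1 ≤ f ⁻¹ᵁ (iY ⁻¹ᵁ V.1) := fun x hx => by
    show iY (f x) ∈ V.1
    rw [← Scheme.Hom.comp_apply, ← w]
    exact eU hx
  have eUW : U.1 ≤ (f' ≫ g') ⁻¹ᵁ W.1 := fun x hx => eV (eU hx)
  have kY : RingHom.ker (iY.app V.1).hom =
      (iS.ker.ideal W).map (algebraMap Γ(S', W.1) Γ(Y', V.1)) := by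
    rw [← Scheme.Hom.ker_apply, Groth.L17.Thick.ker_of_isPullback hcY,
      Groth.L22.Ideals.comap_ideal g' _ W V eV]
    rfl
  have kX : RingHom.ker (iX.app U.1).hom =
      (iS.ker.ideal W).map (algebraMap Γ(S', W.1) Γ(X', U.1)) := by
    rw [← Scheme.Hom.ker_apply, Groth.L17.Thick.ker_of_isPullback hcX,
      Groth.L22.Ideals.comap_ideal (f' ≫ g') _ W U eUW]
    congr 1
    rw [← Scheme.Hom.appLE_comp_appLE f' g' W.1 V.1 U.1 eV eU]
    rfl
  have hsq : f'.appLE V.1 U.1 eU ≫ iX.app U.1 = iY.app V.1 ≫ f.appLE (iY ⁻¹ᵁ V.1) (iX ⁻¹ᵁ U.1) e := by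
    rw [Scheme.Hom.app_eq_appLE, Scheme.Hom.app_eq_appLE, Scheme.Hom.appLE_comp_appLE,
      Scheme.Hom.appLE_comp_appLE]
    simp only [w]
  let eY : (Γ(Y', V.1) ⧸ (iS.ker.ideal W).map (algebraMap Γ(S', W.1) Γ(Y', V.1))) ≃+* Γ(Y, iY ⁻¹ᵁ V.1) :=
    (Ideal.quotEquivOfEq kY.symm).trans (RingHom.quotientKerEquivOfSurjective (iY.app_surjective _ V.2))
  let eX : (Γ(X', U.1) ⧸ (iS.ker.ideal W).map (algebraMap Γ(S', W.1) Γ(X', U.1))) ≃+* Γ(X, iX ⁻¹ᵁ U.1) :=
    (Ideal.quotEquivOfEq kX.symm).trans (RingHom.quotientKerEquivOfSurjective (iX.app_surjective _ U.2))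
  have key : quotMap (B := Γ(Y', V.1)) (C := Γ(X', U.1)) (iS.ker.ideal W) =
      (eX.symm.toRingHom.comp (f.appLE (iY ⁻¹ᵁ V.1) (iX ⁻¹ᵁ U.1) e).hom).comp eY.toRingHom := by
    refine Ideal.Quotient.ringHom_ext (RingHom.ext fun b => ?_)
    simp only [RingHom.comp_apply, RingEquiv.toRingHom_eq_coe, RingHom.coe_coe]
    apply eX.injective
    rw [RingEquiv.apply_symm_apply]
    exact congr($hsq b)
  show Q (quotMap (B := Γ(Y', V.1)) (C := Γ(X', U.1)) (iS.ker.ideal W))
  rw [key]
  exact hQ.2 _ _ (hQ.1 _ _ (h e))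

theorem isNilpotent_ker_ideal {X Y : Scheme.{u}} (i : X ⟶ Y) (h : IsNilpotent i.ker) (W : Y.affineOpens) :
    IsNilpotent (i.ker.ideal W) := by
  obtain ⟨n, hn⟩ := h
  refine ⟨n, ?_⟩
  have := congr(($hn).ideal W)
  rwa [Scheme.IdealSheafData.ideal_pow, Pi.pow_apply] at this

variable {X X' Y Y' S S' : Scheme.{u}} {iX : X ⟶ X'} {iY : Y ⟶ Y'} {iS : S ⟶ S'}
  {f : X ⟶ Y} {f' : X' ⟶ Y'} {g : Y ⟶ S} {g' : Y' ⟶ S'}

theorem flat_of_deform [IsClosedImmersion iS] (hn : IsNilpotent iS.ker)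
    (hcX : IsPullback iX (f ≫ g) (f' ≫ g') iS) (hcY : IsPullback iY g g' iS)
    (w : iX ≫ f' = f ≫ iY) [Flat (f' ≫ g')] [Flat f] : Flat f' := by
  rw [HasRingHomProperty.iff_exists_appLE (P := @Flat) (RingHom.Flat.stableUnderComposition.stableUnderCompositionWithLocalizationAway RingHom.Flat.holdsForLocalizationAway).left]
  intro x'
  obtain ⟨_, ⟨W, hW, rfl⟩, hxW, -⟩ := S'.isBasis_affineOpens.exists_subset_of_mem_open
    (Set.mem_univ ((f' ≫ g') x')) isOpen_univ
  obtain ⟨V, U, eU, hxU, -, eV⟩ := Groth.L22.Ideals.exists_affine_pair f' x' (W := ⊤) trivial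
    (W' := g' ⁻¹ᵁ W) hxW
  have : IsClosedImmersion iY := MorphismProperty.of_isPullback hcY.flip inferInstance
  have : IsClosedImmersion iX := MorphismProperty.of_isPullback hcX.flip inferInstance
  refine ⟨V, U, hxU, eU, ?_⟩
  have h := exists_setting hcX hcY w (fun φ => RingHom.Flat φ) RingHom.Flat.respectsIso (W := ⟨W, hW⟩) eV eU
    fun e => f.flat_appLE (V.2.preimage iY) (U.2.preimage iX) e
  algebraize [(g'.appLE W V.1 eV).hom, (f'.appLE V.1 U.1 eU).hom, (f'.appLE V.1 U.1 eU).hom.comp (g'.appLE W V.1 eV).hom]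
  have : Module.Flat Γ(S', W) Γ(X', U.1) := by
    have := (f' ≫ g').flat_appLE hW U.2 (fun x hx => eV (eU hx))
    rwa [← Scheme.Hom.appLE_comp_appLE f' g' W V.1 U.1 eV eU] at this
  exact flat_of_flat_quotMap (iS.ker.ideal ⟨W, hW⟩) (isNilpotent_ker_ideal iS hn _) h

theorem locallyOfFinitePresentation_of_deform [IsClosedImmersion iS] (hn : IsNilpotent iS.ker)
    (hcX : IsPullback iX (f ≫ g) (f' ≫ g') iS) (hcY : IsPullback iY g g' iS)
    (w : iX ≫ f' = f ≫ iY) [Flat (f' ≫ g')] [LocallyOfFinitePresentation f] :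
    LocallyOfFinitePresentation f' := by
  rw [HasRingHomProperty.iff_exists_appLE (P := @LocallyOfFinitePresentation) (RingHom.finitePresentation_stableUnderComposition.stableUnderCompositionWithLocalizationAway RingHom.finitePresentation_holdsForLocalizationAway).left]
  intro x'
  obtain ⟨_, ⟨W, hW, rfl⟩, hxW, -⟩ := S'.isBasis_affineOpens.exists_subset_of_mem_open
    (Set.mem_univ ((f' ≫ g') x')) isOpen_univ
  obtain ⟨V, U, eU, hxU, -, eV⟩ := Groth.L22.Ideals.exists_affine_pair f' x' (W := ⊤) trivial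
    (W' := g' ⁻¹ᵁ W) hxW
  have : IsClosedImmersion iY := MorphismProperty.of_isPullback hcY.flip inferInstance
  have : IsClosedImmersion iX := MorphismProperty.of_isPullback hcX.flip inferInstance
  refine ⟨V, U, hxU, eU, ?_⟩
  have h := exists_setting hcX hcY w (fun φ => RingHom.FinitePresentation φ) RingHom.finitePresentation_respectsIso (W := ⟨W, hW⟩) eV eU
    fun e => f.finitePresentation_appLE (V.2.preimage iY) (U.2.preimage iX) e
  algebraize [(g'.appLE W V.1 eV).hom, (f'.appLE V.1 U.1 eU).hom, (f'.appLE V.1 U.1 eU).hom.comp (g'.appLE W V.1 eV).hom]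
  have : Module.Flat Γ(S', W) Γ(X', U.1) := by
    have := (f' ≫ g').flat_appLE hW U.2 (fun x hx => eV (eU hx))
    rwa [← Scheme.Hom.appLE_comp_appLE f' g' W V.1 U.1 eV eU] at this
  exact finitePresentation_of_quotMap (iS.ker.ideal ⟨W, hW⟩) (isNilpotent_ker_ideal iS hn _) h

end Groth.L20.Thick

namespace Groth.L20.Thick

variable {X X' Y Y' S S' : Scheme.{u}} {iX : X ⟶ X'} {iY : Y ⟶ Y'} {iS : S ⟶ S'}
  {f : X ⟶ Y} {f' : X' ⟶ Y'} {g : Y ⟶ S} {g' : Y' ⟶ S'}

theorem deform_setting (hS : MoreMor.IsFiniteOrderThickening iS)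
    (hcX : IsPullback iX (f ≫ g) (f' ≫ g') iS) (hcY : IsPullback iY g g' iS) (w : iX ≫ f' = f ≫ iY) :
    IsPullback iX f f' iY ∧ MoreMor.IsFiniteOrderThickening iY := by
  have := hS.1.1
  exact ⟨IsPullback.of_bot hcX w hcY, isThickening_of_isPullback hS.1 hcY,
    isNilpotent_ker_of_isPullback hS.2 hcY⟩

end Groth.L20.Thick
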