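import Groth.Agent.L13.ModPair.Colon
import Groth.Agent.L13.BlowUp.Exists
import Groth.Agent.L18.IdealModule
import Mathlib.Topology.Constructible

/-!
# Separating constructible closed subsets by admissible blow-ups
-/

set_option autoImplicit false
set_option linter.style.haveILetI false
universe u

open CategoryTheory AlgebraicGeometry TopologicalSpace

noncomputable section

namespace Groth.L20.AdmSep

open Groth.L13.MP

/-- Constructible sets of a quasi-compact space are quasi-compact. -/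
theorem isCompact_of_isConstructible {T : Type u} [TopologicalSpace T] [CompactSpace T] {s : Set T}
    (hs : Topology.IsConstructible s) : IsCompact s := by
  induction s, hs using BooleanSubalgebra.closure_sdiff_sup_induction with
  | isSublattice =>
    exact ⟨fun s hs t ht ↦ ⟨hs.1.union ht.1, hs.2.union ht.2⟩,
      fun s hs t ht ↦ ⟨hs.1.inter ht.1, hs.2.inter_isOpen ht.2 ht.1⟩⟩
  | bot_mem => exact ⟨isOpen_empty, .empty⟩
  | top_mem => exact ⟨isOpen_univ, .univ⟩
  | sdiff U hU V hV => exact hU.2.isCompact.inter_right hV.1.isClosed_compl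
  | sup s _ t _ hs' ht' => exact hs'.union ht'

variable {X : Scheme.{u}}

/-- A closed constructible subset of a quasi-compact open is cut out by an ideal of finite type. -/
theorem exists_ideal [CompactSpace X] [QuasiSeparatedSpace X] (U : X.Opens) (hU : IsCompact (U : Set X))
    (T : Set U) (hT : IsClosed T) (hc : Topology.IsConstructible T) :
    ∃ I : X.IdealSheafData, BlowUp.IsFiniteTypeIdeal I ∧ ∀ x : U, (x.1 ∈ I.support ↔ x ∈ T) := by
  haveI : CompactSpace U := isCompact_iff_compactSpace.1 hU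
  let W : X.Opens := ⟨Subtype.val '' Tᶜ, U.2.isOpenMap_subtype_val _ hT.isOpen_compl⟩
  have hW : IsCompact (W : Set X) := (isCompact_of_isConstructible hc.compl).image continuous_subtype_val
  obtain ⟨I, hI, hs, -⟩ := Groth.L18.IdealModule.exists_finiteType_of_isCompact W hW
  refine ⟨I, hI, fun x => ?_⟩
  show x.1 ∈ (I.support : Set X) ↔ _
  rw [hs]
  show x.1 ∉ Subtype.val '' Tᶜ ↔ _
  exact (not_congr (Subtype.val_injective.mem_set_image)).trans Classical.not_not

/-- Two disjoint closed constructible subsets of a quasi-compact open are separated by an admissible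
blow-up. -/
theorem exists_separating [CompactSpace X] [QuasiSeparatedSpace X] (U : X.Opens) (hU : IsCompact (U : Set X))
    (T₁ T₂ : Set U) (h₁ : IsClosed T₁) (h₂ : IsClosed T₂) (c₁ : Topology.IsConstructible T₁)
    (c₂ : Topology.IsConstructible T₂) (hd : Disjoint T₁ T₂) :
    ∃ (𝓘 : X.IdealSheafData) (X' : Scheme.{u}) (b : X' ⟶ X), BlowUp.IsBlowUp b 𝓘 ∧ BlowUp.IsAdmissibleFor U 𝓘 ∧
      Disjoint (closure (b.base ⁻¹' (Subtype.val '' T₁))) (closure (b.base ⁻¹' (Subtype.val '' T₂))) := by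
  obtain ⟨I₁, hI₁, hs₁⟩ := exists_ideal U hU T₁ h₁ c₁
  obtain ⟨I₂, hI₂, hs₂⟩ := exists_ideal U hU T₂ h₂ c₂
  let 𝓘 := I₁ ⊔ I₂
  have hadm : Disjoint (𝓘.support : Set X) (U : Set X) := by
    refine Set.disjoint_left.2 fun x hx hxU => ?_
    rw [Scheme.IdealSheafData.support_sup] at hx
    exact Set.disjoint_left.1 hd ((hs₁ ⟨x, hxU⟩).1 hx.1) ((hs₂ ⟨x, hxU⟩).1 hx.2)
  have hft : BlowUp.IsFiniteTypeIdeal 𝓘 := fun V =>
    (LocFG.sup (LocFG.of_fg hI₁) (LocFG.of_fg hI₂)).fg V
  obtain ⟨X', b, hb⟩ := Groth.L13.BU.exists_isBlowUp 𝓘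
  refine ⟨𝓘, X', b, hb, ⟨hft, hadm⟩, ?_⟩
  let E := 𝓘.comap b
  have hE : BlowUp.IsEffCartierIdeal E := hb.1
  let K : X.IdealSheafData → X'.IdealSheafData := fun I => colon (I.comap b) (LocFG.of_isEffCartier hE)
  have hsup : E = I₁.comap b ⊔ I₂.comap b := Scheme.IdealSheafData.comap_sup _ _ _
  have hK : ∀ I, I.comap b ≤ E → K I * E = I.comap b := fun I h => colon_mul hE h
  have hle₁ : I₁.comap b ≤ E := hsup ▸ le_sup_left
  have hle₂ : I₂.comap b ≤ E := hsup ▸ le_sup_right
  have htop : K I₁ ⊔ K I₂ = ⊤ := by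
    refine eq_of_mul_eq hE ?_
    rw [Scheme.IdealSheafData.top_mul]
    refine le_antisymm (mul_le_right' _ _) ?_
    conv_lhs => rw [hsup]
    refine sup_le ?_ ?_
    · rw [← hK I₁ hle₁]; exact mul_mono' le_sup_left le_rfl
    · rw [← hK I₂ hle₂]; exact mul_mono' le_sup_right le_rfl
  have hcl : ∀ (I : X.IdealSheafData) (T : Set U), I.comap b ≤ E → (∀ x : U, (x.1 ∈ I.support ↔ x ∈ T)) →
      closure (b.base ⁻¹' (Subtype.val '' T)) ⊆ ((K I).support : Set X') := by
    intro I T h hs
    refine closure_minimal (fun y hy => ?_) (K I).support.isClosed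
    obtain ⟨x, hx, hxy⟩ := hy
    have h1 : y ∈ (I.comap b).support := by
      rw [Scheme.IdealSheafData.support_comap]
      show b.base y ∈ I.support
      rw [← hxy]
      exact (hs x).2 hx
    rw [← hK I h, Scheme.IdealSheafData.support_mul] at h1
    rcases h1 with h1 | h1
    · exact h1
    · exfalso
      rw [Scheme.IdealSheafData.support_comap] at h1
      exact Set.disjoint_left.1 hadm (show b.base y ∈ (𝓘.support : Set X) from h1) (hxy ▸ x.2)
  refine Set.disjoint_left.2 fun y hy₁ hy₂ => ?_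
  have h : y ∈ (K I₁ ⊔ K I₂).support := by
    rw [Scheme.IdealSheafData.support_sup]
    exact ⟨hcl I₁ T₁ hle₁ hs₁ hy₁, hcl I₂ T₂ hle₂ hs₂ hy₂⟩
  rw [htop, Scheme.IdealSheafData.support_top] at h
  exact h

end Groth.L20.AdmSep
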