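import Groth.Agent.L20.Nilpotent
import Groth.Agent.L20.LocalCriterion
import Groth.Agent.L20.FlatAtBaseChange
import Mathlib.RingTheory.Localization.AtPrime.Basic
import Mathlib.RingTheory.Localization.Ideal

/-!
# The fibrewise criterion of flatness: Noetherian case
-/

set_option autoImplicit false
set_option linter.style.haveILetI false

universe u

open scoped TensorProduct

namespace Groth.L20.FibreCrit

/-- The Noetherian fibrewise criterion, the fibre hypothesis being read off after a flat local extension
`T` of the fibre ring of `U`. -/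
theorem flat_of_fibre_noetherian {R S U M B T L : Type u} [CommRing R] [CommRing S] [CommRing U]
    [IsNoetherianRing S] [IsNoetherianRing U]
    [Algebra R S] [Algebra S U] [Algebra R U] [IsScalarTower R S U]
    [AddCommGroup M] [Module U M] [Module S M] [Module R M] [IsScalarTower S U M] [IsScalarTower R S M]
    [IsScalarTower R U M] [Module.Finite U M]
    (q : Ideal U) [q.IsPrime] (p : Ideal R) (hp : p = q.comap (algebraMap R U)) [Module.Flat R (LocalizedModule q.primeCompl M)]
    [CommRing B] [CommRing T] [Algebra U T] [Algebra S B] [Algebra B T] [Algebra S T]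
    [IsScalarTower S B T] [IsScalarTower S U T]
    [AddCommGroup L] [Module T L] [Module U L] [IsScalarTower U T L] [Module B L] [IsScalarTower B T L]
    [Module.Flat B L] (f : M →ₗ[U] L) (hf : IsBaseChange T f)
    [Algebra (S ⧸ p.map (algebraMap R S)) B]
    [IsScalarTower S (S ⧸ p.map (algebraMap R S)) B]
    [Module.Flat (S ⧸ p.map (algebraMap R S)) B]
    [Algebra (U ⧸ p.map (algebraMap R U)) T]
    [IsScalarTower U (U ⧸ p.map (algebraMap R U)) T]
    [Module.Flat (U ⧸ p.map (algebraMap R U)) T]
    (hq : q.map (algebraMap U T) ≠ ⊤) (hunit : ∀ u ∈ q.primeCompl, IsUnit (algebraMap U T u)) :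
    Module.Flat S (LocalizedModule q.primeCompl M) := by
  set r := q.comap (algebraMap S U) with hr
  -- localizations
  algebraize [Localization.localRingHom r q (algebraMap S U) rfl]
  let Sr := Localization.AtPrime r
  let Uq := Localization.AtPrime q
  haveI : IsScalarTower S (Localization.AtPrime r) (Localization.AtPrime q) :=
    IsScalarTower.of_algebraMap_eq fun x => by
      simp [RingHom.algebraMap_toAlgebra, Localization.localRingHom_to_map, ← IsScalarTower.algebraMap_apply]
  haveI : IsScalarTower R (Localization.AtPrime r) (Localization.AtPrime q) :=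
    IsScalarTower.of_algebraMap_eq fun x => by
      rw [IsScalarTower.algebraMap_apply R S (Localization.AtPrime r), ← IsScalarTower.algebraMap_apply S (Localization.AtPrime r),
        ← IsScalarTower.algebraMap_apply]
  haveI : IsLocalHom (algebraMap (Localization.AtPrime r) (Localization.AtPrime q)) :=
    Localization.isLocalHom_localRingHom r q _ rfl
  haveI : IsNoetherianRing (Localization.AtPrime r) := IsLocalization.isNoetherianRing r.primeCompl _ inferInstance
  haveI : IsNoetherianRing (Localization.AtPrime q) := IsLocalization.isNoetherianRing q.primeCompl _ inferInstance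
  letI : Module (Localization.AtPrime r) (LocalizedModule q.primeCompl M) :=
    Module.compHom _ (algebraMap (Localization.AtPrime r) (Localization.AtPrime q))
  haveI hrq : IsScalarTower (Localization.AtPrime r) (Localization.AtPrime q) (LocalizedModule q.primeCompl M) :=
    IsScalarTower.of_algebraMap_smul fun _ _ => rfl
  haveI : IsScalarTower S (Localization.AtPrime r) (LocalizedModule q.primeCompl M) :=
    IsScalarTower.of_algebraMap_smul fun s m => by
      rw [← algebraMap_smul (Localization.AtPrime q) (algebraMap S (Localization.AtPrime r) s) m,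
        ← IsScalarTower.algebraMap_apply, algebraMap_smul]
  haveI : IsScalarTower R (Localization.AtPrime r) (LocalizedModule q.primeCompl M) :=
    IsScalarTower.of_algebraMap_smul fun s m => by
      rw [IsScalarTower.algebraMap_apply R S, algebraMap_smul, algebraMap_smul]
  -- it suffices to work over `S_r`
  suffices hr' : Module.Flat (Localization.AtPrime r) (LocalizedModule q.primeCompl M) from
    (Module.flat_iff_of_isLocalization (Localization.AtPrime r) r.primeCompl _).mp hr'
  set I := (p.map (algebraMap R S)).map (algebraMap S (Localization.AtPrime r)) with hI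
  set J := (p.map (algebraMap R U)).map (algebraMap U (Localization.AtPrime q)) with hJ
  have hIJ : I.map (algebraMap (Localization.AtPrime r) (Localization.AtPrime q)) = J := by
    simp only [hI, hJ, Ideal.map_map, ← IsScalarTower.algebraMap_eq]
  have hne : I ≠ ⊤ := by
    intro htop
    have h1 : (p.map (algebraMap R S)) ≤ r := Ideal.map_le_iff_le_comap.mpr fun x hx => by
      rw [hr, Ideal.mem_comap, Ideal.mem_comap, ← IsScalarTower.algebraMap_apply]
      rw [hp] at hx
      exact hx
    have h2 : I ≤ IsLocalRing.maximalIdeal (Localization.AtPrime r) :=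
      (Ideal.map_mono h1).trans (Localization.AtPrime.map_eq_maximalIdeal (I := r)).le
    rw [htop, top_le_iff] at h2
    exact (IsLocalRing.maximalIdeal.isMaximal _).ne_top h2
  have h1 : Function.Injective (I.subtype.lTensor (LocalizedModule q.primeCompl M)) := by
    rw [LinearMap.lTensor_inj_iff_rTensor_inj]
    have := Groth.L20.rTensor_map_injective_of_flat (R := R) (S := Localization.AtPrime r)
      (M := LocalizedModule q.primeCompl M) p
    rwa [IsScalarTower.algebraMap_eq R S (Localization.AtPrime r), ← Ideal.map_map] at this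
  haveI : Module.Finite (Localization.AtPrime q) (LocalizedModule q.primeCompl M) :=
    Module.Finite.of_isLocalizedModule q.primeCompl (LocalizedModule.mkLinearMap q.primeCompl M)
  suffices hfl : Module.Flat (Localization.AtPrime r ⧸ I)
      ((Localization.AtPrime r ⧸ I) ⊗[Localization.AtPrime r] LocalizedModule q.primeCompl M) from
    Groth.L20.flat_of_lTensor_injective_of_flat_quotient (Localization.AtPrime q) I hne h1
  -- the reduced local rings
  let iS : (S ⧸ (p.map (algebraMap R S))) →+* (Localization.AtPrime r ⧸ I) := algebraMap _ _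
  let lQ : (Localization.AtPrime r ⧸ I) →+* (Localization.AtPrime q ⧸ J) :=
    Ideal.quotientMap _ (algebraMap (Localization.AtPrime r) (Localization.AtPrime q))
      (Ideal.map_le_iff_le_comap.mp hIJ.le)
  letI := lQ.toAlgebra
  letI : Algebra (S ⧸ (p.map (algebraMap R S))) (Localization.AtPrime q ⧸ J) := (lQ.comp iS).toAlgebra
  haveI : IsScalarTower (S ⧸ (p.map (algebraMap R S))) (Localization.AtPrime r ⧸ I) (Localization.AtPrime q ⧸ J) :=
    IsScalarTower.of_algebraMap_eq fun _ => rfl
  haveI : IsScalarTower (Localization.AtPrime r) (Localization.AtPrime r ⧸ I) (Localization.AtPrime q ⧸ J) :=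
    ⟨fun a b c => by
      obtain ⟨b, rfl⟩ := Ideal.Quotient.mk_surjective b
      obtain ⟨c, rfl⟩ := Ideal.Quotient.mk_surjective c
      change Ideal.Quotient.mk J (algebraMap _ _ (a * b) * c) = Ideal.Quotient.mk J (a • (algebraMap _ _ b * c))
      congr 1; rw [Algebra.smul_def, map_mul, mul_assoc]⟩
  haveI : SMulCommClass (Localization.AtPrime q) (Localization.AtPrime r ⧸ I) (Localization.AtPrime q ⧸ J) :=
    ⟨fun a b c => (mul_smul_comm a (algebraMap _ (Localization.AtPrime q ⧸ J) b) c).symm⟩
  haveI : SMulCommClass (Localization.AtPrime q) (S ⧸ (p.map (algebraMap R S))) (Localization.AtPrime q ⧸ J) :=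
    ⟨fun a b c => (mul_smul_comm a (algebraMap _ (Localization.AtPrime q ⧸ J) b) c).symm⟩
  let N := (Localization.AtPrime q ⧸ J) ⊗[Localization.AtPrime q] LocalizedModule q.primeCompl M
  -- `T` over the local rings
  let lT : Localization.AtPrime q →+* T :=
    IsLocalization.lift (M := q.primeCompl) (g := algebraMap U T) (fun u => hunit u u.2)
  letI := lT.toAlgebra
  haveI : IsScalarTower U (Localization.AtPrime q) T :=
    IsScalarTower.of_algebraMap_eq fun x => (IsLocalization.lift_eq _ x).symm
  let lJ : (Localization.AtPrime q ⧸ J) →+* T := Ideal.Quotient.lift J lT (fun a ha => by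
    have : J ≤ RingHom.ker lT := by
      refine Ideal.map_le_iff_le_comap.mpr fun x hx => ?_
      rw [Ideal.mem_comap, RingHom.mem_ker]
      show lT (algebraMap U _ x) = 0
      rw [IsLocalization.lift_eq, IsScalarTower.algebraMap_apply U (U ⧸ (p.map (algebraMap R U))) T]
      simp [Ideal.Quotient.eq_zero_iff_mem.mpr hx]
    exact this ha)
  letI := lJ.toAlgebra
  haveI : IsScalarTower (Localization.AtPrime q) (Localization.AtPrime q ⧸ J) T :=
    ⟨fun a b c => by
      obtain ⟨b, rfl⟩ := Ideal.Quotient.mk_surjective b
      change lT (a * b) * c = lT a * (lT b * c)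
      rw [map_mul, mul_assoc]⟩
  haveI : IsScalarTower (U ⧸ (p.map (algebraMap R U))) (Localization.AtPrime q ⧸ J) T :=
    IsScalarTower.of_algebraMap_eq fun x => by
      obtain ⟨x, rfl⟩ := Ideal.Quotient.mk_surjective x
      change algebraMap (U ⧸ (p.map (algebraMap R U))) T (algebraMap U (U ⧸ (p.map (algebraMap R U))) x) = lT (algebraMap U _ x)
      rw [IsLocalization.lift_eq, ← IsScalarTower.algebraMap_apply]
  haveI : Module.Flat (Localization.AtPrime q ⧸ J) T :=
    (Module.flat_iff_of_isLocalization (Localization.AtPrime q ⧸ J)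
      (Algebra.algebraMapSubmonoid (U ⧸ (p.map (algebraMap R U))) q.primeCompl) T).mpr inferInstance
  letI : Module (Localization.AtPrime q) L := Module.compHom L lT
  haveI : IsScalarTower (Localization.AtPrime q) T L := IsScalarTower.of_algebraMap_smul fun _ _ => rfl
  haveI : IsScalarTower U (Localization.AtPrime q) L := IsScalarTower.of_algebraMap_smul fun x m => by
    rw [← algebraMap_smul T (algebraMap U (Localization.AtPrime q) x) m, ← IsScalarTower.algebraMap_apply,
      algebraMap_smul]
  letI : Module (Localization.AtPrime q ⧸ J) L := Module.compHom L lJ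
  haveI : IsScalarTower (Localization.AtPrime q ⧸ J) T L := IsScalarTower.of_algebraMap_smul fun _ _ => rfl
  haveI : IsScalarTower (Localization.AtPrime q) (Localization.AtPrime q ⧸ J) L :=
    ⟨fun a b m => by
      obtain ⟨b, rfl⟩ := Ideal.Quotient.mk_surjective b
      change lT (a * b) • m = lT a • lT b • m
      rw [map_mul, mul_smul]⟩
  have hbc : IsBaseChange (Localization.AtPrime q) (LocalizedModule.mkLinearMap q.primeCompl M) :=
    IsLocalizedModule.isBaseChange q.primeCompl _ _
  let g : LocalizedModule q.primeCompl M →ₗ[Localization.AtPrime q] L := hbc.lift f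
  have hg : IsBaseChange T g := IsBaseChange.of_comp hbc (h := g) (by
    have : g.restrictScalars U ∘ₗ LocalizedModule.mkLinearMap q.primeCompl M = f :=
      LinearMap.ext fun x => hbc.lift_eq f x
    rw [this]; exact hf)
  have hbN : IsBaseChange (Localization.AtPrime q ⧸ J)
      (TensorProduct.mk (Localization.AtPrime q) (Localization.AtPrime q ⧸ J) (LocalizedModule q.primeCompl M) 1) :=
    TensorProduct.isBaseChange _ _ _
  let k : N →ₗ[Localization.AtPrime q ⧸ J] L := hbN.lift g
  have hk : IsBaseChange T k := IsBaseChange.of_comp hbN (h := k) (by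
    have : k.restrictScalars (Localization.AtPrime q) ∘ₗ
        (TensorProduct.mk (Localization.AtPrime q) (Localization.AtPrime q ⧸ J) (LocalizedModule q.primeCompl M) 1) = g :=
      LinearMap.ext fun x => hbN.lift_eq g x
    rw [this]; exact hg)
  -- `L` is flat over `S/(p.map (algebraMap R S))`
  letI : Algebra (S ⧸ (p.map (algebraMap R S))) T := (lJ.comp (lQ.comp iS)).toAlgebra
  haveI : IsScalarTower (S ⧸ (p.map (algebraMap R S))) (Localization.AtPrime q ⧸ J) T := IsScalarTower.of_algebraMap_eq fun _ => rfl
  haveI : IsScalarTower (S ⧸ (p.map (algebraMap R S))) B T := IsScalarTower.of_algebraMap_eq fun x => by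
    obtain ⟨x, rfl⟩ := Ideal.Quotient.mk_surjective x
    change lT (algebraMap (Localization.AtPrime r) (Localization.AtPrime q) (algebraMap S _ x)) =
      algebraMap B T (algebraMap (S ⧸ (p.map (algebraMap R S))) B (algebraMap S (S ⧸ (p.map (algebraMap R S))) x))
    rw [← IsScalarTower.algebraMap_apply S (S ⧸ (p.map (algebraMap R S))) B,
      ← IsScalarTower.algebraMap_apply S B T,
      ← IsScalarTower.algebraMap_apply S (Localization.AtPrime r) (Localization.AtPrime q),
      IsScalarTower.algebraMap_apply S U (Localization.AtPrime q),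
      IsLocalization.lift_eq, ← IsScalarTower.algebraMap_apply S U T]
  letI : Module (S ⧸ (p.map (algebraMap R S))) L := Module.compHom L (algebraMap (S ⧸ (p.map (algebraMap R S))) T)
  haveI : IsScalarTower (S ⧸ (p.map (algebraMap R S))) T L := IsScalarTower.of_algebraMap_smul fun _ _ => rfl
  haveI : IsScalarTower (S ⧸ (p.map (algebraMap R S))) (Localization.AtPrime q ⧸ J) L := IsScalarTower.of_algebraMap_smul fun _ _ => rfl
  haveI : IsScalarTower (S ⧸ (p.map (algebraMap R S))) B L := IsScalarTower.of_algebraMap_smul fun x m => by
    rw [← algebraMap_smul T (algebraMap (S ⧸ (p.map (algebraMap R S))) B x) m, ← IsScalarTower.algebraMap_apply, algebraMap_smul]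
  haveI : Module.Flat (S ⧸ (p.map (algebraMap R S))) L := Module.Flat.trans (S ⧸ (p.map (algebraMap R S))) B L
  -- descent to `N`
  haveI : Nontrivial (Localization.AtPrime q ⧸ J) := Ideal.Quotient.nontrivial_iff.mpr fun htop => by
    have h2 : J ≤ IsLocalRing.maximalIdeal (Localization.AtPrime q) := by
      rw [← hIJ]
      exact (Ideal.map_mono (IsLocalRing.le_maximalIdeal hne)).trans
        (((IsLocalRing.local_hom_TFAE (algebraMap (Localization.AtPrime r) (Localization.AtPrime q))).out 0 2).mp
          (inferInstance : IsLocalHom _))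
    rw [htop, top_le_iff] at h2
    exact (IsLocalRing.maximalIdeal.isMaximal _).ne_top h2
  haveI : IsLocalRing (Localization.AtPrime q ⧸ J) :=
    IsLocalRing.of_surjective' (Ideal.Quotient.mk J) Ideal.Quotient.mk_surjective
  have hmax : IsLocalRing.maximalIdeal (Localization.AtPrime q ⧸ J) =
      (q.map (algebraMap U (Localization.AtPrime q))).map (Ideal.Quotient.mk J) := by
    rw [Localization.AtPrime.map_eq_maximalIdeal]
    symm
    refine IsLocalRing.eq_maximalIdeal (Ideal.IsMaximal.map_of_surjective_of_ker_le Ideal.Quotient.mk_surjective ?_)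
    rw [Ideal.mk_ker]
    exact IsLocalRing.le_maximalIdeal (Ideal.Quotient.nontrivial_iff.mp inferInstance)
  haveI : Module.Flat (S ⧸ (p.map (algebraMap R S))) (LocalizedModule (IsLocalRing.maximalIdeal (Localization.AtPrime q ⧸ J)).primeCompl N) := by
    refine Groth.L20.flat_localizedModule_of_descent k hk _ ?_
    rw [hmax, ← Ideal.Quotient.algebraMap_eq, Ideal.map_map, ← IsScalarTower.algebraMap_eq, Ideal.map_map,
      ← IsScalarTower.algebraMap_eq]
    exact hq
  haveI : Module.Flat (S ⧸ (p.map (algebraMap R S))) N := by
    haveI : IsLocalization (IsLocalRing.maximalIdeal (Localization.AtPrime q ⧸ J)).primeCompl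
        (Localization.AtPrime q ⧸ J) := IsLocalization.self fun x hx => by
      by_contra h
      exact hx (IsLocalRing.mem_maximalIdeal _ |>.mpr h)
    have := isLocalizedModule_id (M := N) (IsLocalRing.maximalIdeal (Localization.AtPrime q ⧸ J)).primeCompl
      (Localization.AtPrime q ⧸ J)
    exact Module.Flat.of_linearEquiv ((IsLocalizedModule.linearEquiv
      (IsLocalRing.maximalIdeal (Localization.AtPrime q ⧸ J)).primeCompl LinearMap.id
      (LocalizedModule.mkLinearMap (IsLocalRing.maximalIdeal (Localization.AtPrime q ⧸ J)).primeCompl N)).restrictScalars (S ⧸ (p.map (algebraMap R S))))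
  haveI : Module.Flat (Localization.AtPrime r ⧸ I) N :=
    (Module.flat_iff_of_isLocalization (Localization.AtPrime r ⧸ I)
      (Algebra.algebraMapSubmonoid (S ⧸ (p.map (algebraMap R S))) r.primeCompl) N).mpr inferInstance
  -- compare the two reductions
  let e : ((Localization.AtPrime r ⧸ I) ⊗[Localization.AtPrime r] LocalizedModule q.primeCompl M) ≃ₗ[Localization.AtPrime r] N :=
    TensorProduct.quotTensorEquivQuotSMul _ I ≪≫ₗ
      Submodule.quotEquivOfEq _ ((J • ⊤ : Submodule (Localization.AtPrime q) (LocalizedModule q.primeCompl M)).restrictScalars (Localization.AtPrime r))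
        (by rw [← hIJ, Ideal.smul_restrictScalars, Submodule.restrictScalars_top]) ≪≫ₗ
      Submodule.Quotient.restrictScalarsEquiv (Localization.AtPrime r) _ ≪≫ₗ
      ((TensorProduct.quotTensorEquivQuotSMul (LocalizedModule q.primeCompl M) J).symm.restrictScalars (Localization.AtPrime r))
  exact Module.Flat.of_linearEquiv (e.extendScalarsOfSurjective Ideal.Quotient.mk_surjective)

end Groth.L20.FibreCrit
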