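import Groth.Agent.L20.FibreDescent
import Groth.Agent.L20.ModFlat
import Groth.Agent.L20.ModPullback
import Groth.Agent.L18.LocFreeFP
import Groth.Agent.L19.LocFreeDescent

/-!
# Flat finitely presented modules with flat fibres are locally free
-/

set_option autoImplicit false
set_option linter.style.haveILetI false
set_option backward.isDefEq.respectTransparency false
set_option backward.isDefEq.respectTransparency.types false

universe u

open CategoryTheory CategoryTheory.Limits AlgebraicGeometry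
open scoped TensorProduct

noncomputable section

namespace Groth.L20.FibreFree

open TensorProduct in
/-- The fibrewise criterion with the fibre datum given over any local algebra mapping to the fibre ring. -/
theorem flat_of_local_fibre {R A M K C : Type u} [CommRing R] [CommRing A] [Algebra R A]
    [Algebra.FinitePresentation R A] [AddCommGroup M] [Module A M] [Module R M] [IsScalarTower R A M]
    [Module.FinitePresentation A M] (q : Ideal A) [q.IsPrime] [Module.Flat R (LocalizedModule q.primeCompl M)]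
    [Field K] [Algebra R K] (hK : RingHom.ker (algebraMap R K) = q.comap (algebraMap R A))
    [CommRing C] [Algebra K C] [Algebra A C] [Algebra R C] [IsScalarTower R K C] [IsScalarTower R A C]
    [Algebra.IsPushout R K A C] (q' : Ideal C) [q'.IsPrime] (hq' : q'.comap (algebraMap A C) = q)
    {L : Type u} [CommRing L] [Algebra A L] [Algebra L (Localization.AtPrime q')]
    [IsScalarTower A L (Localization.AtPrime q')] (h : Module.Flat L (L ⊗[A] M)) :
    Module.Flat A (LocalizedModule q.primeCompl M) := by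
  refine Groth.L20.FibreCrit.flat_of_fibre (R := R) (S := A) (U := A) (B := C) (C := C) q hK q' hq' ?_
  haveI : Module.Flat (Localization.AtPrime q') (Localization.AtPrime q' ⊗[A] M) :=
    Module.Flat.of_linearEquiv (AlgebraTensorModule.cancelBaseChange A L (Localization.AtPrime q')
      (Localization.AtPrime q') M).symm
  haveI : Module.Flat C (Localization.AtPrime q') := IsLocalization.flat _ q'.primeCompl
  exact Module.Flat.trans C (Localization.AtPrime q') _

variable {X : Scheme.{u}}

/-- Stalks of a finitely presented module that are flat over the sections are free. -/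
theorem free_stalk {M : X.Modules} [Coh.IsQCoh M] {V : X.Opens} (hV : IsAffineOpen V) {x : X} (hx : x ∈ V)
    [Module.Finite Γ(X, V) Γ(M, V)]
    (h : Module.Flat Γ(X, V) (LocalizedModule (hV.primeIdealOf ⟨x, hx⟩).asIdeal.primeCompl Γ(M, V))) :
    Module.Free (X.presheaf.stalk x) (M.presheaf.stalk x) := by
  letI := Groth.L20.ModStalk.stalkModule M hx
  letI := X.presheaf.algebra_section_stalk ⟨x, hx⟩
  haveI := hV.isLocalization_stalk ⟨x, hx⟩
  haveI : IsScalarTower Γ(X, V) (X.presheaf.stalk x) (M.presheaf.stalk x) :=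
    IsScalarTower.of_algebraMap_smul fun _ _ => rfl
  haveI := Groth.L20.ModStalk.isLocalizedModule_germ M hV hx
  haveI : Module.Flat Γ(X, V) (M.presheaf.stalk x) :=
    Module.Flat.of_linearEquiv (IsLocalizedModule.linearEquiv (hV.primeIdealOf ⟨x, hx⟩).asIdeal.primeCompl
      (Groth.L20.ModStalk.germₗ M hx)
      (LocalizedModule.mkLinearMap (hV.primeIdealOf ⟨x, hx⟩).asIdeal.primeCompl _))
  haveI : Module.Flat (X.presheaf.stalk x) (M.presheaf.stalk x) :=
    (Module.flat_iff_of_isLocalization (X.presheaf.stalk x) (hV.primeIdealOf ⟨x, hx⟩).asIdeal.primeCompl _).2 ‹_›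
  haveI : Module.Finite (X.presheaf.stalk x) (M.presheaf.stalk x) :=
    Module.Finite.of_isLocalizedModule (hV.primeIdealOf ⟨x, hx⟩).asIdeal.primeCompl (Groth.L20.ModStalk.germₗ M hx)
  exact Module.free_of_flat_of_isLocalRing

open Groth.L29.DC Groth.L29.DC.Fib in
/-- A finitely presented module with flat stalk is free near the point. -/
theorem exists_free_nhd (M : X.Modules) (hM : CohB1.IsFP M) (x : X)
    (h : Module.Flat (X.presheaf.stalk x) (M.presheaf.stalk x)) :
    ∃ (U : X.Opens) (n : ℕ), x ∈ U ∧ Nonempty (M.restrict U.ι ≅ FlatMod.freeMod (↑U) n) := by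
  obtain ⟨U, n, m, φ, hxU, ⟨e⟩⟩ := Groth.L18.LFP.exists_cokernel_free_nhd M hM x
  let y : (U : Scheme.{u}) := ⟨x, hxU⟩
  let i : cokernel φ ≅ (Scheme.Modules.pullback U.ι).obj M :=
    e ≪≫ (Scheme.Modules.restrictFunctorIsoPullback U.ι).app M
  haveI : Module.Flat ((U : Scheme.{u}).presheaf.stalk y) ((Groth.L00.Stk.F (U : Scheme.{u}) y).obj (cokernel φ)) := by
    letI := (U.ι.stalkMap y).hom.toAlgebra
    haveI : Module.Flat (X.presheaf.stalk (U.ι y)) (M.presheaf.stalk (U.ι y)) := h
    have hten : Module.Flat ((U : Scheme.{u}).presheaf.stalk y)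
        ((U : Scheme.{u}).presheaf.stalk y ⊗[X.presheaf.stalk (U.ι y)] M.presheaf.stalk (U.ι y)) := inferInstance
    haveI : Module.Flat ((U : Scheme.{u}).presheaf.stalk y)
        ((Groth.L00.Stk.F (U : Scheme.{u}) y).obj ((Scheme.Modules.pullback U.ι).obj M)) :=
      @Module.Flat.of_linearEquiv _ _ _ _ _ _ _ _ hten ((Groth.L00.PullStalk.stalkIso U.ι y).app M).toLinearEquiv
    exact Module.Flat.of_linearEquiv ((Groth.L00.Stk.F (U : Scheme.{u}) y).mapIso i).toLinearEquiv
  obtain ⟨W, g, hyW, hd⟩ := exists_pseudo_nhd φ y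
  obtain ⟨K, ⟨j⟩⟩ := cokernel_biprod_of_pseudo _ g hd
  have hfree : FlatMod.IsFinLocFree ((Scheme.Modules.restrictFunctor W.ι).obj (cokernel φ)) :=
    Groth.L29.LocFree.of_iso (PreservesCokernel.iso (Scheme.Modules.restrictFunctor W.ι) φ).symm
      (isFinLocFree_of_biprod (j ≪≫ (Scheme.Modules.restrictFunctorIsoPullback W.ι).app _ ≪≫
        Groth.L29.LocFree.pullbackFreeIso W.ι m))
  obtain ⟨Z, r, hZ, ⟨k⟩⟩ := hfree ⟨y, hyW⟩
  let t : M.restrict (Z.ι ≫ W.ι ≫ U.ι) ≅ FlatMod.freeMod (Z : Scheme.{u}) r :=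
    (Scheme.Modules.restrictFunctorComp Z.ι (W.ι ≫ U.ι)).app M ≪≫
      (Scheme.Modules.restrictFunctor Z.ι).mapIso ((Scheme.Modules.restrictFunctorComp W.ι U.ι).app M ≪≫
        (Scheme.Modules.restrictFunctor W.ι).mapIso e.symm) ≪≫ k
  obtain ⟨t'⟩ := Groth.L19.PullChart.exists_free_of_chart M (Z.ι ≫ W.ι ≫ U.ι) t
  exact ⟨(Z.ι ≫ W.ι ≫ U.ι).opensRange, r, ⟨⟨⟨y, hyW⟩, hZ⟩, rfl⟩, ⟨t'⟩⟩

end Groth.L20.FibreFree
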