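import Groth.Agent.L20.ResDescent
import Groth.Agent.L18.SecTwistExtend
import Groth.Agent.L18.GenLocus
import Groth.Agent.L18.Ample
import Groth.Prelude.Def_MoreMor

/-!
# Ample families give the resolution property
-/

set_option autoImplicit false
set_option linter.style.haveILetI false
set_option backward.isDefEq.respectTransparency.types false
set_option backward.isDefEq.respectTransparency false

universe u

open CategoryTheory CategoryTheory.Limits AlgebraicGeometry TopologicalSpace Opposite MonoidalCategory TensorProduct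

noncomputable section

namespace Groth.L20.ResDescent

open Groth.L18.Frame (rs ro rs_rs ro_ro rs_smul ro_self rs_self IsFrame)
open Groth.L18.GenLoc Groth.L18.SecTwistExt

variable {X : Scheme.{u}}

/-- Invertible modules are finite locally free. -/
theorem isFinLocFree_of_isInvertible {Y : Scheme.{u}} {L : Y.Modules} (h : PicF.IsInvertible L) :
    FlatMod.IsFinLocFree L := fun y => by
  obtain ⟨U, hy, ⟨e⟩⟩ := h y
  refine ⟨U, 1, hy, ⟨e ≪≫ ?_⟩⟩
  exact
    { hom := Sigma.ι (fun _ : Fin 1 => Coh.structureModule (↑U)) 0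
      inv := Sigma.desc fun _ => 𝟙 _
      hom_inv_id := Sigma.ι_desc _ _
      inv_hom_id := Sigma.hom_ext _ _ fun b => by
        rw [Subsingleton.elim b 0, Sigma.ι_desc_assoc, Category.id_comp, Category.comp_id] }

/-- Powers of a frame are frames. -/
theorem isFrame_epow {L : X.Modules} {W : X.Opens} {ε : Γ(L, W)} (hε : IsFrame L W ε) :
    ∀ n, IsFrame (CohB1.tensorPow L n) W (epow ε n)
  | 0 => fun V h => by
    have he : rs (Coh.structureModule X) h (epow (L := L) ε 0) = (1 : Γ(X, V)) := rs_one h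
    show Function.Bijective fun a : Γ(X, V) => a • rs (Coh.structureModule X) h (epow (L := L) ε 0)
    rw [he]
    exact ⟨fun (a b : Γ(X, V)) hab => by
        have ha : a * 1 = b * 1 := hab
        rwa [mul_one, mul_one] at ha,
      fun (b : Γ(X, V)) => ⟨b, mul_one b⟩⟩
  | n + 1 => isFrame_tens (isFrame_epow hε n) hε

/-- Tensoring with a frame is injective. -/
theorem tens_injective {N : X.Modules} (hN : FlatMod.IsFinLocFree N) (F : X.Modules) {W : X.Opens} {e : Γ(N, W)}
    (he : IsFrame N W e) : Function.Injective fun m : Γ(F, W) => tens F N W m e := by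
  let t : Fin 1 → (Groth.L00.Tensor.pre N).obj (op W) := fun _ => e
  have ht : Groth.L17.LocBases.IsBasis (O := X.sheaf) N t := fun V g => by
    have h := (he V (leOfHom g)).comp (Equiv.funUnique (Fin 1) Γ(X, V)).bijective
    refine Eq.mp (congrArg Function.Bijective ?_) h
    funext r
    exact (Fin.sum_univ_one (fun i => r i • rs N (leOfHom g) e)).symm
  have h1 := (Groth.L17.ProjFormula.bijective_unit_tensor N F hN t ht).comp
    (Groth.L17.ProjFormula.bijective_coords N F t ht)
  intro m m' hm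
  have key : ∀ z : Γ(F, W),
      (Groth.L00.Tensor.tensorComm N F).hom.app W ((Groth.L00.Tensor.unit (Groth.L00.Tensor.pre N ⊗ Groth.L00.Tensor.pre F)).app
        (op W) (∑ i, Groth.L17.LocBases.tm (O := X.sheaf) (P := Groth.L00.Tensor.pre N) (Q := Groth.L00.Tensor.pre F) (t i) z)) =
        tens F N W z e := fun z => by
    refine (congrArg (fun w => (Groth.L00.Tensor.tensorComm N F).hom.app W
      ((Groth.L00.Tensor.unit (Groth.L00.Tensor.pre N ⊗ Groth.L00.Tensor.pre F)).app (op W) w)) (Fin.sum_univ_one _)).trans ?_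
    have hn := (Groth.L17.ClosedPush.shAdj X).unit.naturality (β_ (Groth.L00.Tensor.pre N) (Groth.L00.Tensor.pre F)).hom
    exact (congrArg (fun k : Groth.L00.Tensor.pre N ⊗ Groth.L00.Tensor.pre F ⟶
      Groth.L00.Tensor.pre (CohB1.tensorMod F N) =>
      k.app (op W) ((t 0) ⊗ₜ[X.sheaf.obj.obj (op W)] (show (Groth.L00.Tensor.pre F).obj (op W) from z))) hn).symm
  have := h1.1 (a₁ := fun _ => m) (a₂ := fun _ => m') ((ConcreteCategory.bijective_of_isIso
    ((Groth.L00.Tensor.tensorComm N F).hom.app W)).1 ((key m).trans (hm.trans (key m').symm)))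
  exact congrFun this 0

/-- A finite coproduct of finite locally free modules receiving the given maps. -/
theorem exists_coprod {M : X.Modules} {ι : Type u} [Finite ι] (E : ι → X.Modules)
    (hE : ∀ i, FlatMod.IsFinLocFree (E i)) (h : ∀ i, E i ⟶ M) :
    ∃ (P : X.Modules) (π : P ⟶ M), FlatMod.IsFinLocFree P ∧
      ∀ (C : X.Modules) (c : M ⟶ C), π ≫ c = 0 → ∀ i, h i ≫ c = 0 := by
  obtain ⟨n, ⟨e⟩⟩ := Finite.exists_equiv_fin ι
  refine ⟨_, Sigma.desc fun k : Fin n => h (e.symm k),
    Groth.L29.DC.isFinLocFree_coprod_fin n (fun k => E (e.symm k)) fun k => hE _, fun C c hc i => ?_⟩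
  obtain ⟨k, rfl⟩ := e.symm.surjective i
  have := congrArg (Sigma.ι (fun k : Fin n => E (e.symm k)) k ≫ ·) hc
  simpa only [Sigma.ι_desc_assoc, comp_zero] using this

/-- A scheme with affine loci of sections of invertible modules everywhere is quasi-separated. -/
theorem quasiSeparatedSpace_of_genLocus
    (hloc : ∀ x : X, ∃ (L : X.Modules) (s : Coh.structureModule X ⟶ L), PicF.IsInvertible L ∧
      x ∈ CohB1.genLocus L s ∧ IsAffineOpen (CohB1.genLocus L s)) : QuasiSeparatedSpace X := by
  choose L s hL hx hs using hloc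
  refine quasiSeparatedSpace_iff_forall_affineOpens.mpr fun U V => ?_
  obtain ⟨T, hT⟩ := U.2.isCompact.elim_finite_subcover (fun x : X => (CohB1.genLocus _ (s x) : Set X))
    (fun x => (CohB1.genLocus _ (s x)).2) (fun x _ => Set.mem_iUnion.2 ⟨x, hx x⟩)
  have haff : ∀ (W : X.Opens), IsAffineOpen W → ∀ x, IsAffineOpen (CohB1.genLocus _ (s x) ⊓ W) := fun W hW x => by
    haveI := isAffineHom_genLocus_ι (hL x) (s x)
    have h := (hW.preimage (CohB1.genLocus _ (s x)).ι).image_of_isOpenImmersion (CohB1.genLocus _ (s x)).ι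
    rwa [Scheme.Hom.image_preimage_eq_opensRange_inf, Scheme.Opens.opensRange_ι] at h
  have hcover : ((U.1 ⊓ V.1 : X.Opens) : Set X) =
      ⋃ x ∈ T, ((CohB1.genLocus _ (s x) ⊓ U.1 : X.Opens) : Set X) ∩ ((CohB1.genLocus _ (s x) ⊓ V.1 : X.Opens) : Set X) := by
    ext y
    simp only [Opens.coe_inf, Set.mem_iUnion, Set.mem_inter_iff]
    refine ⟨fun hy => ?_, fun ⟨x, _, h1, h2⟩ => ⟨h1.2, h2.2⟩⟩
    obtain ⟨x, hxT, hyx⟩ := Set.mem_iUnion₂.1 (hT hy.1)
    exact ⟨x, hxT, ⟨hyx, hy.1⟩, hyx, hy.2⟩
  show IsCompact ((U.1 : Set X) ∩ (V.1 : Set X))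
  rw [← Opens.coe_inf, hcover]
  refine T.finite_toSet.isCompact_biUnion fun x _ => ?_
  let G := CohB1.genLocus _ (s x)
  haveI : IsAffine G.toScheme := hs x
  have h1 : IsAffineOpen (G.ι ⁻¹ᵁ U.1) :=
    haveI := isAffineHom_genLocus_ι (hL x) (s x); U.2.preimage G.ι
  have h2 : IsAffineOpen (G.ι ⁻¹ᵁ V.1) :=
    haveI := isAffineHom_genLocus_ι (hL x) (s x); V.2.preimage G.ι
  haveI : IsSeparated (terminal.from G.toScheme) := inferInstance
  have h3 := (h1.inf h2).image_of_isOpenImmersion G.ι
  convert h3.isCompact using 1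
  ext y
  simp only [Opens.coe_inf, Scheme.Hom.coe_image, Set.mem_inter_iff, Set.mem_image]
  exact ⟨fun h => ⟨⟨y, h.1.1⟩, ⟨h.1.2, h.2.2⟩, rfl⟩, fun ⟨z, hz, hzy⟩ => hzy ▸ ⟨⟨z.2, hz.1⟩, z.2, hz.2⟩⟩

/-- A quasi-compact scheme covered by affine loci of sections of invertible modules has the resolution
property. -/
theorem hasResolutionProperty_of_genLocus [CompactSpace X]
    (hloc : ∀ x : X, ∃ (L : X.Modules) (s : Coh.structureModule X ⟶ L), PicF.IsInvertible L ∧
      x ∈ CohB1.genLocus L s ∧ IsAffineOpen (CohB1.genLocus L s)) : PerfAux.HasResolutionProperty X := by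
  haveI := quasiSeparatedSpace_of_genLocus hloc
  choose L s hL hx hs using hloc
  intro M hMq hMft
  haveI : Coh.IsQCoh M := hMq
  obtain ⟨T, hT⟩ := isCompact_univ.elim_finite_subcover (fun x : X => (CohB1.genLocus _ (s x) : Set X))
    (fun x => (CohB1.genLocus _ (s x)).2) (fun x _ => Set.mem_iUnion.2 ⟨x, hx x⟩)
  have hfin : ∀ x : X, Module.Finite Γ(X, CohB1.genLocus _ (s x)) Γ(M, CohB1.genLocus _ (s x)) := fun x =>
    Groth.L20.ModStalk.finite_sections M ⟨hMq, hMft⟩ (hs x)
  choose n t ht using fun x : X => (hfin x).exists_fin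
  let I := Σ x : T, Fin (n x.1)
  choose d hd t' ht' using fun i : I => exists_twist_extend (s i.1.1) M (hL i.1.1) (t i.1.1 i.2)
  let N : I → X.Modules := fun i => CohB1.tensorPow (L i.1.1) (d i)
  have hN : ∀ i, FlatMod.IsFinLocFree (N i) := fun i => isFinLocFree_of_isInvertible
    (Groth.L18.Ample.isInvertible_tensorPow (hL i.1.1) _)
  haveI : ∀ i, ModSite.HasSheafHom (O := X.sheaf) (N i) := fun i => Groth.L17.Duality.hasSheafHom (N i)
  let D := fun i => Groth.L17.Duality.dualAdj (N i) (hN i)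
  let g : ∀ i, Coh.structureModule X ⟶ (Groth.L00.Tensor.tensorRightF (N i)).obj M := fun i =>
    Groth.L16.homOfSection (CohB1.tensorMod M (N i)) (t' i)
  let E : I → X.Modules := fun i => (Groth.L00.Tensor.tensorRightF (Groth.L17.Duality.dual (N i))).obj (Coh.structureModule X)
  have hE : ∀ i, FlatMod.IsFinLocFree (E i) := fun i => Groth.L29.DC.isFinLocFree_tensor
    (Groth.L29.LocFree.of_iso (Groth.L29.LocFree.pullbackUnitIso (𝟙 X)) (Groth.L29.LocFree.pullback _
      (isFinLocFree_of_isInvertible fun _ => ⟨⊤, trivial,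
        ⟨(Scheme.Modules.restrictFunctorIsoPullback (⊤ : X.Opens).ι).app _ ≪≫
          Groth.L29.LocFree.pullbackUnitIso _⟩⟩)))
    (isFinLocFree_dual (N i) (hN i))
  obtain ⟨P, π, hP, hπ⟩ := exists_coprod E hE fun i => ((D i).homEquiv (Coh.structureModule X) M).symm (g i)
  refine ⟨P, π, hP, Abelian.epi_of_cokernel_π_eq_zero _ ?_⟩
  let c := cokernel.π π
  have hker := hπ _ c (cokernel.condition π)
  refine eq_zero_of_affine c fun y => ?_
  obtain ⟨x, hxT, hyx⟩ := Set.mem_iUnion₂.1 (hT (Set.mem_univ y))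
  refine ⟨CohB1.genLocus _ (s x), hs x, hyx, fun m => ?_⟩
  have hgen : ∀ q : Fin (n x), c.app _ (t x q) = 0 := fun q => by
    let i : I := ⟨⟨x, hxT⟩, q⟩
    let G := CohB1.genLocus _ (s x)
    haveI : (Groth.L00.Tensor.tensorRightF (N i)).IsRightAdjoint := (D i).isRightAdjoint
    have h1 : g i ≫ (Groth.L00.Tensor.tensorRightF (N i)).map c = 0 := by
      have h2 := (D i).homEquiv_naturality_right (((D i).homEquiv (Coh.structureModule X) M).symm (g i)) c
      rw [hker i, Equiv.apply_symm_apply] at h2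
      refine h2.symm.trans ?_
      rw [Adjunction.homEquiv_unit, Functor.map_zero, comp_zero]
    have h3 : (Groth.L00.Tensor.tensorMap c (𝟙 (N i))).app ⊤ (t' i) = 0 := by
      have h4 := congr($(congrArg (fun k => Scheme.Modules.Hom.app k ⊤) h1) (1 : Γ(X, ⊤)))
      refine Eq.trans ?_ h4
      exact (congrArg ((Groth.L00.Tensor.tensorMap c (𝟙 (N i))).app ⊤) (secOf_homOfSection (t' i))).symm
    have h5 : tens (cokernel π) (N i) G (c.app G (t x q))
        (epow (rs (L x) le_top (secOf (s x))) (d i)) = 0 := by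
      have h6 := congrArg (rs (CohB1.tensorMod (cokernel π) (N i)) (le_top : G ≤ ⊤)) h3
      rw [← Groth.L19.ProjBdl.app_rs] at h6
      refine Eq.trans ?_ (h6.trans (map_zero _))
      refine Eq.trans ?_ (congrArg ((Groth.L00.Tensor.tensorMap c (𝟙 (N i))).app G) (ht' i)).symm
      refine Eq.trans ?_ (Groth.L17.ClosedPush.tensorMap_unit c (𝟙 (N i)) G (t x q) (SecTwist.pow (s x) (d i) G)).symm
      exact congrArg (tens (cokernel π) (N i) G (c.app G (t x q))) (pow_eq (s x) G (d i)).symm
    refine tens_injective (hN i) (cokernel π) (isFrame_epow (isFrame_genLocus (s x)) (d i)) ?_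
    show tens _ _ G (c.app G (t x q)) _ = tens _ _ G 0 _
    rw [h5, ← zero_smul Γ(X, G) (0 : Γ(cokernel π, G)), tens_smul_left, zero_smul]
  have hm : m ∈ Submodule.span Γ(X, CohB1.genLocus _ (s x)) (Set.range (t x)) := (ht x).ge Submodule.mem_top
  induction hm using Submodule.span_induction with
  | mem z hz => obtain ⟨q, rfl⟩ := hz; exact hgen q
  | zero => exact map_zero _
  | add a b _ _ ha hb => rw [map_add, ha, hb, add_zero]
  | smul a z _ hz => rw [Scheme.Modules.Hom.app_smul, hz, smul_zero]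

end Groth.L20.ResDescent
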