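import Mathlib.AlgebraicGeometry.Scheme
import Mathlib.AlgebraicGeometry.OpenImmersion
import Mathlib.AlgebraicGeometry.Restrict
import Mathlib.RingTheory.Spectrum.Prime.Topology

/-!
# Square-zero thickenings of affine schemes
-/

open CategoryTheory AlgebraicGeometry

universe u

namespace Groth.L20

theorem surjective_specMap_mk_of_sq_eq_bot {A : Type u} [CommRing A] (I : Ideal A) (hI : I ^ 2 = ⊥) :
    Function.Surjective (Spec.map (CommRingCat.ofHom (Ideal.Quotient.mk I))) := by
  intro (p : PrimeSpectrum A)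
  have hp : p ∈ PrimeSpectrum.zeroLocus (RingHom.ker (Ideal.Quotient.mk I) : Set A) := by
    rw [PrimeSpectrum.mem_zeroLocus]
    intro x hx
    rw [SetLike.mem_coe, Ideal.mk_ker] at hx
    have : x ^ 2 ∈ p.asIdeal := by
      have h := Ideal.pow_mem_pow hx 2
      rw [hI, Ideal.mem_bot] at h
      rw [h]
      exact zero_mem _
    exact p.isPrime.mem_of_pow_mem 2 this
  rw [← range_comap_of_surjective _ (Ideal.Quotient.mk I) Ideal.Quotient.mk_surjective] at hp
  exact hp

/-- A lift along a square-zero thickening lands in every open containing the image. -/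
theorem range_subset_of_comp_eq {A : Type u} [CommRing A] (I : Ideal A) (hI : I ^ 2 = ⊥)
    {X : Scheme.{u}} (U : X.Opens) (a : Spec (CommRingCat.of (A ⧸ I)) ⟶ U)
    (l : Spec (CommRingCat.of A) ⟶ X)
    (h : Spec.map (CommRingCat.ofHom (Ideal.Quotient.mk I)) ≫ l = a ≫ U.ι) :
    Set.range l ⊆ Set.range U.ι := by
  rintro _ ⟨p, rfl⟩
  obtain ⟨q, rfl⟩ := surjective_specMap_mk_of_sq_eq_bot I hI p
  rw [← Scheme.Hom.comp_apply, h, Scheme.Hom.comp_apply]
  exact ⟨_, rfl⟩

end Groth.L20
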