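import Mathlib.AlgebraicGeometry.Morphisms.UniversallyOpen
import Mathlib.AlgebraicGeometry.Noetherian
import Mathlib.Topology.Sober

/-!
# Generic points and flat morphisms
-/

universe u

open CategoryTheory AlgebraicGeometry

namespace Groth.L20

/-- A point with no proper generalization is a generic point. -/
theorem mem_genericPoints_iff {X : Scheme.{u}} (ξ : X) :
    ξ ∈ genericPoints X ↔ ∀ x : X, x ⤳ ξ → x = ξ := by
  constructor
  · intro h x hx
    have h1 : closure {x} ⊆ closure {ξ} :=
      h.2 isIrreducible_singleton.closure (specializes_iff_closure_subset.mp hx)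
    exact (Specializes.antisymm hx (specializes_iff_closure_subset.mpr h1)).eq
  · intro h
    obtain ⟨C, hC, hxC⟩ := exists_mem_irreducibleComponents_subset_of_isIrreducible {ξ}
      isIrreducible_singleton
    let g := genericPoints.ofComponent ⟨C, hC⟩
    have hg := genericPoints.isGenericPoint_ofComponent (⟨C, hC⟩ : irreducibleComponents X)
    have e : g.1 = ξ := h _ (hg.specializes (hxC rfl))
    exact e ▸ g.2

theorem exists_genericPoint_specializes {X : Scheme.{u}} (x : X) :
    ∃ ξ ∈ genericPoints X, ξ ⤳ x := by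
  obtain ⟨C, hC, hxC⟩ := exists_mem_irreducibleComponents_subset_of_isIrreducible {x}
    isIrreducible_singleton
  exact ⟨_, (genericPoints.ofComponent ⟨C, hC⟩).2,
    (genericPoints.isGenericPoint_ofComponent (⟨C, hC⟩ : irreducibleComponents X)).specializes (hxC rfl)⟩

/-- Flat morphisms send generic points to generic points. -/
theorem apply_mem_genericPoints {X Y : Scheme.{u}} (f : X ⟶ Y) [Flat f] {ξ : X}
    (h : ξ ∈ genericPoints X) : f ξ ∈ genericPoints Y := by
  rw [mem_genericPoints_iff] at h ⊢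
  intro y hy
  obtain ⟨x, hx, rfl⟩ := Flat.generalizingMap f hy
  rw [h x hx]

theorem mem_of_dense_of_mem_genericPoints {Y : Scheme.{u}} [IsLocallyNoetherian Y]
    (U : Y.Opens) (hU : Dense (U : Set Y)) {η : Y} (h : η ∈ genericPoints Y) : η ∈ U := by
  rw [mem_genericPoints_iff] at h
  obtain ⟨(V : Y.Opens), hV, hηV, -⟩ := TopologicalSpace.Opens.isBasis_iff_nbhd.mp
    Y.isBasis_affineOpens (TopologicalSpace.Opens.mem_top η)
  have hN : IsNoetherianRing Γ(Y, V) := IsLocallyNoetherian.component_noetherian ⟨V, hV⟩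
  have : IsAffine V := hV
  have : TopologicalSpace.NoetherianSpace V := noetherianSpace_of_isAffineOpen V hV
  let S : Set V := ⋃ c ∈ {c ∈ irreducibleComponents V | (⟨η, hηV⟩ : V) ∉ c}, c
  have hS : IsClosed S := (TopologicalSpace.NoetherianSpace.finite_irreducibleComponents.subset
    (Set.sep_subset _ _)).isClosed_biUnion fun c hc =>
      isClosed_of_mem_irreducibleComponents c hc.1
  have hO : IsOpen (Subtype.val '' Sᶜ : Set Y) :=
    V.isOpenEmbedding'.isOpenMap _ hS.isOpen_compl
  have hmem : η ∈ (Subtype.val '' Sᶜ : Set Y) := by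
    refine ⟨⟨η, hηV⟩, fun hc => ?_, rfl⟩
    obtain ⟨c, hc, hmem⟩ := Set.mem_iUnion₂.mp hc
    exact hc.2 hmem
  obtain ⟨z, ⟨⟨z, hzV⟩, hz, rfl⟩, hzU⟩ := hU.inter_open_nonempty _ hO ⟨η, hmem⟩
  obtain ⟨ζ, hζ, hζz⟩ := exists_genericPoint_specializes (X := (V : Scheme)) ⟨z, hzV⟩
  have hη : (⟨η, hηV⟩ : V) ∈ closure {ζ} := by
    by_contra hc
    exact hz (Set.mem_biUnion (x := closure {ζ}) ⟨hζ, hc⟩ hζz.mem_closure)
  have h1 : ζ.1 ⤳ η := ((specializes_iff_mem_closure).mpr hη).map continuous_subtype_val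
  rw [← h ζ.1 h1]
  exact (hζz.map continuous_subtype_val).mem_open U.2 hzU

end Groth.L20
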