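import Groth.Agent.L20.ModPullback
import Groth.Agent.L00.PullStalk

/-!
# Stalks of pushforwards of quasi-coherent modules along affine morphisms
-/

set_option autoImplicit false
set_option linter.style.haveILetI false

universe u

open CategoryTheory CategoryTheory.Limits AlgebraicGeometry TopologicalSpace Opposite

noncomputable section

namespace Groth.L20.ModStalk

open Groth.L18.Frame (rs ro rs_rs ro_ro rs_smul rs_self)

variable {X Y : Scheme.{u}} (f : X ⟶ Y) (M : X.Modules)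

theorem push_exists_pow_smul_eq_res [Coh.IsQCoh M] {V : Y.Opens} (hU : IsAffineOpen (f ⁻¹ᵁ V)) (g : Γ(Y, V))
    (s : Γ((Scheme.Modules.pushforward f).obj M, Y.basicOpen g)) :
    ∃ (n : ℕ) (t : Γ((Scheme.Modules.pushforward f).obj M, V)),
      rs ((Scheme.Modules.pushforward f).obj M) (Y.basicOpen_le g) t = ro (Y.basicOpen_le g) (g ^ n) • s := by
  have e : f ⁻¹ᵁ Y.basicOpen g = X.basicOpen (f.app V g) := Scheme.preimage_basicOpen f g
  obtain ⟨n, t, ht⟩ := Groth.L16.QCohSect.exists_pow_smul_eq_res hU M (f.app V g)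
    (rs M e.ge (show Γ(M, f ⁻¹ᵁ Y.basicOpen g) from s))
  refine ⟨n, t, ?_⟩
  have h2 := congrArg (rs M e.le) ht
  rw [rs_rs, rs_smul, rs_rs, rs_self, ro_ro] at h2
  rw [Groth.L00.PullStalk.push_smul]
  change rs M _ (show Γ(M, f ⁻¹ᵁ V) from t) = _
  rw [h2]
  congr 1
  rw [← map_pow (f.app V).hom]
  exact (ConcreteCategory.congr_hom (f.naturality (homOfLE (Y.basicOpen_le g)).op) (g ^ n)).symm

theorem push_exists_pow_smul_eq_zero [Coh.IsQCoh M] {V : Y.Opens} (hU : IsAffineOpen (f ⁻¹ᵁ V)) (g : Γ(Y, V))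
    (t : Γ((Scheme.Modules.pushforward f).obj M, V))
    (h : rs ((Scheme.Modules.pushforward f).obj M) (Y.basicOpen_le g) t = 0) :
    ∃ n : ℕ, g ^ n • t = 0 := by
  have e : f ⁻¹ᵁ Y.basicOpen g = X.basicOpen (f.app V g) := Scheme.preimage_basicOpen f g
  have h2 : rs M (X.basicOpen_le (f.app V g)) (show Γ(M, f ⁻¹ᵁ V) from t) = 0 := by
    have h3 := congrArg (rs M e.ge) (show rs M (Scheme.Hom.preimage_mono f (Y.basicOpen_le g))
      (show Γ(M, f ⁻¹ᵁ V) from t) = 0 from h)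
    rw [rs_rs] at h3
    exact h3.trans (map_zero _)
  obtain ⟨n, hn⟩ := Groth.L16.QCohSect.exists_pow_smul_eq_zero hU M (f.app V g) _ h2
  refine ⟨n, ?_⟩
  rw [Groth.L00.PullStalk.push_smul, map_pow (f.app V).hom]
  exact hn

/-- The stalk of a pushforward along an affine morphism is a localization of the sections. -/
theorem isLocalizedModule_germ_push [Coh.IsQCoh M] {V : Y.Opens} (hV : IsAffineOpen V) (hU : IsAffineOpen (f ⁻¹ᵁ V))
    {y : Y} (hy : y ∈ V) :
    letI := stalkModule ((Scheme.Modules.pushforward f).obj M) hy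
    IsLocalizedModule (hV.primeIdealOf ⟨y, hy⟩).asIdeal.primeCompl (germₗ ((Scheme.Modules.pushforward f).obj M) hy) := by
  set P := (Scheme.Modules.pushforward f).obj M with hP
  letI := stalkModule P hy
  letI := Y.presheaf.algebra_section_stalk ⟨y, hy⟩
  haveI := hV.isLocalization_stalk ⟨y, hy⟩
  have key : ∀ g : Γ(Y, V), y ∈ Y.basicOpen g → g ∈ (hV.primeIdealOf ⟨y, hy⟩).asIdeal.primeCompl := by
    intro g hg
    rw [Scheme.mem_basicOpen Y g y hy] at hg
    exact fun hmem => (IsLocalRing.mem_maximalIdeal _).mp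
      ((IsLocalization.AtPrime.to_map_mem_maximal_iff (Y.presheaf.stalk y) (hV.primeIdealOf ⟨y, hy⟩).asIdeal g).mpr hmem) hg
  refine (isLocalizedModule_iff _ _).mpr ⟨fun t => ?_, fun z => ?_, fun {m₁ m₂} he => ?_⟩
  · have hu : IsUnit (Y.presheaf.germ V y hy (t : Γ(Y, V))) :=
      IsLocalization.map_units (Y.presheaf.stalk y) t
    obtain ⟨w, hw⟩ := hu.exists_right_inv
    rw [Module.End.isUnit_iff]
    refine Function.bijective_iff_has_inverse.mpr ⟨fun z => w • z, fun z => ?_, fun z => ?_⟩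
    · show w • ((Y.presheaf.germ V y hy).hom t • z) = z
      rw [smul_smul, mul_comm]
      exact (congrArg (· • z) hw).trans (one_smul _ z)
    · show (Y.presheaf.germ V y hy).hom t • (w • z) = z
      rw [smul_smul]
      exact (congrArg (· • z) hw).trans (one_smul _ z)
  · obtain ⟨W, hyW, s, rfl⟩ := TopCat.Presheaf.exists_germ_eq P.presheaf z
    obtain ⟨g, hgW, hyg⟩ := hV.exists_basicOpen_le (V := W) ⟨y, hyW⟩ hy
    obtain ⟨n, t, ht⟩ := push_exists_pow_smul_eq_res f M hU g (rs P hgW s)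
    refine ⟨⟨t, g ^ n, pow_mem (key g hyg) n⟩, ?_⟩
    have ht' : rs P (Y.basicOpen_le g) t = ro (Y.basicOpen_le g) (g ^ n) • rs P hgW s := ht
    have h1 := congrArg (fun z => P.presheaf.germ _ y hyg z) ht'
    simp only [germ_rs, germ_smul] at h1
    show (Y.presheaf.germ V y hy).hom (g ^ n) • _ = P.presheaf.germ V y hy t
    rw [h1]
    congr 1
    exact (TopCat.Presheaf.germ_res_apply Y.presheaf (homOfLE (Y.basicOpen_le g)) y hyg (g ^ n)).symm
  · obtain ⟨W, hyW, i₁, i₂, hW⟩ := TopCat.Presheaf.germ_eq P.presheaf y hy hy m₁ m₂ he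
    obtain ⟨g, hgW, hyg⟩ := hV.exists_basicOpen_le (V := W) ⟨y, hyW⟩ hy
    have h0 : rs P (Y.basicOpen_le g) (m₁ - m₂) = 0 := by
      have h1 : rs P (hgW.trans i₁.le) m₁ = rs P (hgW.trans i₂.le) m₂ := by
        rw [← rs_rs P i₁.le hgW m₁, ← rs_rs P i₂.le hgW m₂]
        exact congrArg (rs P hgW) hW
      rw [show rs P (Y.basicOpen_le g) (m₁ - m₂) = rs P (Y.basicOpen_le g) m₁ - rs P (Y.basicOpen_le g) m₂ from
        map_sub _ _ _, sub_eq_zero]
      exact h1
    obtain ⟨n, hn⟩ := push_exists_pow_smul_eq_zero f M hU g (m₁ - m₂) h0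
    refine ⟨⟨g ^ n, pow_mem (key g hyg) n⟩, ?_⟩
    show g ^ n • m₁ = g ^ n • m₂
    rw [← sub_eq_zero, ← smul_sub]
    exact hn

end Groth.L20.ModStalk
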