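import Groth.Prelude.Def_MoreMor
import Groth.Agent.L20.ThickeningTopology
import Groth.Agent.L17.ThickBasic
import Groth.Agent.L25.Unramified
import Mathlib.AlgebraicGeometry.Morphisms.FormallyUnramified
import Mathlib.AlgebraicGeometry.ZariskisMainTheorem

/-!
# Morphism properties along thickenings
-/

set_option autoImplicit false

universe u

open CategoryTheory CategoryTheory.Limits AlgebraicGeometry

namespace Groth.L20.Thick

variable {X X' Y Y' : Scheme.{u}} {iX : X ⟶ X'} {iY : Y ⟶ Y'} {f : X ⟶ Y} {f' : X' ⟶ Y'}

theorem bijective_residueFieldMap (i : X ⟶ Y) [IsClosedImmersion i] (x : X) :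
    Function.Bijective (i.residueFieldMap x).hom := by
  refine ⟨(i.residueFieldMap x).hom.injective, fun b => ?_⟩
  obtain ⟨b, rfl⟩ := X.residue_surjective x b
  obtain ⟨a, rfl⟩ := i.stalkMap_surjective x b
  exact ⟨Y.residue (i x) a, congr($(Scheme.residue_residueFieldMap i x) a)⟩

theorem isIso_residueFieldMap (i : X ⟶ Y) [IsClosedImmersion i] (x : X) :
    IsIso (i.residueFieldMap x) :=
  (ConcreteCategory.isIso_iff_bijective _).mpr (bijective_residueFieldMap i x)

/-- The fibres over corresponding points of the two sides of a cartesian thickening square agree. -/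
theorem fibre_iff (P : MorphismProperty Scheme.{u}) [P.RespectsIso] [IsClosedImmersion iY]
    (hc : IsPullback iX f f' iY) (y : Y) :
    P (f.fiberToSpecResidueField y) ↔ P (f'.fiberToSpecResidueField (iY y)) := by
  have := isIso_residueFieldMap iY y
  have h := isPullback_fiberToSpecResidueField_of_isPullback hc y
  exact P.arrow_mk_iso_iff (Arrow.isoMk (@asIso _ _ _ _ _ h.isIso_fst_of_isIso)
    (asIso (Spec.map (iY.residueFieldMap y))) h.w)

theorem forall_fibre_iff (P : MorphismProperty Scheme.{u}) [P.RespectsIso]
    (hY : MoreMor.IsThickening iY) (hc : IsPullback iX f f' iY) :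
    (∀ y, P (f.fiberToSpecResidueField y)) ↔ ∀ y', P (f'.fiberToSpecResidueField y') := by
  obtain ⟨_, _⟩ := hY
  refine ⟨fun h y' => ?_, fun h y => (fibre_iff P hc y).mpr (h _)⟩
  obtain ⟨y, rfl⟩ := iY.surjective y'
  exact (fibre_iff P hc y).mp (h y)

theorem isThickening_of_isPullback (hY : MoreMor.IsThickening iY) (hc : IsPullback iX f f' iY) :
    MoreMor.IsThickening iX := by
  obtain ⟨_, _⟩ := hY
  exact ⟨MorphismProperty.of_isPullback hc.flip inferInstance,
    MorphismProperty.of_isPullback hc.flip inferInstance⟩

set_option backward.isDefEq.respectTransparency.types false in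
theorem formallyUnramified_iff_of_lft (hY : MoreMor.IsThickening iY) (hc : IsPullback iX f f' iY)
    [LocallyOfFiniteType f'] : FormallyUnramified f ↔ FormallyUnramified f' := by
  refine ⟨fun _ => Groth.L25.Unramified.formallyUnramified_of_fibres f' ?_,
    fun h => MorphismProperty.of_isPullback hc h⟩
  exact (forall_fibre_iff @FormallyUnramified hY hc).mp fun y => MorphismProperty.pullback_snd _ _ ‹_›

theorem universallyClosed_of_thickening (hY : MoreMor.IsThickening iY) (hX : MoreMor.IsThickening iX)
    (w : iX ≫ f' = f ≫ iY) [UniversallyClosed f] : UniversallyClosed f' := by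
  obtain ⟨_, _⟩ := hY
  obtain ⟨_, _⟩ := hX
  have : UniversallyClosed (iX ≫ f') := by rw [w]; infer_instance
  exact UniversallyClosed.of_comp_surjective iX f'

/-- A finite order thickening stays so after base change. -/
theorem isNilpotent_ker_of_isPullback [IsClosedImmersion iY] (hn : IsNilpotent iY.ker)
    (hc : IsPullback iX f f' iY) : IsNilpotent iX.ker := by
  obtain ⟨n, hn⟩ := hn
  refine ⟨n, ?_⟩
  rw [Groth.L17.Thick.ker_of_isPullback hc, ← Groth.L17.Thick.comap_pow, hn]
  exact Scheme.IdealSheafData.comap_bot _

end Groth.L20.Thick
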