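import Groth.Agent.L20.FibreScheme
import Groth.Agent.L20.ThickeningFlat
import Groth.Agent.L20.ThickeningProps

/-!
# Deforming flatness along arbitrary thickenings
-/

set_option autoImplicit false
set_option linter.style.haveILetI false

universe u

open CategoryTheory CategoryTheory.Limits AlgebraicGeometry

namespace Groth.L20.Thick

variable {X X' Y Y' S S' : Scheme.{u}}

/-- The morphism of fibres is a base change of the morphism. -/
theorem isPullback_fiberMap (f : X ⟶ Y) (g : Y ⟶ S) (s : S) :
    IsPullback ((f ≫ g).fiberι s) (MoreMor.fiberMap f g s) f (g.fiberι s) := by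
  refine IsPullback.of_bot (v₂₁ := g.fiberToSpecResidueField s) (v₂₂ := g) (h₃₁ := S.fromSpecResidueField s) ?_
    (pullback.lift_fst _ _ _).symm (IsPullback.of_hasPullback g (S.fromSpecResidueField s))
  rw [show MoreMor.fiberMap f g s ≫ g.fiberToSpecResidueField s = (f ≫ g).fiberToSpecResidueField s from
    pullback.lift_snd _ _ _]
  exact IsPullback.of_hasPullback (f ≫ g) (S.fromSpecResidueField s)

variable {iX : X ⟶ X'} {iY : Y ⟶ Y'} {iS : S ⟶ S'} {f : X ⟶ Y} {f' : X' ⟶ Y'} {g : Y ⟶ S} {g' : Y' ⟶ S'}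

/-- The morphisms of fibres over corresponding points of a thickening agree. -/
theorem flat_fiberMap_of_flat [IsClosedImmersion iS] (hc : IsPullback iX f f' iY)
    (hcY : IsPullback iY g g' iS) [Flat f] (s : S) : Flat (MoreMor.fiberMap f' g' (iS s)) := by
  have := isIso_residueFieldMap iS s
  have h := isPullback_fiberToSpecResidueField_of_isPullback hcY s
  have := h.isIso_fst_of_isIso
  have h1 : Flat (MoreMor.fiberMap f g s) := MorphismProperty.of_isPullback (isPullback_fiberMap f g s) ‹_›
  have hpaste := (isPullback_fiberMap f g s).paste_horiz hc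
  have hι : ∀ m : g.fiber s ⟶ g'.fiber (iS s), m ≫ g'.fiberι (iS s) = g.fiberι s ≫ iY → IsIso m →
      Flat (MoreMor.fiberMap f' g' (iS s)) := fun m hm _ => by
    have h2 : IsPullback ((f ≫ g).fiberι s ≫ iX) (MoreMor.fiberMap f g s ≫ m) f' (g'.fiberι (iS s)) :=
      hpaste.of_iso (Iso.refl _) (Iso.refl _) (asIso m) (Iso.refl _) (by simp) (by simp) (by simp) (by simp [hm])
    have hsnd := (isPullback_fiberMap f' g' (iS s)).isoIsPullback_hom_snd _ _ h2
    rw [← hsnd]
    infer_instance
  exact hι _ (pullback.lift_fst _ _ _) this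

/-- Flatness deforms along thickenings (locally of finite presentation case). -/
theorem flat_of_deform_fp (hS : MoreMor.IsThickening iS) (hcX : IsPullback iX (f ≫ g) (f' ≫ g') iS)
    (hcY : IsPullback iY g g' iS) (w : iX ≫ f' = f ≫ iY) [Flat (f' ≫ g')]
    [LocallyOfFinitePresentation (f' ≫ g')] [LocallyOfFiniteType g'] [Flat f] : Flat f' := by
  obtain ⟨_, _⟩ := hS
  rw [Flat.iff_flat_stalkMap]
  intro x'
  refine flat_stalkMap_of_fiberMap f' g' x' (Flat.stalkMap (f' ≫ g') x') ?_
  obtain ⟨s, hs⟩ := iS.surjective (g' (f' x'))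
  have := flat_fiberMap_of_flat (IsPullback.of_bot hcX w hcY) hcY (f := f) (f' := f') s
  rw [hs] at this
  exact Flat.stalkMap _ _

/-- The setting of a deformation over an arbitrary thickening. -/
theorem deform_setting' (hS : MoreMor.IsThickening iS) (hcX : IsPullback iX (f ≫ g) (f' ≫ g') iS)
    (hcY : IsPullback iY g g' iS) (w : iX ≫ f' = f ≫ iY) :
    IsPullback iX f f' iY ∧ MoreMor.IsThickening iY :=
  ⟨IsPullback.of_bot hcX w hcY, isThickening_of_isPullback hS hcY⟩

end Groth.L20.Thick
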