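import Groth.Agent.L19.Approx.Closed
import Mathlib.AlgebraicGeometry.Morphisms.Affine
import Mathlib.AlgebraicGeometry.Morphisms.ClosedImmersion
import Mathlib.AlgebraicGeometry.AffineTransitionLimit

/-!
# A thickening of an affine scheme is affine
-/

universe u

open CategoryTheory CategoryTheory.Limits AlgebraicGeometry TopologicalSpace Opposite

namespace Groth.L20.ThickAffine

set_option linter.style.haveILetI false
set_option backward.isDefEq.respectTransparency.types false
set_option backward.isDefEq.respectTransparency false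
set_option backward.defeqAttrib.useBackward true

variable {X Z : Scheme.{u}}

/-- Restriction of sections. -/
abbrev res {U W : X.Opens} (h : W ≤ U) (s : Γ(X, U)) : Γ(X, W) :=
  X.presheaf.map (homOfLE h).op s

theorem res_res {U V W : X.Opens} (h : V ≤ U) (h' : W ≤ V) (s : Γ(X, U)) :
    res h' (res h s) = res (h'.trans h) s := by
  simp only [res, ← CommRingCat.comp_apply, ← Functor.map_comp]
  rfl

theorem res_rfl {U : X.Opens} (s : Γ(X, U)) : res (le_refl U) s = s := by
  have : X.presheaf.map (homOfLE (le_refl U)).op = 𝟙 _ := X.presheaf.map_id (op U)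
  rw [res, this]
  rfl

theorem app_res (t : Z ⟶ X) {U W : X.Opens} (h : W ≤ U) (s : Γ(X, U)) :
    t.app W (res h s) = res (X := Z) (t.preimage_mono h) (t.app U s) := by
  simp only [res, ← CommRingCat.comp_apply, Scheme.Hom.naturality]
  rfl

theorem preimage_inj (t : Z ⟶ X) (ht : Function.Surjective t) {A B : X.Opens}
    (h : t ⁻¹ᵁ A = t ⁻¹ᵁ B) : A = B := by
  ext x
  obtain ⟨z, rfl⟩ := ht x
  exact SetLike.ext_iff.mp h z

/-- Zero on a basic open of an affine open. -/
theorem exists_pow_mul_eq_zero {U : X.Opens} (hU : IsAffineOpen U) (f : Γ(X, U)) {W : X.Opens}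
    (hW : W = X.basicOpen f) (h : W ≤ U) (d : Γ(X, U)) (hd : res h d = 0) :
    ∃ M : ℕ, ∀ m ≥ M, f ^ m * d = 0 := by
  subst hW
  haveI := hU.isLocalization_basicOpen f
  obtain ⟨⟨c, M, rfl⟩, hM⟩ := (IsLocalization.eq_iff_exists (Submonoid.powers f) Γ(X, X.basicOpen f)).mp
    (show algebraMap Γ(X, U) Γ(X, X.basicOpen f) d = algebraMap _ _ 0 by rw [map_zero]; exact hd)
  refine ⟨M, fun m hm => ?_⟩
  obtain ⟨k, rfl⟩ := Nat.exists_eq_add_of_le hm
  rw [pow_add, mul_comm (f ^ M), mul_assoc, hM, mul_zero, mul_zero]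

/-- Extension, after multiplication by a power, of a section killed by the closed immersion. -/
theorem exists_ext_ker (t : Z ⟶ X) [IsAffineHom t] {U : X.Opens} (hU : IsAffineOpen U) (f : Γ(X, U))
    {W : X.Opens} (hW : W = X.basicOpen f) (h : W ≤ U) (c : Γ(X, W)) (hc : t.app W c = 0) :
    ∃ N : ℕ, ∀ n ≥ N, ∃ d : Γ(X, U), t.app U d = 0 ∧ res h d = res h f ^ n * c := by
  subst hW
  haveI := hU.isLocalization_basicOpen f
  obtain ⟨⟨d, _, N, rfl⟩, hd⟩ := IsLocalization.surj (Submonoid.powers f) c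
  have hd' : res h d = res h f ^ N * c := by
    rw [← map_pow (X.presheaf.map (homOfLE h).op).hom, mul_comm]
    exact hd.symm
  have hz : res (X := Z) (t.preimage_mono h) (t.app U d) = 0 := by
    rw [← app_res t h, hd', map_mul, hc, mul_zero]
  obtain ⟨M, hM⟩ := exists_pow_mul_eq_zero (hU.preimage t) (t.app U f)
    (Scheme.preimage_basicOpen t f) (t.preimage_mono h) (t.app U d) hz
  refine ⟨N + M, fun n hn => ?_⟩
  obtain ⟨k, rfl⟩ := Nat.exists_eq_add_of_le hn
  refine ⟨f ^ (M + k) * d, ?_, ?_⟩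
  · rw [map_mul, map_pow, hM _ (by omega)]
  · simp only [res, map_mul, map_pow] at hd' ⊢
    rw [hd', ← mul_assoc, ← pow_add]
    congr 2
    omega

/-- Products of two sections killed by `t` vanish if they do so on small enough opens. -/
theorem sq_zero_of_local (t : Z ⟶ X)
    (h : ∀ (U : X.Opens), ∀ x ∈ U, ∃ W : X.Opens, x ∈ W ∧ W ≤ U ∧
      ∀ a b : Γ(X, W), t.app W a = 0 → t.app W b = 0 → a * b = 0)
    (U : X.Opens) (a b : Γ(X, U)) (ha : t.app U a = 0) (hb : t.app U b = 0) : a * b = 0 := by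
  choose W hx hle hW using h
  refine X.sheaf.eq_of_locally_eq' (fun x : U => W U x x.2) U (fun x => homOfLE (hle U x x.2))
    (fun x hxU => Opens.mem_iSup.mpr ⟨⟨x, hxU⟩, hx U x hxU⟩) _ _ fun x => ?_
  change res (hle U x x.2) (a * b) = res (hle U x x.2) 0
  simp only [res, map_mul, map_zero]
  refine hW U x x.2 _ _ ?_ ?_
  · rw [show t.app _ (X.presheaf.map (homOfLE (hle U x x.2)).op a) = _ from app_res t _ a, ha]
    exact map_zero _
  · rw [show t.app _ (X.presheaf.map (homOfLE (hle U x x.2)).op b) = _ from app_res t _ b, hb]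
    exact map_zero _

/-- A square-zero thickening of an affine scheme is affine. -/
theorem isAffine_of_sq_zero (t : Z ⟶ X) [IsClosedImmersion t] (ht : Function.Surjective t)
    [IsAffine Z]
    (hsq : ∀ (U : X.Opens) (a b : Γ(X, U)), t.app U a = 0 → t.app U b = 0 → a * b = 0) :
    IsAffine X := by
  classical
  -- nice affine opens
  have hV : ∀ x : X, ∃ (V : X.Opens) (g : Γ(Z, ⊤)),
      x ∈ V ∧ IsAffineOpen V ∧ t ⁻¹ᵁ V = Z.basicOpen g := by
    intro x
    obtain ⟨_, ⟨U, hU, rfl⟩, hxU, -⟩ :=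
      X.isBasis_affineOpens.exists_subset_of_mem_open (Set.mem_univ x) isOpen_univ
    obtain ⟨z, rfl⟩ := ht x
    obtain ⟨g, hg, hzg⟩ := (isAffineOpen_top Z).exists_basicOpen_le
      (V := t ⁻¹ᵁ U) ⟨z, hxU⟩ trivial
    obtain ⟨gU, hgU⟩ := t.app_surjective U hU (res (X := Z) le_top g)
    refine ⟨X.basicOpen gU, g, ?_, hU.basicOpen gU, ?_⟩
    · change z ∈ t ⁻¹ᵁ X.basicOpen gU
      rw [Scheme.preimage_basicOpen, hgU, res, Scheme.basicOpen_res]
      exact ⟨hxU, hzg⟩
    · rw [Scheme.preimage_basicOpen, hgU, res, Scheme.basicOpen_res, inf_eq_right.mpr hg]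
  choose Vx gx hxV hVaff hVg using hV
  haveI : CompactSpace X := ht.compactSpace t.continuous
  obtain ⟨s, hs⟩ := isCompact_univ.elim_finite_subcover (fun x => (Vx x : Set X))
    (fun x => (Vx x).2) (fun x _ => Set.mem_iUnion.mpr ⟨x, hxV x⟩)
  let V : s → X.Opens := fun i => Vx i
  let g : s → Γ(Z, ⊤) := fun i => gx i
  have hVtop : ⊤ ≤ iSup V := fun x _ => by
    obtain ⟨i, hi, hxi⟩ := Set.mem_iUnion₂.mp (hs (Set.mem_univ x))
    exact Opens.mem_iSup.mpr ⟨⟨i, hi⟩, hxi⟩
  have hspan : Ideal.span (Set.range g) = ⊤ := by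
    rw [← (isAffineOpen_top Z).iSup_basicOpen_eq_self_iff, eq_top_iff]
    intro z _
    obtain ⟨i, hi⟩ := Opens.mem_iSup.mp (hVtop (Set.mem_univ (t z)))
    refine Opens.mem_iSup.mpr ⟨⟨g i, i, rfl⟩, ?_⟩
    change z ∈ Z.basicOpen (gx i)
    rw [← hVg]
    exact hi
  -- lifts on the pieces
  have hL : ∀ (a : Γ(Z, ⊤)) (i : s), ∃ A : Γ(X, V i), t.app (V i) A = res (X := Z) le_top a :=
    fun a i => t.app_surjective (V i) (hVaff i) _
  choose L hL using hL
  have hVV : ∀ i k : s, V i ⊓ V k = X.basicOpen (L (g k) i) := fun i k =>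
    preimage_inj t ht (by
      rw [Scheme.Hom.preimage_inf, Scheme.preimage_basicOpen, hL, res, Scheme.basicOpen_res]
      exact congrArg _ (hVg k))
  -- every global section lifts
  have lift : ∀ a : Γ(Z, ⊤), ∃ f : Γ(X, ⊤), t.appTop f = a := by
    intro a
    let c : ∀ i j : s, Γ(X, V i ⊓ V j) := fun i j =>
      res inf_le_left (L a i) - res inf_le_right (L a j)
    have hker : ∀ (b : Γ(Z, ⊤)) (i j : s) (W : X.Opens) (hi : W ≤ V i) (hj : W ≤ V j),
        t.app W (res hi (L b i) - res hj (L b j)) = 0 := by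
      intro b i j W hi hj
      rw [map_sub, app_res, app_res, hL, hL, res_res, res_res, sub_self]
    have hd : ∀ i k : s, ∃ N : ℕ, ∀ n ≥ N, ∃ d : Γ(X, V i), t.app (V i) d = 0 ∧
        res inf_le_left d = res inf_le_left (L (g k) i) ^ n * c i k := fun i k =>
      exists_ext_ker t (hVaff i) _ (hVV i k) inf_le_left (c i k) (hker a i k _ _ _)
    choose N hN using hd
    let N₀ := Finset.univ.sup fun p : s × s => N p.1 p.2
    have hN' : ∀ i k : s, ∃ d : Γ(X, V i), t.app (V i) d = 0 ∧
        res inf_le_left d = res inf_le_left (L (g k) i) ^ N₀ * c i k := fun i k =>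
      hN i k N₀ (Finset.le_sup (f := fun p : s × s => N p.1 p.2) (Finset.mem_univ (i, k)))
    choose d hd0 hd using hN'
    -- changing the lift does not matter on kernel elements
    have hswap : ∀ (b : Γ(Z, ⊤)) (i j : s) (W : X.Opens) (hi : W ≤ V i) (hj : W ≤ V j) (n : ℕ)
        (e : Γ(X, W)), t.app W e = 0 → res hi (L b i) ^ n * e = res hj (L b j) ^ n * e := by
      intro b i j W hi hj n e he
      rw [← sub_eq_zero, ← sub_mul]
      refine hsq W _ e ?_ he
      rw [map_sub, map_pow, map_pow, app_res, app_res, hL, hL, res_res, res_res, sub_self]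
    have he : ∀ i j k : s, ∃ M : ℕ, ∀ m ≥ M,
        res inf_le_left (L (g k) i) ^ m *
          (res inf_le_left (d i k) - res inf_le_right (d j k) -
            res inf_le_left (L (g k) i) ^ N₀ * c i j) = (0 : Γ(X, V i ⊓ V j)) := by
      intro i j k
      have hW : V i ⊓ V j ⊓ V k = X.basicOpen
          (res (inf_le_left : V i ⊓ V j ≤ V i) (L (g k) i)) := by
        rw [res, Scheme.basicOpen_res, ← hVV]
        ac_rfl
      refine exists_pow_mul_eq_zero (hVV i j ▸ (hVaff i).basicOpen _) _ hW inf_le_left _ ?_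
      have h1 : V i ⊓ V j ⊓ V k ≤ V i ⊓ V k := le_inf (inf_le_left.trans inf_le_left) inf_le_right
      have h2 : V i ⊓ V j ⊓ V k ≤ V j ⊓ V k := le_inf (inf_le_left.trans inf_le_right) inf_le_right
      have e1 := congrArg (res h1) (hd i k)
      have e2 := congrArg (res h2) (hd j k)
      simp only [res, map_mul, map_pow] at e1 e2
      simp only [res, map_sub, map_mul, map_pow]
      simp only [← CommRingCat.comp_apply, ← Functor.map_comp, ← op_comp, homOfLE_comp] at e1 e2 ⊢
      rw [e1, e2]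
      have e3 := hswap (g k) j i (V i ⊓ V j ⊓ V k) (inf_le_left.trans inf_le_right)
        (inf_le_left.trans inf_le_left) N₀ (res h2 (c j k))
        (by rw [app_res, hker a j k _ _ _]; exact map_zero _)
      simp only [res] at e3
      rw [e3, ← mul_sub, ← mul_sub]
      convert mul_zero _ using 2
      simp only [c, res, map_sub, ← CommRingCat.comp_apply, ← Functor.map_comp, ← op_comp,
        homOfLE_comp]
      abel
    choose M hM using he
    let M₀ := Finset.univ.sup fun p : s × s × s => M p.1 p.2.1 p.2.2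
    let d' : s → ∀ i : s, Γ(X, V i) := fun k i => L (g k) i ^ M₀ * d i k
    have hd'0 : ∀ i k, t.app (V i) (d' k i) = 0 := fun i k => by
      simp only [d', map_mul, hd0, mul_zero]
    have key : ∀ i j k : s, res inf_le_left (d' k i) - res inf_le_right (d' k j) =
        res inf_le_left (L (g k) i) ^ (M₀ + N₀) * c i j := by
      intro i j k
      have e1 := hM i j k M₀
        (Finset.le_sup (f := fun p : s × s × s => M p.1 p.2.1 p.2.2) (Finset.mem_univ (i, j, k)))
      have e2 := hswap (g k) j i (V i ⊓ V j) inf_le_right inf_le_left M₀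
        (res inf_le_right (d j k)) (by rw [app_res, hd0]; exact map_zero _)
      simp only [res] at e1 e2
      simp only [d', res, map_mul, map_pow]
      rw [e2, pow_add, ← sub_eq_zero, ← e1]
      ring
    have hsp := Ideal.span_pow_eq_top _ hspan (M₀ + N₀)
    rw [← Set.range_comp, Ideal.eq_top_iff_one, Ideal.mem_span_range_iff_exists_fun] at hsp
    obtain ⟨α, hα⟩ := hsp
    simp only [Function.comp_apply] at hα
    let b : ∀ i : s, Γ(X, V i) := fun i => ∑ k, L (α k) i * d' k i
    have hb0 : ∀ i, t.app (V i) (b i) = 0 := fun i => by simp [b, hd'0]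
    have hb : ∀ i j, res inf_le_left (b i) - res inf_le_right (b j) = c i j := by
      intro i j
      have hone : t.app (V i ⊓ V j) (∑ k, res inf_le_left (L (α k) i) *
          res inf_le_left (L (g k) i) ^ (M₀ + N₀) - 1) = 0 := by
        simp only [map_sub, map_sum, map_mul, map_pow, map_one, app_res, hL, res_res, sub_eq_zero]
        simp only [res, ← map_pow, ← map_mul, ← map_sum, hα, map_one]
      have hz := hsq _ _ (c i j) hone (hker a i j _ _ _)
      rw [sub_mul, one_mul, sub_eq_zero] at hz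
      rw [← hz, Finset.sum_mul]
      simp only [b, res, map_sum, map_mul, ← Finset.sum_sub_distrib]
      refine Finset.sum_congr rfl fun k _ => ?_
      have e2 := hswap (α k) j i (V i ⊓ V j) inf_le_right inf_le_left 1
        (res inf_le_right (d' k j)) (by rw [app_res, hd'0]; exact map_zero _)
      simp only [res, pow_one] at e2
      rw [e2, ← mul_sub, show _ - _ = _ from key i j k, mul_assoc]
    obtain ⟨f, hf, -⟩ := X.sheaf.existsUnique_gluing' V ⊤ (fun i => homOfLE le_top) hVtop
      (fun i => L a i - b i) (fun i j => by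
        have := hb i j
        change res inf_le_left (L a i - b i) = res inf_le_right (L a j - b j)
        simp only [c, res, map_sub] at this ⊢
        linear_combination -this)
    refine ⟨f, ?_⟩
    refine Z.sheaf.eq_of_locally_eq' (fun i => t ⁻¹ᵁ V i) ⊤ (fun i => homOfLE le_top)
      (fun z _ => ?_) _ _ fun i => ?_
    · obtain ⟨i, hi⟩ := Opens.mem_iSup.mp (hVtop (Set.mem_univ (t z)))
      exact Opens.mem_iSup.mpr ⟨i, hi⟩
    · change res (X := Z) le_top (t.appTop f) = res (X := Z) le_top a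
      have h1 : res le_top f = L a i - b i := hf i
      have h2 := app_res t (le_top : V i ≤ ⊤) f
      rw [h1, map_sub, hb0, sub_zero, hL] at h2
      exact h2.symm
  choose G hG using lift
  refine isAffine_of_isAffineOpen_basicOpen (Set.range fun i : s => G (g i)) ?_ ?_
  · have h1 := hspan
    rw [Ideal.eq_top_iff_one, Ideal.mem_span_range_iff_exists_fun] at h1
    obtain ⟨α, hα⟩ := h1
    have hu : IsUnit (∑ k, G (α k) * G (g k)) := by
      apply RingedSpace.isUnit_of_isUnit_germ X.toLocallyRingedSpace.toRingedSpace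
      intro x hx
      rw [← Scheme.mem_basicOpen _ _ x hx]
      obtain ⟨z, rfl⟩ := ht x
      change z ∈ t ⁻¹ᵁ X.basicOpen _
      rw [Scheme.preimage_basicOpen_top, map_sum]
      simp only [map_mul, hG, hα, Scheme.basicOpen_of_isUnit _ isUnit_one]
      trivial
    refine Ideal.eq_top_of_isUnit_mem _ (Ideal.sum_mem _ fun k _ => ?_) hu
    exact Ideal.mul_mem_left _ _ (Ideal.subset_span ⟨k, rfl⟩)
  · rintro _ ⟨i, rfl⟩
    rw [show X.basicOpen (G (g i)) = V i from
      preimage_inj t ht (by rw [Scheme.preimage_basicOpen_top, hG]; exact (hVg i).symm)]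
    exact hVaff i

/-- A thickening of an affine scheme with nilpotent ideal is affine. -/
theorem isAffine_of_pow_eq_bot : ∀ (m : ℕ) {X Z : Scheme.{u}} (t : Z ⟶ X) [IsClosedImmersion t]
    (_ : Function.Surjective t) [IsAffine Z] (_ : t.ker ^ (2 ^ m) = ⊥), IsAffine X := by
  intro m
  induction m with
  | zero =>
    intro X Z t _ ht _ hpow
    refine isAffine_of_sq_zero t ht (sq_zero_of_local t fun U x hx => ?_)
    obtain ⟨_, ⟨W, hW, rfl⟩, hxW, hWU⟩ :=
      X.isBasis_affineOpens.exists_subset_of_mem_open (show x ∈ (U : Set X) from hx) U.2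
    refine ⟨W, hxW, hWU, fun a b ha _ => ?_⟩
    have h := congrArg (fun I : X.IdealSheafData => I.ideal ⟨W, hW⟩) hpow
    simp only [pow_zero, pow_one,
      Scheme.IdealSheafData.ideal_bot, Pi.bot_apply, Scheme.Hom.ker_apply] at h
    have : a ∈ (⊥ : Ideal Γ(X, W)) := h ▸ ha
    rw [Ideal.mem_bot.mp this, zero_mul]
  | succ m ih =>
    intro X Z t _ ht _ hpow
    let J : X.IdealSheafData := t.ker * t.ker
    have hJ : J.subschemeι.ker ≤ t.ker := by
      rw [Scheme.IdealSheafData.ker_subschemeι]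
      exact fun U => Ideal.mul_le_left
    let s := IsClosedImmersion.lift J.subschemeι t hJ
    have hs : s ≫ J.subschemeι = t := IsClosedImmersion.lift_fac _ _ _
    haveI : IsClosedImmersion (s ≫ J.subschemeι) := by rw [hs]; infer_instance
    haveI : IsClosedImmersion s := IsClosedImmersion.of_comp_isClosedImmersion s J.subschemeι
    have hsurj : Function.Surjective s := fun y => by
      obtain ⟨z, hz⟩ := ht (J.subschemeι y)
      refine ⟨z, J.subschemeι.isClosedEmbedding.injective ?_⟩
      rw [← Scheme.Hom.comp_apply, hs, hz]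
    haveI : IsAffine J.subscheme := by
      refine isAffine_of_sq_zero s hsurj (sq_zero_of_local s fun U x hx => ?_)
      obtain ⟨O, hO, hOU⟩ := J.subschemeι.isClosedEmbedding.isInducing.isOpen_iff.mp U.2
      have hxO : J.subschemeι x ∈ O := by
        have : x ∈ J.subschemeι ⁻¹' O := hOU ▸ hx
        exact this
      obtain ⟨_, ⟨W, hW, rfl⟩, hxW, hWO⟩ :=
        X.isBasis_affineOpens.exists_subset_of_mem_open hxO hO
      refine ⟨J.subschemeι ⁻¹ᵁ W, hxW, fun y hy => ?_, ?_⟩
      · change y ∈ (U : Set J.subscheme)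
        have hy' : y ∈ J.subschemeι ⁻¹' O := hWO hy
        rw [hOU] at hy'
        exact hy'
      intro a b ha hb
      have hto : ∀ c : Γ(J.subscheme, J.subschemeι ⁻¹ᵁ W), s.app _ c = 0 →
          ∃ c' : Γ(X, W), c' ∈ t.ker.ideal ⟨W, hW⟩ ∧ J.subschemeι.app W c' = c := by
        intro c hc
        obtain ⟨c', rfl⟩ := J.subschemeι_app_surjective ⟨W, hW⟩ c
        refine ⟨c', ?_, rfl⟩
        rw [Scheme.Hom.ker_apply, RingHom.mem_ker, Scheme.Hom.congr_app hs.symm,
          CommRingCat.comp_apply, Scheme.Hom.comp_app, CommRingCat.comp_apply]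
        exact (congrArg _ hc).trans (map_zero _)
      obtain ⟨a', ha', rfl⟩ := hto a ha
      obtain ⟨b', hb', rfl⟩ := hto b hb
      rw [← map_mul]
      change a' * b' ∈ RingHom.ker (J.subschemeι.app W).hom
      rw [show (RingHom.ker (J.subschemeι.app W).hom) = J.ideal ⟨W, hW⟩ from
        J.ker_subschemeι_app ⟨W, hW⟩]
      exact Ideal.mul_mem_mul ha' hb'
    refine ih J.subschemeι (fun x => ?_) ?_
    · obtain ⟨z, hz⟩ := ht x
      exact ⟨s z, by rw [← Scheme.Hom.comp_apply, hs, hz]⟩
    · rw [Scheme.IdealSheafData.ker_subschemeι]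
      refine Scheme.IdealSheafData.ext ?_
      rw [Scheme.IdealSheafData.ideal_pow, Scheme.IdealSheafData.ideal_mul, ← sq, ← pow_mul,
        ← pow_succ', ← Scheme.IdealSheafData.ideal_pow, hpow]

theorem quasiSeparatedSpace_of_surjective (t : Z ⟶ X) [IsClosedImmersion t]
    (ht : Function.Surjective t) [QuasiSeparatedSpace Z] : QuasiSeparatedSpace X := by
  refine ⟨fun U V hUo hUc hVo hVc => ?_⟩
  have hemb := t.isClosedEmbedding
  have hQ := (‹QuasiSeparatedSpace Z›).inter_isCompact (t ⁻¹' U) (t ⁻¹' V)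
    (hUo.preimage t.continuous) (hemb.isCompact_preimage hUc)
    (hVo.preimage t.continuous) (hemb.isCompact_preimage hVc)
  rw [← Set.preimage_inter] at hQ
  rw [← Set.image_preimage_eq (U ∩ V) ht]
  exact hQ.image t.continuous

/-- A thickening of an affine scheme is affine. -/
theorem isAffine_of_surjective (t : Z ⟶ X) [IsClosedImmersion t] (ht : Function.Surjective t)
    [IsAffine Z] : IsAffine X := by
  classical
  haveI : CompactSpace X := ht.compactSpace t.continuous
  haveI : QuasiSeparatedSpace X := quasiSeparatedSpace_of_surjective t ht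
  let D := Groth.L19.Approx.fgSystem t.ker
  have hc : IsLimit ((Over.forget X).mapCone (Groth.L19.Approx.fgCone t.ker)) :=
    isLimitOfPreserves (Over.forget X) (Groth.L19.Approx.isLimitFGCone t.ker)
  haveI : IsAffine ((Over.forget X).mapCone (Groth.L19.Approx.fgCone t.ker)).pt :=
    IsAffine.of_isIso (asIso t.toImage).inv
  haveI : ∀ {i j : (Groth.L19.Approx.FGSub t.ker)ᵒᵖ} (φ : i ⟶ j),
      IsAffineHom ((D ⋙ Over.forget X).map φ) := fun φ => by
    haveI := Groth.L19.Approx.isClosedImmersion_fgSystem_map t.ker φ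
    exact inferInstanceAs (IsAffineHom (D.map φ).left)
  haveI : ∀ i, CompactSpace ((D ⋙ Over.forget X).obj i) := fun i =>
    i.unop.1.subschemeι.isClosedEmbedding.compactSpace
  haveI : ∀ i, QuasiSeparatedSpace ((D ⋙ Over.forget X).obj i) := fun i =>
    quasiSeparatedSpace_of_quasiSeparated i.unop.1.subschemeι
  obtain ⟨⟨K, hKt, hKfg⟩, hK⟩ := Scheme.exists_isAffine_of_isLimit (D ⋙ Over.forget X) _ hc
  haveI : IsAffine K.subscheme := hK
  obtain ⟨S, hSfin, hcov⟩ := Groth.L19.Approx.exists_finite_affineOpens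
    (U := (⊤ : X.Opens)) (by simpa using isCompact_univ)
  haveI : Fintype S := hSfin.fintype
  have hnil : ∀ U : X.affineOpens, ∃ n, K.ideal U ^ n = ⊥ := by
    intro U
    refine Ideal.exists_pow_le_of_le_radical_of_fg (I := K.ideal U) (J := ⊥) (fun a ha => ?_)
      (hKfg U le_top) |>.imp fun n hn => le_bot_iff.mp hn
    obtain ⟨n, hn⟩ : IsNilpotent a := by
      rw [Scheme.isNilpotent_iff_basicOpen_eq_bot_of_isCompact U.2.isCompact]
      refine preimage_inj t ht ?_
      have h0 : a ∈ RingHom.ker (t.app U).hom := by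
        rw [← Scheme.Hom.ker_apply]
        exact hKt U ha
      rw [Scheme.preimage_basicOpen, show t.app U.1 a = 0 from h0, Scheme.basicOpen_zero]
      rfl
    exact ⟨n, hn ▸ Submodule.zero_mem _⟩
  choose n hn using hnil
  obtain ⟨m, hm⟩ : ∃ m, ∀ i : S, n i.1 ≤ 2 ^ m :=
    ⟨Finset.univ.sup fun i : S => n i.1, fun i =>
      (Finset.le_sup (f := fun i => n i.1) (Finset.mem_univ i)).trans
        (Nat.lt_two_pow_self).le⟩
  refine isAffine_of_pow_eq_bot m K.subschemeι ?_ ?_
  · intro x
    obtain ⟨z, hz⟩ := ht x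
    refine ⟨IsClosedImmersion.lift K.subschemeι t
      ((Scheme.IdealSheafData.ker_subschemeι K).le.trans hKt) z, ?_⟩
    rw [← Scheme.Hom.comp_apply, IsClosedImmersion.lift_fac, hz]
  · rw [Scheme.IdealSheafData.ker_subschemeι]
    refine Scheme.IdealSheafData.ext_of_iSup_eq_top (fun i : S => i.1) hcov.symm fun i => ?_
    rw [Scheme.IdealSheafData.ideal_pow, Pi.pow_apply, Scheme.IdealSheafData.ideal_bot]
    exact le_bot_iff.mp (hn i.1 ▸ Ideal.pow_le_pow_right (hm i))

/-- A morphism becoming affine after composing with a surjective closed immersion is affine. -/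
theorem isAffineHom_of_comp {Y : Scheme.{u}} (i : Z ⟶ X) [IsClosedImmersion i]
    (hi : Function.Surjective i) (f : X ⟶ Y) [IsAffineHom (i ≫ f)] : IsAffineHom f := by
  refine ⟨fun U hU => ?_⟩
  haveI : IsClosedImmersion (i ∣_ (f ⁻¹ᵁ U)) :=
    MorphismProperty.of_isPullback (P := @IsClosedImmersion)
      (isPullback_morphismRestrict i _).flip inferInstance
  haveI : IsAffine (i ⁻¹ᵁ (f ⁻¹ᵁ U)).toScheme := hU.preimage (i ≫ f)
  refine isAffine_of_surjective (i ∣_ (f ⁻¹ᵁ U)) fun x => ?_
  obtain ⟨z, hz⟩ := hi ((f ⁻¹ᵁ U).ι x)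
  have hzU : z ∈ i ⁻¹ᵁ (f ⁻¹ᵁ U) := by
    change i z ∈ f ⁻¹ᵁ U
    rw [hz]
    exact x.2
  refine ⟨⟨z, hzU⟩, (f ⁻¹ᵁ U).ι.isOpenEmbedding.injective ?_⟩
  rw [← Scheme.Hom.comp_apply, morphismRestrict_ι]
  exact hz

end Groth.L20.ThickAffine
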