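import Groth.Agent.L20.FiberModule
import Mathlib.RingTheory.Ideal.AssociatedPrime.Basic
import Mathlib.RingTheory.LocalRing.ResidueField.Fiber

/-!
# Associated primes of fibre modules, seen on the algebra
-/

universe u

namespace Groth.L20

open TensorProduct

variable {R : Type u} [CommRing R] (p : Ideal R) [p.IsPrime] {S : Type u} [CommRing S] [Algebra R S]

theorem fiberIdeal_comap (Q : Ideal (p.Fiber S)) :
    FlatCA.fiberIdeal p (Q.comap
      (Algebra.TensorProduct.includeRight (R := R) (A := p.ResidueField) (B := S)).toRingHom) = Q := by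
  refine le_antisymm Ideal.map_comap_le fun x hx => ?_
  obtain ⟨r, hr, s, hs⟩ := Ideal.Fiber.exists_smul_eq_one_tmul p x
  have hunit : IsUnit (algebraMap R (p.Fiber S) r) := by
    rw [IsScalarTower.algebraMap_apply R p.ResidueField (p.Fiber S)]
    exact (IsUnit.mk0 _ (fun h => hr (Ideal.algebraMap_residueField_eq_zero.mp h))).map _
  have h1 : algebraMap R (p.Fiber S) r * x =
      (Algebra.TensorProduct.includeRight (R := R) (A := p.ResidueField) (B := S)).toRingHom s := by
    rw [← Algebra.smul_def, hs]; rfl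
  rw [← hunit.unit.inv_mul_cancel_left x, hunit.unit_spec, h1]
  refine Ideal.mul_mem_left _ _ (Ideal.mem_map_of_mem _ ?_)
  rw [Ideal.mem_comap, ← h1]
  exact Q.mul_mem_left _ hx

theorem exists_fiber_prime (P : Ideal S) [P.IsPrime] [hP : P.LiesOver p] :
    ∃ Q : Ideal (p.Fiber S), Q.IsPrime ∧ Q.comap
      (Algebra.TensorProduct.includeRight (R := R) (A := p.ResidueField) (B := S)).toRingHom = P := by
  have hmem : (⟨P, inferInstance⟩ : PrimeSpectrum S) ∈
      PrimeSpectrum.comap (algebraMap R S) ⁻¹' {⟨p, inferInstance⟩} := PrimeSpectrum.ext hP.over.symm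
  let e := PrimeSpectrum.preimageEquivFiber R S ⟨p, inferInstance⟩
  refine ⟨(e ⟨_, hmem⟩).asIdeal, (e ⟨_, hmem⟩).isPrime, ?_⟩
  exact congrArg (fun q => q.1.asIdeal) (e.symm_apply_apply ⟨_, hmem⟩)

theorem isPrime_fiberIdeal (P : Ideal S) [P.IsPrime] [P.LiesOver p] : (FlatCA.fiberIdeal p P).IsPrime := by
  obtain ⟨Q, hQ, h⟩ := exists_fiber_prime p P
  subst h
  rwa [fiberIdeal_comap]

theorem comap_fiberIdeal (P : Ideal S) [P.IsPrime] [P.LiesOver p] :
    (FlatCA.fiberIdeal p P).comap
      (Algebra.TensorProduct.includeRight (R := R) (A := p.ResidueField) (B := S)).toRingHom = P := by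
  obtain ⟨Q, hQ, h⟩ := exists_fiber_prime p P
  subst h
  rw [fiberIdeal_comap]

/-- A prime over `p` is associated to the fibre module iff it is the radical of an annihilator of an
element of `N ⊗ κ(p)`. -/
theorem fiberIdeal_mem_associatedPrimes_iff (N : Type u) [AddCommGroup N] [Module S N] [Module R N]
    [IsScalarTower R S N] (P : Ideal S) [P.IsPrime] [P.LiesOver p] :
    FlatCA.fiberIdeal p P ∈ associatedPrimes (p.Fiber S) (FlatCA.fiberMod p S N) ↔
      ∃ z : N ⊗[R] p.ResidueField, ∀ b : S, b ∈ P ↔ ∃ k : ℕ, (b ^ k) • z = 0 := by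
  let incl := (Algebra.TensorProduct.includeRight (R := R) (A := p.ResidueField) (B := S)).toRingHom
  let e := fiberModEquiv p S N
  have key : ∀ (w : FlatCA.fiberMod p S N) (b : S),
      b ∈ (((⊥ : Submodule (p.Fiber S) (FlatCA.fiberMod p S N)).colon {w}).radical).comap incl ↔
        ∃ k : ℕ, (b ^ k) • e w = 0 := by
    intro w b
    let _ : Algebra S (p.Fiber S) := Algebra.TensorProduct.rightAlgebra
    have : IsScalarTower S (p.Fiber S) (FlatCA.fiberMod p S N) :=
      inferInstanceAs (IsScalarTower S (p.Fiber S) ((p.Fiber S) ⊗[S] N))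
    have hk : ∀ k : ℕ, (incl b) ^ k • w = (b ^ k) • w := fun k => by
      rw [← algebraMap_smul (p.Fiber S) (b ^ k) w, ← map_pow incl]; rfl
    simp only [Ideal.mem_comap, Ideal.mem_radical_iff, Submodule.mem_colon_singleton, Submodule.mem_bot, hk]
    exact exists_congr fun k => by rw [← map_smul, LinearEquiv.map_eq_zero_iff]
  constructor
  · rintro ⟨-, w, hw⟩
    refine ⟨e w, fun b => ?_⟩
    rw [← key w b, ← hw, comap_fiberIdeal]
  · rintro ⟨z, hz⟩
    refine ⟨isPrime_fiberIdeal p P, e.symm z, ?_⟩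
    have : ((((⊥ : Submodule (p.Fiber S) (FlatCA.fiberMod p S N)).colon {e.symm z}).radical).comap incl) = P := by
      ext b
      rw [key, LinearEquiv.apply_symm_apply, hz]
    conv_lhs => rw [← this]
    exact fiberIdeal_comap p _

end Groth.L20
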