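import Groth.Agent.L18.FiberStalk
import Mathlib.AlgebraicGeometry.IdealSheaf.Subscheme
import Mathlib.AlgebraicGeometry.Properties

/-!
# The generic fibres of a reduced scheme are reduced
-/

set_option autoImplicit false
set_option linter.style.haveILetI false
set_option backward.isDefEq.respectTransparency.types false
universe u

open CategoryTheory AlgebraicGeometry TopologicalSpace IsLocalRing

noncomputable section

namespace Groth.L20.RedGeneric

variable {Y : Scheme.{u}}

theorem isNilpotent_of_maximal {η : Y} (hmax : ∀ z : Y, z ⤳ η → z = η) {t : Y.presheaf.stalk η}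
    (ht : t ∈ maximalIdeal (Y.presheaf.stalk η)) : IsNilpotent t := by
  refine nilpotent_iff_mem_prime.2 fun Q hQ => ?_
  have h1 : Y.fromSpecStalk η ⟨Q, hQ⟩ = η := hmax _ (by
    rw [← Set.mem_ofPred_eq (p := fun z => z ⤳ η), ← Y.range_fromSpecStalk]; exact ⟨_, rfl⟩)
  have h2 : (⟨Q, hQ⟩ : PrimeSpectrum (Y.presheaf.stalk η)) = closedPoint _ :=
    (Y.fromSpecStalk η).isEmbedding.injective (h1.trans Scheme.fromSpecStalk_closedPoint.symm)
  rw [show Q = maximalIdeal _ from congrArg PrimeSpectrum.asIdeal h2]
  exact ht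

theorem isReduced_fiber_of_maximal {Z : Scheme.{u}} [IsReduced Z] (f : Z ⟶ Y) {η : Y}
    (hmax : ∀ z : Y, z ⤳ η → z = η) : IsReduced (f.fiber η) := by
  haveI : ∀ v, _root_.IsReduced ((f.fiber η).presheaf.stalk v) := fun v => by
    obtain ⟨hsurj, hker⟩ := Groth.L18.stalkMap_fiberι f η v
    have hfv : f (f.fiberι η v) = η := by
      have : f.fiberι η v ∈ f ⁻¹' {η} := by rw [← f.range_fiberι]; exact ⟨v, rfl⟩
      exact this
    have hbot : RingHom.ker ((f.fiberι η).stalkMap v).hom = ⊥ := by
      rw [hker, eq_bot_iff, Ideal.map_le_iff_le_comap]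
      intro t ht
      have : IsNilpotent t := isNilpotent_of_maximal (fun z hz => (hmax z (hfv ▸ hz)).trans hfv.symm) ht
      exact (this.map (f.stalkMap (f.fiberι η v)).hom).eq_zero
    exact isReduced_of_injective (RingEquiv.ofBijective _ ⟨(RingHom.injective_iff_ker_eq_bot _).2 hbot, hsurj⟩).symm.toRingHom
      (RingEquiv.injective _)
  exact isReduced_of_isReduced_stalk _

theorem maximal_of_isGenericPoint {η : Y} {W : Set Y} (hW : W ∈ irreducibleComponents Y) (hη : IsGenericPoint η W)
    (z : Y) (hz : z ⤳ η) : z = η := by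
  have h1 : W ⊆ closure {z} := hη ▸ closure_minimal (Set.singleton_subset_iff.2 hz.mem_closure) isClosed_closure
  have h2 : closure ({z} : Set Y) ⊆ W := hW.2 isIrreducible_singleton.closure h1
  exact (hz.antisymm (hη.specializes (h2 (subset_closure rfl)))).eq

theorem isReduced_nilradical_subscheme (X : Scheme.{u}) : IsReduced X.nilradical.subscheme := by
  rw [IsReduced.iff_of_openCover _ X.nilradical.subschemeCover.openCover]
  intro U
  show IsReduced (Spec (.of (Γ(X, U.1) ⧸ X.nilradical.ideal U)))
  have : _root_.IsReduced (Γ(X, U.1) ⧸ X.nilradical.ideal U) :=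
    (Ideal.isRadical_iff_quotient_reduced _).1 (Ideal.radical_isRadical ((⊥ : X.IdealSheafData).ideal U))
  infer_instance

end Groth.L20.RedGeneric
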