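import Groth.Agent.L12.ExtSh.Pullback
import Groth.Agent.L12.ExtSh.Exterior
import Groth.Agent.L12.ExtSh.Unique
import Groth.Agent.L16.AffineBC.Pullback
import Groth.Agent.L14.DeRham.ExtBaseChange
import Groth.Agent.L29.DCoh.QCohLocal

/-!
# Exterior powers of quasi-coherent modules commute with pullback
-/

set_option autoImplicit false
set_option linter.style.haveILetI false
set_option backward.isDefEq.respectTransparency false
set_option backward.isDefEq.respectTransparency.types false

universe u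

open CategoryTheory CategoryTheory.Limits AlgebraicGeometry TopologicalSpace Opposite
open Groth.L18.Frame (rs ro rs_rs ro_ro rs_smul rs_self ro_self pull pull_rs pull_smul)
open Groth.L16.AffineBC (pullRes isBaseChange_pull isQCoh_pullback)
open Groth.L12.ExtSh
open scoped TensorProduct

noncomputable section

namespace Groth.L20.ExtPull

/-- An exterior power of a quasi-coherent module is quasi-coherent. -/
theorem isQCoh_of_isExtPow {X : Scheme.{u}} {E L : X.Modules} {i : ℕ} [Coh.IsQCoh E]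
    (hL : ExtPow.IsExtPow i E L) : Coh.IsQCoh L := by
  obtain ⟨e⟩ := nonempty_iso_of_isExtPow hL (isExtPow_wedgeMod E i)
  exact Groth.L29.DC.isQCoh_of_iso' e.symm inferInstance

/-- Being an exterior power is invariant under isomorphisms of the base module. -/
theorem isExtPow_congr {X : Scheme.{u}} {E E' L : X.Modules} {i : ℕ} (e : E ≅ E')
    (hL : ExtPow.IsExtPow i E L) : ExtPow.IsExtPow i E' L := by
  obtain ⟨φ, hφ⟩ := hL
  let ε : ∀ U : X.Opens, Γ(E, U) ≃ₗ[Γ(X, U)] Γ(E', U) := fun U =>
    LinearEquiv.ofLinearMap (Groth.L04.KSh.appₗ e.hom U) (Groth.L04.KSh.appₗ e.inv U)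
      (LinearMap.ext fun s => by
        show e.hom.app U (e.inv.app U s) = s
        exact congr($(congrArg (fun k => Scheme.Modules.Hom.app k U) e.inv_hom_id) s))
      (LinearMap.ext fun s => by
        show e.inv.app U (e.hom.app U s) = s
        exact congr($(congrArg (fun k => Scheme.Modules.Hom.app k U) e.hom_inv_id) s))
  let w : ∀ U : X.affineOpens,
      ↥(⋀[Γ(X, U.1)]^i (E.val.obj (op U.1))) ≃ₗ[Γ(X, U.1)] ↥(⋀[Γ(X, U.1)]^i (E'.val.obj (op U.1))) := fun U =>
    LinearEquiv.ofLinearMap (exteriorPower.map i (ε U.1).toLinearMap) (exteriorPower.map i (ε U.1).symm.toLinearMap)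
      (by rw [← exteriorPower.map_comp, LinearEquiv.comp_coe, LinearEquiv.symm_trans_self]; exact exteriorPower.map_id)
      (by rw [← exteriorPower.map_comp, LinearEquiv.comp_coe, LinearEquiv.self_trans_symm]; exact exteriorPower.map_id)
  have hw : ∀ (U : X.affineOpens) (v : Fin i → Γ(E', U.1)), (w U).symm (exteriorPower.ιMulti _ i v) =
      exteriorPower.ιMulti Γ(X, U.1) i (M := E.val.obj (op U.1)) (fun j => (ε U.1).symm (v j)) :=
    fun U v => exteriorPower.map_apply_ιMulti _ _
  refine ⟨fun U => (φ U).trans (w U), fun U V h v => ?_⟩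
  show L.val.map (homOfLE h).op ((φ U).symm ((w U).symm _)) = (φ V).symm ((w V).symm _)
  rw [hw, hw]
  refine (hφ U V h _).trans ?_
  refine congrArg (fun z => (φ V).symm (exteriorPower.ιMulti _ i z)) (funext fun j => ?_)
  exact (PresheafOfModules.naturality_apply e.inv.val (homOfLE h).op (v j)).symm

variable {X T : Scheme.{u}} (f : T ⟶ X) {E L : X.Modules} {L' : T.Modules} {i : ℕ}

/-- Exterior powers of quasi-coherent modules commute with pullback. -/
theorem nonempty_pullback_extPow_iso_qcoh [Coh.IsQCoh E] (hL : ExtPow.IsExtPow i E L)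
    (hL' : ExtPow.IsExtPow i ((Scheme.Modules.pullback f).obj E) L') :
    Nonempty ((Scheme.Modules.pullback f).obj L ≅ L') := by
  haveI : Coh.IsQCoh L := isQCoh_of_isExtPow hL
  obtain ⟨φ, hφ⟩ := hL
  obtain ⟨ψ, hψ⟩ := hL'
  obtain ⟨a, ha⟩ := exists_comparison f ψ hψ φ hφ
  let α := Groth.L18.PBundle.adjHom a
  have hbij : ∀ V : T.affineOpens, (∃ U : X.affineOpens, V.1 ≤ f ⁻¹ᵁ U.1) → Function.Bijective (α.app V.1) := by
    rintro V ⟨U, e⟩
    let PE := (Scheme.Modules.pullback f).obj E
    let PL := (Scheme.Modules.pullback f).obj L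
    letI : Algebra Γ(X, U.1) Γ(T, V.1) := (f.appLE U.1 V.1 e).hom.toAlgebra
    letI : Module Γ(X, U.1) Γ(PE, V.1) := Module.compHom _ (f.appLE U.1 V.1 e).hom
    haveI : IsScalarTower Γ(X, U.1) Γ(T, V.1) Γ(PE, V.1) := IsScalarTower.of_algebraMap_smul fun _ _ => rfl
    letI : Module Γ(X, U.1) Γ(PL, V.1) := Module.compHom _ (f.appLE U.1 V.1 e).hom
    haveI : IsScalarTower Γ(X, U.1) Γ(T, V.1) Γ(PL, V.1) := IsScalarTower.of_algebraMap_smul fun _ _ => rfl
    have hE : IsBaseChange Γ(T, V.1) (pullRes f E e) := isBaseChange_pull f E U.2 V.2 e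
    have hLb : IsBaseChange Γ(T, V.1) (pullRes f L e) := isBaseChange_pull f L U.2 V.2 e
    let l : Γ(PL, V.1) →ₗ[Γ(T, V.1)] ↥(⋀[Γ(T, V.1)]^i Γ(PE, V.1)) :=
      (ψ V).toLinearMap.comp (Groth.L04.KSh.appₗ α V.1)
    let Ψ : ↥(⋀[Γ(X, U.1)]^i Γ(E, U.1)) →ₗ[Γ(X, U.1)] ↥(⋀[Γ(T, V.1)]^i Γ(PE, V.1)) :=
      (l.restrictScalars Γ(X, U.1)).comp ((pullRes f L e).comp (φ U).symm.toLinearMap)
    have hΨ : ∀ v, Ψ (exteriorPower.ιMulti Γ(X, U.1) i v) =
        exteriorPower.ιMulti Γ(T, V.1) i fun j => pullRes f E e (v j) := by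
      intro v
      show ψ V (α.app V.1 (rs PL e (pull f L U.1 ((φ U).symm _)))) = _
      rw [Groth.L19.ProjBdl.app_rs, Groth.L18.PBundle.adjHom_pull]
      refine (congrArg (fun z => ψ V (rs L' e z)) (ha U v)).trans ?_
      refine (congrArg (ψ V) (rs_wedgeSec f ψ hψ U.1 v V e)).trans ?_
      exact (ψ V).apply_symm_apply _
    have hj : Function.Bijective ((pullRes f E e).liftBaseChange Γ(T, V.1)) := by
      have he : ⇑((pullRes f E e).liftBaseChange Γ(T, V.1)) = hE.equiv := by
        funext z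
        induction z using TensorProduct.induction_on with
        | zero => simp
        | tmul b m => rw [LinearMap.liftBaseChange_tmul, IsBaseChange.equiv_tmul]
        | add p q hp hq => rw [map_add, map_add, hp, hq]
      exact he ▸ hE.equiv.bijective
    have hb := Groth.L14.DeRham.bijective_ext_baseChange (pullRes f E e) hj i (Ψ.liftBaseChange Γ(T, V.1))
      fun v => by rw [LinearMap.liftBaseChange_tmul, one_smul, hΨ]
    have key : ∀ z : Γ(T, V.1) ⊗[Γ(X, U.1)] Γ(L, U.1),
        l (hLb.equiv z) = Ψ.liftBaseChange Γ(T, V.1) ((φ U).toLinearMap.lTensor Γ(T, V.1) z) := by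
      intro z
      induction z using TensorProduct.induction_on with
      | zero => simp
      | tmul b m =>
        rw [IsBaseChange.equiv_tmul, map_smul, LinearMap.lTensor_tmul, LinearMap.liftBaseChange_tmul]
        exact congrArg (fun y => b • l (pullRes f L e y)) ((φ U).symm_apply_apply m).symm
      | add p q hp hq => rw [map_add, map_add, hp, hq, map_add, map_add]
    have h1 : Function.Bijective ((φ U).toLinearMap.lTensor Γ(T, V.1)) :=
      (TensorProduct.congr (LinearEquiv.refl Γ(X, U.1) Γ(T, V.1)) (φ U)).bijective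
    have h2 : Function.Bijective (⇑l ∘ ⇑hLb.equiv) := by
      rw [show ⇑l ∘ ⇑hLb.equiv = ⇑(Ψ.liftBaseChange Γ(T, V.1)) ∘ ⇑((φ U).toLinearMap.lTensor Γ(T, V.1)) from
        funext key]
      exact hb.comp h1
    have h3 : Function.Bijective l := (Function.Bijective.of_comp_iff _ hLb.equiv.bijective).1 h2
    exact (Function.Bijective.of_comp_iff' (ψ V).bijective _).1 h3
  obtain ⟨e, -⟩ := exists_iso_of_good (M := (Scheme.Modules.pullback f).obj L) (N := L')
    (G := fun V => ∃ U : X.affineOpens, V.1 ≤ f ⁻¹ᵁ U.1)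
    (fun t W ht => by
      obtain ⟨U, hxU, -⟩ := Groth.L22.WedgePair.exists_affine_mem (⊤ : X.Opens) (x := f t) trivial
      obtain ⟨V, htV, hVW⟩ := Groth.L22.WedgePair.exists_affine_mem (W ⊓ f ⁻¹ᵁ U.1) (x := t) ⟨ht, hxU⟩
      exact ⟨V, ⟨U, hVW.trans inf_le_right⟩, htV, hVW.trans inf_le_left⟩)
    (fun V hV => LinearEquiv.ofBijective
      { toFun := α.app V.1
        map_add' := fun s t => map_add _ s t
        map_smul' := fun r s => α.app_smul r s } (hbij V hV))
    fun V W _ _ h s => Groth.L19.ProjBdl.app_rs α h s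
  exact ⟨e⟩

/-- The pullback of an exterior power is an exterior power of the pullback. -/
theorem isExtPow_pullback [Coh.IsQCoh E] (hL : ExtPow.IsExtPow i E L) :
    ExtPow.IsExtPow i ((Scheme.Modules.pullback f).obj E) ((Scheme.Modules.pullback f).obj L) := by
  haveI := isQCoh_pullback f E
  obtain ⟨L', hL'⟩ := exists_isExtPow ((Scheme.Modules.pullback f).obj E) i
  obtain ⟨e⟩ := nonempty_pullback_extPow_iso_qcoh f hL hL'
  exact isExtPow_of_iso e.symm hL'

end Groth.L20.ExtPull
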