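import Groth.Agent.L20.WeaklyEtale
import Mathlib.RingTheory.Localization.BaseChange
import Mathlib.RingTheory.RingHom.Flat

/-!
# Weakly étale maps and localization
-/

universe u

open TensorProduct

namespace Groth.L20

variable {A B : Type u} [CommRing A] [CommRing B] [Algebra A B]

theorem flat_lmul'_congr_localization (S : Submonoid A) (Ap Bq : Type u) [CommRing Ap] [CommRing Bq]
    [Algebra A Ap] [IsLocalization S Ap] [Algebra A Bq] [Algebra Ap Bq] [IsScalarTower A Ap Bq] :
    (Algebra.TensorProduct.lmul' Ap (S := Bq)).toRingHom.Flat ↔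
      (Algebra.TensorProduct.lmul' A (S := Bq)).toRingHom.Flat := by
  have := IsLocalization.tensorProduct_compatibleSMul S Ap Bq Bq
  let e : Bq ⊗[Ap] Bq ≃ₐ[A] Bq ⊗[A] Bq := Algebra.TensorProduct.equivOfCompatibleSMul A Ap A Bq Bq
  have he : (Algebra.TensorProduct.lmul' Ap (S := Bq)).toRingHom =
      (Algebra.TensorProduct.lmul' A (S := Bq)).toRingHom.comp e.toAlgHom.toRingHom := by
    apply RingHom.ext
    intro x
    induction x using TensorProduct.induction_on with
    | zero => simp
    | tmul a b =>
      change Algebra.TensorProduct.lmul' Ap (a ⊗ₜ[Ap] b) = Algebra.TensorProduct.lmul' A (a ⊗ₜ[A] b)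
      simp
    | add a b ha hb => rw [map_add, map_add, ha, hb]
  rw [he]
  exact ⟨fun h => (RingHom.Flat.comp_iff_of_bijective_right e.bijective).mp h,
    fun h => (RingHom.Flat.comp_iff_of_bijective_right e.bijective).mpr h⟩

theorem weaklyEtale_isLocalization (T : Submonoid B) (Bq : Type u) [CommRing Bq] [Algebra B Bq]
    [IsLocalization T Bq] : Algebra.WeaklyEtale B Bq := by
  refine ⟨IsLocalization.flat Bq T, ?_⟩
  rw [← flat_lmul'_congr_localization T Bq Bq]
  refine RingHom.Flat.of_bijective ⟨?_, fun x => ⟨x ⊗ₜ 1, by simp⟩⟩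
  intro x y hxy
  have key : ∀ z : Bq ⊗[Bq] Bq, Algebra.TensorProduct.lmul' Bq (S := Bq) z = TensorProduct.lid Bq Bq z := by
    intro z
    induction z using TensorProduct.induction_on with
    | zero => simp
    | tmul a b => simp
    | add a b ha hb => simp [ha, hb]
  apply (TensorProduct.lid Bq Bq).injective
  rw [← key, ← key]
  exact hxy

theorem weaklyEtale_of_isLocalization [Algebra.WeaklyEtale A B] (S : Submonoid A) (T : Submonoid B)
    (Ap Bq : Type u) [CommRing Ap] [CommRing Bq] [Algebra A Ap] [IsLocalization S Ap] [Algebra B Bq]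
    [IsLocalization T Bq] [Algebra A Bq] [IsScalarTower A B Bq] [Algebra Ap Bq]
    [IsScalarTower A Ap Bq] : Algebra.WeaklyEtale Ap Bq := by
  have := weaklyEtale_isLocalization T Bq
  have h := Algebra.WeaklyEtale.trans A B Bq
  exact ⟨(Module.flat_iff_of_isLocalization Ap S Bq).mpr h.flat,
    (flat_lmul'_congr_localization S Ap Bq).mpr h.flat_lmul'⟩

theorem weaklyEtale_of_forall_maximal
    (h : ∀ (q : Ideal B) [q.IsMaximal], ∃ (Bq : Type u) (_ : CommRing Bq) (_ : Algebra B Bq)
      (_ : Algebra A Bq) (_ : IsScalarTower A B Bq), IsLocalization q.primeCompl Bq ∧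
      Module.Flat A Bq ∧ (Algebra.TensorProduct.lmul' A (S := Bq)).toRingHom.Flat) :
    Algebra.WeaklyEtale A B := by
  choose Bq i₁ i₂ i₃ i₄ hloc hflat hlmul using h
  refine ⟨?_, ?_⟩
  · exact Module.flat_of_isLocalized_maximal B B (fun q => Bq q)
      (fun q => Algebra.linearMap B (Bq q)) fun q _ => hflat q
  · let μ := Algebra.TensorProduct.lmul' A (S := B)
    let _ : Algebra (B ⊗[A] B) B := μ.toRingHom.toAlgebra
    let inst : ∀ (q : Ideal B) [q.IsMaximal], Module (B ⊗[A] B) (Bq q) :=
      fun q _ => Module.compHom (Bq q) μ.toRingHom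
    have : ∀ (q : Ideal B) [q.IsMaximal], IsScalarTower (B ⊗[A] B) B (Bq q) := fun q _ =>
      ⟨fun d b m => by
        change (μ d * b) • m = μ d • (b • m)
        rw [mul_smul]⟩
    show Module.Flat (B ⊗[A] B) B
    refine Module.flat_of_isLocalized_maximal B B (fun q => Bq q)
      (fun q => Algebra.linearMap B (Bq q)) fun q _ => ?_
    let l : B →ₐ[A] Bq q := IsScalarTower.toAlgHom A B (Bq q)
    have hl : (algebraMap B (Bq q)).Flat :=
      RingHom.flat_algebraMap_iff.mpr (IsLocalization.flat (Bq q) q.primeCompl)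
    have hcomp : ((Algebra.TensorProduct.lmul' A (S := Bq q)).comp
        (Algebra.TensorProduct.map l l)).toRingHom.Flat :=
      RingHom.Flat.comp (RingHom.Flat.tensorProductMap (f := l) (g := l) hl hl) (hlmul q)
    let _ : Algebra (B ⊗[A] B) (Bq q) := ((algebraMap B (Bq q)).comp μ.toRingHom).toAlgebra
    have e : ((Algebra.TensorProduct.lmul' A (S := Bq q)).comp
        (Algebra.TensorProduct.map l l)).toRingHom = (algebraMap B (Bq q)).comp μ.toRingHom := by
      apply RingHom.ext
      intro x
      induction x using TensorProduct.induction_on with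
      | zero => simp
      | tmul a b => simp [μ, l]
      | add a b ha hb => rw [map_add, map_add, ha, hb]
    rw [e] at hcomp
    have h' : @Module.Flat (B ⊗[A] B) (Bq q) _ _ Algebra.toModule := hcomp
    have hmod : (Algebra.toModule : Module (B ⊗[A] B) (Bq q)) = inst q := by
      refine Module.ext' _ _ fun d m => ?_
      change algebraMap B (Bq q) (μ d) * m = μ d • m
      rw [Algebra.smul_def]
    exact hmod ▸ h'

end Groth.L20
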