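import Groth.Agent.L20.TorAmpWeaklyEtale
import Groth.Agent.L05.Henselization.StrictUniq
import Groth.Agent.L27.IndEtalePerm
import Groth.Agent.L27.OlivierMain
import Groth.Agent.L25.Translate

/-!
# Weakly étale local maps and strict henselizations
-/

universe u

open IsLocalRing TensorProduct

namespace Groth.L20.StrictHensWE

set_option linter.style.haveILetI false

/-- Transport of a strict henselization along an isomorphism over the base. -/
theorem isStrictHenselization_of_ringEquiv (A S R : Type u) [CommRing A] [IsLocalRing A] [CommRing S]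
    [IsLocalRing S] [CommRing R] [IsLocalRing R] [Algebra A S] [IsLocalHom (algebraMap A S)]
    [hS : Hensel.IsStrictHenselization A S] [Algebra A R] [IsLocalHom (algebraMap A R)] (g : S ≃+* R)
    (hg : g.toRingHom.comp (algebraMap A S) = algebraMap A R) : Hensel.IsStrictHenselization A R := by
  let κ : ResidueField S ≃+* ResidueField R := ResidueField.mapEquiv g
  have hκ : ∀ x : S, κ (residue S x) = residue R (g x) := fun x => rfl
  have hκA : κ.toRingHom.comp (ResidueField.map (algebraMap A S)) = ResidueField.map (algebraMap A R) := by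
    refine RingHom.ext fun x => ?_
    obtain ⟨a, rfl⟩ := residue_surjective x
    change κ (residue S (algebraMap A S a)) = residue R (algebraMap A R a)
    rw [hκ, ← hg]; rfl
  refine { henselian := ?_, isSepClosure := ?_, universal := ?_ }
  · haveI := hS.henselian
    refine ⟨fun f hf a₀ h₁ h₂ => ?_⟩
    have hev : ∀ (q : Polynomial R) (x : R), (q.map g.symm.toRingHom).eval (g.symm x) = g.symm (q.eval x) :=
      fun q x => by rw [Polynomial.eval_map]; exact Polynomial.eval₂_at_apply _ _
    obtain ⟨a, ha, ha'⟩ := HenselianLocalRing.is_henselian (f.map g.symm.toRingHom) (hf.map _) (g.symm a₀)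
      (by rw [hev]; exact (mem_maximalIdeal _).mpr fun hu => (mem_maximalIdeal _).mp h₁ (by simpa using hu.map g))
      (by rw [Polynomial.derivative_map, hev]; exact h₂.map g.symm)
    refine ⟨g a, ?_, ?_⟩
    · apply g.symm.injective
      rw [map_zero, ← hev, g.symm_apply_apply]
      exact ha
    · refine (mem_maximalIdeal _).mpr fun hu => (mem_maximalIdeal _).mp ha' ?_
      simpa using hu.map g.symm
  · let _ : Algebra (ResidueField S) (ResidueField R) := κ.toRingHom.toAlgebra
    have : IsScalarTower (ResidueField A) (ResidueField S) (ResidueField R) :=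
      IsScalarTower.of_algebraMap_eq' hκA.symm
    let e : ResidueField S ≃ₐ[ResidueField A] ResidueField R :=
      AlgEquiv.ofRingEquiv (f := κ) fun x => DFunLike.congr_fun hκA x
    have h1 := hS.isSepClosure.separable
    have h2 := hS.isSepClosure.sep_closed
    exact ⟨IsSepClosed.of_exists_root _ fun p hp hirr hsep => by
      obtain ⟨x, hx⟩ := IsSepClosed.exists_root (p.map κ.symm.toRingHom)
        (by rw [Polynomial.degree_map]; exact (Polynomial.degree_pos_of_irreducible hirr).ne')
        (hsep.map)
      refine ⟨κ x, ?_⟩
      apply κ.symm.injective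
      rw [map_zero, show κ.symm (p.eval (κ x)) = (p.map κ.symm.toRingHom).eval x by
        rw [Polynomial.eval_map]
        simpa using (Polynomial.eval₂_at_apply κ.symm.toRingHom (κ x) (p := p)).symm]
      exact hx, AlgEquiv.Algebra.isSeparable e⟩
  · intro T _ _ f _ τ hτ
    obtain ⟨h, ⟨h1, h2⟩, hu⟩ := hS.universal T f (τ.comp κ.toRingHom) (by
      rw [RingHom.comp_assoc, hκA, hτ])
    refine ⟨h.comp g.symm.toRingHom, ⟨?_, fun x => ?_⟩, fun h' ⟨h1', h2'⟩ => ?_⟩
    · refine RingHom.ext fun a => ?_
      change h (g.symm (algebraMap A R a)) = f a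
      rw [← hg]
      change h (g.symm (g (algebraMap A S a))) = f a
      rw [g.symm_apply_apply]
      exact DFunLike.congr_fun h1 a
    · change residue T (h (g.symm x)) = _
      rw [h2]
      change τ (κ (residue S (g.symm x))) = _
      rw [hκ, g.apply_symm_apply]
    · have := hu (h'.comp g.toRingHom) ⟨by rw [RingHom.comp_assoc, hg, h1'], fun x => by
        change residue T (h' (g x)) = τ (κ (residue S x))
        rw [h2', hκ]⟩
      rw [← this]
      refine RingHom.ext fun x => ?_
      change h' x = h' (g (g.symm x))
      rw [g.apply_symm_apply]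

/-- A local map is weakly étale iff strict henselizations agree. -/
theorem weaklyEtale_iff (A C : Type u) [CommRing A] [IsLocalRing A] [CommRing C] [IsLocalRing C]
    [Algebra A C] [IsLocalHom (algebraMap A C)] :
    Algebra.WeaklyEtale A C ↔ ∀ (R : Type u) [CommRing R] [IsLocalRing R] [Algebra C R]
      [IsLocalHom (algebraMap C R)] [Hensel.IsStrictHenselization C R],
      letI : Algebra A R := ((algebraMap C R).comp (algebraMap A C)).toAlgebra
      ∃ _ : IsLocalHom (algebraMap A R), Hensel.IsStrictHenselization A R := by
  constructor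
  · intro hAC R _ _ _ _ hR
    letI : Algebra A R := ((algebraMap C R).comp (algebraMap A C)).toAlgebra
    haveI : IsScalarTower A C R := IsScalarTower.of_algebraMap_eq' rfl
    haveI : IsLocalHom (algebraMap A R) := RingHom.isLocalHom_comp _ _
    refine ⟨inferInstance, ?_⟩
    haveI : Algebra.WeaklyEtale C R :=
      Groth.L27.IndEtale.weaklyEtale _ _ (Groth.L05.Henselization.isIndEtale_of_isStrictHenselization C R)
    haveI := Algebra.WeaklyEtale.trans A C R
    obtain ⟨S, _, _, _, _, hS⟩ := Groth.L05.Henselization.exists_isStrictHenselization A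
    haveI := hR.henselian
    haveI : IsSepClosed (ResidueField R) := hR.isSepClosure.sep_closed
    haveI : Algebra.IsSeparable (ResidueField A) (ResidueField S) := hS.isSepClosure.separable
    let τ : ResidueField S →ₐ[ResidueField A] ResidueField R := IsSepClosed.lift
    obtain ⟨g, ⟨hg, hgr⟩, -⟩ := hS.universal R (algebraMap A R) τ.toRingHom τ.comp_algebraMap
    letI : Algebra S R := g.toAlgebra
    haveI : IsScalarTower A S R := IsScalarTower.of_algebraMap_eq' hg.symm
    haveI : IsLocalHom (algebraMap S R) := ⟨fun s hs => by
      by_contra h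
      have h0 : residue S s = 0 := (residue_eq_zero_iff s).mpr ((mem_maximalIdeal s).mpr h)
      have h2 := hgr s
      rw [h0, map_zero, residue_eq_zero_iff] at h2
      exact (mem_maximalIdeal _).mp h2 hs⟩
    haveI : Algebra.WeaklyEtale A S :=
      Groth.L27.IndEtale.weaklyEtale _ _ (Groth.L05.Henselization.isIndEtale_of_isStrictHenselization A S)
    obtain ⟨hflat, hμ⟩ := Groth.L20.TorAmp.weaklyEtale_cancel A S R
    haveI : Algebra.WeaklyEtale S R := ⟨hflat, hμ⟩
    haveI := hS.henselian
    haveI : IsSepClosed (ResidueField S) := hS.isSepClosure.sep_closed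
    exact isStrictHenselization_of_ringEquiv A S R
      (RingEquiv.ofBijective (algebraMap S R) (Groth.L27.Olivier.bijective_algebraMap S R)) hg
  · intro h
    obtain ⟨R, _, _, _, _, hR⟩ := Groth.L05.Henselization.exists_isStrictHenselization C
    letI : Algebra A R := ((algebraMap C R).comp (algebraMap A C)).toAlgebra
    haveI : IsScalarTower A C R := IsScalarTower.of_algebraMap_eq' rfl
    obtain ⟨_, hAR⟩ := h R
    haveI : Algebra.WeaklyEtale A R :=
      Groth.L27.IndEtale.weaklyEtale _ _ (Groth.L05.Henselization.isIndEtale_of_isStrictHenselization A R)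
    haveI : Algebra.WeaklyEtale C R :=
      Groth.L27.IndEtale.weaklyEtale _ _ (Groth.L05.Henselization.isIndEtale_of_isStrictHenselization C R)
    haveI : Module.FaithfullyFlat C R := Groth.L05.Henselization.faithfullyFlat_of_flat_local
    refine ⟨Groth.L25.Translate.flat_of_comp_faithfullyFlat (R := A) (S := C) (T := R), ?_⟩
    let μC := (Algebra.TensorProduct.lmul' A (S := C)).toRingHom
    let φ : C →ₐ[A] R := IsScalarTower.toAlgHom A C R
    have hφ : φ.Flat := RingHom.flat_algebraMap_iff.mpr (inferInstanceAs (Module.Flat C R))
    have hμ : ((algebraMap C R).comp μC).Flat := by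
      have e : (algebraMap C R).comp μC = (Algebra.TensorProduct.lmul' A (S := R)).toRingHom.comp
          (Algebra.TensorProduct.map φ φ).toRingHom := RingHom.ext fun z => by
        induction z using TensorProduct.induction_on with
        | zero => simp
        | add z w hz hw => rw [map_add, map_add, hz, hw]
        | tmul x y => simp [μC, φ]
      rw [e]
      exact RingHom.Flat.comp (RingHom.Flat.tensorProductMap hφ hφ) (Algebra.WeaklyEtale.flat_lmul' A R)
    letI : Algebra (C ⊗[A] C) C := μC.toAlgebra
    letI : Algebra (C ⊗[A] C) R := ((algebraMap C R).comp μC).toAlgebra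
    haveI : Module.Flat (C ⊗[A] C) R := hμ
    haveI : IsScalarTower (C ⊗[A] C) C R := IsScalarTower.of_algebraMap_eq' rfl
    exact Groth.L25.Translate.flat_of_comp_faithfullyFlat (R := C ⊗[A] C) (S := C) (T := R)

end Groth.L20.StrictHensWE
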