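import Groth.Prelude.Def_DDual2
import Groth.Agent.L02.PC.Basic
import Groth.Agent.L02.Flat
import Groth.Agent.L07.GrModel
import Groth.Agent.L20.WeaklyEtale
import Mathlib.Algebra.Homology.Embedding.CochainComplex
import Mathlib.Algebra.Category.ModuleCat.Kernels
import Mathlib.Algebra.Category.ModuleCat.ChangeOfRings

/-!
# Tor amplitude along weakly étale ring maps
-/

universe u

open CategoryTheory CategoryTheory.Limits CategoryTheory.Pretriangulated

attribute [local instance] HasDerivedCategory.standard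

namespace Groth.L20.TorAmp

set_option linter.style.haveILetI false

variable {A : Type u} [CommRing A]

/-- The degree `i` part of the differential of a cone, on pairs. -/
def D {X Y : DRing.Cx A} (f : X ⟶ Y) (i j k : ℤ) : (X.X j × Y.X i) →ₗ[A] (X.X k × Y.X j) :=
  LinearMap.prod (-(X.d j k).hom ∘ₗ LinearMap.fst A _ _)
    ((f.f j).hom ∘ₗ LinearMap.fst A _ _ + (Y.d i j).hom ∘ₗ LinearMap.snd A _ _)

theorem D_apply {X Y : DRing.Cx A} (f : X ⟶ Y) (i j k : ℤ) (x : X.X j) (y : Y.X i) :
    D f i j k (x, y) = (-(X.d j k x), f.f j x + Y.d i j y) := rfl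

theorem d_d_apply (X : DRing.Cx A) (i j k : ℤ) (x : X.X i) : X.d j k (X.d i j x) = 0 := by
  rw [← ModuleCat.comp_apply, X.d_comp_d]; rfl

theorem comm_apply {X Y : DRing.Cx A} (f : X ⟶ Y) (i j : ℤ) (x : X.X i) :
    f.f j (X.d i j x) = Y.d i j (f.f i x) := by
  rw [← ModuleCat.comp_apply, ← ModuleCat.comp_apply, f.comm]

theorem D_D {X Y : DRing.Cx A} (f : X ⟶ Y) (i j k l : ℤ) (w : X.X j × Y.X i) :
    D f j k l (D f i j k w) = 0 := by
  obtain ⟨x, y⟩ := w
  simp [D_apply, d_d_apply, comm_apply]

/-- The cone of a quasi-isomorphism is exact. -/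
theorem exists_D_eq {X Y : DRing.Cx A} (f : X ⟶ Y) [QuasiIso f] (h i j k : ℤ) (hhi : h + 1 = i)
    (hij : i + 1 = j) (hjk : j + 1 = k) (w : X.X j × Y.X i) (hw : D f i j k w = 0) :
    ∃ v, D f h i j v = w := by
  have hz : IsZero ((CochainComplex.mappingCone f).homology i) := by
    have hT := Groth.L02.PC.mappingCone_distinguished f
    have : IsIso (DerivedCategory.Q.map f) := by
      rw [DerivedCategory.isIso_Q_map_iff_quasiIso]; infer_instance
    have h0 : IsZero (DerivedCategory.Q.obj (CochainComplex.mappingCone f)) :=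
      (Triangle.isZero₃_iff_isIso₁ _ hT).mpr this
    exact ((DerivedCategory.homologyFunctor (ModuleCat.{u} A) i).map_isZero h0).of_iso
      ((DerivedCategory.homologyFunctorFactors (ModuleCat.{u} A) i).app _).symm
  obtain ⟨x, y⟩ := w
  rw [D_apply, Prod.mk_eq_zero, neg_eq_zero] at hw
  obtain ⟨q, z, hq, hz'⟩ := (Groth.L02.PC.coneExact_iff f h i j k hhi hij hjk).mpr hz x (-y) hw.1
    (by rw [map_neg]; exact eq_neg_of_add_eq_zero_left hw.2)
  refine ⟨(-q, -z), ?_⟩
  rw [D_apply, map_neg, map_neg, map_neg, hq, neg_neg, ← neg_add, hz', neg_neg]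

theorem flat_prod {M N : Type u} [AddCommGroup M] [AddCommGroup N] [Module A M] [Module A N]
    [Module.Flat A M] [Module.Flat A N] : Module.Flat A (M × N) :=
  Groth.L07.FlatDescent.flat_of_shortExact (LinearMap.inl A M N) (LinearMap.snd A M N)
    LinearMap.inl_injective LinearMap.snd_surjective Function.Exact.inl_snd

variable {X Y : DRing.Cx A} (f : X ⟶ Y) [QuasiIso f]

/-- The cycles of the cone of a quasi-isomorphism of bounded above flat complexes are flat. -/
theorem flat_ker (hX : DRing.TermwiseFlat X) (hY : DRing.TermwiseFlat Y) {b : ℤ}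
    (hXb : DRing.VanishesAbove X b) (hYb : DRing.VanishesAbove Y b) (i j k : ℤ) (hij : i + 1 = j)
    (hjk : j + 1 = k) : Module.Flat A (LinearMap.ker (D f i j k)) := by
  obtain ⟨n, hn⟩ : ∃ n : ℕ, b < i + n := ⟨(b + 1 - i).toNat, by omega⟩
  induction n generalizing i j k with
  | zero =>
    have := ModuleCat.subsingleton_of_isZero (hXb j (by omega))
    have := ModuleCat.subsingleton_of_isZero (hYb i (by omega))
    infer_instance
  | succ n ih =>
    have := ih j k (k + 1) hjk rfl (by omega)
    have := hX j; have := hY i; have := flat_prod (A := A) (M := X.X j) (N := Y.X i)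
    let g : (X.X j × Y.X i) →ₗ[A] LinearMap.ker (D f j k (k + 1)) :=
      (D f i j k).codRestrict _ fun w => D_D f i j k (k + 1) w
    have hg : Function.Surjective g := fun ⟨w, hw⟩ => by
      obtain ⟨v, hv⟩ := exists_D_eq f i j k (k + 1) hij hjk rfl w hw
      exact ⟨v, Subtype.ext hv⟩
    refine Groth.L02.flat_of_universallyInjective (LinearMap.ker (D f i j k)).subtype
      (Groth.L02.universallyInjective_of_flat_coker _ g Subtype.val_injective ?_ hg)
    intro w
    constructor
    · intro hw; exact ⟨⟨w, congrArg Subtype.val hw⟩, rfl⟩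
    · rintro ⟨⟨v, hv⟩, rfl⟩; exact Subtype.ext hv

/-- The cokernel of the differential into degree `a`. -/
abbrev O (X : DRing.Cx A) (h i : ℤ) : Type u := X.X i ⧸ LinearMap.range (X.d h i).hom

/-- Flatness of cokernels passes along quasi-isomorphisms of bounded above flat complexes. -/
theorem flat_O_iff {X Y : DRing.Cx A} (f : X ⟶ Y) [QuasiIso f] (hX : DRing.TermwiseFlat X) (hY : DRing.TermwiseFlat Y) {b : ℤ}
    (hXb : DRing.VanishesAbove X b) (hYb : DRing.VanishesAbove Y b) (h i j k : ℤ) (hhi : h + 1 = i)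
    (hij : i + 1 = j) (hjk : j + 1 = k) :
    Module.Flat A (O X h i) ↔ Module.Flat A (O Y h i) := by
  let u : O X h i →ₗ[A] X.X j × O Y h i :=
    (LinearMap.range (X.d h i).hom).liftQ
      (LinearMap.prod (-(X.d i j).hom) ((LinearMap.range (Y.d h i).hom).mkQ ∘ₗ (f.f i).hom)) (by
        rintro _ ⟨x, rfl⟩
        refine Prod.ext ?_ ((Submodule.Quotient.mk_eq_zero _).mpr ⟨f.f h x, (comm_apply f h i x).symm⟩)
        show -(X.d i j (X.d h i x)) = 0
        rw [d_d_apply, neg_zero])
  let v₀ : X.X j × Y.X i →ₗ[A] LinearMap.ker (D f j k (k + 1)) :=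
    (D f i j k).codRestrict _ fun w => D_D f i j k (k + 1) w
  let v : X.X j × O Y h i →ₗ[A] LinearMap.ker (D f j k (k + 1)) :=
    LinearMap.coprod (v₀ ∘ₗ LinearMap.inl A _ _)
      ((LinearMap.range (Y.d h i).hom).liftQ (v₀ ∘ₗ LinearMap.inr A _ _) (by
        rintro _ ⟨y, rfl⟩
        refine Subtype.ext ?_
        change D f i j k (0, Y.d h i y) = 0
        simp [D_apply, d_d_apply]))
  have hv : ∀ x y, v (x, Submodule.Quotient.mk y) = v₀ (x, y) := fun x y => by
    change v₀ (x, 0) + v₀ (0, y) = v₀ (x, y)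
    rw [← map_add]; simp
  have hu : Function.Injective u := by
    rw [injective_iff_map_eq_zero]
    intro z hz
    obtain ⟨x, rfl⟩ := Submodule.Quotient.mk_surjective _ z
    obtain ⟨h1, h2⟩ := Prod.ext_iff.mp hz
    obtain ⟨y, hy⟩ := (Submodule.Quotient.mk_eq_zero _).mp h2
    have h1' : X.d i j x = 0 := neg_eq_zero.mp h1
    obtain ⟨⟨x', y'⟩, hxy⟩ := exists_D_eq f (h - 1) h i j (by omega) hhi hij (x, -y) (by
      rw [D_apply, map_neg, h1', neg_zero]
      rw [← sub_eq_add_neg]
      exact Prod.ext rfl (sub_eq_zero.mpr hy.symm))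
    exact (Submodule.Quotient.mk_eq_zero _).mpr ⟨-x', by
      rw [map_neg]; exact congrArg Prod.fst hxy⟩
  have hexact : Function.Exact u v := by
    rintro ⟨x1, z⟩
    obtain ⟨y, rfl⟩ := Submodule.Quotient.mk_surjective _ z
    rw [hv]
    constructor
    · intro hw
      obtain ⟨⟨x', y'⟩, hxy⟩ := exists_D_eq f h i j k hhi hij hjk (x1, y) (congrArg Subtype.val hw)
      refine ⟨Submodule.Quotient.mk x', Prod.ext (Prod.ext_iff.mp hxy).1 ?_⟩
      refine (Submodule.Quotient.eq _).mpr ⟨-y', ?_⟩
      have h2 : f.f i x' + Y.d h i y' = y := (Prod.ext_iff.mp hxy).2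
      rw [map_neg, ← h2]
      change -(Y.d h i y') = f.f i x' - (f.f i x' + Y.d h i y')
      abel
    · rintro ⟨z', hz'⟩
      obtain ⟨x', rfl⟩ := Submodule.Quotient.mk_surjective _ z'
      obtain ⟨h1, h2⟩ := Prod.ext_iff.mp hz'
      obtain ⟨y', hy'⟩ := (Submodule.Quotient.eq _).mp h2
      refine Subtype.ext ?_
      have e : (x1, y) = D f h i j (x', -y') := by
        refine Prod.ext h1.symm ?_
        change y = f.f i x' + Y.d h i (-y')
        rw [map_neg, show Y.d h i y' = f.f i x' - y from hy']
        abel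
      show D f i j k (x1, y) = 0
      rw [e, D_D]
  have hsurj : Function.Surjective v := fun ⟨w, hw⟩ => by
    obtain ⟨⟨x, y⟩, hxy⟩ := exists_D_eq f i j k (k + 1) hij hjk rfl w hw
    exact ⟨(x, Submodule.Quotient.mk y), by rw [hv]; exact Subtype.ext hxy⟩
  have := flat_ker f hX hY hXb hYb j k (k + 1) hjk rfl
  have := hX j
  constructor
  · intro _
    have : Module.Flat A (X.X j × O Y h i) :=
      Groth.L07.FlatDescent.flat_of_shortExact u v hu hsurj hexact
    exact Module.Flat.of_retract (LinearMap.inr A (X.X j) (O Y h i)) (LinearMap.snd A (X.X j) (O Y h i))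
      (LinearMap.ext fun _ => rfl)
  · intro _
    have := flat_prod (A := A) (M := X.X j) (N := O Y h i)
    exact Groth.L02.flat_of_universallyInjective u
      (Groth.L02.universallyInjective_of_flat_coker u v hu hexact hsurj)

/-- If a complex is isomorphic in `D(A)` to one of flat modules outside `[a, b]`, the cokernel in
degree `a` of a bounded above flat representative is flat. -/
theorem flat_O_of_iso {P E : DRing.Cx A} {a b : ℤ} (hP : DRing.TermwiseFlat P)
    (hPb : DRing.VanishesAbove P b) (hE : DRing.TermwiseFlat E) (hEv : DRing.VanishesOutside E a b)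
    (e : DRing.toD P ≅ DRing.toD E) : Module.Flat A (O P (a - 1) a) := by
  have hEb : DRing.VanishesAbove E b := fun i hi => hEv i (Or.inr hi)
  have hLE : Groth.L02.PC.LEH (DRing.toD E) b := by
    intro i hi
    exact (ShortComplex.isZero_homology_of_isZero_X₂ _ (hEb i hi)).of_iso
      ((DerivedCategory.homologyFunctorFactors (ModuleCat.{u} A) i).app E)
  obtain ⟨F, hFb, hFfree, hFK, ⟨eF⟩⟩ := Groth.L02.PC.exists_free_rep hLE
  have hF : DRing.TermwiseFlat F := fun i => by have := hFfree i; infer_instance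
  haveI := hFK
  obtain ⟨g, hg⟩ := Groth.L02.PC.exists_chainMap eF.hom
  obtain ⟨g', hg'⟩ := Groth.L02.PC.exists_chainMap (eF ≪≫ e.symm).hom
  haveI : QuasiIso g := by
    rw [← DerivedCategory.isIso_Q_map_iff_quasiIso, hg]; infer_instance
  haveI : QuasiIso g' := by
    rw [← DerivedCategory.isIso_Q_map_iff_quasiIso, hg']; infer_instance
  rw [← flat_O_iff g' hF hP hFb hPb (a - 1) a (a + 1) (a + 2) (by omega) rfl (by omega),
    flat_O_iff g hF hE hFb hEb (a - 1) a (a + 1) (a + 2) (by omega) rfl (by omega)]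
  have := ModuleCat.subsingleton_of_isZero (hEv (a - 1) (Or.inl (by omega)))
  have h0 : LinearMap.range (E.d (a - 1) a).hom = ⊥ := by
    rw [eq_bot_iff]; rintro _ ⟨x, rfl⟩; rw [Subsingleton.elim x 0, map_zero]; exact zero_mem _
  have := hE a
  exact Module.Flat.of_linearEquiv (Submodule.quotEquivOfEqBot _ h0)

section Restrict

open TensorProduct

variable {B : Type u} [CommRing B] [Algebra A B]

/-- The restriction of a complex. -/
noncomputable abbrev res (P : DRing.Cx B) : DRing.Cx A :=
  ((ModuleCat.restrictScalars.{u} (algebraMap A B)).mapHomologicalComplex (ComplexShape.up ℤ)).obj P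

/-- Restriction on `D` is computed termwise. -/
noncomputable def resIso (P : DRing.Cx B) :
    (DRing.restrictD (algebraMap A B)).obj (DRing.toD P) ≅ DRing.toD (res (A := A) P) :=
  (ModuleCat.restrictScalars.{u} (algebraMap A B)).mapDerivedCategoryFactors.app P

theorem flat_restrict [Module.Flat A B] (M : ModuleCat.{u} B) [Module.Flat B M] :
    Module.Flat A ((ModuleCat.restrictScalars.{u} (algebraMap A B)).obj M) := by
  letI : Module A M := Module.compHom M (algebraMap A B)
  haveI : IsScalarTower A B M := IsScalarTower.of_algebraMap_smul fun _ _ => rfl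
  have h : Module.Flat A M := Module.Flat.trans A B M
  exact h

theorem flat_O_of_flat_res (hμ : (Algebra.TensorProduct.lmul' A (S := B)).toRingHom.Flat)
    (P : DRing.Cx B) (h i : ℤ) (hfl : Module.Flat A (O (res (A := A) P) h i)) :
    Module.Flat B (O P h i) := by
  letI : Module A (P.X i) := Module.compHom (P.X i) (algebraMap A B)
  haveI : IsScalarTower A B (P.X i) := IsScalarTower.of_algebraMap_smul fun _ _ => rfl
  let N : Submodule B (P.X i) := LinearMap.range (P.d h i).hom
  have h' : Module.Flat A ((P.X i) ⧸ N.restrictScalars A) := by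
    have e : (LinearMap.range ((res (A := A) P).d h i).hom : Submodule A (P.X i)) = N.restrictScalars A :=
      Submodule.ext fun _ => Iff.rfl
    exact e ▸ hfl
  haveI : Module.Flat A ((P.X i) ⧸ N) :=
    Module.Flat.of_linearEquiv (Submodule.Quotient.restrictScalarsEquiv A N).symm
  exact Groth.L20.flat_of_flat_of_flat_lmul (R := A) (T := B) (M := (P.X i) ⧸ N) hμ

theorem isZero_of_isZero_restrict (M : ModuleCat.{u} B)
    (h : IsZero ((ModuleCat.restrictScalars.{u} (algebraMap A B)).obj M)) : IsZero M := by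
  have h' := ModuleCat.subsingleton_of_isZero h
  have : Subsingleton M := h'
  exact ModuleCat.isZero_of_subsingleton M

/-- A module isomorphic to the cokernel in degree `i`. -/
noncomputable def opcyclesEquiv (P : DRing.Cx B) (h i : ℤ) (hhi : h + 1 = i) :
    P.opcycles i ≃ₗ[B] O P h i :=
  (IsColimit.coconePointUniqueUpToIso (P.opcyclesIsCokernel h i (by simp; omega))
    (ModuleCat.cokernelIsColimit (P.d h i))).toLinearEquiv

/-- Tor amplitude is insensitive to restriction along a weakly étale ring map. -/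
theorem torAmp_restrict_iff [Module.Flat A B]
    (hμ : (Algebra.TensorProduct.lmul' A (S := B)).toRingHom.Flat) (a b : ℤ) (K : Dual.D B) :
    DRing.HasTorAmplitudeIn A a b ((DRing.restrictD (algebraMap A B)).obj K) ↔
      DRing.HasTorAmplitudeIn B a b K := by
  constructor
  · rintro ⟨E, hEv, hE, ⟨e⟩⟩
    let P0 := DerivedCategory.Q.objPreimage K
    let e0 : DRing.toD P0 ≅ K := DerivedCategory.Q.objObjPreimageIso K
    have hz : ∀ i, (i < a ∨ b < i) → IsZero (P0.homology i) := by
      intro i hi
      refine isZero_of_isZero_restrict (A := A) _ ?_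
      refine IsZero.of_iso ?_ ((P0.sc i).mapHomologyIso (ModuleCat.restrictScalars.{u} (algebraMap A B))).symm
      refine IsZero.of_iso (ShortComplex.isZero_homology_of_isZero_X₂ (E.sc i) (hEv i hi)) ?_
      exact ((DerivedCategory.homologyFunctorFactors (ModuleCat.{u} A) i).app (res (A := A) P0)).symm ≪≫
        (DerivedCategory.homologyFunctor (ModuleCat.{u} A) i).mapIso
          ((resIso P0).symm ≪≫ (DRing.restrictD (algebraMap A B)).mapIso e0 ≪≫ e.symm) ≪≫
        (DerivedCategory.homologyFunctorFactors (ModuleCat.{u} A) i).app E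
    have hLE : Groth.L02.PC.LEH (DRing.toD P0) b := fun i hi =>
      (hz i (Or.inr hi)).of_iso ((DerivedCategory.homologyFunctorFactors (ModuleCat.{u} B) i).app P0)
    obtain ⟨P, hPb, hPfree, -, ⟨eP⟩⟩ := Groth.L02.PC.exists_free_rep hLE
    haveI : P.IsGE a := by
      refine (CochainComplex.isGE_iff P a).mpr fun i hi => ?_
      rw [HomologicalComplex.exactAt_iff_isZero_homology]
      exact (hz i (Or.inl hi)).of_iso
        (((DerivedCategory.homologyFunctorFactors (ModuleCat.{u} B) i).app P).symm ≪≫
          (DerivedCategory.homologyFunctor (ModuleCat.{u} B) i).mapIso eP ≪≫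
          (DerivedCategory.homologyFunctorFactors (ModuleCat.{u} B) i).app P0)
    have hflatP : DRing.TermwiseFlat (res (A := A) P) := fun i => by
      haveI := hPfree i
      exact flat_restrict (P.X i)
    have hresb : DRing.VanishesAbove (res (A := A) P) b := fun i hi =>
      Functor.map_isZero (ModuleCat.restrictScalars.{u} (algebraMap A B)) (hPb i hi)
    have hO : Module.Flat B (O P (a - 1) a) := flat_O_of_flat_res hμ P _ _
      (flat_O_of_iso hflatP hresb hE hEv
        ((resIso P).symm ≪≫ (DRing.restrictD (algebraMap A B)).mapIso (eP ≪≫ e0) ≪≫ e.symm))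
    refine ⟨P.truncGE a, ?_, ?_, ⟨(asIso (DerivedCategory.Q.map (P.πTruncGE a))).symm ≪≫ eP ≪≫ e0⟩⟩
    · intro i hi
      rcases lt_trichotomy i a with hlt | rfl | hlt
      · exact CochainComplex.isZero_of_isStrictlyGE _ a i hlt
      · refine IsZero.of_iso ?_ (P.truncGEXIsoOpcycles i)
        have : b < i := hi.resolve_left (lt_irrefl i)
        have := ModuleCat.subsingleton_of_isZero (hPb i this)
        have : Subsingleton (P.opcycles i) := (opcyclesEquiv P (i - 1) i (by omega)).toEquiv.subsingleton
        exact ModuleCat.isZero_of_subsingleton _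
      · exact IsZero.of_iso (hPb i (hi.resolve_left (by omega))) (P.truncGEXIso a i hlt)
    · intro i
      rcases lt_trichotomy i a with hlt | rfl | hlt
      · haveI := ModuleCat.subsingleton_of_isZero (CochainComplex.isZero_of_isStrictlyGE (P.truncGE a) a i hlt)
        infer_instance
      · exact Module.Flat.of_linearEquiv
          ((P.truncGEXIsoOpcycles i).toLinearEquiv.trans (opcyclesEquiv P (i - 1) i (by omega)))
      · haveI := hPfree i
        exact Module.Flat.of_linearEquiv (P.truncGEXIso a i hlt).toLinearEquiv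
  · rintro ⟨E, hEv, hE, ⟨e⟩⟩
    refine ⟨res (A := A) E, fun i hi => Functor.map_isZero (ModuleCat.restrictScalars.{u} (algebraMap A B)) (hEv i hi), fun i => ?_,
      ⟨(resIso E).symm ≪≫ (DRing.restrictD (algebraMap A B)).mapIso e⟩⟩
    haveI := hE i
    exact flat_restrict (E.X i)

end Restrict

open TensorProduct in
/-- Flatness descends along surjective ring maps. -/
theorem flat_of_surjective_comp {S Q T : Type u} [CommRing S] [CommRing Q] [CommRing T] (φ : S →+* Q)
    (ψ : Q →+* T) (hφ : Function.Surjective φ) (h : (ψ.comp φ).Flat) : ψ.Flat := by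
  algebraize [φ, ψ, ψ.comp φ]
  have hs : Function.Surjective (algebraMap S Q) := hφ
  have hinj : Function.Injective (Algebra.TensorProduct.lmul' S (S := Q)) := by
    have hr : ∀ z : Q ⊗[S] Q, ∃ q, z = q ⊗ₜ[S] 1 := by
      intro z
      induction z using TensorProduct.induction_on with
      | zero => exact ⟨0, (zero_tmul _ _).symm⟩
      | add z w hz hw =>
        obtain ⟨q, rfl⟩ := hz; obtain ⟨q', rfl⟩ := hw
        exact ⟨q + q', (add_tmul _ _ _).symm⟩
      | tmul q q' =>
        obtain ⟨s, rfl⟩ := hs q'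
        exact ⟨s • q, by rw [Algebra.algebraMap_eq_smul_one, tmul_smul, smul_tmul']⟩
    intro z w hzw
    obtain ⟨q, rfl⟩ := hr z
    obtain ⟨q', rfl⟩ := hr w
    simp at hzw
    rw [hzw]
  have hμ : (Algebra.TensorProduct.lmul' S (S := Q)).toRingHom.Flat :=
    RingHom.Flat.of_bijective ⟨hinj, fun q => ⟨q ⊗ₜ 1, by simp⟩⟩
  exact Groth.L20.flat_of_flat_of_flat_lmul hμ

open TensorProduct in
/-- Weakly étale maps cancel. -/
theorem weaklyEtale_cancel (R S T : Type u) [CommRing R] [CommRing S] [CommRing T] [Algebra R S]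
    [Algebra R T] [Algebra S T] [IsScalarTower R S T] [Algebra.WeaklyEtale R S]
    [Algebra.WeaklyEtale R T] :
    Module.Flat S T ∧ (Algebra.TensorProduct.lmul' S (S := T)).toRingHom.Flat := by
  refine ⟨Groth.L20.flat_of_flat_of_flat_lmul (R := R) (T := S) (M := T)
    (Algebra.WeaklyEtale.flat_lmul' R S), ?_⟩
  refine flat_of_surjective_comp
    (Algebra.TensorProduct.mapOfCompatibleSMul S R R T T).toRingHom _
    (fun z => ?_) ?_
  · induction z using TensorProduct.induction_on with
    | zero => exact ⟨0, map_zero _⟩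
    | add z w hz hw =>
      obtain ⟨a, rfl⟩ := hz; obtain ⟨b, rfl⟩ := hw
      exact ⟨a + b, map_add _ _ _⟩
    | tmul x y => exact ⟨x ⊗ₜ y, by simp⟩
  have e : (Algebra.TensorProduct.lmul' S (S := T)).toRingHom.comp
      (Algebra.TensorProduct.mapOfCompatibleSMul S R R T T).toRingHom =
      (Algebra.TensorProduct.lmul' R (S := T)).toRingHom :=
    RingHom.ext fun z => by
      induction z using TensorProduct.induction_on with
      | zero => simp
      | add z w hz hw => rw [map_add, map_add, hz, hw]
      | tmul x y => simp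
  rw [e]
  exact Algebra.WeaklyEtale.flat_lmul' R T

end Groth.L20.TorAmp
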