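import Groth.Prelude.Def_BlowUp2
import Mathlib.RingTheory.Localization.Away.Basic
import Mathlib.RingTheory.Localization.Ideal

/-!
# Elements of the affine blow-up algebra
-/

universe u

namespace Groth.L20

variable {A : Type u} [CommRing A] {I : Ideal A} {π : A}

theorem mk'_mem_affineAlgebra {n : ℕ} {x : A} (hx : x ∈ I ^ n) :
    IsLocalization.mk' (Localization.Away π) x (⟨π ^ n, n, rfl⟩ : Submonoid.powers π) ∈
      BlowUp.affineAlgebra A I π := by
  induction n generalizing x with
  | zero =>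
    have : (⟨π ^ 0, 0, rfl⟩ : Submonoid.powers π) = 1 := Subtype.ext (pow_zero π)
    rw [this, IsLocalization.mk'_one]
    exact Subalgebra.algebraMap_mem _ x
  | succ n ih =>
    rw [pow_succ] at hx
    induction hx using Submodule.mul_induction_on' with
    | mem_mul_mem u hu v hv =>
      have h1 : (⟨π ^ (n + 1), n + 1, rfl⟩ : Submonoid.powers π) =
          ⟨π ^ n, n, rfl⟩ * ⟨π, Submonoid.mem_powers π⟩ := Subtype.ext (pow_succ π n)
      rw [h1, IsLocalization.mk'_mul]
      exact mul_mem (ih hu) (Algebra.subset_adjoin ⟨v, hv, rfl⟩)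
    | add a _ b _ ha hb =>
      have hadd : ∀ (t : Submonoid.powers π), IsLocalization.mk' (Localization.Away π) (a + b) t =
          IsLocalization.mk' _ a t + IsLocalization.mk' _ b t := fun t => by
        rw [IsLocalization.mk'_eq_mul_mk'_one (a + b) t, IsLocalization.mk'_eq_mul_mk'_one a t,
          IsLocalization.mk'_eq_mul_mk'_one b t, map_add, add_mul]
      rw [hadd]
      exact add_mem ha hb

theorem exists_mk'_of_mem_affineAlgebra (hπ : π ∈ I) {q : Localization.Away π}
    (hq : q ∈ BlowUp.affineAlgebra A I π) :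
    ∃ n : ℕ, ∃ x ∈ I ^ n, q = IsLocalization.mk' (Localization.Away π) x (⟨π ^ n, n, rfl⟩ : Submonoid.powers π) := by
  induction hq using Algebra.adjoin_induction with
  | mem q hq =>
    obtain ⟨x, hx, rfl⟩ := hq
    exact ⟨1, x, by rwa [pow_one], by congr 1; exact Subtype.ext (pow_one π).symm⟩
  | algebraMap r =>
    exact ⟨0, r, by simp, by
      rw [show (⟨π ^ 0, 0, rfl⟩ : Submonoid.powers π) = 1 from Subtype.ext (pow_zero π),
        IsLocalization.mk'_one]⟩
  | add a b _ _ ha hb =>
    obtain ⟨n, x, hx, rfl⟩ := ha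
    obtain ⟨m, y, hy, rfl⟩ := hb
    refine ⟨n + m, x * π ^ m + y * π ^ n, add_mem ?_ ?_, ?_⟩
    · rw [pow_add]; exact Ideal.mul_mem_mul hx (Ideal.pow_mem_pow hπ m)
    · rw [add_comm n m, pow_add]; exact Ideal.mul_mem_mul hy (Ideal.pow_mem_pow hπ n)
    · rw [← IsLocalization.mk'_add]
      congr 1
      exact Subtype.ext (pow_add π n m).symm
  | mul a b _ _ ha hb =>
    obtain ⟨n, x, hx, rfl⟩ := ha
    obtain ⟨m, y, hy, rfl⟩ := hb
    refine ⟨n + m, x * y, by rw [pow_add]; exact Ideal.mul_mem_mul hx hy, ?_⟩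
    rw [← IsLocalization.mk'_mul]
    congr 1
    exact Subtype.ext (pow_add π n m).symm

theorem awayMap_mk' {B : Type u} [CommRing B] (f : A →+* B) (n : ℕ) (x : A) :
    Localization.awayMap f π (IsLocalization.mk' (Localization.Away π) x (⟨π ^ n, n, rfl⟩ : Submonoid.powers π)) =
      IsLocalization.mk' (Localization.Away (f π)) (f x) (⟨f π ^ n, n, rfl⟩ : Submonoid.powers (f π)) := by
  rw [IsLocalization.eq_mk'_iff_mul_eq]
  have h : ∀ a : A, Localization.awayMap f π (algebraMap A (Localization.Away π) a) =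
      algebraMap B (Localization.Away (f π)) (f a) := fun a => IsLocalization.map_eq _ a
  show _ * algebraMap B _ (f π ^ n) = _
  rw [← map_pow, ← h, ← h, ← map_mul]
  congr 1
  exact IsLocalization.mk'_spec _ x (⟨π ^ n, n, rfl⟩ : Submonoid.powers π)

theorem mk'_eq_zero_iff_pow (n : ℕ) (x : A) :
    IsLocalization.mk' (Localization.Away π) x (⟨π ^ n, n, rfl⟩ : Submonoid.powers π) = 0 ↔
      ∃ m : ℕ, π ^ m * x = 0 := by
  rw [IsLocalization.mk'_eq_zero_iff]
  constructor
  · rintro ⟨⟨_, m, rfl⟩, h⟩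
    exact ⟨m, h⟩
  · rintro ⟨m, h⟩
    exact ⟨⟨_, m, rfl⟩, h⟩

end Groth.L20
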