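import Mathlib.AlgebraicGeometry.Morphisms.QuasiFinite
import Mathlib.AlgebraicGeometry.IdealSheaf.Subscheme
import Mathlib.RingTheory.Ideal.KrullsHeightTheorem

/-!
Quasi-finite closed subschemes through a point closed in its fibre.
-/

set_option autoImplicit false
set_option linter.style.haveILetI false

universe u

namespace Groth.L20.QfCurve

/-- In a Noetherian local ring, a prime not containing `g` is contained in a prime not containing
`g` with only the maximal ideal strictly above it. -/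
theorem exists_coheight_one {R : Type*} [CommRing R] [IsNoetherianRing R] [IsLocalRing R]
    {g : R} (hg : g ∈ IsLocalRing.maximalIdeal R) (P : Ideal R) [P.IsPrime] (hP : g ∉ P) :
    ∃ z : Ideal R, z.IsPrime ∧ P ≤ z ∧ g ∉ z ∧
      ∀ T : Ideal R, T.IsPrime → z < T → T = IsLocalRing.maximalIdeal R := by
  classical
  obtain ⟨z, ⟨hz, hPz, hgz⟩, hmax⟩ : ∃ z : Ideal R, (z.IsPrime ∧ P ≤ z ∧ g ∉ z) ∧
      ∀ T : Ideal R, T.IsPrime ∧ P ≤ T ∧ g ∉ T → ¬ z < T := by
    obtain ⟨z, h1, h2⟩ := set_has_maximal_iff_noetherian.2 inferInstance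
      {z : Ideal R | z.IsPrime ∧ P ≤ z ∧ g ∉ z} ⟨P, inferInstance, le_rfl, hP⟩
    exact ⟨z, h1, h2⟩
  refine ⟨z, hz, hPz, hgz, fun T hT hzT => ?_⟩
  have key : ∀ T : Ideal R, T.IsPrime → z < T → g ∈ T := fun T hT hzT => by
    by_contra hgT
    exact hmax T ⟨hT, hPz.trans hzT.le, hgT⟩ hzT
  set S := (z ⊔ Ideal.span {g}).minimalPrimes
  have hS : S.Finite := Ideal.finite_minimalPrimes_of_isNoetherianRing R _
  have hgS : ∀ Q ∈ S, g ∈ Q := fun Q hQ =>
    hQ.le (Ideal.mem_sup_right (Ideal.mem_span_singleton_self g))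
  have hzS : ∀ Q ∈ S, z < Q := fun Q hQ =>
    lt_of_le_of_ne (le_sup_left.trans hQ.le) fun h => hgz (h ▸ hgS Q hQ)
  haveI : z.IsPrime := hz
  have hcover : (IsLocalRing.maximalIdeal R : Set R) ⊆
      ⋃ Q ∈ (↑(insert z hS.toFinset) : Set (Ideal R)), (Q : Set R) := by
    intro h hh
    simp only [Set.mem_iUnion]
    by_cases hhz : h ∈ z
    · exact ⟨z, Finset.mem_coe.2 (Finset.mem_insert_self _ _), hhz⟩
    · have hle : z ⊔ Ideal.span {h} ≤ IsLocalRing.maximalIdeal R :=
        sup_le (IsLocalRing.le_maximalIdeal hz.ne_top) (Ideal.span_singleton_le_iff_mem _ |>.2 hh)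
      obtain ⟨Q, hQ, -⟩ := Ideal.exists_minimalPrimes_le hle
      haveI := hQ.isPrime
      have hzQ : z < Q := lt_of_le_of_ne (le_sup_left.trans hQ.le)
        fun h' => hhz (h' ▸ hQ.le (Ideal.mem_sup_right (Ideal.mem_span_singleton_self h)))
      obtain ⟨Q', hQ', hle'⟩ := Ideal.exists_minimalPrimes_le
        (sup_le hzQ.le ((Ideal.span_singleton_le_iff_mem _).2 (key Q inferInstance hzQ)))
      have hh' : (Q.map (Ideal.Quotient.mk z)).height ≤ 1 :=
        Ideal.map_height_le_one_of_mem_minimalPrimes hQ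
      haveI := hQ'.isPrime
      have : Q' = Q := by
        by_contra hne
        have hlt : Q' < Q := lt_of_le_of_ne hle' hne
        haveI : (Q.map (Ideal.Quotient.mk z)).IsPrime :=
          Ideal.map_isPrime_of_surjective Ideal.Quotient.mk_surjective (by
            rw [Ideal.mk_ker]; exact hzQ.le)
        haveI : (Q'.map (Ideal.Quotient.mk z)).IsPrime :=
          Ideal.map_isPrime_of_surjective Ideal.Quotient.mk_surjective (by
            rw [Ideal.mk_ker]; exact (hzS Q' hQ').le)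
        have mono : ∀ {A B : Ideal R}, z ≤ A → z ≤ B → A < B →
            A.map (Ideal.Quotient.mk z) < B.map (Ideal.Quotient.mk z) := by
          intro A B hA hB hAB
          refine lt_of_le_of_ne (Ideal.map_mono hAB.le) fun h => hAB.ne ?_
          rw [← Ideal.comap_map_mk hA, h, Ideal.comap_map_mk hB]
        have h1 := Ideal.height_strict_mono_of_isPrime (mono (hzS Q' hQ').le hzQ.le hlt)
        have h2 := Ideal.height_strict_mono_of_isPrime
          (I := (⊥ : Ideal (R ⧸ z))) (J := Q'.map (Ideal.Quotient.mk z))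
          (bot_lt_iff_ne_bot.2 fun h => (mono le_rfl (hzS Q' hQ').le (hzS Q' hQ')).ne
            (by rw [h, Ideal.map_quotient_self]))
        have h3 : (Q'.map (Ideal.Quotient.mk z)).height < 1 := lt_of_lt_of_le h1 hh'
        rw [Order.lt_one_iff] at h3
        exact not_lt_bot (h3 ▸ h2)
      exact ⟨Q', Finset.mem_coe.2 (Finset.mem_insert_of_mem (hS.mem_toFinset.2 hQ')),
        this ▸ hQ.le (Ideal.mem_sup_right (Ideal.mem_span_singleton_self h))⟩
  obtain ⟨Q, hQ, hle⟩ := (Ideal.subset_union_prime (f := id) ⊥ ⊥ (fun Q hQ _ _ => by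
    rcases Finset.mem_insert.1 hQ with rfl | hQ
    · exact hz
    · exact (hS.mem_toFinset.1 hQ).isPrime)).1 hcover
  rcases Finset.mem_insert.1 hQ with rfl | hQ
  · exact absurd (hle hg) hgz
  · have hQS := hS.mem_toFinset.1 hQ
    obtain ⟨Q', hQ', hle'⟩ := Ideal.exists_minimalPrimes_le
      (sup_le hzT.le ((Ideal.span_singleton_le_iff_mem _).2 (key T hT hzT)))
    have hQm : Q = IsLocalRing.maximalIdeal R :=
      le_antisymm (IsLocalRing.le_maximalIdeal hQS.isPrime.ne_top) hle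
    have hQ'Q : Q' = Q := le_antisymm (hQm ▸ IsLocalRing.le_maximalIdeal hQ'.isPrime.ne_top)
      (hQS.2 ⟨hQ'.isPrime, hQ'.le⟩ (hQm ▸ IsLocalRing.le_maximalIdeal hQ'.isPrime.ne_top))
    exact le_antisymm (IsLocalRing.le_maximalIdeal hT.ne_top) (hQm ▸ hQ'Q ▸ hle')

open AlgebraicGeometry CategoryTheory Topology

/-- A closed point of a locally Noetherian scheme without proper generalization is open. -/
theorem isOpen_singleton {T : Scheme.{u}} [IsLocallyNoetherian T] {t : T}
    (hcl : IsClosed ({t} : Set T)) (hgen : ∀ y, y ⤳ t → y = t) : IsOpen ({t} : Set T) := by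
  obtain ⟨V, hV, htV, -⟩ := exists_isAffineOpen_mem_and_subset (U := ⊤) (x := t) (by trivial)
  let R := Γ(T, V)
  haveI : IsNoetherianRing R := IsLocallyNoetherian.component_noetherian ⟨V, hV⟩
  let q : PrimeSpectrum R := hV.primeIdealOf ⟨t, htV⟩
  have hqt : hV.fromSpec q = t := hV.fromSpec_primeIdealOf ⟨t, htV⟩
  have hinj := hV.fromSpec.isOpenEmbedding.injective
  have hmin : ∀ y : PrimeSpectrum R, y ⤳ q → y = q := fun y hy =>
    hinj ((hgen _ (hqt ▸ hy.map hV.fromSpec.continuous)).trans hqt.symm)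
  have hmax : ∀ y : PrimeSpectrum R, q ⤳ y → y = q := fun y hy =>
    hinj ((Set.mem_singleton_iff.1 ((hy.map hV.fromSpec.continuous).mem_closed hcl
      (Set.mem_singleton_iff.2 hqt))).trans hqt.symm)
  have hq : IsOpen ({q} : Set (PrimeSpectrum R)) := by
    rw [← isClosed_compl_iff]
    have : ({q} : Set (PrimeSpectrum R))ᶜ =
        ⋃ Q ∈ minimalPrimes R \ {q.asIdeal}, PrimeSpectrum.zeroLocus (Q : Set R) := by
      ext y
      simp only [Set.mem_compl_iff, Set.mem_singleton_iff, Set.mem_iUnion,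
        PrimeSpectrum.mem_zeroLocus, SetLike.coe_subset_coe, Set.mem_sdiff, exists_prop]
      constructor
      · intro hy
        obtain ⟨Q, hQ, hQy⟩ := Ideal.exists_minimalPrimes_le (bot_le : ⊥ ≤ y.asIdeal)
        refine ⟨Q, ⟨hQ, fun hQq => hy ?_⟩, hQy⟩
        exact hmax y ((PrimeSpectrum.le_iff_specializes q y).1 (show q.asIdeal ≤ y.asIdeal from hQq ▸ hQy))
      · rintro ⟨Q, ⟨hQ, hQq⟩, hQy⟩ hy
        exact hQq (congrArg PrimeSpectrum.asIdeal
          (hmin ⟨Q, hQ.isPrime⟩ (hy ▸ (PrimeSpectrum.le_iff_specializes ⟨Q, hQ.isPrime⟩ y).1 hQy)))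
    rw [this]
    exact ((minimalPrimes.finite_of_isNoetherianRing R).subset Set.sdiff_subset).isClosed_biUnion
      fun Q _ => PrimeSpectrum.isClosed_zeroLocus _
  have h2 : hV.fromSpec '' ({q} : Set (PrimeSpectrum R)) = {t} :=
    Set.image_singleton.trans (congrArg _ hqt)
  exact h2 ▸ hV.fromSpec.isOpenEmbedding.isOpenMap _ hq

set_option backward.isDefEq.respectTransparency.types false in
/-- The main statement. -/
theorem exists_qf_curve {X S : Scheme.{u}} (f : X ⟶ S) [LocallyOfFiniteType f]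
    [IsLocallyNoetherian S] (x : X)
    (hcl : IsClosed (Subtype.val ⁻¹' {x} : Set ↑(f ⁻¹' {f x}))) (U : X.Opens)
    (hx' : ∃ x' : X, x' ∈ U ∧ x' ⤳ x ∧ f x' ≠ f x) :
    ∃ (I : X.IdealSheafData) (z₀ x₀ : ↑I.subscheme), I.subschemeι x₀ = x ∧
      (I.subschemeι ≫ f).QuasiFiniteAt x₀ ∧
      I.subschemeι z₀ ∈ U ∧ I.subschemeι z₀ ⤳ x ∧ f (I.subschemeι z₀) ≠ f x := by
  haveI : IsLocallyNoetherian X := LocallyOfFiniteType.isLocallyNoetherian f
  obtain ⟨x', hx'U, hx'x, hx'f⟩ := hx'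
  let R := X.presheaf.stalk x
  let e := X.fromSpecStalk x
  have hrange : ∀ y, y ⤳ x ↔ y ∈ Set.range e := fun y => by
    rw [Scheme.range_fromSpecStalk]; rfl
  obtain ⟨P, hP⟩ : ∃ P : PrimeSpectrum R, e P = x' := (hrange x').1 hx'x
  have hnot : ∀ y, y ⤳ x → f y ∈ closure {f x} → f y = f x := fun y hy hmem =>
    ((hy.map f.continuous).antisymm (specializes_iff_mem_closure.2 hmem)).eq
  let W : Set X := (U : Set X) ∩ f ⁻¹' (closure {f x})ᶜ
  have hW : IsOpen W := U.2.inter (isClosed_closure.isOpen_compl.preimage f.continuous)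
  have hPW : P ∈ e ⁻¹' W := by
    show e P ∈ W
    rw [hP]
    exact ⟨hx'U, fun h => hx'f (hnot x' hx'x h)⟩
  obtain ⟨_, ⟨g, rfl⟩, hPg, hgW⟩ :=
    PrimeSpectrum.isTopologicalBasis_basic_opens.exists_subset_of_mem_open hPW
      (hW.preimage e.continuous)
  have hg : g ∈ IsLocalRing.maximalIdeal R := by
    by_contra hg
    have := hgW (show IsLocalRing.closedPoint R ∈ PrimeSpectrum.basicOpen g from hg)
    replace this : e (IsLocalRing.closedPoint R) ∈ W := this
    rw [Scheme.fromSpecStalk_closedPoint] at this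
    exact this.2 (subset_closure rfl)
  obtain ⟨z, hz, -, hgz, hzmax⟩ := exists_coheight_one hg P.asIdeal hPg
  let zR : PrimeSpectrum R := ⟨z, hz⟩
  have hzW : e zR ∈ W := hgW (show zR ∈ PrimeSpectrum.basicOpen g from hgz)
  have hzx : e zR ⤳ x := (hrange _).2 ⟨zR, rfl⟩
  have hzf : f (e zR) ≠ f x := fun h => hzW.2 (h ▸ subset_closure rfl)
  have hbetween : ∀ y, e zR ⤳ y → y ⤳ x → f y = f x → y = x := by
    intro y hy hyx hfy
    obtain ⟨T, hT⟩ : ∃ T : PrimeSpectrum R, e T = y := (hrange y).1 hyx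
    have hle : z ≤ T.asIdeal := (PrimeSpectrum.le_iff_specializes zR T).2
      (e.isEmbedding.toIsInducing.specializes_iff.1 (hT.symm ▸ hy))
    have hne : z ≠ T.asIdeal := fun h => hzf (by
      rw [show zR = T from PrimeSpectrum.ext h, hT, hfy])
    have : T = IsLocalRing.closedPoint R :=
      PrimeSpectrum.ext (hzmax _ T.2 (lt_of_le_of_ne hle hne))
    rw [← hT, this, Scheme.fromSpecStalk_closedPoint]
  let I := Scheme.IdealSheafData.vanishingIdeal ⟨closure {e zR}, isClosed_closure⟩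
  have hsupp : (I.support : Set X) = closure {e zR} := by simp [I]
  have hι : Set.range I.subschemeι = closure {e zR} := by
    rw [Scheme.IdealSheafData.range_subschemeι, hsupp]
  obtain ⟨z₀, hz₀⟩ : e zR ∈ Set.range I.subschemeι := hι ▸ subset_closure rfl
  obtain ⟨x₀, hx₀⟩ : x ∈ Set.range I.subschemeι := hι ▸ hzx.mem_closure
  refine ⟨I, z₀, x₀, hx₀, ?_, hz₀ ▸ hzW.1, hz₀ ▸ hzx, hz₀ ▸ hzf⟩
  let h := I.subschemeι ≫ f
  rw [Scheme.Hom.quasiFiniteAt_iff_isOpen_singleton_asFiber]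
  haveI : LocallyOfFiniteType (h.fiberToSpecResidueField (h x₀)) :=
    MorphismProperty.pullback_snd _ _ inferInstance
  haveI : IsLocallyNoetherian (h.fiber (h x₀)) :=
    LocallyOfFiniteType.isLocallyNoetherian (h.fiberToSpecResidueField (h x₀))
  let κ : h.fiber (h x₀) → X := fun w => I.subschemeι (h.fiberι (h x₀) w)
  have hκ : IsEmbedding κ :=
    I.subschemeι.isEmbedding.comp (h.fiberι (h x₀)).isEmbedding
  have hκx : κ (h.asFiber x₀) = x := by simp [κ, hx₀]
  have hκf : ∀ w, f (κ w) = f x := fun w => by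
    have hw : h.fiberι (h x₀) w ∈ h ⁻¹' {h x₀} := by
      rw [← Scheme.Hom.range_fiberι]; exact ⟨w, rfl⟩
    have h2 : h (h.fiberι (h x₀) w) = h x₀ := hw
    have h3 : h x₀ = f x := by simp [h, hx₀]
    exact (show f (κ w) = h (h.fiberι (h x₀) w) by simp [h, κ]).trans (h2.trans h3)
  refine isOpen_singleton ?_ fun w hw => hκ.injective ?_
  · have : ({h.asFiber x₀} : Set (h.fiber (h x₀))) =
        (fun w => (⟨κ w, hκf w⟩ : ↑(f ⁻¹' {f x}))) ⁻¹' (Subtype.val ⁻¹' {x}) := by
      ext w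
      simp only [Set.mem_singleton_iff, Set.mem_preimage]
      exact ⟨fun h' => h' ▸ hκx, fun h' => hκ.injective (h'.trans hκx.symm)⟩
    rw [this]
    exact hcl.preimage (hκ.continuous.subtype_mk _)
  · rw [hκx]
    refine hbetween _ ?_ (hκx ▸ hw.map hκ.continuous) (hκf w)
    exact specializes_iff_mem_closure.2 (hι ▸ ⟨_, rfl⟩)

end Groth.L20.QfCurve
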