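import Groth.Agent.L20.StrictHensWE
import Groth.Agent.L20.WeaklyEtaleStalk
import Groth.Agent.L05.WE.Field
import Mathlib.RingTheory.Smooth.IntegralClosure
import Mathlib.RingTheory.IntegralClosure.IntegrallyClosed
import Mathlib.RingTheory.Flat.TorsionFree

/-!
# Weakly étale local algebras over normal domains are normal
-/

universe u

open TensorProduct

namespace Groth.L20.NormalWE

set_option linter.style.haveILetI false

/-- Denominators from `A` are not needed for integral elements. -/
def Sat (A C : Type u) [CommRing A] [CommRing C] [Algebra A C] : Prop :=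
  ∀ (d : A), d ≠ 0 → ∀ (r : C) (n : ℕ) (c : Fin n → C),
    r ^ n + ∑ j : Fin n, c j * algebraMap A C d ^ (n - (j : ℕ)) * r ^ (j : ℕ) = 0 →
      algebraMap A C d ∣ r

variable (A : Type u) [CommRing A] [IsDomain A] [IsIntegrallyClosed A]

/-- Smooth algebras over a normal domain are saturated. -/
theorem sat_of_smooth (E : Type u) [CommRing E] [Algebra A E] [Algebra.Smooth A E] : Sat A E := by
  intro d hd r n c h
  let K := FractionRing A
  have hd' : algebraMap A K d ≠ 0 := fun h => hd (IsFractionRing.injective A K (h.trans (map_zero _).symm))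
  let z : E ⊗[A] K := r ⊗ₜ[A] (algebraMap A K d)⁻¹
  have hz : IsIntegral E z := by
    nontriviality E
    refine ⟨Polynomial.X ^ n + ∑ j : Fin n, Polynomial.C (c j) * Polynomial.X ^ (j : ℕ),
      Polynomial.monic_X_pow_add ((Polynomial.degree_sum_le _ _).trans_lt
        ((Finset.sup_lt_iff (WithBot.bot_lt_coe n)).mpr fun j _ =>
          (Polynomial.degree_C_mul_X_pow_le _ _).trans_lt (WithBot.coe_lt_coe.mpr j.2))), ?_⟩
    change Polynomial.aeval z _ = 0
    have e : ∀ j : Fin n, algebraMap E (E ⊗[A] K) (c j) * z ^ (j : ℕ) =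
        (c j * algebraMap A E d ^ (n - (j : ℕ)) * r ^ (j : ℕ)) ⊗ₜ[A] ((algebraMap A K d)⁻¹ ^ n) := by
      intro j
      rw [show c j * algebraMap A E d ^ (n - (j : ℕ)) * r ^ (j : ℕ) =
        d ^ (n - (j : ℕ)) • (c j * r ^ (j : ℕ)) by rw [Algebra.smul_def, map_pow]; ring,
        TensorProduct.smul_tmul]
      rw [show algebraMap E (E ⊗[A] K) (c j) = c j ⊗ₜ[A] (1 : K) from rfl,
        show z = r ⊗ₜ[A] (algebraMap A K d)⁻¹ from rfl, Algebra.TensorProduct.tmul_pow,
        Algebra.TensorProduct.tmul_mul_tmul, one_mul]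
      congr 1
      rw [Algebra.smul_def, map_pow]
      rw [show (algebraMap A K d)⁻¹ ^ n = (algebraMap A K d)⁻¹ ^ (n - (j : ℕ)) * (algebraMap A K d)⁻¹ ^ (j : ℕ) by
        rw [← pow_add]; congr 1; omega,
        ← mul_assoc, ← mul_pow, mul_inv_cancel₀ hd', one_pow, one_mul]
    simp only [map_add, map_pow, Polynomial.aeval_X, map_sum, map_mul, Polynomial.aeval_C]
    rw [Finset.sum_congr rfl fun j _ => e j, ← TensorProduct.sum_tmul,
      show z = r ⊗ₜ[A] (algebraMap A K d)⁻¹ from rfl, Algebra.TensorProduct.tmul_pow,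
      ← TensorProduct.add_tmul, h, TensorProduct.zero_tmul]
  obtain ⟨w, hw⟩ := (TensorProduct.toIntegralClosure_bijective_of_smooth (R := A) (S := E) (B := K)).2 ⟨z, hz⟩
  have hbot : ∀ y : integralClosure A K, ∃ a : A, algebraMap A K a = y.1 := fun y =>
    IsIntegrallyClosed.isIntegral_iff.mp y.2
  have hrange : ∀ w : E ⊗[A] integralClosure A K, ∃ e : E,
      (TensorProduct.toIntegralClosure A E K w).1 = e ⊗ₜ[A] (1 : K) := by
    intro w
    induction w using TensorProduct.induction_on with
    | zero => exact ⟨0, by simp⟩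
    | add a b ha hb =>
      obtain ⟨e, he⟩ := ha; obtain ⟨e', he'⟩ := hb
      exact ⟨e + e', by rw [map_add, add_tmul, ← he, ← he']; rfl⟩
    | tmul e y =>
      obtain ⟨a, ha⟩ := hbot y
      refine ⟨a • e, ?_⟩
      change e ⊗ₜ[A] y.1 = _
      rw [TensorProduct.smul_tmul, ← ha, Algebra.algebraMap_eq_smul_one]
  obtain ⟨e, he⟩ := hrange w
  rw [hw] at he
  have hinj : Function.Injective fun x : E => x ⊗ₜ[A] (1 : K) :=
    Algebra.TensorProduct.includeLeft_injective (S := A) (IsFractionRing.injective A K)
  refine ⟨e, hinj ?_⟩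
  show r ⊗ₜ[A] (1 : K) = (algebraMap A E d * e) ⊗ₜ[A] (1 : K)
  rw [← Algebra.smul_def, ← TensorProduct.smul_tmul', ← he]
  change r ⊗ₜ[A] (1 : K) = d • r ⊗ₜ[A] (algebraMap A K d)⁻¹
  rw [← TensorProduct.tmul_smul, Algebra.smul_def, mul_inv_cancel₀ hd']

/-- Ind-étale algebras over a normal domain are saturated. -/
theorem sat_of_isIndEtale (R : Type u) [CommRing R] [Algebra A R] (h : EtPBC.IsIndEtale A R) :
    Sat A R := by
  intro d hd r n c hr
  let S := MvPolynomial (Option (Fin n)) A
  let rel : S := MvPolynomial.X none ^ n + ∑ j : Fin n,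
    MvPolynomial.X (some j) * algebraMap A S d ^ (n - (j : ℕ)) * MvPolynomial.X none ^ (j : ℕ)
  let ev : S →ₐ[A] R := MvPolynomial.aeval fun o => o.elim r c
  have hev : ev rel = 0 := by
    have hX : ∀ o, ev (MvPolynomial.X o) = o.elim r c := fun o => MvPolynomial.aeval_X _ o
    simp only [rel, map_add, map_pow, map_sum, map_mul, hX, AlgHom.commutes, Option.elim]
    exact hr
  have : Algebra.FinitePresentation A (S ⧸ Ideal.span {rel}) :=
    Algebra.FinitePresentation.quotient (Submodule.fg_span_singleton rel)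
  obtain ⟨E, _, _, α, β, hE, hcomp⟩ := (Groth.L27.IndEtale.isIndEtale_iff_exists_factor A R).mp h
    (S ⧸ Ideal.span {rel}) (Ideal.Quotient.liftₐ _ ev fun a ha => by
      obtain ⟨b, rfl⟩ := Ideal.mem_span_singleton'.mp ha
      rw [map_mul, hev, mul_zero])
  let π : S →ₐ[A] E := α.comp (Ideal.Quotient.mkₐ A _)
  have hπ : π rel = 0 := by
    change α (Ideal.Quotient.mk _ rel) = 0
    rw [Ideal.Quotient.eq_zero_iff_mem.mpr (Ideal.mem_span_singleton_self rel), map_zero]
  obtain ⟨e, he⟩ := sat_of_smooth A E d hd (π (MvPolynomial.X none)) n (fun j => π (MvPolynomial.X (some j))) (by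
    simpa [rel] using hπ)
  refine ⟨β e, ?_⟩
  have hX : β (π (MvPolynomial.X none)) = r := by
    change (β.comp α) (Ideal.Quotient.mk _ (MvPolynomial.X none)) = r
    rw [hcomp]
    exact MvPolynomial.aeval_X _ _
  rw [← hX, he, map_mul, AlgHom.commutes]

/-- A weakly étale local algebra over a normal local domain is a normal domain. -/
theorem isNormal (C : Type u) [CommRing C] [IsLocalRing A] [IsLocalRing C] [Algebra A C]
    [IsLocalHom (algebraMap A C)] [Algebra.WeaklyEtale A C] : IsDomain C ∧ IsIntegrallyClosed C := by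
  classical
  obtain ⟨R, _, _, _, _, hR⟩ := Groth.L05.Henselization.exists_isStrictHenselization C
  letI : Algebra A R := ((algebraMap C R).comp (algebraMap A C)).toAlgebra
  haveI : IsScalarTower A C R := IsScalarTower.of_algebraMap_eq' rfl
  obtain ⟨_, hAR⟩ := (Groth.L20.StrictHensWE.weaklyEtale_iff A C).mp inferInstance R
  have hsatR := sat_of_isIndEtale A R
    (Groth.L05.Henselization.isIndEtale_of_isStrictHenselization A R)
  haveI : Module.Flat C R :=
    Groth.L05.Henselization.flat_of_isStrictHenselization C R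
  haveI : Module.FaithfullyFlat C R := Groth.L05.Henselization.faithfullyFlat_of_flat_local
  have hsat : Sat A C := by
    intro d hd r n c hr
    obtain ⟨e, he⟩ := hsatR d hd (algebraMap C R r) n (fun j => algebraMap C R (c j)) (by
      have := congrArg (algebraMap C R) hr
      simpa [IsScalarTower.algebraMap_apply A C R] using this)
    have hmem : algebraMap C R r ∈ (Ideal.span {algebraMap A C d}).map (algebraMap C R) := by
      rw [Ideal.map_span, Set.image_singleton, Ideal.mem_span_singleton, ← IsScalarTower.algebraMap_apply]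
      exact ⟨e, he⟩
    rw [← Ideal.mem_comap, Ideal.comap_map_eq_self_of_faithfullyFlat] at hmem
    exact Ideal.mem_span_singleton.mp hmem
  let K := FractionRing A
  let M := Algebra.algebraMapSubmonoid C (nonZeroDivisors A)
  let L := Localization M
  letI : Algebra K L := localizationAlgebra (nonZeroDivisors A) C
  haveI : IsScalarTower A K L := isScalarTower_localizationAlgebra (nonZeroDivisors A) C
  have hinjM : M ≤ nonZeroDivisors C := by
    rintro _ ⟨a, ha, rfl⟩
    have : IsSMulRegular C a := Module.Flat.isSMulRegular_of_nonZeroDivisors ha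
    refine mem_nonZeroDivisors_iff_right.mpr fun x hx => this ?_
    simp only [Algebra.smul_def]
    rw [mul_zero, mul_comm]
    exact hx
  have hinj : Function.Injective (algebraMap C L) := IsLocalization.injective L hinjM
  haveI : Algebra.WeaklyEtale K L :=
    Groth.L20.weaklyEtale_of_isLocalization (A := A) (B := C) (nonZeroDivisors A) M K L
  haveI : Nontrivial L := hinj.nontrivial
  haveI : _root_.IsReduced L := Groth.L20.isReduced_of_weaklyEtale K L
  have hsurj : ∀ z : L, ∃ r : C, ∃ d : A, d ≠ 0 ∧ z * algebraMap C L (algebraMap A C d) = algebraMap C L r := by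
    intro z
    obtain ⟨⟨r, ⟨_, d, hd, rfl⟩⟩, h⟩ := IsLocalization.surj M z
    exact ⟨r, d, nonZeroDivisors.ne_zero hd, h⟩
  have hint : ∀ z : L, IsIntegral C z → ∃ r : C, algebraMap C L r = z := by
    intro z ⟨P, hP, hPz⟩
    obtain ⟨r, d, hd, hz⟩ := hsurj z
    have hrel : r ^ P.natDegree + ∑ j : Fin P.natDegree,
        P.coeff j * algebraMap A C d ^ (P.natDegree - (j : ℕ)) * r ^ (j : ℕ) = 0 := by
      apply hinj
      rw [map_zero, map_add, map_sum]
      simp only [map_mul, map_pow, ← hz]
      have h0 := congrArg (Polynomial.aeval z) hP.as_sum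
      rw [show Polynomial.aeval z P = 0 from hPz] at h0
      simp only [map_add, map_sum, map_mul, map_pow, Polynomial.aeval_X, Polynomial.aeval_C,
        Finset.sum_range] at h0
      have h1 := congrArg (fun t : L => algebraMap C L (algebraMap A C d) ^ P.natDegree * t) h0
      simp only [mul_zero, mul_add, Finset.mul_sum] at h1
      rw [h1]
      congr 1
      · ring
      · rw [Finset.mul_sum]
        refine Finset.sum_congr rfl fun j _ => ?_
        rw [show algebraMap C L (algebraMap A C d) ^ P.natDegree = algebraMap C L (algebraMap A C d) ^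
            (P.natDegree - (j : ℕ)) * algebraMap C L (algebraMap A C d) ^ (j : ℕ) by
          rw [← pow_add]; congr 1; omega]
        ring
    obtain ⟨e, rfl⟩ := hsat d hd r _ _ hrel
    refine ⟨e, ?_⟩
    have hu : IsUnit (algebraMap C L (algebraMap A C d)) :=
      IsLocalization.map_units L (⟨_, d, mem_nonZeroDivisors_of_ne_zero hd, rfl⟩ : M)
    refine hu.mul_right_cancel ?_
    rw [hz, map_mul, mul_comm]
  have hidem : ∀ e : L, e * e = e → e = 0 ∨ e = 1 := by
    intro e he
    obtain ⟨r, hr⟩ := hint e ⟨Polynomial.X ^ 2 + Polynomial.C (-1) * Polynomial.X,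
      Polynomial.monic_X_pow_add (by
        refine lt_of_le_of_lt (Polynomial.degree_C_mul_X_le _) ?_
        exact WithBot.coe_lt_coe.mpr one_lt_two),
      by simp [pow_two, he]⟩
    have hr' : r * r = r := hinj (by rw [map_mul, hr, he])
    rcases IsLocalRing.isUnit_or_isUnit_of_add_one (add_sub_cancel r 1) with hu | hu
    · right; rw [← hr, hu.mul_left_cancel (hr'.trans (mul_one r).symm), map_one]
    · left
      have : (1 - r) * r = 0 := by rw [sub_mul, one_mul, hr', sub_self]
      rw [← hr, hu.mul_right_eq_zero.mp this, map_zero]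
  have hunit : ∀ x : L, x ≠ 0 → IsUnit x := by
    intro x hx
    obtain ⟨P, hP, hPx⟩ := (Groth.L05.WE.weaklyEtale_iff_forall.mp (inferInstance : Algebra.WeaklyEtale K L)) x
    obtain ⟨Q, hQ⟩ : Polynomial.X ∣ P - Polynomial.C (P.coeff 0) :=
      Polynomial.X_dvd_iff.mpr (by simp)
    have hQx := congrArg (Polynomial.aeval x) hQ
    rw [map_sub, hPx, zero_sub, map_mul, Polynomial.aeval_X, Polynomial.aeval_C] at hQx
    rcases eq_or_ne (P.coeff 0) 0 with h0 | h0
    · rw [h0, map_zero, neg_zero] at hQx
      rw [h0, map_zero, sub_zero] at hQ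
      obtain ⟨a, b, hab⟩ : IsCoprime Polynomial.X Q := by
        rw [hQ] at hP
        exact hP.isCoprime
      have hab' := congrArg (Polynomial.aeval x) hab
      rw [map_add, map_mul, map_mul, Polynomial.aeval_X, map_one] at hab'
      rcases hidem (Polynomial.aeval x a * x)
        (by linear_combination (Polynomial.aeval x a * x) * hab' + (Polynomial.aeval x a * Polynomial.aeval x b) * hQx)
        with h1 | h1
      · rw [h1, zero_add] at hab'
        exact absurd (by linear_combination (-x) * hab' + Polynomial.aeval x b * (-hQx)) hx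
      · exact IsUnit.of_mul_eq_one_right _ h1
    · exact isUnit_of_mul_isUnit_left (hQx ▸ ((IsUnit.mk0 _ h0).map (algebraMap K L)).neg :
        IsUnit (x * Polynomial.aeval x Q))
  have hfield : IsField L := ⟨⟨0, 1, zero_ne_one⟩, mul_comm, fun {a} ha => (hunit a ha).exists_right_inv⟩
  letI : Field L := hfield.toField
  haveI : IsDomain C := hinj.isDomain
  haveI : IsFractionRing C L :=
    { map_units := fun x => isUnit_iff_ne_zero.mpr fun h => nonZeroDivisors.ne_zero x.2 (hinj (h.trans (map_zero _).symm))
      surj := fun z => by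
        obtain ⟨r, d, hd, h⟩ := hsurj z
        exact ⟨(r, ⟨algebraMap A C d, hinjM ⟨d, mem_nonZeroDivisors_of_ne_zero hd, rfl⟩⟩), h⟩
      exists_of_eq := fun h => ⟨1, by rw [hinj h]⟩ }
  exact ⟨inferInstance, (isIntegrallyClosed_iff L).mpr fun {x} hx => hint x hx⟩

end Groth.L20.NormalWE
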