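import Groth.Agent.L20.GenericFreeSet
import Mathlib.AlgebraicGeometry.Morphisms.Flat
import Mathlib.AlgebraicGeometry.Morphisms.FinitePresentation
import Mathlib.AlgebraicGeometry.AffineScheme
import Mathlib.AlgebraicGeometry.Properties

/-!
# Generic flatness over a reduced scheme
-/

set_option autoImplicit false
set_option linter.style.haveILetI false

universe u

open CategoryTheory AlgebraicGeometry
open scoped TensorProduct

namespace Groth.L20.GFR

/-- Generic freeness passes to multiples. -/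
theorem GoodAway.mul {R S M : Type u} [CommRing R] [CommRing S] [Algebra R S] [AddCommGroup M] [Module S M]
    [Module R M] {f : R} (h : GoodAway R S M f) (c : R) : GoodAway R S M (f * c) := by
  obtain ⟨h1, h2, h3, h4⟩ := h
  have hu : IsUnit (algebraMap R (Localization.Away (f * c)) f) := by
    have := IsLocalization.Away.algebraMap_isUnit (S := Localization.Away (f * c)) (f * c)
    rw [map_mul, IsUnit.mul_iff] at this
    exact this.1
  refine ⟨GF.free_of_isUnit _ hu M, GF.free_of_isUnit _ hu S, ?_, h4.mul c⟩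
  let φ : Localization.Away f →+* Localization.Away (f * c) := IsLocalization.Away.lift f hu
  letI : Algebra (Localization.Away f) (Localization.Away (f * c)) := φ.toAlgebra
  haveI : IsScalarTower R (Localization.Away f) (Localization.Away (f * c)) :=
    IsScalarTower.of_algebraMap_eq fun x => (IsLocalization.Away.lift_eq f hu x).symm
  exact Algebra.FinitePresentation.equiv (Algebra.TensorProduct.cancelBaseChange R (Localization.Away f)
    (Localization.Away (f * c)) (Localization.Away (f * c)) S)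

/-- The conclusions over arbitrary localizations. -/
theorem GoodAway.flat_and_fp {R S R' S' M : Type u} [CommRing R] [CommRing S] [Algebra R S] [AddCommGroup M]
    [Module S M] [Module R M] {f : R} (h : GoodAway R S M f) [CommRing R'] [Algebra R R']
    [IsLocalization.Away f R'] [CommRing S'] [Algebra S S'] [IsLocalization.Away (algebraMap R S f) S']
    [Algebra R' S'] [Algebra R S'] [IsScalarTower R R' S'] [IsScalarTower R S S'] :
    Module.Flat R' S' ∧ Algebra.FinitePresentation R' S' := by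
  obtain ⟨-, h2, h3, -⟩ := h
  let e := IsLocalization.algEquiv (Submonoid.powers f) (Localization.Away f) R'
  letI : Algebra (Localization.Away f) R' := e.toRingEquiv.toRingHom.toAlgebra
  haveI : IsScalarTower R (Localization.Away f) R' := IsScalarTower.of_algebraMap_eq fun x => (e.commutes x).symm
  haveI : IsLocalization (Algebra.algebraMapSubmonoid S (Submonoid.powers f)) S' := by
    rw [Algebra.algebraMapSubmonoid, Submonoid.map_powers]
    infer_instance
  haveI : Algebra.IsPushout R R' S S' := (Algebra.isPushout_of_isLocalization (Submonoid.powers f) R' S S').symm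
  haveI : Module.Flat R' (R' ⊗[R] S) := Module.Flat.of_linearEquiv
    (TensorProduct.AlgebraTensorModule.cancelBaseChange R (Localization.Away f) R' R' S).symm
  haveI : Algebra.FinitePresentation R' (R' ⊗[R] S) := Algebra.FinitePresentation.equiv
    (Algebra.TensorProduct.cancelBaseChange R (Localization.Away f) R' R' S)
  exact ⟨Module.Flat.of_linearEquiv (Algebra.IsPushout.equiv R R' S S').symm.toLinearEquiv,
    Algebra.FinitePresentation.equiv (Algebra.IsPushout.equiv R R' S S')⟩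

variable {X S : Scheme.{u}}

/-- A criterion for properties of the restriction to an open, by affine charts of the scheme itself. -/
theorem prop_morphismRestrict {P : MorphismProperty Scheme.{u}}
    {Q : ∀ {R S : Type u} [CommRing R] [CommRing S], (R →+* S) → Prop} [HasRingHomProperty P Q]
    (hQ : RingHom.StableUnderCompositionWithLocalizationAwaySource Q) (f : X ⟶ S) (U : S.Opens)
    (h : ∀ x : X, f x ∈ U → ∃ (W : S.Opens) (V : X.Opens) (e : V ≤ f ⁻¹ᵁ W),
      IsAffineOpen W ∧ IsAffineOpen V ∧ x ∈ V ∧ W ≤ U ∧ Q (f.appLE W V e).hom) :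
    P (f ∣_ U) := by
  rw [HasRingHomProperty.iff_exists_appLE (P := P) hQ]
  intro x
  obtain ⟨W, V, e, hW, hV, hxV, hWU, hq⟩ := h ((f ⁻¹ᵁ U).ι x) x.2
  have hVU : V ≤ f ⁻¹ᵁ U := fun z hz => hWU (e hz)
  have e' : (f ⁻¹ᵁ U).ι ⁻¹ᵁ V ≤ (f ∣_ U) ⁻¹ᵁ (U.ι ⁻¹ᵁ W) := by
    rw [← Scheme.Hom.comp_preimage, morphismRestrict_ι, Scheme.Hom.comp_preimage]
    exact fun z hz => e hz
  have hW' : U.ι ''ᵁ (U.ι ⁻¹ᵁ W) = W := by
    rw [Scheme.Hom.image_preimage_eq_opensRange_inf, Scheme.Opens.opensRange_ι, inf_eq_right.mpr hWU]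
  have hV' : (f ⁻¹ᵁ U).ι ''ᵁ ((f ⁻¹ᵁ U).ι ⁻¹ᵁ V) = V := by
    rw [Scheme.Hom.image_preimage_eq_opensRange_inf, Scheme.Opens.opensRange_ι, inf_eq_right.mpr hVU]
  refine ⟨⟨U.ι ⁻¹ᵁ W, hW.preimage_of_isOpenImmersion U.ι (by rwa [Scheme.Opens.opensRange_ι])⟩,
    ⟨(f ⁻¹ᵁ U).ι ⁻¹ᵁ V, hV.preimage_of_isOpenImmersion _ (by rwa [Scheme.Opens.opensRange_ι])⟩, hxV,
    e', ?_⟩
  rw [morphismRestrict_appLE]
  exact (f.appLE_congr _ hW'.symm hV'.symm (fun g => Q g.hom)).mp hq

/-- Over an affine open of a reduced scheme, a morphism of finite type becomes flat and of finite presentation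
after removing a proper closed subset. -/
theorem exists_basicOpen_flat_fp (f : X ⟶ S) [IsReduced S] [LocallyOfFiniteType f] {W : S.Opens}
    (hW : IsAffineOpen W) {ι : Type*} (s : Finset ι) (V : ι → X.affineOpens) (hV : ∀ i, (V i : X.Opens) ≤ f ⁻¹ᵁ W)
    (g : Γ(S, W)) (hg : g ≠ 0) :
    ∃ c, g * c ≠ 0 ∧ ∀ i ∈ s,
      letI := (f.appLE W (V i) (hV i)).hom.toAlgebra
      GoodAway Γ(S, W) Γ(X, V i) Γ(X, V i) (g * c) := by
  classical
  induction s using Finset.induction with
  | empty => exact ⟨1, by simpa using hg, by simp⟩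
  | insert i s his ih =>
    obtain ⟨c, hc, hs⟩ := ih
    letI := (f.appLE W (V i) (hV i)).hom.toAlgebra
    haveI : Algebra.FiniteType Γ(S, W) Γ(X, V i) :=
      RingHom.finiteType_algebraMap.mp (f.finiteType_appLE hW (V i).2 (hV i))
    obtain ⟨c', hc', hi⟩ := exists_goodAway (R := Γ(S, W)) (S := Γ(X, V i)) Γ(X, V i) (g * c) hc
    refine ⟨c * c', by rwa [← mul_assoc], fun j hj => ?_⟩
    rw [← mul_assoc]
    rcases Finset.mem_insert.mp hj with rfl | hj
    · exact hi
    · letI := (f.appLE W (V j) (hV j)).hom.toAlgebra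
      exact (hs j hj).mul c'

/-- Generic flatness over a reduced scheme. -/
theorem exists_dense_flat_lfp (f : X ⟶ S) [IsReduced S] [LocallyOfFiniteType f] [QuasiCompact f] :
    ∃ U : S.Opens, Dense (U : Set S) ∧ Flat (f ∣_ U) ∧ LocallyOfFinitePresentation (f ∣_ U) := by
  classical
  let C : Set S.Opens := {W | IsAffineOpen W ∧ ∀ x : X, f x ∈ W → ∃ (V : X.Opens) (e : V ≤ f ⁻¹ᵁ W),
    IsAffineOpen V ∧ x ∈ V ∧ (f.appLE W V e).hom.Flat ∧ (f.appLE W V e).hom.FinitePresentation}
  refine ⟨sSup C, ?_, ?_, ?_⟩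
  · rw [dense_iff_inter_open]
    intro O hO hne
    obtain ⟨u, hu⟩ := hne
    obtain ⟨_, ⟨W, hW, rfl⟩, huW, hWO⟩ := S.isBasis_affineOpens.exists_subset_of_mem_open hu hO
    have hcpt : IsCompact (f ⁻¹ᵁ W : Set X) := f.isCompact_preimage hW.isCompact
    have hcov : ∀ x : (f ⁻¹ᵁ W : Set X), ∃ V : X.affineOpens, x.1 ∈ V.1 ∧ V.1 ≤ f ⁻¹ᵁ W := fun x => by
      obtain ⟨_, ⟨V, hV, rfl⟩, hxV, hVW⟩ :=
        X.isBasis_affineOpens.exists_subset_of_mem_open x.2 (f ⁻¹ᵁ W).2
      exact ⟨⟨V, hV⟩, hxV, hVW⟩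
    choose V hxV hVW using hcov
    obtain ⟨s, hs⟩ := hcpt.elim_finite_subcover (fun x => ((V x).1 : Set X)) (fun x => (V x).1.2)
      (fun x hx => Set.mem_iUnion.mpr ⟨⟨x, hx⟩, hxV ⟨x, hx⟩⟩)
    have hne1 : (1 : Γ(S, W)) ≠ 0 := by
      intro h10
      have := congrArg (S.presheaf.germ W u huW).hom h10
      rw [map_one, map_zero] at this
      exact one_ne_zero this
    obtain ⟨c, hc, hgood⟩ := exists_basicOpen_flat_fp f hW s V hVW 1 hne1
    rw [one_mul] at hc
    simp only [one_mul] at hgood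
    have hbne : (S.basicOpen c : Set S).Nonempty := by
      by_contra hemp
      rw [Set.not_nonempty_iff_eq_empty] at hemp
      exact hc ((basicOpen_eq_bot_iff c).mp (TopologicalSpace.Opens.ext hemp))
    obtain ⟨v, hv⟩ := hbne
    refine ⟨v, hWO (S.basicOpen_le c hv), TopologicalSpace.Opens.mem_sSup.mpr ⟨S.basicOpen c, ⟨hW.basicOpen c, ?_⟩, hv⟩⟩
    intro x hx
    obtain ⟨i, hi, hxi⟩ : ∃ i ∈ s, x ∈ (V i).1 := by
      simpa [Set.mem_iUnion] using hs (S.basicOpen_le c hx : x ∈ f ⁻¹ᵁ W)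
    have e : X.basicOpen (f.appLE W (V i) (hVW i) c) ≤ f ⁻¹ᵁ S.basicOpen c := by
      simp [Scheme.Hom.appLE]
    refine ⟨X.basicOpen (f.appLE W (V i) (hVW i) c), e, (V i).2.basicOpen _, ?_, ?_⟩
    · have : X.basicOpen (f.appLE W (V i) (hVW i) c) = (V i).1 ⊓ f ⁻¹ᵁ S.basicOpen c := by
        simp [Scheme.Hom.appLE, Scheme.basicOpen_res]
      rw [this]
      exact ⟨hxi, hx⟩
    · letI := (f.appLE W (V i) (hVW i)).hom.toAlgebra
      letI : Algebra Γ(X, V i) Γ(X, X.basicOpen (f.appLE W (V i) (hVW i) c)) :=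
        (X.presheaf.map (homOfLE (X.basicOpen_le _)).op).hom.toAlgebra
      letI : Algebra Γ(S, W) Γ(S, S.basicOpen c) := (S.presheaf.map (homOfLE (S.basicOpen_le c)).op).hom.toAlgebra
      letI : Algebra Γ(S, S.basicOpen c) Γ(X, X.basicOpen (f.appLE W (V i) (hVW i) c)) :=
        (f.appLE (S.basicOpen c) _ e).hom.toAlgebra
      letI : Algebra Γ(S, W) Γ(X, X.basicOpen (f.appLE W (V i) (hVW i) c)) :=
        (f.appLE W (X.basicOpen (f.appLE W (V i) (hVW i) c)) ((X.basicOpen_le _).trans (hVW i))).hom.toAlgebra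
      haveI : IsLocalization.Away c Γ(S, S.basicOpen c) := hW.isLocalization_basicOpen c
      haveI : IsLocalization.Away (algebraMap Γ(S, W) Γ(X, V i) c)
          Γ(X, X.basicOpen (f.appLE W (V i) (hVW i) c)) := (V i).2.isLocalization_basicOpen _
      haveI : IsScalarTower Γ(S, W) Γ(S, S.basicOpen c) Γ(X, X.basicOpen (f.appLE W (V i) (hVW i) c)) :=
        IsScalarTower.of_algebraMap_eq' (by
          simp only [RingHom.algebraMap_toAlgebra, ← CommRingCat.hom_comp, Scheme.Hom.map_appLE])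
      haveI : IsScalarTower Γ(S, W) Γ(X, V i) Γ(X, X.basicOpen (f.appLE W (V i) (hVW i) c)) :=
        IsScalarTower.of_algebraMap_eq' (by
          simp only [RingHom.algebraMap_toAlgebra, ← CommRingCat.hom_comp, Scheme.Hom.appLE_map])
      obtain ⟨h1, h2⟩ := (hgood i hi).flat_and_fp (R' := Γ(S, S.basicOpen c))
        (S' := Γ(X, X.basicOpen (f.appLE W (V i) (hVW i) c)))
      exact ⟨RingHom.flat_algebraMap_iff.mpr h1, RingHom.finitePresentation_algebraMap.mpr h2⟩
  · refine prop_morphismRestrict (P := @Flat)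
      (RingHom.Flat.stableUnderComposition.stableUnderCompositionWithLocalizationAway
        RingHom.Flat.holdsForLocalizationAway).1 f _ fun x hx => ?_
    obtain ⟨W, hWC, hxW⟩ := TopologicalSpace.Opens.mem_sSup.mp hx
    obtain ⟨V, e, hV, hxV, h1, -⟩ := hWC.2 x hxW
    exact ⟨W, V, e, hWC.1, hV, hxV, le_sSup hWC, h1⟩
  · refine prop_morphismRestrict (P := @LocallyOfFinitePresentation)
      (RingHom.finitePresentation_stableUnderComposition.stableUnderCompositionWithLocalizationAway
        RingHom.finitePresentation_holdsForLocalizationAway).1 f _ fun x hx => ?_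
    obtain ⟨W, hWC, hxW⟩ := TopologicalSpace.Opens.mem_sSup.mp hx
    obtain ⟨V, e, hV, hxV, -, h2⟩ := hWC.2 x hxW
    exact ⟨W, V, e, hWC.1, hV, hxV, le_sSup hWC, h2⟩

end Groth.L20.GFR
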