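import Groth.Agent.L07.Count.FlatProperConst
import Groth.Agent.L07.Spread.Pieces
import Groth.Agent.L20.GenericFlatScheme
import Groth.Agent.L06.FibreDimCons
import Groth.Agent.L23.FibreDimBC

/-!
Spreading out geometric (non-)reducedness of the generic fibre.
-/

universe u

open CategoryTheory CategoryTheory.Limits AlgebraicGeometry Topology

namespace Groth.L20.GenGeomRed

set_option autoImplicit false
set_option linter.style.haveILetI false
set_option maxSynthPendingDepth 3
set_option backward.isDefEq.respectTransparency.types false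
set_option backward.isDefEq.respectTransparency false

/-- The points over which the fibre of a flat morphism is geometrically reduced. -/
theorem geomReduced_iff_notMem {X S : Scheme.{u}} (f : X ⟶ S) [Flat f]
    [LocallyOfFinitePresentation f] (s : S) :
    GeometricallyReduced (f.fiberToSpecResidueField s) ↔
      s ∉ f.base '' {x : X | (f.stalkMap x).hom.Flat ∧
        FBase.IsGeomReducedAt (f.fiberToSpecResidueField (f.base x)) (f.asFiber x)}ᶜ := by
  constructor
  · rintro hs ⟨x, hx, rfl⟩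
    refine hx ⟨Flat.stalkMap f x, fun K _ hK x' _ => ?_⟩
    haveI : AlgebraicGeometry.IsReduced (@FBase.bc _ _ _ (f.fiberToSpecResidueField (f.base x)) K _ hK) :=
      (show GeometricallyReduced (f.fiberToSpecResidueField (f.base x)) from hs).geometrically_isReduced _ _ _
        (IsPullback.of_hasPullback _ _)
    infer_instance
  · intro hs
    refine ⟨fun K _ t Z fst snd hZ => ?_⟩
    obtain ⟨ψ, rfl⟩ := Spec.map_surjective t
    letI : Algebra (S.residueField s) K := ψ.hom.toAlgebra
    have hat : ∀ z : f.fiber s, FBase.IsGeomReducedAt (f.fiberToSpecResidueField s) z := fun z => by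
      obtain ⟨⟨x, hx⟩, rfl⟩ := (f.fiberHomeo s).symm.surjective z
      have hx' : f x = s := hx
      subst hx'
      by_contra hn
      exact hs ⟨x, fun hxO => hn hxO.2, rfl⟩
    have : ∀ x' : (FBase.bc (k := ↑(S.residueField s)) (f.fiberToSpecResidueField s) K : Scheme.{u}),
        _root_.IsReduced ((FBase.bc (k := ↑(S.residueField s)) (f.fiberToSpecResidueField s) K).presheaf.stalk x') :=
      fun x' => @hat ((FBase.bcπ (k := ↑(S.residueField s)) (f.fiberToSpecResidueField s) K).base x') K _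
        ψ.hom.toAlgebra x' rfl
    haveI : IsReduced (FBase.bc (k := ↑(S.residueField s)) (f.fiberToSpecResidueField s) K) :=
      isReduced_of_isReduced_stalk _
    exact @isReduced_of_isOpenImmersion _ _ hZ.isoPullback.hom _ this

/-- A flat, finitely presented model of a finite type morphism near the generic point. -/
theorem exists_model {X Y : Scheme.{u}} (f : X ⟶ Y) [IrreducibleSpace Y] [LocallyOfFiniteType f]
    [QuasiCompact f] :
    ∃ (Y' X' : Scheme.{u}) (_ : IrreducibleSpace Y') (g : Y' ⟶ Y) (f' : X' ⟶ Y') (g' : X' ⟶ X),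
      Flat f' ∧ LocallyOfFinitePresentation f' ∧ QuasiCompact f' ∧ IsPullback g' f' f g ∧
      g (genericPoint Y') = genericPoint Y ∧
      ∀ V' : Y'.Opens, genericPoint Y' ∈ V' →
        ∃ V : Y.Opens, genericPoint Y ∈ V ∧ ∀ y ∈ V, ∃ y' ∈ V', g y' = y := by
  obtain ⟨A, hA, i, hi, hV⟩ := Groth.L07.Spread.exists_integral_base Y
  haveI := hA
  let h := pullback.snd f i
  obtain ⟨U, hUd, hUflat, hUfp⟩ := Groth.L20.GFR.exists_dense_flat_lfp h
  haveI : Nonempty U := by
    obtain ⟨x, hx⟩ := hUd.nonempty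
    exact ⟨⟨x, hx⟩⟩
  haveI : IrreducibleSpace (U : Scheme.{u}) := U.ι.isOpenEmbedding.irreducibleSpace
  have hgen : i (U.ι (genericPoint (U : Scheme.{u}))) = genericPoint Y := by
    refine hi _ ?_
    rw [genericPoint_eq_of_isOpenImmersion U.ι, genericPoint_eq_bot_of_affine]
    rfl
  have sq := (isPullback_morphismRestrict h U).flip.paste_horiz (IsPullback.of_hasPullback f i)
  refine ⟨_, _, inferInstance, U.ι ≫ i, h ∣_ U, _, hUflat, hUfp, inferInstance, sq, by
    rw [Scheme.Hom.comp_apply]; exact hgen, fun V' hV' => ?_⟩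
  have hO : IsOpen (U.ι '' (V' : Set (U : Scheme.{u}))) := U.ι.isOpenEmbedding.isOpenMap _ V'.2
  obtain ⟨_, ⟨b, rfl⟩, hb, hbV⟩ :=
    PrimeSpectrum.isTopologicalBasis_basic_opens.exists_subset_of_mem_open
      (show genericPoint (Spec A) ∈ U.ι '' (V' : Set (U : Scheme.{u})) from
        ⟨_, hV', genericPoint_eq_of_isOpenImmersion U.ι⟩) hO
  obtain ⟨V, hξ, hVK⟩ := hV b fun h0 => hb (by rw [h0]; exact zero_mem _)
  refine ⟨V, hξ, fun y hy => ?_⟩
  let c : Spec (Y.residueField y) := (⟨⊥, Ideal.isPrime_bot⟩ : PrimeSpectrum (Y.residueField y))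
  obtain ⟨φ, hφ, hφb⟩ := hVK (Y.residueField y) (Y.fromSpecResidueField y) fun c => by
    exact (Scheme.fromSpecResidueField_apply y c).symm ▸ hy
  obtain ⟨y', hy', he⟩ := hbV (show Spec.map φ c ∈ PrimeSpectrum.basicOpen b from
    fun hm => hφb hm)
  refine ⟨y', hy', ?_⟩
  rw [Scheme.Hom.comp_apply, he, ← Scheme.Hom.comp_apply, hφ]
  exact Scheme.fromSpecResidueField_apply ..

/-- A geometrically reduced generic fibre spreads out. -/
theorem exists_geomReduced_restrict {X Y : Scheme.{u}} (f : X ⟶ Y) [IrreducibleSpace Y]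
    [LocallyOfFiniteType f] [QuasiCompact f]
    (h : GeometricallyReduced (f.fiberToSpecResidueField (genericPoint Y))) :
    ∃ V : Y.Opens, (V : Set Y).Nonempty ∧ GeometricallyReduced (f ∣_ V) := by
  obtain ⟨Y', X', _, g, f', g', _, _, _, sq, hgen, hV⟩ := exists_model f
  have hiff := fun y' => (geomReduced_iff_notMem f' y').symm.trans
    (Groth.L07.Count.geomReduced_fibre_iff f g f' g' sq y')
  obtain ⟨V', hξ', hV'⟩ := Groth.L07.Spread.exists_opens_disjoint_of_generic f' _
    (Groth.L07.FlatGeomReduced.isOpen_flat_geomReduced f').isClosed_compl fun x hx hfx =>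
      (hiff (genericPoint Y')).2 (by rw [hgen]; exact h) ⟨x, hx, hfx⟩
  obtain ⟨V, hξ, hVs⟩ := hV V' hξ'
  refine ⟨V, ⟨_, hξ⟩, (geometricallyReduced_iff _).2
    (Groth.L07.Spread.geometrically_morphismRestrict (P := IsReduced) f V fun K _ t ht => ?_)⟩
  let c : Spec (CommRingCat.of K) := (⟨⊥, Ideal.isPrime_bot⟩ : PrimeSpectrum K)
  obtain ⟨y', hy', he⟩ := hVs (t c) (ht c)
  have hred := (hiff y').1 fun ⟨x, hx, hfx⟩ => hV' x hx (hfx.symm ▸ hy')
  rw [he] at hred
  refine Groth.L07.Spread.pullback_of_geometrically_fiber f (t c)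
    ((geometricallyReduced_iff _).1 hred) K t fun c' => ?_
  rw [Subsingleton.elim c' c]

/-- A generic fibre which is not geometrically reduced spreads out. -/
theorem exists_forall_not_geomReduced {X Y : Scheme.{u}} (f : X ⟶ Y) [IrreducibleSpace Y]
    [LocallyOfFiniteType f] [QuasiCompact f]
    (h : ¬ GeometricallyReduced (f.fiberToSpecResidueField (genericPoint Y))) :
    ∃ V : Y.Opens, (V : Set Y).Nonempty ∧
      ∀ y ∈ V, ¬ GeometricallyReduced (f.fiberToSpecResidueField y) := by
  obtain ⟨Y', X', _, g, f', g', _, _, _, sq, hgen, hV⟩ := exists_model f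
  have hiff := fun y' => (geomReduced_iff_notMem f' y').symm.trans
    (Groth.L07.Count.geomReduced_fibre_iff f g f' g' sq y')
  obtain ⟨x, hx, hfx⟩ : genericPoint Y' ∈ f'.base '' {x : X' | (f'.stalkMap x).hom.Flat ∧
      FBase.IsGeomReducedAt (f'.fiberToSpecResidueField (f'.base x)) (f'.asFiber x)}ᶜ := by
    by_contra hn
    exact h (hgen ▸ (hiff (genericPoint Y')).1 hn)
  let I := Scheme.IdealSheafData.vanishingIdeal (X := X')
    ⟨_, (Groth.L07.FlatGeomReduced.isOpen_flat_geomReduced f').isClosed_compl⟩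
  have hr : Set.range I.subschemeι = {x : X' | (f'.stalkMap x).hom.Flat ∧
      FBase.IsGeomReducedAt (f'.fiberToSpecResidueField (f'.base x)) (f'.asFiber x)}ᶜ := by
    rw [Scheme.IdealSheafData.range_subschemeι, Scheme.IdealSheafData.coe_support_vanishingIdeal]; rfl
  obtain ⟨z, rfl⟩ : x ∈ Set.range I.subschemeι := hr ▸ hx
  obtain ⟨V', hξ', hV'⟩ := Groth.L07.Spread.exists_opens_subset_image (I.subschemeι ≫ f') ⊤ z trivial
    (by rw [Scheme.Hom.comp_apply]; exact hfx)
  obtain ⟨V, hξ, hVs⟩ := hV V' hξ'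
  refine ⟨V, ⟨_, hξ⟩, fun y hy hred => ?_⟩
  obtain ⟨y', hy', rfl⟩ := hVs y hy
  obtain ⟨w, -, hw⟩ := hV' y' hy'
  refine (hiff y').2 hred ⟨I.subschemeι w, hr ▸ ⟨w, rfl⟩, ?_⟩
  rw [← hw, Scheme.Hom.comp_apply]

/-- A constructible set is either a neighbourhood of a generic point or its complement is. -/
theorem mem_nhds_of_isConstructible {T : Type*} [TopologicalSpace T] {η : T}
    (hη : ∀ O : Set T, IsOpen O → O.Nonempty → η ∈ O) {s : Set T} (hs : IsConstructible s) :
    (η ∈ s → s ∈ 𝓝 η) ∧ (η ∉ s → sᶜ ∈ 𝓝 η) := by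
  induction hs using IsConstructible.empty_union_induction with
  | open_retrocompact U hUo _ =>
    refine ⟨fun h => hUo.mem_nhds h, fun h => ?_⟩
    rcases U.eq_empty_or_nonempty with rfl | hne
    · simp
    · exact absurd (hη U hUo hne) h
  | union s _ t _ hs ht =>
    refine ⟨fun h => ?_, fun h => ?_⟩
    · rcases h with h | h
      · exact Filter.mem_of_superset (hs.1 h) Set.subset_union_left
      · exact Filter.mem_of_superset (ht.1 h) Set.subset_union_right
    · rw [Set.compl_union]
      exact Filter.inter_mem (hs.2 fun h' => h (Or.inl h')) (ht.2 fun h' => h (Or.inr h'))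
  | compl s _ hs =>
    refine ⟨fun h => hs.2 h, fun h => ?_⟩
    rw [compl_compl]
    exact hs.1 (not_not.1 h)

/-- A locally constructible set containing the generic point is a neighbourhood of it. -/
theorem mem_nhds_of_isLocallyConstructible {T : Type*} [TopologicalSpace T] [QuasiSober T]
    [IrreducibleSpace T] {s : Set T} (hs : IsLocallyConstructible s) (h : genericPoint T ∈ s) :
    s ∈ 𝓝 (genericPoint T) := by
  obtain ⟨W, hW, hWo, hc⟩ := hs (genericPoint T)
  have hmem := mem_of_mem_nhds hW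
  have h2 := (mem_nhds_of_isConstructible (η := (⟨genericPoint T, hmem⟩ : W)) (fun O hO hne => by
    obtain ⟨O', hO', rfl⟩ := hO
    obtain ⟨x, hx⟩ := hne
    exact ((genericPoint_spec T).specializes trivial).mem_open hO' hx) hc).1 h
  rw [mem_nhds_iff] at h2
  obtain ⟨O, hOs, hO, hOη⟩ := h2
  exact Filter.mem_of_superset ((hWo.isOpenMap_subtype_val O hO).mem_nhds ⟨_, hOη, rfl⟩)
    (Set.image_subset_iff.2 hOs)

/-- The dimension of a fibre is invariant under base change. -/
theorem dim_fiber_of_isPullback {X Y X' Y' : Scheme.{u}} {g' : X' ⟶ X} {f' : X' ⟶ Y'} {f : X ⟶ Y}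
    {g : Y' ⟶ Y} [LocallyOfFiniteType f] [QuasiCompact f] (sq : IsPullback g' f' f g) (y' : Y') :
    topologicalKrullDim ↥(f'.fiber y') = topologicalKrullDim ↥(f.fiber (g y')) := by
  haveI : LocallyOfFiniteType f' := MorphismProperty.of_isPullback sq inferInstance
  haveI : QuasiCompact f' := MorphismProperty.of_isPullback sq inferInstance
  have key : ∀ d : ℕ, (d : WithBot ℕ∞) ≤ topologicalKrullDim ↥(f'.fiber y') ↔
      (d : WithBot ℕ∞) ≤ topologicalKrullDim ↥(f.fiber (g y')) := fun d => by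
    rw [Groth.L06.FibreDimLocConst.nat_le_fiber_iff, Groth.L06.FibreDimLocConst.nat_le_fiber_iff]
    constructor
    · rintro ⟨x', rfl, hd⟩
      refine ⟨g' x', ?_, by rwa [← Groth.L23.fibreDimAt_of_isPullback sq]⟩
      rw [← Scheme.Hom.comp_apply, sq.w, Scheme.Hom.comp_apply]
    · rintro ⟨x, hx, hd⟩
      obtain ⟨x', h1, h2⟩ := Scheme.exists_preimage_of_isPullback sq x y' hx
      exact ⟨x', h2, by rwa [Groth.L23.fibreDimAt_of_isPullback sq, h1]⟩
  have cast : ∀ {a b : WithBot ℕ∞} (m : ℕ), a ≤ (m : WithBot ℕ∞) →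
      (∀ d : ℕ, (d : WithBot ℕ∞) ≤ a → (d : WithBot ℕ∞) ≤ b) → a ≤ b := by
    intro a b m hm hd
    induction a with
    | bot => exact bot_le
    | coe a =>
      induction a with
      | top => exact absurd (WithBot.coe_le_coe.1 hm) (by simp)
      | coe a => exact hd a le_rfl
  obtain ⟨m, hm⟩ := Groth.L06.FibreDimLocConst.exists_bound f' y'
  obtain ⟨m', hm'⟩ := Groth.L06.FibreDimLocConst.exists_bound f (g y')
  exact le_antisymm (cast m hm fun d => (key d).1) (cast m' hm' fun d => (key d).2)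

/-- The dimension of the generic fibre spreads out. -/
theorem exists_fibre_dim_eq {X Y : Scheme.{u}} (f : X ⟶ Y) [IrreducibleSpace Y]
    [LocallyOfFiniteType f] [QuasiCompact f] :
    ∃ V : Y.Opens, (V : Set Y).Nonempty ∧ ∀ y ∈ V,
      topologicalKrullDim ↥(f.fiber y) = topologicalKrullDim ↥(f.fiber (genericPoint Y)) := by
  obtain ⟨Y', X', _, g, f', g', _, _, _, sq, hgen, hV⟩ := exists_model f
  have hmem : genericPoint Y' ∈ {y' | topologicalKrullDim ↥(f'.fiber y') =
      topologicalKrullDim ↥(f.fiber (genericPoint Y))} := by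
    rw [Set.mem_setOf_eq, dim_fiber_of_isPullback sq, hgen]
  obtain ⟨W, hWs, hW, hWη⟩ := mem_nhds_iff.1 (mem_nhds_of_isLocallyConstructible
    (Groth.L06.FibreDimCons.isLocallyConstructible_fibre_eq f' _) hmem)
  obtain ⟨V, hξ, hVs⟩ := hV ⟨W, hW⟩ hWη
  refine ⟨V, ⟨_, hξ⟩, fun y hy => ?_⟩
  obtain ⟨y', hy', rfl⟩ := hVs y hy
  rw [← dim_fiber_of_isPullback sq]
  exact hWs hy'

end Groth.L20.GenGeomRed
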