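import Groth.Agent.L20.TensorLemmas
import Mathlib.RingTheory.Localization.BaseChange
import Mathlib.RingTheory.Flat.Localization
import Mathlib.RingTheory.Flat.Tensor

/-!
# Flatness of localized modules, elementwise
-/

universe u v w

namespace Groth.L20

open TensorProduct LinearMap

variable {R : Type*} [CommRing R] {S : Type*} [CommRing S] [Algebra R S]
  {M : Type*} [AddCommGroup M] [Module R M] [Module S M] [IsScalarTower R S M]

/-- `M_T` is flat over `R` as soon as every element of `M ⊗ J` killed in `M` is killed by an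
element of `T`. -/
theorem flat_localizedModule_of_forall (T : Submonoid S)
    (h : ∀ (J : Ideal R) (z : M ⊗[R] J), J.subtype.lTensor M z = 0 → ∃ t ∈ T, t • z = 0) :
    Module.Flat R (LocalizedModule T M) := by
  rw [Module.Flat.iff_lTensor_injective']
  intro J
  rw [injective_iff_map_eq_zero]
  intro w hw
  let g := LocalizedModule.mkLinearMap T M
  obtain ⟨⟨z, s⟩, hzs⟩ := IsLocalizedModule.surj T (AlgebraTensorModule.rTensor R J g) w
  change (s : S) • w = AlgebraTensorModule.rTensor R J g z at hzs
  have h1 : AlgebraTensorModule.rTensor R R g (J.subtype.lTensor M z) = 0 := by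
    have h2 : J.subtype.lTensor (LocalizedModule T M) ((s : S) • w) = 0 := by
      have := LinearMap.map_smul (AlgebraTensorModule.lTensor S (LocalizedModule T M) J.subtype)
        (s : S) w
      rw [AlgebraTensorModule.coe_lTensor, hw, smul_zero] at this
      exact this
    rw [hzs] at h2
    rw [← h2]
    clear h2 hzs hw
    induction z using TensorProduct.induction_on with
    | zero => simp
    | add a b ha hb => simp only [map_add, ha, hb]
    | tmul m j => simp
  obtain ⟨t, ht⟩ := (IsLocalizedModule.eq_zero_iff T (AlgebraTensorModule.rTensor R R g)).mp h1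
  have h3 : J.subtype.lTensor M ((t : S) • z) = 0 := by
    have := LinearMap.map_smul (AlgebraTensorModule.lTensor S M J.subtype) (t : S) z
    rw [AlgebraTensorModule.coe_lTensor] at this
    rw [this]
    exact ht
  obtain ⟨t', ht', ht''⟩ := h J _ h3
  have h4 : (t' * t * s : S) • w = 0 := by
    rw [mul_smul, hzs, ← LinearMap.map_smul, mul_smul, ht'', map_zero]
  have h5 : (⟨t' * t * s, T.mul_mem (T.mul_mem ht' t.2) s.2⟩ : T) • w = 0 := h4
  refine (IsLocalizedModule.smul_injective (AlgebraTensorModule.rTensor R J g)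
    (⟨t' * t * s, T.mul_mem (T.mul_mem ht' t.2) s.2⟩ : T)) ?_
  simp only [h5, smul_zero]

/-- `M_q` is flat if all `M/I^nM` are flat over `R/I^n`, for `q` containing `IS`. -/
theorem flat_localizedModule_of_flat_pow [IsNoetherianRing R] [IsNoetherianRing S]
    [Module.Finite S M] (I : Ideal R)
    (h : ∀ n : ℕ, 0 < n → Module.Flat (R ⧸ I ^ n) ((R ⧸ I ^ n) ⊗[R] M))
    (q : Ideal S) [q.IsPrime] (hq : I.map (algebraMap R S) ≤ q) :
    Module.Flat R (LocalizedModule q.primeCompl M) := by
  refine flat_localizedModule_of_forall _ fun J z hz => ?_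
  obtain ⟨c, hc⟩ := I.exists_pow_inf_eq_pow_smul (M := R) J
  have : Module.Finite S (M ⊗[R] J) := by
    obtain ⟨n, f, hf⟩ := Module.Finite.exists_fin' R J
    exact Module.Finite.of_surjective
      (AlgebraTensorModule.lTensor S M f ∘ₗ (piScalarRight R S M (Fin n)).symm.toLinearMap)
      ((lTensor_surjective M hf).comp (piScalarRight R S M (Fin n)).symm.surjective)
  have step : ∀ n : ℕ, z ∈ (I ^ n) • (⊤ : Submodule R (M ⊗[R] J)) := by
    intro n
    have := h (n + c + 1) (Nat.succ_pos _)
    let K := I ^ (n + c + 1)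
    let q' : J →ₗ[R] R ⧸ K := K.mkQ ∘ₗ J.subtype
    have h2 : q'.rangeRestrict.lTensor M z = 0 := by
      have hinj : Function.Injective ((LinearMap.range q').subtype.lTensor M) := by
        rw [LinearMap.lTensor_inj_iff_rTensor_inj]
        refine rTensor_injective_of_killed K (fun a ha x => ?_) _ Subtype.val_injective
        obtain ⟨x, rfl⟩ := K.mkQ_surjective x
        rw [← map_smul, Submodule.mkQ_apply, Submodule.Quotient.mk_eq_zero, smul_eq_mul]
        exact K.mul_mem_right _ ha
      apply hinj
      rw [map_zero, ← lTensor_comp_apply,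
        show (LinearMap.range q').subtype ∘ₗ q'.rangeRestrict = K.mkQ ∘ₗ J.subtype from rfl,
        lTensor_comp_apply, hz, map_zero]
    obtain ⟨w, hw⟩ := mem_range_lTensor_of_exact (A := LinearMap.ker q')
      (f := (LinearMap.ker q').subtype)
      (by rw [LinearMap.exact_iff, ker_rangeRestrict, Submodule.range_subtype])
      (LinearMap.surjective_rangeRestrict q') h2
    have hle : ∀ x : LinearMap.ker q', (x : J) ∈ (I ^ n • ⊤ : Submodule R J) := by
      rintro ⟨x, hx⟩
      have hxK : (x : R) ∈ K ⊓ J := ⟨(Submodule.Quotient.mk_eq_zero K).mp hx, x.2⟩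
      have h3 := hc (n + c + 1) (by omega)
      simp only [smul_eq_mul, Ideal.mul_top] at h3
      rw [h3] at hxK
      have h4 : (x : R) ∈ I ^ n • J := by
        refine Ideal.mul_mono (Ideal.pow_le_pow_right (by omega)) inf_le_right hxK
      have h6 : (x : R) ∈ Submodule.map J.subtype (I ^ n • (⊤ : Submodule R J)) := by
        rwa [Submodule.map_smul'', Submodule.map_top, Submodule.range_subtype]
      obtain ⟨y, hy, hyx⟩ := h6
      change x ∈ (I ^ n • ⊤ : Submodule R J)
      rwa [show x = y from Subtype.ext hyx.symm]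
    apply range_lTensor_smul_top_le (M := M)
    refine ⟨(LinearMap.codRestrict (I ^ n • ⊤ : Submodule R J) (LinearMap.ker q').subtype hle).lTensor M w, ?_⟩
    rw [← lTensor_comp_apply, ← hw]
    rfl
  have hmem : z ∈ (⨅ n : ℕ, (I.map (algebraMap R S)) ^ n • ⊤ : Submodule S (M ⊗[R] J)) := by
    rw [Submodule.mem_iInf]
    intro n
    rw [← Ideal.map_pow]
    suffices ∀ y ∈ (I ^ n • ⊤ : Submodule R (M ⊗[R] J)),
        y ∈ (I ^ n).map (algebraMap R S) • (⊤ : Submodule S (M ⊗[R] J)) from this z (step n)
    intro y hy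
    induction hy using Submodule.smul_induction_on' with
    | smul r hr y _ =>
      rw [← algebraMap_smul S r y]
      exact Submodule.smul_mem_smul (Ideal.mem_map_of_mem _ hr) trivial
    | add a _ b _ ha hb => exact add_mem ha hb
  obtain ⟨r, hr⟩ := (Ideal.mem_iInf_smul_pow_eq_bot_iff _ z).mp hmem
  refine ⟨1 - r, fun hmem' => ?_, ?_⟩
  · have := q.add_mem hmem' (hq r.2)
    rw [sub_add_cancel] at this
    exact (inferInstance : q.IsPrime).ne_top ((Ideal.eq_top_iff_one q).mpr this)
  · rw [sub_smul, one_smul, hr, sub_self]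

end Groth.L20
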