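import Groth.Agent.L20.FibreModule
import Groth.Agent.L20.FibreScheme
import Groth.Agent.L20.ModFlat
import Groth.Agent.L20.ModPullback

/-!
# The fibrewise criterion of flatness for quasi-coherent modules
-/

set_option autoImplicit false
set_option linter.style.haveILetI false
set_option backward.isDefEq.respectTransparency.types false

universe u

open CategoryTheory CategoryTheory.Limits AlgebraicGeometry

namespace Groth.L20.FibreModule

variable {X Y S : Scheme.{u}}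

/-- The stalk of a finitely presented module is a finite module. -/
theorem finite_stalk (F : X.Modules) (hq : Coh.IsQCoh F) (hfp : CohB1.IsFP F) (x : X) :
    Module.Finite (X.presheaf.stalk x) (F.presheaf.stalk x) := by
  obtain ⟨_, ⟨U, hU, rfl⟩, hxU, -⟩ :=
    X.isBasis_affineOpens.exists_subset_of_mem_open (Set.mem_univ x) isOpen_univ
  haveI := hq
  letI := ModStalk.stalkModule F hxU
  letI := X.presheaf.algebra_section_stalk ⟨x, hxU⟩
  haveI := hU.isLocalization_stalk ⟨x, hxU⟩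
  haveI := ModStalk.isLocalizedModule_germ F hU hxU
  haveI := ModStalk.finitePresentation_sections F hfp hU
  haveI : IsScalarTower Γ(X, U) (X.presheaf.stalk x) (F.presheaf.stalk x) :=
    IsScalarTower.of_algebraMap_smul fun _ _ => rfl
  exact Module.Finite.of_isLocalizedModule (hU.primeIdealOf ⟨x, hxU⟩).asIdeal.primeCompl
    (Rₚ := X.presheaf.stalk x) (ModStalk.germₗ F hxU)

/-- Forward direction, the flatness over `Y`. -/
theorem isFlatOverAt_of_fibre (f : X ⟶ Y) (g : Y ⟶ S) [LocallyOfFinitePresentation (f ≫ g)]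
    [LocallyOfFiniteType g] (F : X.Modules) (hq : Coh.IsQCoh F) (hfp : CohB1.IsFP F) (x : X)
    (h₁ : FlatMod.IsFlatOverAt (f ≫ g) F x)
    (h₂ : letI := FlatMod.moduleStalkOver f F x
      Module.Flat (↑(Y.presheaf.stalk (f x)) ⧸ Ideal.map (g.stalkMap (f x)).hom (IsLocalRing.maximalIdeal ↑(S.presheaf.stalk (g (f x)))))
        (↑(F.presheaf.stalk x) ⧸ (Ideal.map (g.stalkMap (f x)).hom (IsLocalRing.maximalIdeal ↑(S.presheaf.stalk (g (f x)))) •
          (⊤ : Submodule ↑(Y.presheaf.stalk (f x)) ↑(F.presheaf.stalk x))))) :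
    FlatMod.IsFlatOverAt f F x := by
  classical
  haveI := hq
  obtain ⟨_, ⟨W, hW, rfl⟩, hxW, -⟩ :=
    S.isBasis_affineOpens.exists_subset_of_mem_open (Set.mem_univ (g (f x))) isOpen_univ
  obtain ⟨_, ⟨V, hV, rfl⟩, hxV, hVW⟩ :=
    Y.isBasis_affineOpens.exists_subset_of_mem_open (a := f x) (show f x ∈ g ⁻¹ᵁ W from hxW) (g ⁻¹ᵁ W).2
  obtain ⟨_, ⟨U, hU, rfl⟩, hxU, hUV⟩ :=
    X.isBasis_affineOpens.exists_subset_of_mem_open (a := x) (show x ∈ f ⁻¹ᵁ V from hxV) (f ⁻¹ᵁ V).2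
  have hUW : U ≤ (f ≫ g) ⁻¹ᵁ W := fun z hz => hVW (hUV hz)
  rw [ModStalk.isFlatOverAt_iff f F hV hU hUV hxU]
  rw [ModStalk.isFlatOverAt_iff (f ≫ g) F hW hU hUW hxU] at h₁
  letI : Algebra Γ(S, W) Γ(Y, V) := (g.appLE W V hVW).hom.toAlgebra
  letI : Algebra Γ(Y, V) Γ(X, U) := (f.appLE V U hUV).hom.toAlgebra
  letI : Algebra Γ(S, W) Γ(X, U) := ((f ≫ g).appLE W U hUW).hom.toAlgebra
  letI : Module Γ(Y, V) Γ(F, U) := Module.compHom Γ(F, U) (f.appLE V U hUV).hom
  letI : Module Γ(S, W) Γ(F, U) := Module.compHom Γ(F, U) ((f ≫ g).appLE W U hUW).hom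
  haveI : IsScalarTower Γ(Y, V) Γ(X, U) Γ(F, U) := IsScalarTower.of_algebraMap_smul fun _ _ => rfl
  haveI : IsScalarTower Γ(S, W) Γ(X, U) Γ(F, U) := IsScalarTower.of_algebraMap_smul fun _ _ => rfl
  have happ : g.appLE W V hVW ≫ f.appLE V U hUV = (f ≫ g).appLE W U hUW :=
    Scheme.Hom.appLE_comp_appLE _ _ _ _ _ _ _
  haveI : IsScalarTower Γ(S, W) Γ(Y, V) Γ(X, U) := IsScalarTower.of_algebraMap_eq' (by
    show ((f ≫ g).appLE W U hUW).hom = (f.appLE V U hUV).hom.comp (g.appLE W V hVW).hom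
    rw [← happ]; rfl)
  haveI : Algebra.FiniteType Γ(S, W) Γ(Y, V) :=
    RingHom.finiteType_algebraMap.mp (g.finiteType_appLE hW hV hVW)
  haveI : Algebra.FinitePresentation Γ(S, W) Γ(X, U) :=
    RingHom.finitePresentation_algebraMap.mp ((f ≫ g).finitePresentation_appLE hW hU hUW)
  haveI := ModStalk.finitePresentation_sections F hfp hU
  haveI := h₁
  letI : Algebra Γ(Y, V) (Y.presheaf.stalk (f x)) := Y.presheaf.algebra_section_stalk ⟨f x, hxV⟩
  letI : Algebra Γ(X, U) (X.presheaf.stalk x) := X.presheaf.algebra_section_stalk ⟨x, hxU⟩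
  letI : Algebra Γ(S, W) (Y.presheaf.stalk (f x)) :=
    ((algebraMap Γ(Y, V) (Y.presheaf.stalk (f x))).comp (algebraMap Γ(S, W) Γ(Y, V))).toAlgebra
  letI : Algebra Γ(S, W) (X.presheaf.stalk x) :=
    ((algebraMap Γ(X, U) (X.presheaf.stalk x)).comp (algebraMap Γ(S, W) Γ(X, U))).toAlgebra
  haveI : IsScalarTower Γ(S, W) Γ(Y, V) (Y.presheaf.stalk (f x)) := IsScalarTower.of_algebraMap_eq fun _ => rfl
  haveI : IsScalarTower Γ(S, W) Γ(X, U) (X.presheaf.stalk x) := IsScalarTower.of_algebraMap_eq fun _ => rfl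
  haveI := hU.isLocalization_stalk ⟨x, hxU⟩
  letI : Algebra (Y.presheaf.stalk (f x)) (X.presheaf.stalk x) := (f.stalkMap x).hom.toAlgebra
  letI := FlatMod.moduleStalkOver f F x
  haveI : IsScalarTower (Y.presheaf.stalk (f x)) (X.presheaf.stalk x) (F.presheaf.stalk x) :=
    IsScalarTower.of_algebraMap_smul fun _ _ => rfl
  letI := ModStalk.stalkModule F hxU
  haveI : IsScalarTower Γ(X, U) (X.presheaf.stalk x) (F.presheaf.stalk x) :=
    IsScalarTower.of_algebraMap_smul fun _ _ => rfl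
  haveI := ModStalk.isLocalizedModule_germ F hU hxU
  have hqA : (hU.primeIdealOf ⟨x, hxU⟩).asIdeal.comap (algebraMap Γ(Y, V) Γ(X, U)) =
      (hV.primeIdealOf ⟨f x, hxV⟩).asIdeal :=
    congr($(IsAffineOpen.comap_primeIdealOf_appLE V hV U hU hUV hxU).1)
  haveI : IsLocalization.AtPrime (Y.presheaf.stalk (f x))
      ((hU.primeIdealOf ⟨x, hxU⟩).asIdeal.comap (algebraMap Γ(Y, V) Γ(X, U))) := by
    have := hV.isLocalization_stalk ⟨f x, hxV⟩
    simp only [hqA]
    exact this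
  have hp : (hW.primeIdealOf ⟨g (f x), hxW⟩).asIdeal =
      (hU.primeIdealOf ⟨x, hxU⟩).asIdeal.comap (algebraMap Γ(S, W) Γ(X, U)) :=
    congr($(IsAffineOpen.comap_primeIdealOf_appLE W hW U hU hUW hxU).1).symm
  have hm : (hW.primeIdealOf ⟨g (f x), hxW⟩).asIdeal.map (S.presheaf.germ W (g (f x)) hxW).hom =
      IsLocalRing.maximalIdeal (S.presheaf.stalk (g (f x))) := by
    letI := S.presheaf.algebra_section_stalk ⟨g (f x), hxW⟩
    haveI := hW.isLocalization_stalk ⟨g (f x), hxW⟩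
    exact IsLocalization.AtPrime.map_eq_maximalIdeal _ (S.presheaf.stalk (g (f x)))
  have hA : (hW.primeIdealOf ⟨g (f x), hxW⟩).asIdeal.map (algebraMap Γ(S, W) (Y.presheaf.stalk (f x))) =
      Ideal.map (g.stalkMap (f x)).hom (IsLocalRing.maximalIdeal (S.presheaf.stalk (g (f x)))) := by
    rw [← hm, Ideal.map_map]
    congr 1
    exact RingHom.ext fun a => (appLE_germ hVW hxV hxW a).symm
  refine FibreCrit.flat_of_stalk_module (R := Γ(S, W)) (LA := Y.presheaf.stalk (f x))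
    (LB := X.presheaf.stalk x) (hU.primeIdealOf ⟨x, hxU⟩).asIdeal (fun a => appLE_germ hUV hxU hxV a)
    (ModStalk.germₗ F hxU) (hW.primeIdealOf ⟨g (f x), hxW⟩).asIdeal hp ?_
  rw [hA]
  exact h₂

/-- The fibrewise criterion, pointwise equivalence. -/
theorem fibre_criterion (f : X ⟶ Y) (g : Y ⟶ S) [LocallyOfFinitePresentation (f ≫ g)]
    [LocallyOfFiniteType g] (F : X.Modules) (hq : Coh.IsQCoh F) (hfp : CohB1.IsFP F) (x : X)
    (hx : Nontrivial ↑(F.presheaf.stalk x)) :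
    letI := FlatMod.moduleStalkOver f F x
    (FlatMod.IsFlatOverAt (f ≫ g) F x ∧
      Module.Flat (↑(Y.presheaf.stalk (f x)) ⧸ Ideal.map (g.stalkMap (f x)).hom (IsLocalRing.maximalIdeal ↑(S.presheaf.stalk (g (f x)))))
        (↑(F.presheaf.stalk x) ⧸ (Ideal.map (g.stalkMap (f x)).hom (IsLocalRing.maximalIdeal ↑(S.presheaf.stalk (g (f x)))) •
          (⊤ : Submodule ↑(Y.presheaf.stalk (f x)) ↑(F.presheaf.stalk x))))) ↔
    ((g.stalkMap (f x)).hom.Flat ∧ FlatMod.IsFlatOverAt f F x) := by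
  letI := FlatMod.moduleStalkOver f F x
  letI := FlatMod.moduleStalkOver (f ≫ g) F x
  letI : Algebra (S.presheaf.stalk (g (f x))) (Y.presheaf.stalk (f x)) := (g.stalkMap (f x)).hom.toAlgebra
  letI : Algebra (Y.presheaf.stalk (f x)) (X.presheaf.stalk x) := (f.stalkMap x).hom.toAlgebra
  letI : Module (S.presheaf.stalk (g (f x))) (F.presheaf.stalk x) :=
    FlatMod.moduleStalkOver (f ≫ g) F x
  haveI : IsScalarTower (Y.presheaf.stalk (f x)) (X.presheaf.stalk x) (F.presheaf.stalk x) :=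
    IsScalarTower.of_algebraMap_smul fun _ _ => rfl
  haveI : IsScalarTower (S.presheaf.stalk (g (f x))) (Y.presheaf.stalk (f x)) (F.presheaf.stalk x) :=
    IsScalarTower.of_algebraMap_smul fun a z => by
      show (f.stalkMap x).hom ((g.stalkMap (f x)).hom a) • z = ((f ≫ g).stalkMap x).hom a • z
      congr 1
      exact ((congrArg (fun φ => φ.hom a) (Scheme.Hom.stalkMap_comp f g x)).trans rfl).symm
  haveI : IsLocalHom (algebraMap (Y.presheaf.stalk (f x)) (X.presheaf.stalk x)) :=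
    inferInstanceAs (IsLocalHom (f.stalkMap x).hom)
  constructor
  · rintro ⟨h₁, h₂⟩
    have h₃ := isFlatOverAt_of_fibre f g F hq hfp x h₁ h₂
    refine ⟨?_, h₃⟩
    haveI := finite_stalk F hq hfp x
    haveI : Module.Flat (Y.presheaf.stalk (f x)) (F.presheaf.stalk x) := h₃
    haveI : Module.Flat (S.presheaf.stalk (g (f x))) (F.presheaf.stalk x) := h₁
    haveI : Module.FaithfullyFlat (Y.presheaf.stalk (f x)) (F.presheaf.stalk x) :=
      FibreCrit.faithfullyFlat_of_finite_local (B := X.presheaf.stalk x)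
    exact FibreCrit.flat_of_faithfullyFlat_module _ (Y.presheaf.stalk (f x)) (F.presheaf.stalk x)
  · rintro ⟨h₁, h₂⟩
    haveI : Module.Flat (S.presheaf.stalk (g (f x))) (Y.presheaf.stalk (f x)) := h₁
    haveI : Module.Flat (Y.presheaf.stalk (f x)) (F.presheaf.stalk x) := h₂
    refine ⟨Module.Flat.trans (S.presheaf.stalk (g (f x))) (Y.presheaf.stalk (f x)) (F.presheaf.stalk x), ?_⟩
    generalize Ideal.map (g.stalkMap (f x)).hom (IsLocalRing.maximalIdeal ↑(S.presheaf.stalk (g (f x)))) = I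
    exact Module.Flat.of_linearEquiv
      ((TensorProduct.quotTensorEquivQuotSMul (F.presheaf.stalk x) I).symm.extendScalarsOfSurjective
        (S := ↑(Y.presheaf.stalk (f x)) ⧸ I) Ideal.Quotient.mk_surjective)

end Groth.L20.FibreModule
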