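import Mathlib.AlgebraicGeometry.AffineSpace
import Mathlib.AlgebraicGeometry.Morphisms.UniversallyOpen
import Mathlib.AlgebraicGeometry.PullbackCarrier
import Mathlib.LinearAlgebra.TensorProduct.Finiteness

/-!
# Universal openness detected on affine spaces
-/

universe u

open CategoryTheory Limits AlgebraicGeometry TensorProduct

namespace Groth.L20

/-- If `Spec A[x₁,…,xₙ] → Spec R[x₁,…,xₙ]` is open for all `n`, then so is `Spec (A ⊗ B) → Spec B`. -/
theorem isOpenMap_comap_tensor {R A B : Type u} [CommRing R] [CommRing A] [CommRing B] [Algebra R A]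
    [Algebra R B]
    (H : ∀ n : ℕ, IsOpenMap (PrimeSpectrum.comap
      (MvPolynomial.map (algebraMap R A) : MvPolynomial (ULift.{u} (Fin n)) R →+* _))) :
    IsOpenMap (PrimeSpectrum.comap
      (Algebra.TensorProduct.includeRight (R := R) (A := A) (B := B)).toRingHom) := by
  classical
  rw [PrimeSpectrum.isTopologicalBasis_basic_opens.isOpenMap_iff]
  rintro _ ⟨h, rfl⟩
  obtain ⟨s, rfl⟩ := TensorProduct.exists_finset h
  let σ := ULift.{u} (Fin s.card)
  let c : σ → A × B := fun i => (s.equivFin.symm i.down).1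
  let φ : MvPolynomial σ R →ₐ[R] B := MvPolynomial.aeval fun i => (c i).2
  let h0 : MvPolynomial σ A := ∑ i, MvPolynomial.C (c i).1 * MvPolynomial.X i
  let inclR := (Algebra.TensorProduct.includeRight (R := R) (A := A) (B := B)).toRingHom
  let e : MvPolynomial σ A →+* A ⊗[R] B :=
    MvPolynomial.eval₂Hom (Algebra.TensorProduct.includeLeftRingHom)
      fun i => inclR (c i).2
  have he0 : e h0 = ∑ x ∈ s, x.1 ⊗ₜ[R] x.2 := by
    rw [← Finset.sum_coe_sort s fun x => x.1 ⊗ₜ[R] x.2, map_sum]
    refine Fintype.sum_equiv (Equiv.ulift.trans s.equivFin.symm) _ _ fun i => ?_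
    simp [e, inclR, c]
  have hcomm : e.comp (MvPolynomial.map (algebraMap R A)) = inclR.comp φ.toRingHom := by
    refine MvPolynomial.ringHom_ext (fun r => ?_) fun i => ?_
    · simp [e, φ, inclR]
    · simp [e, φ, inclR]
  have key : PrimeSpectrum.comap inclR ''
      (PrimeSpectrum.basicOpen (∑ x ∈ s, x.1 ⊗ₜ[R] x.2) : Set (PrimeSpectrum (A ⊗[R] B))) =
      PrimeSpectrum.comap φ.toRingHom ⁻¹' (PrimeSpectrum.comap
        (MvPolynomial.map (algebraMap R A) : MvPolynomial σ R →+* _) ''
          (PrimeSpectrum.basicOpen h0 : Set (PrimeSpectrum (MvPolynomial σ A)))) := by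
    ext p
    constructor
    · rintro ⟨P, hP, rfl⟩
      refine ⟨PrimeSpectrum.comap e P, fun hm => hP ?_, ?_⟩
      · rw [← he0]; exact hm
      · rw [← PrimeSpectrum.comap_comp_apply, ← PrimeSpectrum.comap_comp_apply, hcomm]
    · rintro ⟨Q, hQ, hQp⟩
      obtain ⟨L, hL, fA, fB, hAB, hQ'⟩ : ∃ (L : Type u) (_ : Field L) (fA : MvPolynomial σ A →+* L)
          (fB : B →+* L), (∀ g, fA (MvPolynomial.map (algebraMap R A) g) = fB (φ g)) ∧
          fA h0 ≠ 0 ∧ RingHom.ker fB = p.asIdeal := by
        let P0 : Ideal (MvPolynomial σ R) := p.asIdeal.comap φ.toRingHom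
        let k := P0.ResidueField
        let iQ : MvPolynomial σ R →+* Q.asIdeal.ResidueField :=
          (algebraMap _ Q.asIdeal.ResidueField).comp (MvPolynomial.map (algebraMap R A))
        let ip : MvPolynomial σ R →+* p.asIdeal.ResidueField :=
          (algebraMap B p.asIdeal.ResidueField).comp φ.toRingHom
        have hQ0 : RingHom.ker iQ = P0 := by
          rw [← RingHom.comap_ker, Ideal.ker_algebraMap_residueField]
          exact congrArg PrimeSpectrum.asIdeal hQp
        have hp0 : RingHom.ker ip = P0 := by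
          rw [← RingHom.comap_ker, Ideal.ker_algebraMap_residueField]
        let _ : Algebra k Q.asIdeal.ResidueField :=
          (Ideal.ResidueField.lift P0 iQ hQ0.ge fun x hx => isUnit_iff_ne_zero.mpr fun h => hx (hQ0.le h)).toAlgebra
        let _ : Algebra k p.asIdeal.ResidueField :=
          (Ideal.ResidueField.lift P0 ip hp0.ge fun x hx => isUnit_iff_ne_zero.mpr fun h => hx (hp0.le h)).toAlgebra
        obtain ⟨m, hm⟩ := Ideal.exists_maximal (Q.asIdeal.ResidueField ⊗[k] p.asIdeal.ResidueField)
        let _ : Field ((Q.asIdeal.ResidueField ⊗[k] p.asIdeal.ResidueField) ⧸ m) := Ideal.Quotient.field m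
        let fQ := (Ideal.Quotient.mk m).comp
          (Algebra.TensorProduct.includeLeftRingHom : Q.asIdeal.ResidueField →+* _)
        let fp := (Ideal.Quotient.mk m).comp
          (Algebra.TensorProduct.includeRight (R := k) (A := Q.asIdeal.ResidueField)
            (B := p.asIdeal.ResidueField)).toRingHom
        refine ⟨_, inferInstance, fQ.comp (algebraMap _ _), fp.comp (algebraMap B _), fun g => ?_,
          fun hz => hQ ?_, ?_⟩
        · have h1 : algebraMap k Q.asIdeal.ResidueField (algebraMap _ k g) = iQ g :=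
            Ideal.ResidueField.lift_algebraMap ..
          have h2 : algebraMap k p.asIdeal.ResidueField (algebraMap _ k g) = ip g :=
            Ideal.ResidueField.lift_algebraMap ..
          have h3 := congrArg (Ideal.Quotient.mk m)
            (Algebra.TensorProduct.tmul_one_eq_one_tmul (A := Q.asIdeal.ResidueField)
              (B := p.asIdeal.ResidueField) (algebraMap _ k g))
          rw [h1, h2] at h3
          exact h3
        · exact Ideal.algebraMap_residueField_eq_zero.mp ((map_eq_zero fQ).mp hz)
        · rw [← RingHom.comap_ker, RingHom.ker_eq_bot_iff_eq_zero fp |>.mpr fun x => (map_eq_zero fp).mp,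
            ← RingHom.ker_eq_comap_bot, Ideal.ker_algebraMap_residueField]
      let _ : Algebra R L := (fB.comp (algebraMap R B)).toAlgebra
      let gA : A →ₐ[R] L := { fA.comp MvPolynomial.C with
        commutes' := fun r => by
          have := hAB (MvPolynomial.C r)
          rw [MvPolynomial.map_C, MvPolynomial.algHom_C] at this
          exact this }
      let gB : B →ₐ[R] L := { fB with commutes' := fun _ => rfl }
      let G := Algebra.TensorProduct.lift gA gB fun _ _ => Commute.all _ _
      have hG : G.toRingHom.comp e = fA := by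
        refine MvPolynomial.ringHom_ext (fun a => ?_) fun i => ?_
        · simp [e, G, gA]
        · have := hAB (MvPolynomial.X i)
          simp [e, G, gB, inclR, φ] at this ⊢
          exact this.symm
      refine ⟨⟨RingHom.ker G.toRingHom, RingHom.ker_isPrime _⟩, fun hker => hQ'.1 ?_, ?_⟩
      · rw [← hG, RingHom.comp_apply, he0]
        exact hker
      · refine PrimeSpectrum.ext ?_
        rw [PrimeSpectrum.comap_asIdeal, ← hQ'.2]
        refine Ideal.ext fun b => ?_
        change G.toRingHom (inclR b) = 0 ↔ fB b = 0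
        simp [G, gB, inclR]
  rw [key]
  exact ((H s.card) _ (PrimeSpectrum.basicOpen h0).2).preimage (PrimeSpectrum.continuous_comap _)

variable {X S : Scheme.{u}}

theorem universallyOpen_SpecMap_of_isOpenMap_polynomial {R A : CommRingCat.{u}} (φ : R ⟶ A)
    (H : ∀ n : ℕ, IsOpenMap (PrimeSpectrum.comap
      (MvPolynomial.map φ.hom : MvPolynomial (ULift.{u} (Fin n)) R →+* _))) :
    UniversallyOpen (Spec.map φ) := by
  algebraize [φ.hom]
  rw [universallyOpen_iff]
  intro X' Y' i₁ i₂ f' sq U hU
  rw [← Set.inter_univ (f' '' U), ← Y'.affineCover.iUnion_range, Set.inter_iUnion]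
  refine isOpen_iUnion fun a => ?_
  obtain ⟨B, c, hc, hr⟩ : ∃ (B : CommRingCat.{u}) (c : Spec B ⟶ Y'),
      IsOpenImmersion c ∧ Set.range c = Set.range (Y'.affineCover.f a) :=
    ⟨_, Y'.affineCover.f a, Y'.affineCover.map_prop a, rfl⟩
  rw [← hr]
  obtain ⟨ψ, hψ⟩ : ∃ ψ, Spec.map ψ = c ≫ i₂ :=
    ⟨Spec.preimage _, Spec.map_preimage _⟩
  algebraize [ψ.hom]
  have hP : IsPullback _ _ (Spec.map φ) (Spec.map ψ) :=
    isPullback_SpecMap_of_isPushout φ ψ _ _ (CommRingCat.isPushout_tensorProduct R A B)
  rw [hψ] at hP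
  let l := sq.flip.lift _ (_ ≫ c) (hP.w.trans (Category.assoc _ _ _).symm)
  have hl := IsPullback.of_right (h₁₁ := l) (by rwa [sq.flip.lift_fst]) (sq.flip.lift_snd ..) sq.flip
  have himg := (Scheme.image_preimage_eq_of_isPullback hl U).symm
  have hopen := isOpenMap_comap_tensor (R := R) (A := A) H _ (hU.preimage l.continuous)
  rw [← Set.image_preimage_eq_inter_range]
  refine (c).isOpenEmbedding.isOpenMap _ ?_
  rw [himg]
  exact hopen

theorem isOpenMap_affineSpace_of_comp (n : Type u) {X' S' : Scheme.{u}} (k : X' ⟶ X) (j : S' ⟶ S)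
    [IsOpenImmersion k] [IsOpenImmersion j] (g : X' ⟶ S') (f : X ⟶ S) (hsq : g ≫ j = k ≫ f)
    (H : IsOpenMap ⇑(AffineSpace.map n f)) : IsOpenMap ⇑(AffineSpace.map n g) := by
  intro U hU
  have hk : IsOpenImmersion (AffineSpace.map n k) :=
    MorphismProperty.of_isPullback (AffineSpace.isPullback_map k).flip inferInstance
  have hj : IsOpenImmersion (AffineSpace.map n j) :=
    MorphismProperty.of_isPullback (AffineSpace.isPullback_map j).flip inferInstance
  rw [(AffineSpace.map n j).isOpenEmbedding.isOpen_iff_image_isOpen, Set.image_image]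
  simp_rw [← Scheme.Hom.comp_apply, ← AffineSpace.map_comp, hsq, AffineSpace.map_comp,
    Scheme.Hom.comp_apply]
  rw [← Set.image_image (AffineSpace.map n f)]
  exact H _ ((AffineSpace.map n k).isOpenEmbedding.isOpenMap _ hU)

theorem isOpenMap_comap_of_affineSpace (n : Type u) {R A : CommRingCat.{u}} (φ : R ⟶ A)
    (H : IsOpenMap ⇑(AffineSpace.map n (Spec.map φ))) :
    IsOpenMap (PrimeSpectrum.comap (MvPolynomial.map φ.hom : MvPolynomial n R →+* _)) := by
  have h : Spec.map (CommRingCat.ofHom (MvPolynomial.map φ.hom)) =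
      (AffineSpace.SpecIso n A).inv ≫ AffineSpace.map n (Spec.map φ) ≫
        (AffineSpace.SpecIso n R).hom := by
    rw [AffineSpace.map_SpecMap]
    simp
  have h3 : IsOpenMap ⇑(Spec.map (CommRingCat.ofHom (MvPolynomial.map (σ := n) φ.hom))) := by
    rw [h]
    exact ((Scheme.homeoOfIso (AffineSpace.SpecIso n R)).isOpenMap.comp H).comp
      (Scheme.homeoOfIso (AffineSpace.SpecIso n A).symm).isOpenMap
  exact h3

/-- A morphism whose base changes to all affine spaces are open is universally open. -/
theorem universallyOpen_of_isOpenMap_affineSpace (f : X ⟶ S)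
    (H : ∀ n : ℕ, IsOpenMap ⇑(AffineSpace.map (ULift.{u} (Fin n)) f)) : UniversallyOpen f := by
  rw [IsZariskiLocalAtTarget.iff_of_openCover (P := @UniversallyOpen) S.affineCover]
  intro i
  change UniversallyOpen (pullback.snd f (S.affineCover.f i))
  rw [IsZariskiLocalAtSource.iff_of_openCover (P := @UniversallyOpen)
    (pullback f (S.affineCover.f i)).affineCover]
  intro j
  generalize hg : (pullback f (S.affineCover.f i)).affineCover.f j ≫
    pullback.snd f (S.affineCover.f i) = g
  obtain ⟨φ, rfl⟩ : ∃ φ, Spec.map φ = g := ⟨Spec.preimage g, Spec.map_preimage _⟩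
  refine universallyOpen_SpecMap_of_isOpenMap_polynomial φ fun n => ?_
  refine isOpenMap_comap_of_affineSpace _ φ ?_
  refine isOpenMap_affineSpace_of_comp _
    ((pullback f (S.affineCover.f i)).affineCover.f j ≫ pullback.fst f (S.affineCover.f i))
    (S.affineCover.f i) _ f ?_ (H n)
  rw [← hg, Category.assoc, Category.assoc, pullback.condition]

end Groth.L20
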