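import Groth.Agent.L03.WeakAss
import Mathlib.RingTheory.Ideal.GoingUp
import Mathlib.RingTheory.QuasiFinite.Basic
import Mathlib.RingTheory.Localization.BaseChange
import Mathlib.RingTheory.Flat.Basic
import Mathlib.RingTheory.LocalRing.Module
import Mathlib.LinearAlgebra.TensorProduct.Basis
import Mathlib.RingTheory.Etale.StandardEtale
import Mathlib.RingTheory.Unramified.LocalStructure

/-!
Weakly associated primes along finite flat maps and along localizations of a base change.
-/

namespace Groth.L20.WeakAssFinite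

open Groth.L03.WeakAss TensorProduct

universe u

theorem weakAss_congr {R : Type*} [CommRing R] {M N : Type*} [AddCommGroup M] [Module R M]
    [AddCommGroup N] [Module R N] (e : M ≃ₗ[R] N) :
    FlatCA.weakAss R M = FlatCA.weakAss R N :=
  Set.Subset.antisymm (weakAss_subset_of_injective e.toLinearMap e.injective)
    (weakAss_subset_of_injective e.symm.toLinearMap e.symm.injective)

/-- Descent of weakly associated primes along a finite map. -/
theorem under_mem_weakAss {A B : Type*} [CommRing A] [CommRing B] [Algebra A B]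
    [Module.Finite A B] {N : Type*} [AddCommGroup N] [Module B N] [Module A N]
    [IsScalarTower A B N] (p : Ideal A) [p.IsPrime] (t : Ideal B) [t.IsPrime] [t.LiesOver p]
    (h : t ∈ FlatCA.weakAss B N) : p ∈ FlatCA.weakAss A N := by
  classical
  obtain ⟨z, hz⟩ := h
  change t ∈ (annE B z).minimalPrimes at hz
  obtain ⟨-, hJt, hmin⟩ := minimalPrimes_iff.1 hz
  have hpt : ∀ c : A, algebraMap A B c ∈ t ↔ c ∈ p := fun c => (t.mem_of_liesOver p c).symm
  have hfin : (p.primesOver B).Finite := Algebra.QuasiFinite.finite_primesOver p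
  have hinc : ∀ T ∈ p.primesOver B, t ≤ T → T = t := fun T hT hle => by
    haveI := hT.1
    haveI := hT.2
    exact (Algebra.QuasiFinite.eq_of_le_of_under_eq (R := A) t T hle
      ((t.over_def p).symm.trans (T.over_def p))).symm
  obtain ⟨a, hat, ha⟩ : ∃ a ∈ t, ∀ T ∈ p.primesOver B, T ≠ t → a ∉ T := by
    by_contra! hne
    have hsub : (t : Set B) ⊆ ⋃ T ∈ (↑(hfin.toFinset.erase t) : Set (Ideal B)), T := by
      intro x hx
      obtain ⟨T, hT, hne', hxT⟩ := hne x hx
      simp only [Set.mem_iUnion]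
      exact ⟨T, Finset.mem_coe.2 (Finset.mem_erase.2 ⟨hne', hfin.mem_toFinset.2 hT⟩), hxT⟩
    obtain ⟨T, hT, hle⟩ := (Ideal.subset_union_prime (f := id) ⊥ ⊥ (fun T hT _ _ =>
      (hfin.mem_toFinset.1 (Finset.mem_of_mem_erase hT)).1)).1 hsub
    exact Finset.ne_of_mem_erase hT (hinc T (hfin.mem_toFinset.1 (Finset.mem_of_mem_erase hT)) hle)
  obtain ⟨s, hs, n, hn⟩ := hmin a hat
  have hn0 : n ≠ 0 := by
    rintro rfl
    rw [pow_zero, mul_one] at hn
    exact hs (hJt hn)
  set I : Ideal B := Ideal.span {a ^ n, s}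
  have hI : ¬ I.comap (algebraMap A B) ≤ p := by
    intro hle
    obtain ⟨Q, hQ, hQp, hQc⟩ := Ideal.exists_ideal_over_prime_of_isIntegral p I hle
    haveI := hQp
    by_cases hQt : Q = t
    · exact hs (hQt ▸ hQ (Ideal.subset_span (by simp)))
    · exact ha Q ⟨hQp, ⟨hQc.symm⟩⟩ hQt
        (hQp.mem_of_pow_mem n (hQ (Ideal.subset_span (by simp))))
  obtain ⟨u, huI, hup⟩ := SetLike.not_le_iff_exists.1 hI
  obtain ⟨x, y, hxy⟩ := Ideal.mem_span_pair.1 (Ideal.mem_comap.1 huI)
  obtain ⟨e, he⟩ : ∃ e, e = y * s := ⟨_, rfl⟩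
  have het : e ∉ t := by
    intro h'
    refine hup ((hpt u).1 ?_)
    rw [← hxy, ← he]
    exact add_mem (t.mul_mem_left _ (t.pow_mem_of_mem hat n (Nat.pos_of_ne_zero hn0))) h'
  have he2 : (e * e) • z = (algebraMap A B u * e) • z := by
    have : (algebraMap A B u * e - e * e) • z = 0 := by
      have : algebraMap A B u * e - e * e = x * y * (s * a ^ n) := by rw [he, ← hxy]; ring
      rw [this, mul_smul, mem_annE.1 hn, smul_zero]
    rw [sub_smul, sub_eq_zero] at this
    exact this.symm
  have hpow : ∀ k : ℕ, e ^ (k + 1) • z = algebraMap A B u ^ k • e • z := by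
    intro k
    induction k with
    | zero => simp
    | succ k ih =>
      rw [pow_succ' e, mul_smul, ih, smul_comm, ← mul_smul e e, he2, mul_smul, ← mul_smul,
        ← pow_succ]
  refine ⟨e • z, minimalPrimes_iff.2 ⟨inferInstance, fun c hc => ?_, fun c hc => ?_⟩⟩
  · change c ∈ annE A (e • z) at hc
    rw [mem_annE, ← algebraMap_smul B c, ← mul_smul] at hc
    rcases (inferInstance : t.IsPrime).mem_or_mem (hJt (mem_annE.2 hc)) with h1 | h1
    · exact (hpt c).1 h1
    · exact absurd h1 het
  · obtain ⟨g, hg⟩ : ∃ g, g = algebraMap A B c * e := ⟨_, rfl⟩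
    obtain ⟨v, hv, k, hk⟩ : ∃ v, v ∉ p ∧ ∃ k, algebraMap A B v * g ^ k ∈ annE B z := by
      by_contra! hcon
      have hdis : Disjoint (annE B z : Set B)
          (p.primeCompl.map (algebraMap A B) ⊔ Submonoid.powers g : Submonoid B) := by
        rw [Set.disjoint_left]
        intro w hwI hw
        obtain ⟨_, ⟨v, hv, rfl⟩, _, ⟨k, rfl⟩, rfl⟩ := Submonoid.mem_sup.1 hw
        exact hcon v hv k hwI
      obtain ⟨P, hP, hJP, hPS⟩ := Ideal.exists_le_prime_disjoint _ _ hdis
      have hPp : P.comap (algebraMap A B) ≤ p := fun v hv => by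
        by_contra hvp
        exact Set.disjoint_left.1 hPS hv (Submonoid.mem_sup_left ⟨v, hvp, rfl⟩)
      have hgP : g ∉ P := fun hgP =>
        Set.disjoint_left.1 hPS hgP (Submonoid.mem_sup_right (Submonoid.mem_powers g))
      obtain ⟨Q, hQ, hQp, hQc⟩ := Ideal.exists_ideal_over_prime_of_isIntegral p P hPp
      by_cases hQt : Q = t
      · have hPt : t ≤ P := hz.2 ⟨hP, hJP⟩ (hQt ▸ hQ)
        exact hgP (hg ▸ P.mul_mem_right _ (hPt ((hpt c).2 hc)))
      · have haP : a ∉ P := fun h' => ha Q ⟨hQp, ⟨hQc.symm⟩⟩ hQt (hQ h')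
        rcases hP.mem_or_mem (hJP hn) with h1 | h1
        · exact hgP (hg ▸ P.mul_mem_left _ (he ▸ P.mul_mem_left _ h1))
        · exact haP (hP.mem_of_pow_mem n h1)
    refine ⟨v * u ^ k, fun h' => ?_, k, ?_⟩
    · rcases (inferInstance : p.IsPrime).mem_or_mem h' with h1 | h1
      · exact hv h1
      · exact hup ((inferInstance : p.IsPrime).mem_of_pow_mem k h1)
    · change v * u ^ k * c ^ k ∈ annE A (e • z)
      rw [mem_annE, ← algebraMap_smul B, map_mul, map_mul, map_pow, map_pow, mul_right_comm,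
        mul_smul, ← hpow, ← mul_smul]
      have : algebraMap A B v * algebraMap A B c ^ k * e ^ (k + 1) =
          e * (algebraMap A B v * g ^ k) := by rw [hg, mul_pow]; ring
      rw [this, mul_smul, mem_annE.1 hk, smul_zero]

/-- A weakly associated prime of a finitely supported family is one of the coefficient module. -/
theorem mem_weakAss_of_finsupp {A M ι : Type*} [CommRing A] [AddCommGroup M] [Module A M]
    {p : Ideal A} (h : p ∈ FlatCA.weakAss A (ι →₀ M)) : p ∈ FlatCA.weakAss A M := by
  obtain ⟨f, hf⟩ := h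
  change p ∈ (annE A f).minimalPrimes at hf
  have hle : f.support.inf (fun i => annE A (f i)) ≤ p := fun a ha => hf.le (mem_annE.2 <|
    Finsupp.ext fun i => by
      by_cases hi : i ∈ f.support
      · exact mem_annE.1 ((Submodule.mem_finsetInf.1 ha) i hi)
      · simp [Finsupp.notMem_support_iff.1 hi])
  obtain ⟨i, -, hi⟩ := (hf.isPrime.inf_le' (f := fun i => annE A (f i))).1 hle
  refine ⟨f i, ⟨⟨hf.isPrime, hi⟩, fun q hq hqp => hf.2 ⟨hq.1, fun a ha => hq.2 ?_⟩ hqp⟩⟩
  rw [mem_annE] at ha ⊢
  rw [← Finsupp.smul_apply, ha, Finsupp.zero_apply]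

/-- Weakly associated primes of `B ⊗ M` as an `A`-module, `B` finite flat. -/
theorem mem_weakAss_of_tensor {A B M : Type u} [CommRing A] [CommRing B] [Algebra A B]
    [Module.Finite A B] [Module.Flat A B] [AddCommGroup M] [Module A M] (p : Ideal A) [p.IsPrime]
    (h : p ∈ FlatCA.weakAss A (B ⊗[A] M)) : p ∈ FlatCA.weakAss A M := by
  have hdis : Disjoint (p.primeCompl : Set A) (p : Set A) :=
    Set.disjoint_left.2 fun _ h1 h2 => h1 h2
  have h' := (mem_weakAss_localizedModule_iff (B ⊗[A] M) p.primeCompl).2 ⟨h, hdis⟩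
  haveI : Module.Free (Localization.AtPrime p) (Localization.AtPrime p ⊗[A] B) :=
    Module.free_of_flat_of_isLocalRing
  let b := Module.Free.chooseBasis (Localization.AtPrime p) (Localization.AtPrime p ⊗[A] B)
  let e : LocalizedModule p.primeCompl (B ⊗[A] M) ≃ₗ[Localization.AtPrime p]
      (Module.Free.ChooseBasisIndex (Localization.AtPrime p) (Localization.AtPrime p ⊗[A] B) →₀
        LocalizedModule p.primeCompl M) :=
    LocalizedModule.equivTensorProduct p.primeCompl (B ⊗[A] M) ≪≫ₗ
      AlgebraTensorModule.distribBaseChange A (Localization.AtPrime p) B M ≪≫ₗ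
      TensorProduct.equivFinsuppOfBasisLeft b ≪≫ₗ
      Finsupp.mapRange.linearEquiv (LocalizedModule.equivTensorProduct p.primeCompl M).symm
  rw [weakAss_congr (e.restrictScalars A)] at h'
  exact ((mem_weakAss_localizedModule_iff M p.primeCompl).1 (mem_weakAss_of_finsupp h')).1

/-- Ascent of weakly associated primes along a flat quasi-finite map. -/
theorem mem_weakAss_tensor {A B M : Type u} [CommRing A] [CommRing B] [Algebra A B]
    [Algebra.QuasiFinite A B] [Module.Flat A B] [AddCommGroup M] [Module A M] (p : Ideal A)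
    [p.IsPrime] (t : Ideal B) [t.IsPrime] [t.LiesOver p]
    (h : p ∈ FlatCA.weakAss A M) : t ∈ FlatCA.weakAss B (B ⊗[A] M) := by
  obtain ⟨m, hm⟩ := h
  change p ∈ (annE A m).minimalPrimes at hm
  have hann : annE B ((1 : B) ⊗ₜ[A] m) = (annE A m).map (algebraMap A B) := by
    apply le_antisymm
    · intro b hb
      rw [mem_annE, TensorProduct.smul_tmul', smul_eq_mul, mul_one] at hb
      have hex : Function.Exact (annE A m).subtype (LinearMap.toSpanSingleton A M m) := by
        intro a
        change a • m = 0 ↔ _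
        rw [← mem_annE]
        exact ⟨fun h => ⟨⟨a, h⟩, rfl⟩, by rintro ⟨⟨a, h⟩, rfl⟩; exact h⟩
      obtain ⟨w, hw⟩ := (Module.Flat.lTensor_exact B hex (b ⊗ₜ[A] (1 : A))).1 (by simpa using hb)
      have key : ∀ w : B ⊗[A] ↥(annE A m),
          TensorProduct.rid A B ((annE A m).subtype.lTensor B w) ∈
            (annE A m).map (algebraMap A B) := by
        intro w
        induction w using TensorProduct.induction_on with
        | zero => simp
        | tmul b i =>
          simp only [LinearMap.lTensor_tmul, Submodule.subtype_apply, TensorProduct.rid_tmul]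
          rw [Algebra.smul_def]
          exact Ideal.mul_mem_right _ _ (Ideal.mem_map_of_mem _ i.2)
        | add w w' h h' => simpa using add_mem h h'
      have := key w
      rw [hw] at this
      simpa using this
    · rw [Ideal.map_le_iff_le_comap]
      intro a ha
      rw [Ideal.mem_comap, mem_annE, algebraMap_smul, ← TensorProduct.tmul_smul, mem_annE.1 ha,
        TensorProduct.tmul_zero]
  refine ⟨(1 : B) ⊗ₜ[A] m, ?_⟩
  change t ∈ (annE B _).minimalPrimes
  rw [hann]
  refine ⟨⟨inferInstance, Ideal.map_le_iff_le_comap.2 fun a ha => ?_⟩, fun P hP hPt => ?_⟩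
  · exact (t.mem_of_liesOver p a).1 (hm.le ha)
  · haveI := hP.1
    have h1 : P.comap (algebraMap A B) ≤ p :=
      fun a ha => (t.mem_of_liesOver p a).2 (hPt ha)
    have h2 : P.under A = p :=
      le_antisymm h1 (hm.2 ⟨inferInstance, Ideal.map_le_iff_le_comap.1 hP.2⟩ h1)
    exact (Algebra.QuasiFinite.eq_of_le_of_under_eq (R := A) P t hPt
      (h2.trans (t.over_def p))).ge

/-- Finite flat base change. -/
theorem mem_weakAss_tensor_iff {A B M : Type u} [CommRing A] [CommRing B] [Algebra A B]
    [Module.Finite A B] [Module.Flat A B] [AddCommGroup M] [Module A M] (p : Ideal A) [p.IsPrime]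
    (t : Ideal B) [t.IsPrime] [t.LiesOver p] :
    t ∈ FlatCA.weakAss B (B ⊗[A] M) ↔ p ∈ FlatCA.weakAss A M :=
  ⟨fun h => mem_weakAss_of_tensor p (under_mem_weakAss p t h), mem_weakAss_tensor p t⟩

/-- Weakly associated primes of a base change to a localization `L` of `R`. -/
theorem mem_weakAss_tensor_localization_iff {A R L M : Type u} [CommRing A] [CommRing R]
    [CommRing L] [Algebra A R] [Algebra R L] [Algebra A L] [IsScalarTower A R L]
    (S : Submonoid R) [IsLocalization S L] [AddCommGroup M] [Module A M]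
    (P : Ideal L) [P.IsPrime] :
    P ∈ FlatCA.weakAss L (L ⊗[A] M) ↔ P.under R ∈ FlatCA.weakAss R (R ⊗[A] M) := by
  have : IsLocalizedModule S (Algebra.linearMap R L) := by
    rw [isLocalizedModule_iff_isLocalization']; infer_instance
  let φ : R ⊗[A] M →ₗ[R] L ⊗[A] M := AlgebraTensorModule.rTensor A M (Algebra.linearMap R L)
  have : IsLocalizedModule S φ := inferInstance
  have hdis : Disjoint (S : Set R) (P.under R : Set R) :=
    ((IsLocalization.isPrime_iff_isPrime_disjoint S L P).1 inferInstance).2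
  have h1 : P.under R ∈ FlatCA.weakAss R (L ⊗[A] M) ↔ P ∈ FlatCA.weakAss L (L ⊗[A] M) := by
    constructor
    · rintro ⟨z, hz⟩
      change P.under R ∈ (annE R z).minimalPrimes at hz
      rw [annE_restrict (A := L), IsLocalization.minimalPrimes_comap S] at hz
      obtain ⟨Q, hQ, hQP⟩ := hz
      refine ⟨z, ?_⟩
      have : Q = P := by
        rw [← IsLocalization.map_under S L Q, ← IsLocalization.map_under S L P]
        exact congrArg _ hQP
      exact this ▸ hQ
    · rintro ⟨z, hz⟩
      refine ⟨z, ?_⟩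
      change P.under R ∈ (annE R z).minimalPrimes
      rw [annE_restrict (A := L), IsLocalization.minimalPrimes_comap S]
      exact ⟨P, hz, rfl⟩
  rw [← h1, ← weakAss_congr (M := LocalizedModule S (R ⊗[A] M)) (IsLocalizedModule.iso S φ), mem_weakAss_localizedModule_iff,
    and_iff_left hdis]

/-- Étale base change. -/
theorem mem_weakAss_tensor_iff_of_etale {A B M : Type u} [CommRing A] [CommRing B] [Algebra A B]
    [Algebra.Etale A B] [AddCommGroup M] [Module A M] (p : Ideal A) [p.IsPrime]
    (t : Ideal B) [t.IsPrime] [t.LiesOver p] :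
    t ∈ FlatCA.weakAss B (B ⊗[A] M) ↔ p ∈ FlatCA.weakAss A M := by
  obtain ⟨f, hf, hstd⟩ := Algebra.IsEtaleAt.exists_isStandardEtale (R := A) t
  haveI := hstd
  let L := Localization.Away f
  obtain ⟨Q⟩ := Algebra.IsStandardEtale.nonempty_standardEtalePresentation (R := A) (S := L)
  haveI := Q.P.monic_f.free_adjoinRoot
  haveI := Q.P.monic_f.finite_adjoinRoot
  let e : L ≃ₐ[A] Localization.Away (AdjoinRoot.mk Q.P.f Q.P.g) :=
    Q.equivRing.trans Q.P.equivAwayAdjoinRoot
  letI : Algebra (AdjoinRoot Q.P.f) L :=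
    (e.symm.toRingHom.comp (algebraMap (AdjoinRoot Q.P.f) _)).toAlgebra
  haveI : IsScalarTower A (AdjoinRoot Q.P.f) L :=
    IsScalarTower.of_algebraMap_eq fun a => by
      rw [RingHom.algebraMap_toAlgebra, RingHom.comp_apply, ← IsScalarTower.algebraMap_apply]
      exact (e.symm.commutes a).symm
  let e' : Localization.Away (AdjoinRoot.mk Q.P.f Q.P.g) ≃ₐ[AdjoinRoot Q.P.f] L :=
    AlgEquiv.ofRingEquiv (f := e.symm.toRingEquiv) (fun _ => rfl)
  haveI : IsLocalization.Away (AdjoinRoot.mk Q.P.f Q.P.g) L :=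
    IsLocalization.isLocalization_of_algEquiv _ e'
  have hdis : Disjoint (Submonoid.powers f : Set B) (t : Set B) := by
    rw [Set.disjoint_left]
    rintro _ ⟨k, rfl⟩ hk
    exact hf (Ideal.IsPrime.mem_of_pow_mem inferInstance k hk)
  let P : Ideal L := t.map (algebraMap B L)
  haveI : P.IsPrime := IsLocalization.isPrime_of_isPrime_disjoint (Submonoid.powers f) L t
    inferInstance hdis
  have hPt : P.under B = t :=
    IsLocalization.under_map_of_isPrime_disjoint (Submonoid.powers f) L inferInstance hdis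
  haveI : (P.under (AdjoinRoot Q.P.f)).LiesOver p := ⟨by
    rw [Ideal.under_under, ← Ideal.under_under (B := B), hPt]
    exact t.over_def p⟩
  rw [← mem_weakAss_tensor_iff (B := AdjoinRoot Q.P.f) p (P.under (AdjoinRoot Q.P.f)),
    ← mem_weakAss_tensor_localization_iff (Submonoid.powers (AdjoinRoot.mk Q.P.f Q.P.g)) P,
    mem_weakAss_tensor_localization_iff (Submonoid.powers f) P, hPt]

end Groth.L20.WeakAssFinite
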