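import Groth.Agent.L20.ThickeningProps
import Mathlib.RingTheory.Kaehler.TensorProduct
import Mathlib.AlgebraicGeometry.Morphisms.FiniteType
import Mathlib.LinearAlgebra.TensorProduct.Quotient

/-!
# Descending ring-theoretic properties along finite order thickenings
-/

set_option autoImplicit false

universe u

open CategoryTheory CategoryTheory.Limits AlgebraicGeometry
open scoped TensorProduct

namespace Groth.L20.Thick

section Ring

variable {A B A₀ : Type u} [CommRing A] [CommRing B] [CommRing A₀] [Algebra A B] [Algebra A A₀]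

theorem mem_smul_top_of_one_tmul_eq_zero {M : Type u} [AddCommGroup M] [Module A M]
    (hs : Function.Surjective (algebraMap A A₀)) {m : M} (h : (1 : A₀) ⊗ₜ[A] m = 0) :
    m ∈ RingHom.ker (algebraMap A A₀) • (⊤ : Submodule A M) := by
  have e := Ideal.quotientKerAlgEquivOfSurjective (f := Algebra.ofId A A₀) hs
  have h' := congrArg (LinearMap.rTensor M e.symm.toLinearMap) h
  rw [LinearMap.rTensor_tmul, map_zero, AlgEquiv.toLinearMap_apply, map_one] at h'
  have h'' := congrArg (TensorProduct.quotTensorEquivQuotSMul M _) h'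
  rw [TensorProduct.quotTensorEquivQuotSMul_mk_one_tmul, map_zero] at h''
  exact (Submodule.Quotient.mk_eq_zero _).mp h''

theorem eq_top_of_sup_smul_top {M : Type u} [AddCommGroup M] [Module A M] (K : Ideal A)
    (hK : IsNilpotent K) (N : Submodule A M) (h : N ⊔ K • ⊤ = ⊤) : N = ⊤ := by
  obtain ⟨n, hn⟩ := hK
  suffices ∀ k, (⊤ : Submodule A M) ≤ N ⊔ K ^ k • ⊤ by
    have := this n
    rw [hn, Ideal.zero_eq_bot, Submodule.bot_smul, sup_bot_eq] at this
    exact top_le_iff.mp this
  intro k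
  induction k with
  | zero => rw [pow_zero, Ideal.one_eq_top, Submodule.top_smul]; exact le_sup_right
  | succ k ih =>
    refine ih.trans (sup_le le_sup_left ?_)
    conv_lhs => rw [← h]
    rw [Submodule.smul_sup, pow_succ, Submodule.mul_smul]
    exact sup_le_sup Submodule.smul_le_right le_rfl

theorem finiteType_of_baseChange (hs : Function.Surjective (algebraMap A A₀))
    (hn : IsNilpotent (RingHom.ker (algebraMap A A₀)))
    (h : Algebra.FiniteType A₀ (A₀ ⊗[A] B)) : Algebra.FiniteType A B := by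
  classical
  obtain ⟨s, hs'⟩ := h.out
  have hπ : Function.Surjective (Algebra.TensorProduct.includeRight : B →ₐ[A] A₀ ⊗[A] B) :=
    TensorProduct.mk_surjective A B A₀ hs
  choose t ht using hπ
  refine ⟨⟨s.image t, ?_⟩⟩
  set C := Algebra.adjoin A ((s.image t : Finset B) : Set B)
  have hC : C.map (Algebra.TensorProduct.includeRight : B →ₐ[A] A₀ ⊗[A] B) = ⊤ := by
    rw [AlgHom.map_adjoin, Finset.coe_image, Set.image_image]
    simp only [ht, Set.image_id']
    refine eq_top_iff.mpr fun z _ => ?_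
    have hz : z ∈ Algebra.adjoin A₀ (s : Set (A₀ ⊗[A] B)) := hs' ▸ Algebra.mem_top
    induction hz using Algebra.adjoin_induction with
    | mem x hx => exact Algebra.subset_adjoin hx
    | algebraMap r =>
      obtain ⟨a, rfl⟩ := hs r
      rw [← IsScalarTower.algebraMap_apply]
      exact Subalgebra.algebraMap_mem _ a
    | add x y _ _ hx hy => exact add_mem (hx Algebra.mem_top) (hy Algebra.mem_top)
    | mul x y _ _ hx hy => exact mul_mem (hx Algebra.mem_top) (hy Algebra.mem_top)
  have hsub : C.toSubmodule ⊔ RingHom.ker (algebraMap A A₀) • ⊤ = ⊤ := by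
    refine eq_top_iff.mpr fun b _ => ?_
    obtain ⟨c, hc, hcb⟩ : (1 : A₀) ⊗ₜ[A] b ∈ C.map Algebra.TensorProduct.includeRight := hC ▸ Algebra.mem_top
    refine Submodule.mem_sup.mpr ⟨c, hc, b - c, ?_, add_sub_cancel c b⟩
    refine mem_smul_top_of_one_tmul_eq_zero hs ?_
    rw [TensorProduct.tmul_sub, sub_eq_zero]
    exact hcb.symm
  exact Algebra.toSubmodule_eq_top.mp (eq_top_of_sup_smul_top _ hn _ hsub)

attribute [local instance] Algebra.TensorProduct.rightAlgebra in
theorem formallyUnramified_of_baseChange (hs : Function.Surjective (algebraMap A A₀))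
    (hn : IsNilpotent (RingHom.ker (algebraMap A A₀)))
    (h : Algebra.FormallyUnramified A₀ (A₀ ⊗[A] B)) : Algebra.FormallyUnramified A B := by
  refine ⟨⟨fun x y => ?_⟩⟩
  have hsub : Subsingleton (A₀ ⊗[A] Ω[B⁄A]) :=
    (KaehlerDifferential.tensorKaehlerEquivBase A A₀ B (A₀ ⊗[A] B)).subsingleton
  have key : (⊥ : Submodule A Ω[B⁄A]) = ⊤ := by
    refine eq_top_of_sup_smul_top _ hn _ ?_
    rw [bot_sup_eq, eq_top_iff]
    exact fun m _ => mem_smul_top_of_one_tmul_eq_zero hs (Subsingleton.elim _ _)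
  have : ∀ z : Ω[B⁄A], z = 0 := fun z => (Submodule.mem_bot A).mp (key ▸ Submodule.mem_top)
  rw [this x, this y]

end Ring

theorem isPullback_of_comp_mono {C : Type*} [Category C] {P X Y Z W : C} {a : P ⟶ X} {b : P ⟶ Y}
    {x : X ⟶ Z} {y : Y ⟶ Z} (k : Z ⟶ W) [Mono k] (h : IsPullback a b (x ≫ k) (y ≫ k)) :
    IsPullback a b x y := by
  refine .of_isLimit' ⟨(cancel_mono k).mp (by simpa only [Category.assoc] using h.w)⟩
    (PullbackCone.IsLimit.mk _ (fun s => h.lift s.fst s.snd (by rw [reassoc_of% s.condition]))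
      (fun s => h.lift_fst _ _ _) (fun s => h.lift_snd _ _ _) fun s m h1 h2 => ?_)
  exact h.hom_ext (by simpa using h1) (by simpa using h2)

/-- A local property descends along a finite order thickening if its ring version does. -/
theorem descend (P : MorphismProperty Scheme.{u}) {Q : ∀ {R S : Type u} [CommRing R] [CommRing S],
      (R →+* S) → Prop} [HasRingHomProperty P Q] [P.IsStableUnderBaseChange]
    (hring : ∀ (A B A₀ : Type u) [CommRing A] [CommRing B] [CommRing A₀] [Algebra A B] [Algebra A A₀],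
      Function.Surjective (algebraMap A A₀) → IsNilpotent (RingHom.ker (algebraMap A A₀)) →
      Q (algebraMap A₀ (A₀ ⊗[A] B)) → Q (algebraMap A B))
    {X X' Y Y' : Scheme.{u}} {iX : X ⟶ X'} {iY : Y ⟶ Y'} {f : X ⟶ Y} {f' : X' ⟶ Y'}
    [IsClosedImmersion iY] (hn : IsNilpotent iY.ker) (hc : IsPullback iX f f' iY) (hf : P f) :
    P f' := by
  rw [HasRingHomProperty.iff_appLE (P := P)]
  intro V U e
  have hV : IsAffineOpen V.1 := V.2
  have hU : IsAffineOpen U.1 := U.2
  have hW : IsAffineOpen (iY ⁻¹ᵁ V.1) := hV.preimage iY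
  have w1 : Spec.map (iY.app V.1) ≫ hV.fromSpec = hW.fromSpec ≫ iY := by
    rw [Scheme.Hom.app_eq_appLE]
    exact hV.SpecMap_appLE_fromSpec iY hW le_rfl
  have w2 : Spec.map (f'.appLE V.1 U.1 e) ≫ hV.fromSpec = hU.fromSpec ≫ f' :=
    hV.SpecMap_appLE_fromSpec f' hU e
  have h1 : P (pullback.snd f hW.fromSpec) := MorphismProperty.pullback_snd _ _ hf
  have hbig := (IsPullback.of_hasPullback f hW.fromSpec).flip.paste_vert hc.flip
  have hsq := ((IsPullback.of_hasPullback (pullback.fst f hW.fromSpec ≫ iX) hU.fromSpec).flip.paste_vert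
    hbig.flip)
  rw [← w2, ← w1] at hsq
  have hpb := isPullback_of_comp_mono hV.fromSpec hsq
  have h2 : P (pullback.fst (pullback.fst f hW.fromSpec ≫ iX) hU.fromSpec ≫ pullback.snd f hW.fromSpec) :=
    HasRingHomProperty.comp_of_isOpenImmersion P _ _ h1
  algebraize [(f'.appLE V.1 U.1 e).hom, (iY.app V.1).hom]
  have hsurj : Function.Surjective (algebraMap Γ(Y', V.1) Γ(Y, iY ⁻¹ᵁ V.1)) :=
    iY.app_surjective _ hV
  have hnil : IsNilpotent (RingHom.ker (algebraMap Γ(Y', V.1) Γ(Y, iY ⁻¹ᵁ V.1))) := by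
    obtain ⟨n, hn⟩ := hn
    refine ⟨n, ?_⟩
    have := congr(($hn).ideal V)
    rw [Scheme.IdealSheafData.ideal_pow, Pi.pow_apply, Scheme.Hom.ker_apply] at this
    simpa [RingHom.algebraMap_toAlgebra] using this
  refine hring _ _ _ hsurj hnil ?_
  have h3 : P (Spec.map (CommRingCat.ofHom (algebraMap Γ(Y, iY ⁻¹ᵁ V.1)
      (Γ(Y, iY ⁻¹ᵁ V.1) ⊗[Γ(Y', V.1)] Γ(X', U.1))))) := by
    rw [← pullbackSpecIso_inv_fst', P.cancel_left_of_respectsIso]
    have h4 : P (hpb.flip.isoPullback.hom ≫ pullback.fst _ _) := by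
      rw [IsPullback.isoPullback_hom_fst]; exact h2
    exact (P.cancel_left_of_respectsIso hpb.flip.isoPullback.hom _).mp h4
  exact HasRingHomProperty.Spec_iff.mp h3

end Groth.L20.Thick
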