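import Groth.Agent.L22.PicGlue.GensIso
import Groth.Agent.L22.PicGlue.Cocycle
import Groth.Agent.L18.SecTwistExtend
import Groth.Agent.L18.Ample
import Groth.Agent.L20.ResAmple
import Groth.Prelude.Def_MoreMor
import Mathlib.Dynamics.Newton

/-!
# Torsion invertible modules lift along thickenings
-/

set_option autoImplicit false
set_option linter.style.haveILetI false
set_option backward.isDefEq.respectTransparency.types false
set_option backward.isDefEq.respectTransparency false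

universe u

open CategoryTheory AlgebraicGeometry TopologicalSpace Opposite

noncomputable section

namespace Groth.L20.PicThick

open Groth.L18.Frame (rs ro rs_rs ro_ro rs_smul ro_self rs_self IsFrame pull pull_smul pull_rs)
open Groth.L18.SecTwistExt (epow epow_smul epow_rs)
open Groth.L22.PicGlue

variable {X X' : Scheme.{u}} (i : X ⟶ X')

theorem ro_pow {Y : Scheme.{u}} {U V : Y.Opens} (h : V ≤ U) (a : Γ(Y, U)) (n : ℕ) :
    ro h (a ^ n) = ro h a ^ n := map_pow _ _ _

/-- The map on functions commutes with restriction. -/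
theorem app_ro {U V : X'.Opens} (h : V ≤ U) (a : Γ(X', U)) :
    i.app V (ro h a) = ro (i.preimage_mono h) (i.app U a) :=
  congr($(i.naturality (homOfLE h).op) a)

variable (hi : MoreMor.IsThickening i)

include hi

theorem le_of_preimage_le {U V : X'.Opens} (h : i ⁻¹ᵁ U ≤ i ⁻¹ᵁ V) : U ≤ V := fun y hy => by
  haveI := hi.2
  obtain ⟨x, rfl⟩ := i.surjective y
  exact h hy

theorem isNilpotent_of_app_eq_zero {V : X'.Opens} (hV : IsAffineOpen V) {a : Γ(X', V)}
    (ha : i.app V a = 0) : IsNilpotent a := by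
  refine (Scheme.isNilpotent_iff_basicOpen_eq_bot_of_isCompact hV.isCompact a).2 ?_
  refine le_bot_iff.1 (le_of_preimage_le i hi ?_)
  rw [Scheme.preimage_basicOpen, ha, Scheme.basicOpen_zero]
  exact bot_le

theorem isUnit_of_app {V : X'.Opens} (hV : IsAffineOpen V) {a : Γ(X', V)} (ha : IsUnit (i.app V a)) :
    IsUnit a := by
  haveI := hi.1
  obtain ⟨b, hb⟩ := ha.exists_right_inv
  obtain ⟨b', rfl⟩ := i.app_surjective V hV b
  have h : IsNilpotent (a * b' - 1) := isNilpotent_of_app_eq_zero i hi hV (by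
    rw [map_sub, map_mul, hb, map_one, sub_self])
  have h2 : IsUnit (a * b') := by
    have := h.isUnit_add_one
    rwa [sub_add_cancel] at this
  exact isUnit_of_mul_isUnit_left h2

variable {n : ℕ} (hn : 0 < n) (hu : IsUnit (n : Γ(X, ⊤)))

include hu in
theorem isUnit_natCast {V : X'.Opens} (hV : IsAffineOpen V) : IsUnit (n : Γ(X', V)) := by
  refine isUnit_of_app i hi hV ?_
  rw [map_natCast]
  have := hu.map (X.presheaf.map (homOfLE (le_top : i ⁻¹ᵁ V ≤ ⊤)).op).hom
  rwa [map_natCast] at this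

include hn hu in
theorem existsUnique_root {V : X'.Opens} (hV : IsAffineOpen V) (w : Γ(X', V))
    (v : Γ(X, i ⁻¹ᵁ V)) (hv : IsUnit v) (hvw : v ^ n = i.app V w) :
    ∃! g : Γ(X', V), i.app V g = v ∧ g ^ n = w := by
  haveI := hi.1
  obtain ⟨x, rfl⟩ := i.app_surjective V hV v
  let P : Polynomial Γ(X', V) := Polynomial.X ^ n - Polynomial.C w
  have hP : ∀ r : Γ(X', V), Polynomial.aeval r P = r ^ n - w := fun r => by simp [P]
  have hP' : Polynomial.aeval x (Polynomial.derivative P) = (n : Γ(X', V)) * x ^ (n - 1) := by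
    simp [P, Polynomial.derivative_X_pow]
  obtain ⟨g, ⟨hg1, hg2⟩, huniq⟩ := Polynomial.existsUnique_nilpotent_sub_and_aeval_eq_zero (P := P) (x := x)
    (by
      rw [hP]
      exact isNilpotent_of_app_eq_zero i hi hV (by rw [map_sub, map_pow, hvw, sub_self]))
    (by
      rw [hP']
      exact (isUnit_natCast i hi hu hV).mul ((isUnit_of_app i hi hV hv).pow _))
  rw [hP, sub_eq_zero] at hg2
  refine ⟨g, ⟨?_, hg2⟩, fun g' hg' => huniq g' ⟨isNilpotent_of_app_eq_zero i hi hV
    (by rw [map_sub, hg'.1, sub_self]), by rw [hP, hg'.2, sub_self]⟩⟩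
  have hdiff : IsNilpotent (i.app V x - i.app V g) := by
    rw [← map_sub]
    exact hg1.map (i.app V).hom
  let Q : Polynomial Γ(X, i ⁻¹ᵁ V) := Polynomial.X ^ n - Polynomial.C (i.app V w)
  have hQ : ∀ r : Γ(X, i ⁻¹ᵁ V), Polynomial.aeval r Q = r ^ n - i.app V w := fun r => by simp [Q]
  have hu' : IsUnit (n : Γ(X, i ⁻¹ᵁ V)) := by
    have := hu.map (X.presheaf.map (homOfLE (le_top : i ⁻¹ᵁ V ≤ ⊤)).op).hom
    rwa [map_natCast] at this
  refine (Polynomial.existsUnique_nilpotent_sub_and_aeval_eq_zero (P := Q) (x := i.app V x)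
    (by rw [hQ, hvw, sub_self]; exact IsNilpotent.zero)
    (by
      rw [show Polynomial.aeval (i.app V x) (Polynomial.derivative Q) =
        (n : Γ(X, i ⁻¹ᵁ V)) * i.app V x ^ (n - 1) from by simp [Q, Polynomial.derivative_X_pow]]
      exact hu'.mul (hv.pow _))).unique
    ⟨hdiff, by rw [hQ, ← map_pow, hg2, sub_self]⟩
    ⟨by rw [sub_self]; exact IsNilpotent.zero, by rw [hQ, hvw, sub_self]⟩

include hn hu in
theorem root_unique {O : X'.Opens} {v : Γ(X, i ⁻¹ᵁ O)} (hv : IsUnit v) (g g' : Γ(X', O))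
    (h1 : i.app O g = v) (h1' : i.app O g' = v) (h : g ^ n = g' ^ n) : g = g' := by
  refine Groth.L21.Extend.eq_of_locally (Coh.structureModule X') g g' fun y hy => ?_
  obtain ⟨_, ⟨V, hV, rfl⟩, hyV, hVO⟩ :=
    X'.isBasis_affineOpens.exists_subset_of_mem_open (show y ∈ O from hy) O.2
  replace hV : IsAffineOpen V := hV
  refine ⟨V, hVO, hyV, ?_⟩
  show ro (hVO : V ≤ O) g = ro (hVO : V ≤ O) g'
  refine (existsUnique_root i hi hn hu hV (ro hVO g ^ n) (ro (i.preimage_mono hVO) v)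
    (hv.map (X.presheaf.map (homOfLE (i.preimage_mono (hVO : V ≤ O))).op).hom) ?_).unique
    ⟨by rw [app_ro, h1], rfl⟩ ⟨by rw [app_ro, h1'], by rw [← ro_pow, ← ro_pow, h]⟩
  rw [map_pow, app_ro, h1]

include hn hu in
theorem exists_root {O : X'.Opens} (w : Γ(X', O)) (v : Γ(X, i ⁻¹ᵁ O)) (hv : IsUnit v)
    (hvw : v ^ n = i.app O w) : ∃ g : Γ(X', O), i.app O g = v ∧ g ^ n = w := by
  choose V hV hyV hVO using fun y : O => (show ∃ V : X'.Opens, IsAffineOpen V ∧ y.1 ∈ V ∧ V ≤ O from by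
    obtain ⟨_, ⟨V, hV, rfl⟩, hyV, hVO⟩ :=
      X'.isBasis_affineOpens.exists_subset_of_mem_open (show y.1 ∈ O from y.2) O.2
    exact ⟨V, hV, hyV, hVO⟩)
  have hv' : ∀ {W : X'.Opens} (h : W ≤ O), IsUnit (ro (i.preimage_mono h) v) := fun h =>
    hv.map (X.presheaf.map (homOfLE (i.preimage_mono h)).op).hom
  choose g hg hg' using fun y : O => (existsUnique_root i hi hn hu (hV y) (ro (hVO y) w)
    (ro (i.preimage_mono (hVO y)) v) (hv' (hVO y)) (by rw [← ro_pow, hvw, app_ro])).exists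
  obtain ⟨G₀, hG₀⟩ := Groth.L21.Extend.exists_glue (Coh.structureModule X') V O hVO
    (fun y hy => ⟨⟨y, hy⟩, hyV ⟨y, hy⟩⟩) g fun a b => by
      show ro (inf_le_left : V a ⊓ V b ≤ V a) (g a) = ro (inf_le_right : V a ⊓ V b ≤ V b) (g b)
      refine root_unique i hi hn hu (hv' (inf_le_left.trans (hVO a))) _ _ ?_ ?_ ?_
      · rw [app_ro, hg, ro_ro]
      · rw [app_ro, hg, ro_ro]
      · rw [← ro_pow, ← ro_pow, hg', hg', ro_ro, ro_ro]
  let G : Γ(X', O) := G₀
  have hG : ∀ y, ro (hVO y) G = g y := hG₀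
  refine ⟨G, ?_, ?_⟩
  · refine Groth.L21.Extend.eq_of_locally (Coh.structureModule X) (i.app O G) v fun x hx => ?_
    refine ⟨i ⁻¹ᵁ V ⟨i x, hx⟩, i.preimage_mono (hVO ⟨i x, hx⟩), hyV ⟨i x, hx⟩, ?_⟩
    show ro (i.preimage_mono (hVO ⟨i x, hx⟩)) (i.app O G) = ro (i.preimage_mono (hVO ⟨i x, hx⟩)) v
    rw [← app_ro i (hVO ⟨i x, hx⟩), hG, hg]
  · refine Groth.L21.Extend.eq_of_locally (Coh.structureModule X') (G ^ n) w fun y hy => ?_
    refine ⟨V ⟨y, hy⟩, hVO _, hyV ⟨y, hy⟩, ?_⟩
    show ro (hVO ⟨y, hy⟩) (G ^ n) = ro (hVO ⟨y, hy⟩) w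
    rw [ro_pow, hG, hg']

omit hi in
/-- Functions as sections of the structure module. -/
theorem isFrame_structure {Y : Scheme.{u}} {W : Y.Opens} {a : Γ(Y, W)} (ha : IsUnit a) :
    IsFrame (Coh.structureModule Y) W a := fun V h => by
  have hu : IsUnit (ro h a) := ha.map (Y.presheaf.map (homOfLE h).op).hom
  show Function.Bijective fun b : Γ(Y, V) => b * ro h a
  exact ⟨hu.mul_left_injective, fun c => ⟨c * ↑hu.unit⁻¹, by
    simp only [mul_assoc, IsUnit.val_inv_mul, mul_one]⟩⟩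

include hn hu in
/-- Torsion invertible modules lift along thickenings. -/
theorem exists_lift (L : X.Modules) (hL : PicF.IsInvertible L)
    (σ : CohB1.tensorPow L n ≅ Coh.structureModule X) :
    ∃ L' : X'.Modules, PicF.IsInvertible L' ∧ Nonempty (CohB1.tensorPow L' n ≅ Coh.structureModule X') ∧
      Nonempty ((Scheme.Modules.pullback i).obj L' ≅ L) := by
  haveI := hi.1
  have hloc : ∀ x : X, ∃ (V : X'.Opens) (e : Γ(L, i ⁻¹ᵁ V)), IsAffineOpen V ∧ i x ∈ V ∧
      IsFrame L (i ⁻¹ᵁ V) e := fun x => by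
    obtain ⟨W, e, hxW, he⟩ := Groth.L18.Frame.exists_frame hL x
    obtain ⟨W', hW', hWW'⟩ := i.isClosedEmbedding.isInducing.isOpen_iff.1 W.2
    have hx' : i x ∈ W' := hWW'.ge hxW
    obtain ⟨_, ⟨V, hV, rfl⟩, hxV, hVW⟩ :=
      X'.isBasis_affineOpens.exists_subset_of_mem_open hx' hW'
    exact ⟨V, rs L (fun y hy => hWW'.le (hVW hy) : i ⁻¹ᵁ V ≤ W) e, hV, hxV, he.mono _⟩
  choose N e hN hxN he using hloc
  -- the trivializing units
  let s₀ : ∀ x, Γ(X, i ⁻¹ᵁ N x) := fun x => σ.hom.app (i ⁻¹ᵁ N x) (epow (e x) n)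
  have hs₀ : ∀ x, IsUnit (s₀ x) := fun x => by
    obtain ⟨a, ha⟩ := (Groth.L20.ResDescent.isFrame_epow (he x) n).exists_coeff le_rfl
      (σ.inv.app (i ⁻¹ᵁ N x) (1 : Γ(X, i ⁻¹ᵁ N x)))
    have h1 := congrArg (σ.hom.app (i ⁻¹ᵁ N x)) ha
    rw [Scheme.Modules.Hom.app_smul, rs_self] at h1
    refine IsUnit.of_mul_eq_one a ((mul_comm (s₀ x) a).trans (h1.trans ?_))
    exact congr($(congrArg (fun k => Scheme.Modules.Hom.app k (i ⁻¹ᵁ N x)) σ.inv_hom_id) (1 : Γ(X, i ⁻¹ᵁ N x)))
  choose t ht using fun x => i.app_surjective (N x) (hN x) (s₀ x)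
  have htu : ∀ x, IsUnit (t x) := fun x => isUnit_of_app i hi (hN x) (by rw [ht]; exact hs₀ x)
  choose u hu' using fun p : X × X => (he p.1).exists_coeff
    (i.preimage_mono (inf_le_left : N p.1 ⊓ N p.2 ≤ N p.1))
    (rs L (i.preimage_mono (inf_le_right : N p.1 ⊓ N p.2 ≤ N p.2)) (e p.2))
  have huu : ∀ p, IsUnit (u p) := fun p =>
    Groth.L18.Frame.isUnit_of_isFrame ((he p.1).mono _) (by rw [hu']; exact (he p.2).mono _)
  have hus : ∀ p : X × X, u p ^ n * ro (i.preimage_mono (inf_le_left : N p.1 ⊓ N p.2 ≤ N p.1)) (s₀ p.1) =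
      ro (i.preimage_mono (inf_le_right : N p.1 ⊓ N p.2 ≤ N p.2)) (s₀ p.2) := fun p => by
    have h1 : ∀ (U : X'.Opens) (h : U ≤ N p.1) , σ.hom.app (i ⁻¹ᵁ U) (epow (rs L (i.preimage_mono h) (e p.1)) n) =
        ro (i.preimage_mono h) (s₀ p.1) := fun U h => by
      rw [← epow_rs]
      exact Groth.L19.ProjBdl.app_rs σ.hom _ _
    have h2 : σ.hom.app (i ⁻¹ᵁ (N p.1 ⊓ N p.2)) (epow (rs L (i.preimage_mono inf_le_right) (e p.2)) n) =
        ro (i.preimage_mono inf_le_right) (s₀ p.2) := by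
      rw [← epow_rs]
      exact Groth.L19.ProjBdl.app_rs σ.hom _ _
    rw [← h2, ← hu' p, epow_smul, Scheme.Modules.Hom.app_smul, h1 _ inf_le_left]
    rfl
  have htu' : ∀ p : X × X, IsUnit (ro (inf_le_left : N p.1 ⊓ N p.2 ≤ N p.1) (t p.1)) := fun p =>
    (htu p.1).map (X'.presheaf.map (homOfLE (inf_le_left : N p.1 ⊓ N p.2 ≤ N p.1)).op).hom
  choose inv' hinv using fun p => (htu' p).exists_left_inv
  choose g hg hg' using fun p : X × X => exists_root i hi hn hu
    (ro (inf_le_right : N p.1 ⊓ N p.2 ≤ N p.2) (t p.2) * inv' p)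
    (u p) (huu p) (by
      refine (IsUnit.mul_left_inj ((hs₀ p.1).map (X.presheaf.map
        (homOfLE (i.preimage_mono (inf_le_left : N p.1 ⊓ N p.2 ≤ N p.1))).op).hom)).1 ?_
      refine (hus p).trans ?_
      show _ = _ * ro (i.preimage_mono (inf_le_left : N p.1 ⊓ N p.2 ≤ N p.1)) (s₀ p.1)
      rw [← ht p.1, ← app_ro i (inf_le_left : N p.1 ⊓ N p.2 ≤ N p.1), ← map_mul, mul_assoc, hinv, mul_one, app_ro, ht])
  have hgt : ∀ p : X × X, g p ^ n * ro (inf_le_left : N p.1 ⊓ N p.2 ≤ N p.1) (t p.1) =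
      ro (inf_le_right : N p.1 ⊓ N p.2 ≤ N p.2) (t p.2) := fun p => by
    rw [hg', mul_assoc, hinv, mul_one]
  let C : Cocycle X' :=
    { ι := X
      N := N
      g := fun a b => g (a, b)
      one := fun a => root_unique i hi hn hu (huu (a, a)) _ _ (hg (a, a)) (by
          rw [map_one]
          refine (he a).inj (i.preimage_mono inf_le_left) ?_
          rw [one_smul, hu' (a, a)]) (by
          refine (IsUnit.mul_left_inj ((htu a).map (X'.presheaf.map
            (homOfLE (inf_le_left : N a ⊓ N a ≤ N a)).op).hom)).1 ?_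
          refine (hgt (a, a)).trans ?_
          rw [one_pow, one_mul])
      comp := fun a b c => by
        let W := N a ⊓ N b ⊓ N c
        have hab : W ≤ N a ⊓ N b := inf_le_left
        have hbc : W ≤ N b ⊓ N c := inf_le_inf_right _ inf_le_right
        have hac : W ≤ N a ⊓ N c := inf_le_inf_right _ inf_le_left
        show ro hab (g (a, b)) * ro hbc (g (b, c)) = ro hac (g (a, c))
        refine root_unique i hi hn hu ((huu (a, c)).map (X.presheaf.map (homOfLE (i.preimage_mono hac)).op).hom)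
          _ _ ?_ (by rw [app_ro]; exact congrArg (ro (i.preimage_mono hac)) (hg (a, c))) ?_
        · rw [map_mul, app_ro, app_ro, show i.app (N a ⊓ N b) (g (a, b)) = u (a, b) from hg (a, b),
            show i.app (N b ⊓ N c) (g (b, c)) = u (b, c) from hg (b, c)]
          refine (he a).inj (i.preimage_mono (hac.trans inf_le_left)) ?_
          show (ro (i.preimage_mono hab) (u (a, b)) * ro (i.preimage_mono hbc) (u (b, c))) • _ =
            ro (i.preimage_mono hac) (u (a, c)) • _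
          have e1 := congrArg (rs L (i.preimage_mono hab)) (hu' (a, b))
          have e2 := congrArg (rs L (i.preimage_mono hbc)) (hu' (b, c))
          have e3 := congrArg (rs L (i.preimage_mono hac)) (hu' (a, c))
          simp only [rs_smul, rs_rs] at e1 e2 e3
          rw [mul_comm, mul_smul, e1, e2, e3]
        · refine (IsUnit.mul_left_inj ((htu a).map (X'.presheaf.map
            (homOfLE (hac.trans inf_le_left)).op).hom)).1 ?_
          show _ * ro (hac.trans inf_le_left) (t a) = _ * ro (hac.trans inf_le_left) (t a)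
          have e1 := congrArg (ro hab) (hgt (a, b))
          have e2 := congrArg (ro hbc) (hgt (b, c))
          have e3 := congrArg (ro hac) (hgt (a, c))
          simp only [Groth.L18.Frame.ro_mul, ro_pow, ro_ro] at e1 e2 e3
          rw [mul_pow, mul_comm (_ ^ n) (_ ^ n), mul_assoc, e1, e2, e3] }
  have hcov : ∀ y : X', ∃ a, y ∈ N a := fun y => by
    haveI := hi.2
    obtain ⟨x, rfl⟩ := i.surjective y
    exact ⟨x, hxN x⟩
  refine ⟨glueMod C, isInvertible_glueMod C hcov, ?_, ?_⟩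
  · refine nonempty_iso_of_gens N (e := fun a => epow (gen C a) n) (e' := fun a => t a)
      (fun a => Groth.L20.ResDescent.isFrame_epow (isGen_gen C a) n) (fun a => isFrame_structure (htu a)) hcov
      fun a b W ha hb c hc => ?_
    have h1 := congrArg (rs (glueMod C) (le_inf ha hb)) (gen_trans C a b)
    rw [rs_smul, rs_rs, rs_rs] at h1
    replace hc : c • rs (CohB1.tensorPow (glueMod C) n) ha (epow (gen C a) n) =
        rs (CohB1.tensorPow (glueMod C) n) hb (epow (gen C b) n) := hc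
    rw [epow_rs, epow_rs, h1, epow_smul] at hc
    have h2 : c = ro (le_inf ha hb) (g (a, b)) ^ n := by
      refine (Groth.L20.ResDescent.isFrame_epow (isGen_gen C a) n).inj ha ?_
      rw [epow_rs]
      exact hc
    show c * ro ha (t a) = ro hb (t b)
    have h3 := congrArg (ro (le_inf ha hb)) (hgt (a, b))
    simp only [Groth.L18.Frame.ro_mul, ro_pow, ro_ro] at h3
    rw [h2]
    exact h3
  · refine nonempty_iso_of_gens (fun a => i ⁻¹ᵁ N a) (e := fun a => pull i (glueMod C) (N a) (gen C a)) (e' := e)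
      (fun a => Groth.L18.Frame.IsFrame.pullback i (glueMod C) (isGen_gen C a)) he
      (fun x => (hcov (i x))) fun a b W ha hb c hc => ?_
    have h1 := congrArg (pull i (glueMod C) (N a ⊓ N b)) (gen_trans C a b)
    rw [pull_smul] at h1
    have h2 := congrArg (rs ((Scheme.Modules.pullback i).obj (glueMod C))
      (le_inf ha hb : W ≤ i ⁻¹ᵁ (N a ⊓ N b))) h1
    have e1 : pull i (glueMod C) (N a ⊓ N b) (Groth.L21.Extend.rs (glueMod C) inf_le_right (gen C b)) =
        rs _ (i.preimage_mono inf_le_right) (pull i (glueMod C) (N b) (gen C b)) := (pull_rs i _ _ _).symm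
    have e2 : pull i (glueMod C) (N a ⊓ N b) (Groth.L21.Extend.rs (glueMod C) inf_le_left (gen C a)) =
        rs _ (i.preimage_mono inf_le_left) (pull i (glueMod C) (N a) (gen C a)) := (pull_rs i _ _ _).symm
    rw [e1, e2, rs_rs, rs_smul, rs_rs] at h2
    have h3 : c = ro (le_inf ha hb : W ≤ i ⁻¹ᵁ (N a ⊓ N b)) (u (a, b)) := by
      refine (Groth.L18.Frame.IsFrame.pullback i (glueMod C) (isGen_gen C a)).inj ha ?_
      rw [← hg (a, b)]
      exact hc.trans h2
    have h4 := congrArg (rs L (le_inf ha hb : W ≤ i ⁻¹ᵁ (N a ⊓ N b))) (hu' (a, b))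
    rw [rs_smul, rs_rs, rs_rs] at h4
    rw [h3]
    exact h4

end Groth.L20.PicThick
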