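/-
Choosing a unit multiple of a function whose differential does not vanish at given points, and
smoothness over the affine line of a function with non-vanishing differential.
-/
import Mathlib.RingTheory.Smooth.Locus
import Mathlib.RingTheory.Kaehler.Polynomial
import Mathlib.RingTheory.Kaehler.JacobiZariski
import Mathlib.RingTheory.Unramified.Finite
import Mathlib.RingTheory.Localization.AtPrime.Basic
import Mathlib.Algebra.Module.Submodule.Union
import Mathlib.RingTheory.LocalRing.Module

set_option autoImplicit false

universe u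

namespace Groth.L20.MovingUnit

open IsLocalRing KaehlerDifferential

variable {k : Type u} [Field k]

/-- If the differential of `f` does not vanish at the closed point, `C` is formally smooth over
`k[f]`. -/
theorem formallySmooth_polynomial {C : Type u} [CommRing C] [IsLocalRing C] [Algebra k C]
    [Algebra (Polynomial k) C] [IsScalarTower k (Polynomial k) C]
    [Algebra.FormallySmooth k C] [Algebra.EssFiniteType k C]
    (hf : D k C (algebraMap (Polynomial k) C Polynomial.X) ∉
      (maximalIdeal C • ⊤ : Submodule C Ω[C⁄k])) :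
    Algebra.FormallySmooth (Polynomial k) C := by
  classical
  haveI : Module.Free C Ω[C⁄k] := Module.free_of_flat_of_isLocalRing
  set ω := D k C (algebraMap (Polynomial k) C Polynomial.X) with hω
  -- a functional taking the value `1` on `df`
  obtain ⟨l, hl⟩ : ∃ l : Ω[C⁄k] →ₗ[C] C, l ω = 1 := by
    let b := Module.Free.chooseBasis C Ω[C⁄k]
    by_contra hno
    apply hf
    rw [← b.linearCombination_repr ω, Finsupp.linearCombination_apply]
    refine Submodule.sum_mem _ fun i _ => Submodule.smul_mem_smul ?_ trivial
    by_contra hi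
    obtain ⟨c, hc⟩ := (IsLocalRing.notMem_maximalIdeal.mp hi : IsUnit (b.repr ω i)).exists_left_inv
    exact hno ⟨c • b.coord i, by simpa using hc⟩
  -- the source of the base-change map is generated by `1 ⊗ dX`
  have hgen : ∀ z : TensorProduct (Polynomial k) C Ω[Polynomial k⁄k],
      ∃ c : C, z = c ⊗ₜ D k (Polynomial k) Polynomial.X := by
    intro z
    induction z using TensorProduct.induction_on with
    | zero => exact ⟨0, by rw [TensorProduct.zero_tmul]⟩
    | tmul c w =>
      refine ⟨c * algebraMap (Polynomial k) C (polynomialEquiv k w), ?_⟩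
      have hw : w = polynomialEquiv k w • D k (Polynomial k) Polynomial.X := by
        apply (polynomialEquiv k).injective
        rw [map_smul, polynomialEquiv_D, Polynomial.derivative_X, smul_eq_mul, mul_one]
      conv_lhs => rw [hw]
      rw [TensorProduct.tmul_smul, TensorProduct.smul_tmul', Algebra.smul_def, mul_comm]
    | add a b ha hb =>
      obtain ⟨c, rfl⟩ := ha
      obtain ⟨c', rfl⟩ := hb
      exact ⟨c + c', (TensorProduct.add_tmul _ _ _).symm⟩
  have hβ : ∀ c : C, mapBaseChange k (Polynomial k) C (c ⊗ₜ D k (Polynomial k) Polynomial.X) =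
      c • ω := fun c => by rw [mapBaseChange_tmul, map_D]
  have hinj : Function.Injective (mapBaseChange k (Polynomial k) C) := by
    rw [injective_iff_map_eq_zero]
    intro z hz
    obtain ⟨c, rfl⟩ := hgen z
    rw [hβ] at hz
    have := congrArg l hz
    rw [map_smul, hl, map_zero, smul_eq_mul, mul_one] at this
    rw [this, TensorProduct.zero_tmul]
  rw [Algebra.formallySmooth_iff]
  constructor
  · -- `Ω_{C/k[X]}` is a direct summand of `Ω_{C/k}`
    let g : Ω[C⁄k] →ₗ[C] Ω[C⁄Polynomial k] := KaehlerDifferential.map k (Polynomial k) C C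
    have hg : Function.Surjective g := map_surjective k (Polynomial k) C
    have hker : LinearMap.range (mapBaseChange k (Polynomial k) C) = LinearMap.ker g :=
      (LinearMap.exact_iff.mp (exact_mapBaseChange_map k (Polynomial k) C)).symm
    let π : Ω[C⁄k] →ₗ[C] Ω[C⁄k] := LinearMap.id - (LinearMap.id.smulRight ω).comp l
    have hπ : LinearMap.ker g ≤ LinearMap.ker π := by
      intro x hx
      rw [← hker] at hx
      obtain ⟨z, rfl⟩ := hx
      obtain ⟨c, rfl⟩ := hgen z
      rw [hβ]
      simp [π, hl]
    let e : (Ω[C⁄k] ⧸ LinearMap.ker g) ≃ₗ[C] Ω[C⁄Polynomial k] := g.quotKerEquivOfSurjective hg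
    let s : Ω[C⁄Polynomial k] →ₗ[C] Ω[C⁄k] :=
      ((LinearMap.ker g).liftQ π hπ).comp e.symm.toLinearMap
    refine Module.Projective.of_split s g ?_
    apply LinearMap.ext
    intro y
    obtain ⟨x, rfl⟩ := hg y
    have h1 : e.symm (g x) = Submodule.Quotient.mk x := by
      apply e.injective
      rw [LinearEquiv.apply_symm_apply]
      rfl
    have h2 : g ω = 0 :=
      LinearMap.mem_ker.mp (hker ▸ ⟨1 ⊗ₜ D k (Polynomial k) Polynomial.X, by rw [hβ, one_smul]⟩)
    simp [s, h1, π, h2]
  · refine ⟨fun a b => ?_⟩
    have h0 : ∀ z : Algebra.H1Cotangent (Polynomial k) C, z = 0 := by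
      intro z
      have hδ : Algebra.H1Cotangent.δ k (Polynomial k) C z = 0 :=
        hinj (((Algebra.H1Cotangent.exact_δ_mapBaseChange k (Polynomial k) C).apply_apply_eq_zero
          z).trans (map_zero _).symm)
      obtain ⟨w, rfl⟩ := ((Algebra.H1Cotangent.exact_map_δ k (Polynomial k) C) z).mp hδ
      rw [Subsingleton.elim w 0, map_zero]
    rw [h0 a, h0 b]

variable {B : Type u} [CommRing B] [Algebra k B]

/-- The `b : B` with `d b` vanishing at `p`. -/
noncomputable def vanishing (p : Ideal B) [p.IsPrime] : Submodule k B :=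
  Submodule.comap (((D k (Localization.AtPrime p)).toLinearMap).comp
      (IsScalarTower.toAlgHom k B (Localization.AtPrime p)).toLinearMap)
    ((maximalIdeal (Localization.AtPrime p) • ⊤ : Submodule (Localization.AtPrime p)
      Ω[Localization.AtPrime p⁄k]).restrictScalars k)

theorem mem_vanishing {p : Ideal B} [p.IsPrime] {b : B} :
    b ∈ vanishing (k := k) p ↔ D k (Localization.AtPrime p) (algebraMap B _ b) ∈
      (maximalIdeal (Localization.AtPrime p) • ⊤ : Submodule (Localization.AtPrime p)
        Ω[Localization.AtPrime p⁄k]) := Iff.rfl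

/-- At a non-closed point some differential does not vanish. -/
theorem exists_notMem_vanishing [Algebra.FiniteType k B] (p : Ideal B) [p.IsPrime]
    (hp : ¬ p.IsMaximal) : ∃ b : B, b ∉ vanishing (k := k) p := by
  by_contra hall
  push Not at hall
  haveI : Algebra.EssFiniteType B (Localization.AtPrime p) := .of_isLocalization _ p.primeCompl
  haveI : Algebra.EssFiniteType k (Localization.AtPrime p) := .comp _ B _
  set L := Localization.AtPrime p
  set N : Submodule L Ω[L⁄k] := maximalIdeal L • ⊤ with hN
  have htop : N = ⊤ := by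
    rw [eq_top_iff, ← span_range_derivation, Submodule.span_le]
    rintro _ ⟨c, rfl⟩
    obtain ⟨⟨b, s⟩, hbs⟩ := IsLocalization.surj p.primeCompl c
    have h1 : D k L (c * algebraMap B L s) ∈ N := by rw [hbs]; exact hall b
    rw [Derivation.leibniz] at h1
    have h2 : algebraMap B L s • D k L c ∈ N :=
      (N.add_mem_iff_right (N.smul_mem c (hall s))).mp h1
    obtain ⟨v, hv⟩ := (IsLocalization.map_units L s).exists_left_inv
    have h3 := N.smul_mem v h2
    rwa [smul_smul, hv, one_smul] at h3
  have hsub : Subsingleton Ω[L⁄k] := by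
    have : (⊤ : Submodule L Ω[L⁄k]) = ⊥ :=
      Submodule.eq_bot_of_le_smul_of_le_jacobson_bot (maximalIdeal L) _ Module.Finite.fg_top
        (htop.ge) (maximalIdeal_le_jacobson _)
    exact (Submodule.subsingleton_iff L).mp (subsingleton_of_bot_eq_top this.symm)
  haveI : Algebra.FormallyUnramified k L := ⟨hsub⟩
  haveI : Module.Finite k L := Algebra.FormallyUnramified.finite_of_free k L
  haveI : Module.Finite k p.ResidueField :=
    Module.Finite.of_surjective (IsScalarTower.toAlgHom k L p.ResidueField).toLinearMap
      IsLocalRing.residue_surjective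
  haveI : Module.Finite k (B ⧸ p) :=
    Module.Finite.of_injective (IsScalarTower.toAlgHom k (B ⧸ p) p.ResidueField).toLinearMap
      (IsFractionRing.injective (B ⧸ p) p.ResidueField)
  exact hp (Ideal.Quotient.maximal_of_isField p
    (isField_of_isIntegral_of_isField' (R := k) (Field.toIsField k)))

/-- A unit multiple of `u` with non-vanishing differential at finitely many non-closed points at
which `u` is invertible. -/
theorem exists_unit_multiple [Infinite k] [Algebra.FiniteType k B] {ι : Type} [Finite ι] (u : B)
    (q : Ideal B) (hq : q ≠ ⊤) (p : ι → Ideal B) [∀ i, (p i).IsPrime]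
    (hu : ∀ i, u ∉ p i) (hp : ∀ i, ¬ (p i).IsMaximal) :
    ∃ e : B, e ∉ q ∧ ∀ i, e * u ∉ vanishing (k := k) (p i) := by
  let W : Option ι → Submodule k B := fun o =>
    o.elim (q.restrictScalars k)
      (fun i => (vanishing (k := k) (p i)).comap (LinearMap.mulRight k u))
  have hW : ∀ o, W o ≠ ⊤ := by
    rintro (_ | i) h
    · exact hq (by simpa [W] using h)
    · have hall : ∀ b : B, b * u ∈ vanishing (k := k) (p i) := fun b => by
        have : b ∈ W (some i) := h ▸ trivial
        exact this
      obtain ⟨b, hb⟩ := exists_notMem_vanishing (k := k) (p i) (hp i)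
      apply hb
      rw [mem_vanishing]
      set L := Localization.AtPrime (p i)
      set N : Submodule L Ω[L⁄k] := maximalIdeal L • ⊤
      have h1 : D k L (algebraMap B L (1 * u)) ∈ N := hall 1
      rw [one_mul] at h1
      have h2 : D k L (algebraMap B L (b * u)) ∈ N := hall b
      rw [map_mul, Derivation.leibniz] at h2
      have h3 := (N.add_mem_iff_right (N.smul_mem (algebraMap B L b) h1)).mp h2
      obtain ⟨v, hv⟩ := (IsLocalization.map_units L (⟨u, hu i⟩ : (p i).primeCompl)).exists_left_inv
      have h4 := N.smul_mem v h3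
      rwa [smul_smul, hv, one_smul] at h4
  obtain ⟨e, he⟩ := Submodule.exists_forall_notMem_of_forall_ne_top W hW
  exact ⟨e, he none, fun i => he (some i)⟩

end Groth.L20.MovingUnit
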