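import Groth.Agent.L13.HartogsFF.Morph
import Groth.Agent.L22.AffineDescent
import Groth.Agent.L06.FlatFibre
import Mathlib.AlgebraicGeometry.Morphisms.Flat

/-!
# Hartogs extension on schemes flat over a base of depth two outside an open

If `U` is an open of a locally Noetherian scheme `X` with depth at least two at the points outside
`U`, then on a scheme flat over `X` morphisms to a scheme affine over it extend uniquely from the
preimage of `U`.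
-/

set_option autoImplicit false
set_option linter.style.haveILetI false
set_option backward.isDefEq.respectTransparency.types false

universe u

open CategoryTheory Limits AlgebraicGeometry TopologicalSpace

namespace Groth.L20.FlatHartogs

variable {X : Scheme.{u}} [IsLocallyNoetherian X] {U : X.Opens}
  (hU : ∀ x : X, x ∉ U → (2 : ℕ∞) ≤ LocCoh.depth (X.presheaf.stalk x) (X.presheaf.stalk x))

include hU in
/-- Functions on an affine open extend from the trace of `U`. -/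
theorem base_bijective {V : X.Opens} (hV : IsAffineOpen V) :
    Function.Bijective (V.ι ⁻¹ᵁ U).ι.appTop := by
  have : IsAffine V := hV
  have : IsNoetherian V.toScheme := {}
  let U₀ : V.toScheme.Opens := V.ι ⁻¹ᵁ U
  have hd : ∀ s : V.toScheme, s ∉ U₀ →
      (2 : ℕ∞) ≤ LocCoh.depth (V.toScheme.presheaf.stalk s) (V.toScheme.presheaf.stalk s) := by
    intro s hs
    rw [← Groth.L06.FlatFibre.depth_eq_of_ringEquiv (V.stalkIso s).commRingCatIsoToRingEquiv]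
    exact hU s.1 hs
  have key := Groth.L13.HartogsFF.incl_appTop_bijective (𝟙 V.toScheme) U₀ hd
    (isAffineOpen_top V.toScheme)
  let e : U₀.toScheme ≅ ((𝟙 V.toScheme) ⁻¹ᵁ (⊤ ⊓ U₀) : V.toScheme.Opens).toScheme :=
    V.toScheme.isoOfEq (by simp)
  let e' : ((𝟙 V.toScheme) ⁻¹ᵁ ⊤ : V.toScheme.Opens).toScheme ≅ V.toScheme :=
    V.toScheme.isoOfEq (by simp) ≪≫ V.toScheme.topIso
  have he : U₀.ι = e.hom ≫ Groth.L13.HartogsFF.incl (𝟙 V.toScheme) U₀ ⊤ ≫ e'.hom := by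
    simp [e, e', Groth.L13.HartogsFF.incl]
  rw [he, Scheme.Hom.comp_appTop, Scheme.Hom.comp_appTop]
  exact ((ConcreteCategory.bijective_of_isIso (Scheme.Γ.map e.hom.op)).comp key).comp
    (ConcreteCategory.bijective_of_isIso (Scheme.Γ.map e'.hom.op))

variable {Z : Scheme.{u}} (π : Z ⟶ X) [Flat π]

include hU in
/-- Functions on an affine scheme flat over an affine open extend. -/
theorem appTop_bijective {V : X.Opens} (hV : IsAffineOpen V) {W : Z.Opens} (hW : IsAffineOpen W)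
    (hle : W ≤ π ⁻¹ᵁ V) :
    Function.Bijective (Z.homOfLE (inf_le_left : W ⊓ π ⁻¹ᵁ U ≤ W)).appTop := by
  have : IsAffine V := hV
  have : IsAffine W := hW
  have : IsNoetherian V.toScheme := {}
  let U₀ : V.toScheme.Opens := V.ι ⁻¹ᵁ U
  let g : W.toScheme ⟶ V.toScheme := π.resLE V W hle
  have hg : g ≫ V.ι = W.ι ≫ π := π.resLE_comp_ι hle
  have hpre : g ⁻¹ᵁ U₀ = W.ι ⁻¹ᵁ (π ⁻¹ᵁ U) := by
    rw [← Scheme.Hom.comp_preimage, hg, Scheme.Hom.comp_preimage]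
  have : CompactSpace U₀.toScheme :=
    isCompact_iff_compactSpace.1 (NoetherianSpace.isCompact (U₀ : Set V.toScheme))
  have H := Groth.L22.AffDesc.isPushout_appTop (isPullback_morphismRestrict g U₀)
  have : IsIso U₀.ι.appTop :=
    (ConcreteCategory.isIso_iff_bijective _).2 (base_bijective hU hV)
  have h1 : IsIso (g ⁻¹ᵁ U₀).ι.appTop := by
    exact H.isIso_inr_of_isIso
  let e : (W ⊓ π ⁻¹ᵁ U : Z.Opens).toScheme ≅ (g ⁻¹ᵁ U₀).toScheme :=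
    Z.isoOfEq (show W ⊓ π ⁻¹ᵁ U = W.ι ''ᵁ (g ⁻¹ᵁ U₀) by
      rw [hpre, Scheme.Hom.image_preimage_eq_opensRange_inf, Scheme.Opens.opensRange_ι]) ≪≫
      (W.ι.isoImage (g ⁻¹ᵁ U₀)).symm
  have he : Z.homOfLE (inf_le_left : W ⊓ π ⁻¹ᵁ U ≤ W) = e.hom ≫ (g ⁻¹ᵁ U₀).ι := by
    rw [← cancel_mono W.ι]
    simp [e]
  rw [he, Scheme.Hom.comp_appTop]
  exact (ConcreteCategory.bijective_of_isIso (Scheme.Γ.map e.hom.op)).comp
    (ConcreteCategory.bijective_of_isIso (g ⁻¹ᵁ U₀).ι.appTop)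

theorem isBasis_small (z : Z) (O : Z.Opens) (hz : z ∈ O) :
    ∃ (V : X.Opens) (W : Z.Opens), IsAffineOpen V ∧ IsAffineOpen W ∧ W ≤ π ⁻¹ᵁ V ∧ z ∈ W ∧ W ≤ O := by
  obtain ⟨V, hV, hzV, -⟩ :=
    exists_isAffineOpen_mem_and_subset (X := X) (x := π z) (U := ⊤) trivial
  obtain ⟨W, hW, hzW, hWle⟩ :=
    exists_isAffineOpen_mem_and_subset (X := Z) (x := z) (U := O ⊓ π ⁻¹ᵁ V) ⟨hz, hzV⟩
  exact ⟨V, W, hV, hW, fun x hx => (hWle hx).2, hzW, fun x hx => (hWle hx).1⟩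

variable {T B : Scheme.{u}} (t : T ⟶ B) [IsAffineHom t]

include hU in
/-- A morphism to a scheme affine over `B` is determined on the preimage of `U`. -/
theorem ext {a b : Z ⟶ T} (h : a ≫ t = b ≫ t) (hU' : (π ⁻¹ᵁ U).ι ≫ a = (π ⁻¹ᵁ U).ι ≫ b) :
    a = b := by
  refine Scheme.hom_ext_of_forall _ _ fun z => ?_
  obtain ⟨O, hO, hzO, -⟩ :=
    exists_isAffineOpen_mem_and_subset (X := B) (x := t (a z)) (U := ⊤) trivial
  obtain ⟨V, W, hV, hW, hle, hzW, hWO⟩ := isBasis_small π z ((a ≫ t) ⁻¹ᵁ O) hzO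
  refine ⟨W, hzW, ?_⟩
  have ha : Set.range (W.ι ≫ a) ⊆ Set.range (t ⁻¹ᵁ O).ι := by
    rintro _ ⟨w, rfl⟩
    rw [Scheme.Opens.range_ι]
    exact hWO w.2
  have hb : Set.range (W.ι ≫ b) ⊆ Set.range (t ⁻¹ᵁ O).ι := by
    rintro _ ⟨w, rfl⟩
    rw [Scheme.Opens.range_ι]
    have : w.1 ∈ (b ≫ t) ⁻¹ᵁ O := h ▸ hWO w.2
    exact this
  have : IsAffine (t ⁻¹ᵁ O).toScheme := hO.preimage t
  obtain ⟨φ, -, hφ⟩ := Groth.L13.HartogsFF.exists_unique_lift (T := (t ⁻¹ᵁ O).toScheme)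
    (Z.homOfLE (inf_le_left : W ⊓ π ⁻¹ᵁ U ≤ W)) (appTop_bijective hU π hV hW hle)
    (Z.homOfLE inf_le_left ≫ IsOpenImmersion.lift _ _ ha)
  have e1 := hφ (IsOpenImmersion.lift _ _ ha) rfl
  have e2 := hφ (IsOpenImmersion.lift _ _ hb) (by
    dsimp only
    rw [← cancel_mono (t ⁻¹ᵁ O).ι, Category.assoc, Category.assoc, IsOpenImmersion.lift_fac,
      IsOpenImmersion.lift_fac, Scheme.homOfLE_ι_assoc, Scheme.homOfLE_ι_assoc,
      ← Z.homOfLE_ι (inf_le_right : W ⊓ π ⁻¹ᵁ U ≤ π ⁻¹ᵁ U), Category.assoc, Category.assoc, hU'])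
  rw [← IsOpenImmersion.lift_fac (t ⁻¹ᵁ O).ι _ ha, ← IsOpenImmersion.lift_fac (t ⁻¹ᵁ O).ι _ hb,
    e1, e2]

include hU in
/-- A morphism to a scheme affine over `B` extends from the preimage of `U`. -/
theorem exists_extend (c : Z ⟶ B) (ψ : (π ⁻¹ᵁ U).toScheme ⟶ T)
    (hψ : ψ ≫ t = (π ⁻¹ᵁ U).ι ≫ c) : ∃ a : Z ⟶ T, a ≫ t = c ∧ (π ⁻¹ᵁ U).ι ≫ a = ψ := by
  let I := {W : Z.Opens // ∃ a : W.toScheme ⟶ T, a ≫ t = W.ι ≫ c ∧
    Z.homOfLE (inf_le_left : W ⊓ π ⁻¹ᵁ U ≤ W) ≫ a = Z.homOfLE inf_le_right ≫ ψ}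
  have hcov : IsOpenCover (fun W : I => W.1) := IsOpenCover.mk (eq_top_iff.2 fun z _ => by
    obtain ⟨O, hO, hzO, -⟩ :=
      exists_isAffineOpen_mem_and_subset (X := B) (x := c z) (U := ⊤) trivial
    obtain ⟨V, W, hV, hW, hle, hzW, hWO⟩ := isBasis_small π z (c ⁻¹ᵁ O) hzO
    have : IsAffine O.toScheme := hO
    have : IsAffine (t ⁻¹ᵁ O).toScheme := hO.preimage t
    let j := Z.homOfLE (inf_le_left : W ⊓ π ⁻¹ᵁ U ≤ W)
    have hc : Set.range (W.ι ≫ c) ⊆ Set.range O.ι := by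
      rintro _ ⟨w, rfl⟩
      rw [Scheme.Opens.range_ι]
      exact hWO w.2
    have hr : Set.range (Z.homOfLE (inf_le_right : W ⊓ π ⁻¹ᵁ U ≤ π ⁻¹ᵁ U) ≫ ψ) ⊆
        Set.range (t ⁻¹ᵁ O).ι := by
      rintro _ ⟨w, rfl⟩
      rw [Scheme.Opens.range_ι]
      show ((Z.homOfLE inf_le_right ≫ ψ) ≫ t) w ∈ O
      rw [Category.assoc, hψ, Scheme.homOfLE_ι_assoc]
      exact hWO w.2.1
    obtain ⟨φ, hφ, -⟩ := Groth.L13.HartogsFF.exists_unique_lift (T := (t ⁻¹ᵁ O).toScheme) j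
      (appTop_bijective hU π hV hW hle) (IsOpenImmersion.lift _ _ hr)
    obtain ⟨φ', -, hφ'⟩ := Groth.L13.HartogsFF.exists_unique_lift (T := O.toScheme) j
      (appTop_bijective hU π hV hW hle) (j ≫ IsOpenImmersion.lift _ _ hc)
    refine Opens.mem_iSup.2 ⟨⟨W, φ ≫ (t ⁻¹ᵁ O).ι, ?_, ?_⟩, hzW⟩
    · rw [Category.assoc, ← morphismRestrict_ι t O, ← IsOpenImmersion.lift_fac O.ι _ hc,
        ← Category.assoc, hφ' _ rfl, hφ' (φ ≫ t ∣_ O) ?_]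
      dsimp only
      rw [← cancel_mono O.ι, Category.assoc, Category.assoc, morphismRestrict_ι,
        reassoc_of% hφ, IsOpenImmersion.lift_fac_assoc, Category.assoc, hψ,
        Category.assoc, IsOpenImmersion.lift_fac, Scheme.homOfLE_ι_assoc, Scheme.homOfLE_ι_assoc]
    · rw [reassoc_of% hφ, IsOpenImmersion.lift_fac])
  let 𝒰 := Z.openCoverOfIsOpenCover _ hcov
  choose φ hφt hφU using fun W : I => W.2
  have hlift : ∀ (k : I) {P : Scheme.{u}} (r : P ⟶ Z) (p : P ⟶ k.1.toScheme), p ≫ k.1.ι = r →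
      ∃ s : ((r ≫ π) ⁻¹ᵁ U).toScheme ⟶ (π ⁻¹ᵁ U).toScheme,
        s ≫ (π ⁻¹ᵁ U).ι = ((r ≫ π) ⁻¹ᵁ U).ι ≫ r ∧
        ((r ≫ π) ⁻¹ᵁ U).ι ≫ p ≫ φ k = s ≫ ψ := by
    rintro k P r p rfl
    have hs : Set.range ((((p ≫ k.1.ι) ≫ π) ⁻¹ᵁ U).ι ≫ p ≫ k.1.ι) ⊆
        Set.range (k.1 ⊓ π ⁻¹ᵁ U).ι := by
      rintro _ ⟨w, rfl⟩
      rw [Scheme.Opens.range_ι]
      exact ⟨(p w.1).2, w.2⟩
    refine ⟨IsOpenImmersion.lift _ _ hs ≫ Z.homOfLE inf_le_right, ?_, ?_⟩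
    · exact (Category.assoc _ _ _).trans ((congrArg (_ ≫ ·) (Z.homOfLE_ι _)).trans
        (IsOpenImmersion.lift_fac _ _ _))
    · refine Eq.trans ?_ (((congrArg (IsOpenImmersion.lift _ _ hs ≫ ·) (hφU k))).trans
        (Category.assoc _ _ _).symm)
      refine (Category.assoc _ _ _).symm.trans ((congrArg (· ≫ φ k) ?_).trans (Category.assoc _ _ _))
      refine (cancel_mono k.1.ι).1 ?_
      exact (Category.assoc _ _ _).trans ((IsOpenImmersion.lift_fac _ _ hs).symm.trans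
        (((congrArg (IsOpenImmersion.lift _ _ hs ≫ ·) (Z.homOfLE_ι inf_le_left)).symm).trans
          (Category.assoc _ _ _).symm))
  have hcompat : ∀ W W' : I, pullback.fst W.1.ι W'.1.ι ≫ φ W =
      pullback.snd W.1.ι W'.1.ι ≫ φ W' := by
    intro W W'
    let r : pullback W.1.ι W'.1.ι ⟶ Z := pullback.fst W.1.ι W'.1.ι ≫ W.1.ι
    have : Flat (r ≫ π) := inferInstance
    refine ext hU (r ≫ π) t ?_ ?_
    · rw [Category.assoc, Category.assoc, hφt, hφt]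
      exact pullback.condition_assoc c
    · obtain ⟨s₁, hs₁, e₁⟩ := hlift W r (pullback.fst _ _) rfl
      obtain ⟨s₂, hs₂, e₂⟩ := hlift W' r (pullback.snd _ _) pullback.condition.symm
      exact e₁.trans ((congrArg (· ≫ ψ) ((cancel_mono (π ⁻¹ᵁ U).ι).1 (hs₁.trans hs₂.symm))).trans
        e₂.symm)
  refine ⟨𝒰.glueMorphisms φ hcompat, ?_, ?_⟩
  · refine 𝒰.hom_ext _ _ fun W => ?_
    rw [Scheme.Cover.ι_glueMorphisms_assoc]
    exact hφt W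
  · refine Scheme.hom_ext_of_forall _ _ fun z => ?_
    obtain ⟨W, hzW⟩ := Opens.mem_iSup.1 (hcov.iSup_eq_top ▸ trivial : z.1 ∈ ⨆ W : I, W.1)
    refine ⟨(π ⁻¹ᵁ U).ι ⁻¹ᵁ W.1, hzW, ?_⟩
    have hs : Set.range (((π ⁻¹ᵁ U).ι ⁻¹ᵁ W.1).ι ≫ (π ⁻¹ᵁ U).ι) ⊆
        Set.range (W.1 ⊓ π ⁻¹ᵁ U).ι := by
      rintro _ ⟨w, rfl⟩
      rw [Scheme.Opens.range_ι]
      exact ⟨w.2, w.1.2⟩
    have hg1 : W.1.ι ≫ 𝒰.glueMorphisms φ hcompat = φ W :=
      Scheme.Cover.ι_glueMorphisms 𝒰 φ hcompat W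
    have h1 : ((π ⁻¹ᵁ U).ι ⁻¹ᵁ W.1).ι ≫ (π ⁻¹ᵁ U).ι =
        IsOpenImmersion.lift _ _ hs ≫ Z.homOfLE inf_le_left ≫ W.1.ι := by
      rw [Scheme.homOfLE_ι, IsOpenImmersion.lift_fac]
    rw [reassoc_of% h1, hg1, hφU W, ← Category.assoc]
    congr 1
    rw [← cancel_mono (π ⁻¹ᵁ U).ι, Category.assoc, Scheme.homOfLE_ι, IsOpenImmersion.lift_fac]

end Groth.L20.FlatHartogs
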