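import Groth.Agent.L20.AdmSep
import Groth.Agent.L22.Ideal
import Mathlib.RingTheory.Finiteness.Nakayama
import Mathlib.AlgebraicGeometry.IdealSheaf.Functorial

/-!
# Strict transforms and separation of closures after blowing up
-/

set_option autoImplicit false
set_option linter.style.haveILetI false
universe u

open CategoryTheory AlgebraicGeometry TopologicalSpace

noncomputable section

namespace Groth.L20.StrictSep

open Groth.L13.MP

variable {X Y : Scheme.{u}}

/-- If `E` is finitely generated and `E = K E` modulo `J`, then `V(J) ∖ V(E)` does not accumulate at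
the points of `V(K)`. -/
theorem notMem_closure {E K J : X.IdealSheafData} (hE : LocFG E) (h : E ≤ K * E ⊔ J) {z : X}
    (hz : z ∈ K.support) : z ∉ closure ((J.support : Set X) \ (E.support : Set X)) := by
  obtain ⟨_, ⟨W, hW, rfl⟩, hzW, -⟩ :=
    X.isBasis_affineOpens.exists_subset_of_mem_open (Set.mem_univ z) isOpen_univ
  let A : X.affineOpens := ⟨W, hW⟩
  set j : Ideal Γ(X, W) := J.ideal A
  set q := Ideal.Quotient.mk j
  have hle : (E.ideal A).map q ≤ (K.ideal A).map q • (E.ideal A).map q := by
    rw [smul_eq_mul, ← Ideal.map_mul]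
    refine (Ideal.map_mono (h A)).trans ?_
    rw [Scheme.IdealSheafData.ideal_sup, Pi.sup_apply, Scheme.IdealSheafData.ideal_mul, Pi.mul_apply,
      Ideal.map_sup, Ideal.map_quotient_self, sup_bot_eq]
  obtain ⟨r, hr, hr'⟩ := Submodule.exists_sub_one_mem_and_smul_eq_zero_of_fg_of_le_smul _ _
    (Ideal.FG.map (hE.fg A) q) hle
  obtain ⟨r, rfl⟩ := Ideal.Quotient.mk_surjective r
  obtain ⟨k, hk, hkr⟩ : ∃ k ∈ K.ideal A, q k = q (r - 1) := by
    rw [map_sub, map_one]
    exact (Ideal.mem_map_iff_of_surjective q Ideal.Quotient.mk_surjective).1 hr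
  have hkz : z ∉ X.basicOpen k := (Scheme.mem_zeroLocus_iff X _ _).1
    ((Scheme.IdealSheafData.mem_support_iff_of_mem (U := A) hzW).1 hz) k hk
  intro hcl
  have hzr : z ∈ (X.basicOpen r : Set X) := by
    have hzJ : z ∈ J.support := by
      refine closure_minimal ?_ J.support.isClosed hcl
      exact Set.sdiff_subset
    have h1 : r - 1 - k ∈ j := by
      rw [← Ideal.Quotient.eq_zero_iff_mem, map_sub]
      exact sub_eq_zero.2 hkr.symm
    rw [Scheme.IdealSheafData.mem_support_iff_of_mem (U := A) hzW, Scheme.mem_zeroLocus_iff] at hzJ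
    have hzj : z ∉ X.basicOpen (r - 1 - k) := hzJ _ h1
    by_contra hzr
    rw [X.mem_basicOpen _ z hzW] at hzj hkz
    rw [SetLike.mem_coe, X.mem_basicOpen _ z hzW] at hzr
    rw [map_sub, map_sub, map_one] at hzj
    set m := IsLocalRing.maximalIdeal (X.presheaf.stalk z)
    have hm : ∀ {a : X.presheaf.stalk z}, ¬ IsUnit a → a ∈ m := fun h =>
      (IsLocalRing.mem_maximalIdeal _).2 h
    have := Ideal.sub_mem _ (Ideal.sub_mem _ (hm hzr) (hm hzj)) (hm hkz)
    have hone : (1 : X.presheaf.stalk z) ∈ m := by convert this using 1; ring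
    refine (IsLocalRing.maximalIdeal.isMaximal (X.presheaf.stalk z)).ne_top ((Ideal.eq_top_iff_one _).2 ?_)
    exact hone
  obtain ⟨y, ⟨hyW, hyk⟩, hyJ, hyE⟩ := mem_closure_iff.1 hcl
    ((W : Set X) ∩ (X.basicOpen r : Set X)) (W.2.inter (X.basicOpen r).2) ⟨hzW, hzr⟩
  refine hyE ?_
  rw [SetLike.mem_coe, Scheme.IdealSheafData.mem_support_iff_of_mem (U := A) hyW,
    Scheme.mem_zeroLocus_iff] at hyJ ⊢
  intro e he hey
  have : q r * q e = 0 := hr' _ (Ideal.mem_map_of_mem q he)
  rw [← map_mul, Ideal.Quotient.eq_zero_iff_mem] at this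
  exact hyJ _ this (by rw [X.basicOpen_mul]; exact ⟨hyk, hey⟩)

/-- The closure of `V(I) ∖ V(E)` is killed by the colon of `I` by `E`. -/
theorem closure_subset_colon {I E : X.IdealSheafData} (hE : BlowUp.IsEffCartierIdeal E) (hle : I ≤ E) :
    closure ((I.support : Set X) \ (E.support : Set X)) ⊆
      ((colon I (LocFG.of_isEffCartier hE)).support : Set X) := by
  refine closure_minimal (fun y hy => ?_) (colon I (LocFG.of_isEffCartier hE)).support.isClosed
  have h1 := hy.1
  rw [← colon_mul hE hle, Scheme.IdealSheafData.support_mul] at h1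
  exact h1.resolve_right hy.2

/-- Separation: if `I ≤ E`, `E` is Cartier and `E = I` modulo `J` upstairs, then the closures of
`V(J) ∖ V(E)` and of `V(I) ∖ V(E)` do not meet. -/
theorem sep (g : Y ⟶ X) {I E : X.IdealSheafData} (hE : BlowUp.IsEffCartierIdeal E) (hle : I ≤ E)
    (J : Y.IdealSheafData) (h : E.comap g ≤ I.comap g ⊔ J) {z : Y}
    (hz : z ∈ closure ((J.support : Set Y) \ g ⁻¹' (E.support : Set X))) :
    g z ∉ closure ((I.support : Set X) \ (E.support : Set X)) := by
  intro hgz
  have hK := closure_subset_colon hE hle hgz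
  refine notMem_closure (E := E.comap g) (K := (colon I (LocFG.of_isEffCartier hE)).comap g) (J := J)
    (LocFG.comap (LocFG.of_isEffCartier hE) g) ?_ ?_ ?_ (z := z)
  · rw [← Groth.L22.Ideals.comap_mul, colon_mul hE hle]
    exact h
  · rw [Scheme.IdealSheafData.support_comap]
    exact hK
  · rw [Scheme.IdealSheafData.support_comap]
    exact hz

/-- A power of a finite type ideal is contained in any ideal with smaller support. -/
theorem exists_pow_le [CompactSpace X] {J B : X.IdealSheafData} (hJ : BlowUp.IsFiniteTypeIdeal J)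
    (h : (B.support : Set X) ⊆ (J.support : Set X)) : ∃ n : ℕ, J ^ (n + 1) ≤ B := by
  have hrad : ∀ V : X.affineOpens, J.ideal V ≤ (B.ideal V).radical := by
    intro V
    have h1 : J ≤ Scheme.IdealSheafData.vanishingIdeal B.support :=
      Scheme.IdealSheafData.le_support_iff_le_vanishingIdeal.1 h
    rw [Scheme.IdealSheafData.vanishingIdeal_support] at h1
    exact h1 V
  choose n hn using fun V => Ideal.exists_pow_le_of_le_radical_of_fg (hrad V) (hJ V)
  obtain ⟨t, ht⟩ := CompactSpace.elim_nhds_subcover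
    (fun x : X => ((X.affineCover.f (X.affineCover.idx x)).opensRange : Set X))
    (fun x => (X.affineCover.f (X.affineCover.idx x)).opensRange.2.mem_nhds (X.affineCover.covers x))
  let V : t → X.affineOpens := fun x =>
    ⟨(X.affineCover.f (X.affineCover.idx x.1)).opensRange, isAffineOpen_opensRange _⟩
  refine ⟨Finset.univ.sup fun x => n (V x), Scheme.IdealSheafData.le_of_iSup_eq_top V ?_ fun x => ?_⟩
  · refine eq_top_iff.2 fun y _ => ?_
    have hy : y ∈ (⊤ : Set X) := trivial
    rw [← ht] at hy
    simp only [Set.mem_iUnion] at hy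
    obtain ⟨x, hx, hy⟩ := hy
    exact Opens.mem_iSup.2 ⟨⟨x, hx⟩, hy⟩
  · rw [Scheme.IdealSheafData.ideal_pow, Pi.pow_apply]
    exact (Ideal.pow_le_pow_right ((Finset.le_sup (f := fun x => n (V x)) (Finset.mem_univ x)).trans
      (Nat.le_succ _))).trans (hn (V x))

/-- A morphism along which `I` pulls back to zero and `E` to a Cartier ideal lands in the support of
the colon of `I` by `E`. -/
theorem range_subset_colon (k : Y ⟶ X) {I E : X.IdealSheafData} (hE : BlowUp.IsEffCartierIdeal E)
    (hle : I ≤ E) (hI : I.comap k = ⊥) (hEk : BlowUp.IsEffCartierIdeal (E.comap k)) :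
    Set.range (fun y => k y) ⊆ ((colon I (LocFG.of_isEffCartier hE)).support : Set X) := by
  have h0 : (colon I (LocFG.of_isEffCartier hE)).comap k = ⊥ := by
    refine eq_of_mul_eq hEk ?_
    rw [← Groth.L22.Ideals.comap_mul, colon_mul hE hle, hI, Scheme.IdealSheafData.bot_mul]
  rintro _ ⟨y, rfl⟩
  have hy : y ∈ ((colon I (LocFG.of_isEffCartier hE)).comap k).support := by
    rw [h0, Scheme.IdealSheafData.support_bot]
    exact trivial
  rw [Scheme.IdealSheafData.support_comap] at hy
  exact hy

/-- An ideal pulls back to zero along any morphism through its closed subscheme. -/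
theorem comap_subschemeι_eq_bot (I : X.IdealSheafData) (f : Y ⟶ I.subscheme) :
    I.comap (f ≫ I.subschemeι) = ⊥ := by
  rw [eq_bot_iff, ← Scheme.IdealSheafData.le_map_iff_comap_le, Scheme.IdealSheafData.map_bot]
  exact (Scheme.IdealSheafData.ker_subschemeι I).ge.trans (Scheme.Hom.le_ker_comp _ _)

end Groth.L20.StrictSep
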