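import Groth.Agent.L20.FlatAtBaseChange
import Groth.Agent.L20.ModPullback
import Groth.Prelude.Def_FlatCA

/-!
# Flatness above closed points and flat local extensions
-/

set_option autoImplicit false
set_option linter.style.haveILetI false
set_option backward.isDefEq.respectTransparency false

universe u

open TensorProduct IsLocalRing

namespace Groth.L20.AboveClosed

/-- Flatness over the base at a prime ascends along flat extensions. -/
theorem flat_of_flat_below {A' B' C' M' N' : Type u} [CommRing A'] [CommRing B'] [CommRing C']
    [Algebra A' B'] [Algebra A' C'] [Algebra B' C'] [IsScalarTower A' B' C'] [Module.Flat B' C']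
    [AddCommGroup M'] [Module B' M'] [Module A' M'] [IsScalarTower A' B' M']
    [AddCommGroup N'] [Module C' N'] [Module B' N'] [IsScalarTower B' C' N'] [Module A' N'] [IsScalarTower A' C' N']
    (g' : M' →ₗ[B'] N') (hg' : IsBaseChange C' g') (Q : Ideal C') [Q.IsPrime]
    [Module.Flat A' (LocalizedModule (Q.comap (algebraMap B' C')).primeCompl M')] :
    Module.Flat A' (LocalizedModule Q.primeCompl N') := by
  let q := Q.comap (algebraMap B' C')
  let Bq := Localization.AtPrime q
  let T := Localization.AtPrime Q
  let L := LocalizedModule Q.primeCompl N'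
  haveI : Q.LiesOver q := ⟨rfl⟩
  letI := Localization.AtPrime.algebraOfLiesOver q Q
  haveI : Module.Flat C' T := IsLocalization.flat _ Q.primeCompl
  haveI : Module.Flat B' T := Module.Flat.trans B' C' T
  haveI : Module.Flat Bq T := (Module.flat_iff_of_isLocalization Bq q.primeCompl T).2 inferInstance
  haveI : IsScalarTower A' Bq T := IsScalarTower.of_algebraMap_eq fun a => by
    rw [IsScalarTower.algebraMap_apply A' B' Bq, ← IsScalarTower.algebraMap_apply B' Bq T,
      ← IsScalarTower.algebraMap_apply A' B' T]
  letI : Module Bq L := Module.compHom L (algebraMap Bq T)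
  haveI : IsScalarTower Bq T L := IsScalarTower.of_algebraMap_smul fun _ _ => rfl
  haveI : IsScalarTower B' T L := IsScalarTower.of_algebraMap_smul fun b z => by
    rw [IsScalarTower.algebraMap_apply B' C' T, algebraMap_smul, algebraMap_smul]
  haveI : IsScalarTower B' Bq L := IsScalarTower.of_algebraMap_smul fun b z => by
    show algebraMap Bq T (algebraMap B' Bq b) • z = b • z
    rw [← IsScalarTower.algebraMap_apply B' Bq T, algebraMap_smul]
  let mN : N' →ₗ[C'] L := LocalizedModule.mkLinearMap Q.primeCompl N'
  have h1 : IsBaseChange T ((mN.restrictScalars B') ∘ₗ g') :=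
    hg'.comp (IsLocalizedModule.isBaseChange Q.primeCompl T mN)
  let mM : M' →ₗ[B'] LocalizedModule q.primeCompl M' := LocalizedModule.mkLinearMap q.primeCompl M'
  have h2 : IsBaseChange Bq mM := IsLocalizedModule.isBaseChange q.primeCompl Bq mM
  have h3 : IsBaseChange T (h2.lift ((mN.restrictScalars B') ∘ₗ g')) := by
    refine IsBaseChange.of_comp h2 ?_
    rwa [show (h2.lift ((mN.restrictScalars B') ∘ₗ g')).restrictScalars B' ∘ₗ mM = (mN.restrictScalars B') ∘ₗ g' from
      LinearMap.ext fun m => h2.lift_eq _ m]
  haveI : Module.Flat A' (T ⊗[Bq] LocalizedModule q.primeCompl M') :=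
    Groth.L20.ModStalk.flat_tensorProduct
  haveI : IsScalarTower A' T L := IsScalarTower.of_algebraMap_smul fun a z => by
    rw [IsScalarTower.algebraMap_apply A' C' T, algebraMap_smul, algebraMap_smul]
  exact Module.Flat.of_linearEquiv (h3.equiv.restrictScalars A').symm

/-- Flatness over the base at a prime descends along flat extensions. -/
theorem flat_of_flat_above {A' B' C' M' N' : Type u} [CommRing A'] [CommRing B'] [CommRing C']
    [Algebra A' B'] [Algebra A' C'] [Algebra B' C'] [IsScalarTower A' B' C'] [Module.Flat B' C']
    [AddCommGroup M'] [Module B' M'] [Module A' M'] [IsScalarTower A' B' M']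
    [AddCommGroup N'] [Module C' N'] [Module B' N'] [IsScalarTower B' C' N'] [Module A' N'] [IsScalarTower A' C' N']
    (g' : M' →ₗ[B'] N') (hg' : IsBaseChange C' g') (Q : Ideal C') [Q.IsPrime]
    [Module.Flat A' (LocalizedModule Q.primeCompl N')] (q : Ideal B') [q.IsPrime]
    (hq : Q.comap (algebraMap B' C') = q) :
    Module.Flat A' (LocalizedModule q.primeCompl M') := by
  let T := Localization.AtPrime Q
  let L := LocalizedModule Q.primeCompl N'
  haveI : Module.Flat C' T := IsLocalization.flat _ Q.primeCompl
  haveI : Module.Flat B' T := Module.Flat.trans B' C' T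
  haveI : IsScalarTower B' T L := IsScalarTower.of_algebraMap_smul fun b z => by
    rw [IsScalarTower.algebraMap_apply B' C' T, algebraMap_smul, algebraMap_smul]
  haveI : IsScalarTower A' B' L := IsScalarTower.of_algebraMap_smul fun a z => by
    rw [← algebraMap_smul C' (algebraMap A' B' a) z, ← IsScalarTower.algebraMap_apply A' B' C', algebraMap_smul]
  let mN : N' →ₗ[C'] L := LocalizedModule.mkLinearMap Q.primeCompl N'
  have h1 : IsBaseChange T ((mN.restrictScalars B') ∘ₗ g') :=
    hg'.comp (IsLocalizedModule.isBaseChange Q.primeCompl T mN)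
  refine Groth.L20.flat_localizedModule_of_descent ((mN.restrictScalars B') ∘ₗ g') h1 q fun htop => ?_
  have hle : q.map (algebraMap B' T) ≤ IsLocalRing.maximalIdeal T := by
    rw [Ideal.map_le_iff_le_comap, IsScalarTower.algebraMap_eq B' C' T, ← Ideal.comap_comap,
      show (IsLocalRing.maximalIdeal T).comap (algebraMap C' T) = Q from Localization.AtPrime.under_maximalIdeal, hq]
  exact (IsLocalRing.maximalIdeal.isMaximal T).ne_top (top_le_iff.mp (htop ▸ hle))

end Groth.L20.AboveClosed

namespace Groth.L20.AboveClosed

open TensorProduct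

/-- Along an integral map, flatness at a prime is flatness at all primes above it. -/
theorem flat_of_forall_above {A' B' C' N' : Type u} [CommRing A'] [CommRing B'] [CommRing C']
    [Algebra A' B'] [Algebra A' C'] [Algebra B' C'] [IsScalarTower A' B' C'] [Algebra.IsIntegral B' C']
    [AddCommGroup N'] [Module C' N'] [Module B' N'] [IsScalarTower B' C' N'] [Module A' N'] [IsScalarTower A' C' N']
    [IsScalarTower A' B' N']
    (q : Ideal B') [q.IsPrime]
    (h : ∀ (Q : Ideal C') [Q.IsPrime], Q.comap (algebraMap B' C') = q → Module.Flat A' (LocalizedModule Q.primeCompl N')) :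
    Module.Flat A' (LocalizedModule q.primeCompl N') := by
  refine flat_localizedModule_of_forall q.primeCompl fun J z hz => ?_
  let a : Ideal C' := LinearMap.ker (LinearMap.toSpanSingleton C' (N' ⊗[A'] J) z)
  by_contra hne
  push Not at hne
  have hle : a.comap (algebraMap B' C') ≤ q := fun t ht => by
    by_contra htq
    refine hne t htq ?_
    rw [← algebraMap_smul C' t z]
    simpa [a] using ht
  obtain ⟨Q, haQ, hQp, hQ⟩ := Ideal.exists_ideal_over_prime_of_isIntegral q a hle
  haveI := hQp
  haveI := h Q hQ
  obtain ⟨c, hc, hcz⟩ := exists_smul_eq_zero_of_flat (R := A') (S := C') Q.primeCompl J.subtype Subtype.val_injective z hz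
  exact hc (haQ (by simpa [a] using hcz))

/-- Flatness at a prime below gives flatness at the primes above, for a fixed module. -/
theorem flat_above_of_flat {A' B' C' N' : Type u} [CommRing A'] [CommRing B'] [CommRing C']
    [Algebra A' B'] [Algebra A' C'] [Algebra B' C'] [IsScalarTower A' B' C']
    [AddCommGroup N'] [Module C' N'] [Module B' N'] [IsScalarTower B' C' N'] [Module A' N'] [IsScalarTower A' C' N']
    [IsScalarTower A' B' N'] (Q : Ideal C') [Q.IsPrime]
    [Module.Flat A' (LocalizedModule (Q.comap (algebraMap B' C')).primeCompl N')] :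
    Module.Flat A' (LocalizedModule Q.primeCompl N') :=
  flat_localizedModule_of_isBaseChange (R := A') (R' := A') (S := B') (S' := C') (LinearMap.id : N' →ₗ[B'] N')
    (IsBaseChange.ofEquiv (LinearEquiv.refl A' N')) (Q.comap (algebraMap B' C')).primeCompl Q.primeCompl fun _ ht => ht

end Groth.L20.AboveClosed
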