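import Groth.Agent.L20.GenericFreeReduced
import Groth.Agent.L20.FlatAtBaseChange
import Groth.Agent.L07.FreeStrat
import Groth.Agent.L07.FlatDescent
import Groth.Agent.L07.FlatStage

/-!
# Flattening stratifications for modules of finite presentation
-/

set_option autoImplicit false
set_option linter.style.haveILetI false

universe u

open TensorProduct

namespace Groth.L20.Strata

variable {R : Type u} [CommRing R]

/-- An ordered stratification of the closed subset cut out by `I`, by pieces satisfying `P`. -/
inductive Stratified (P : R → Ideal R → Prop) : Ideal R → Prop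
  | top : Stratified P ⊤
  | step {I : Ideal R} (f : R) (J : Ideal R) : J.FG → Ideal.span {f} * J ≤ I.radical → P f J →
      Stratified P (I ⊔ Ideal.span {f}) → Stratified P I

theorem stratified_true (I : Ideal R) : Stratified (fun _ _ => True) I :=
  .step 1 ⊥ Submodule.fg_bot (by simp) trivial (by rw [Ideal.span_singleton_one, sup_top_eq]; exact .top)

/-- Two stratifications have a common refinement. -/
theorem Stratified.and {P Q : R → Ideal R → Prop}
    (hP : ∀ f g J J', P f J → P (f * g) (J ⊔ J')) (hQ : ∀ f g J J', Q g J' → Q (f * g) (J ⊔ J'))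
    {I : Ideal R} (h : Stratified P I) (h' : Stratified Q ⊥) :
    Stratified (fun f J => P f J ∧ Q f J) I := by
  induction h with
  | top => exact .top
  | @step I f J hJ hfJ hPf _ ih =>
    have key : ∀ I' : Ideal R, Stratified Q I' →
        Stratified (fun f J => P f J ∧ Q f J) (I ⊔ Ideal.span {f} * I') := by
      intro I' hI'
      induction hI' with
      | top => rw [Ideal.mul_top]; exact ih
      | @step I' g J' hJ' hgJ hQg _ ih' =>
        refine .step (f * g) (J ⊔ J') (Submodule.FG.sup hJ hJ') ?_ ⟨hP f g J J' hPf, hQ f g J J' hQg⟩ ?_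
        · rw [Ideal.mul_sup, sup_le_iff]
          constructor
          · refine le_trans ?_ (le_trans hfJ (Ideal.radical_mono le_sup_left))
            exact Ideal.mul_mono_left (Ideal.span_singleton_le_span_singleton.mpr (dvd_mul_right f g))
          · refine le_trans ?_ (Ideal.radical_mono le_sup_right)
            rw [← Ideal.span_singleton_mul_span_singleton, mul_assoc, Ideal.radical_mul]
            exact le_inf (Ideal.mul_le_left.trans Ideal.le_radical) (Ideal.mul_le_right.trans hgJ)
        · rw [← Ideal.span_singleton_mul_span_singleton, sup_assoc, ← Ideal.mul_sup]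
          exact ih'
    have := key ⊥ h'
    rwa [Ideal.mul_bot, sup_bot_eq] at this

theorem Stratified.imp {P Q : R → Ideal R → Prop} (hPQ : ∀ f J, P f J → Q f J) {I : Ideal R}
    (h : Stratified P I) : Stratified Q I := by
  induction h with
  | top => exact .top
  | step f J hJ hfJ hPf _ ih => exact .step f J hJ hfJ (hPQ f J hPf) ih

variable (M : Type u) [AddCommGroup M] [Module R M]

/-- `M` is flat over every algebra in which `f` is a unit and `J` vanishes. -/
def FlatOn (f : R) (J : Ideal R) : Prop :=
  ∀ (C : Type u) [CommRing C] [Algebra R C], IsUnit (algebraMap R C f) →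
    J.map (algebraMap R C) = ⊥ → Module.Flat C (C ⊗[R] M)

variable {M}

theorem FlatOn.mono {f f' : R} {J J' : Ideal R} (h : FlatOn M f J) (hf : f ∣ f') (hJ : J ≤ J') :
    FlatOn M f' J' :=
  fun C _ _ hu hz => h C (isUnit_of_dvd_unit ((algebraMap R C).map_dvd hf) hu)
    (le_bot_iff.mp (hz ▸ Ideal.map_mono hJ))

variable (M)

attribute [local instance] Algebra.TensorProduct.rightAlgebra

/-- Generic flatness on the image of a reduced base change. -/
theorem exists_flatOn_of_isBaseChange {R' A' N : Type u} [CommRing R'] [IsReduced R'] [Nontrivial R']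
    [Algebra R R'] (hR' : Function.Surjective (algebraMap R R'))
    [CommRing A'] [Algebra R' A'] [Algebra.FiniteType R' A']
    [AddCommGroup N] [Module A' N] [Module R' N] [IsScalarTower R' A' N] [Module.Finite A' N]
    [Module R N] [IsScalarTower R R' N] (b : M →ₗ[R] N) (hb : IsBaseChange R' b) :
    ∃ g, algebraMap R R' g ≠ 0 ∧ FlatOn M g (RingHom.ker (algebraMap R R')) := by
  obtain ⟨c, hc, hfree, -⟩ := Groth.L20.GFR.exists_free_and_nearlyFP (R := R') (S := A') N (1 : R') one_ne_zero
  rw [one_mul] at hc hfree
  obtain ⟨g, rfl⟩ := hR' c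
  refine ⟨g, hc, fun C _ _ hu hz => ?_⟩
  let Rg := Localization.Away (algebraMap R R' g)
  let φ : R' →+* C := (algebraMap R R').liftOfSurjective hR'
    ⟨algebraMap R C, fun a ha => by
      rw [RingHom.mem_ker, ← Submodule.mem_bot C, ← hz]; exact Ideal.mem_map_of_mem _ ha⟩
  have hφ : ∀ r, φ (algebraMap R R' r) = algebraMap R C r := fun r =>
    RingHom.liftOfRightInverse_comp_apply _ _ (Function.rightInverse_surjInv hR') _ r
  let φ' : Rg →+* C := IsLocalization.Away.lift (algebraMap R R' g) (g := φ) (by rw [hφ]; exact hu)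
  algebraize [φ']
  haveI : IsScalarTower R Rg C := IsScalarTower.of_algebraMap_eq fun r => by
    rw [RingHom.algebraMap_toAlgebra, IsScalarTower.algebraMap_apply R R' Rg, IsLocalization.Away.lift_eq, hφ]
  haveI : Module.Free Rg (Rg ⊗[R] M) :=
    Module.Free.of_equiv ((TensorProduct.AlgebraTensorModule.congr (LinearEquiv.refl Rg Rg) hb.equiv.symm).trans
      (TensorProduct.AlgebraTensorModule.cancelBaseChange R R' Rg Rg M))
  haveI := Groth.L07.FreeStrat.free_of_tower (R := R) M Rg C
  infer_instance

/-- Generic flatness on the image of a reduced base change, through the algebra. -/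
theorem exists_flatOn_of_isPushout {R' A A' : Type u} [CommRing R'] [IsReduced R'] [Nontrivial R']
    [Algebra R R'] (hR' : Function.Surjective (algebraMap R R'))
    [CommRing A] [Algebra R A] [CommRing A'] [Algebra R' A'] [Algebra A A'] [Algebra R A']
    [IsScalarTower R R' A'] [IsScalarTower R A A'] [Algebra.IsPushout R A R' A'] [Algebra.FiniteType R' A']
    [Module A M] [IsScalarTower R A M] [Module.Finite A M] :
    ∃ g, algebraMap R R' g ≠ 0 ∧ FlatOn M g (RingHom.ker (algebraMap R R')) :=
  exists_flatOn_of_isBaseChange M (R' := R') (A' := A') (N := A' ⊗[A] M) hR'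
    ((TensorProduct.mk A A' M 1).restrictScalars R)
    (Groth.L20.isBaseChange_restrictScalars (R := R) (S := A) (R' := R') (S' := A')
      (TensorProduct.isBaseChange A M A'))

/-- Generic flatness modulo a radical ideal, over a Noetherian ring. -/
theorem exists_flatOn_radical {A : Type u} [CommRing A] [Algebra R A] [Algebra.FiniteType R A]
    [Module A M] [IsScalarTower R A M] [Module.Finite A M] {I : Ideal R}
    (hI : I.IsRadical) (hne : I ≠ ⊤) : ∃ g, g ∉ I ∧ FlatOn M g I := by
  haveI : IsReduced (R ⧸ I) := (Ideal.isRadical_iff_quotient_reduced I).mp hI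
  haveI : Nontrivial (R ⧸ I) := Ideal.Quotient.nontrivial_iff.mpr hne
  haveI : IsScalarTower R A ((R ⧸ I) ⊗[R] A) := Algebra.TensorProduct.right_isScalarTower
  obtain ⟨g, hg, hflat⟩ := exists_flatOn_of_isPushout M (R' := R ⧸ I) (A := A) (A' := (R ⧸ I) ⊗[R] A)
    Ideal.Quotient.mk_surjective
  rw [Ideal.Quotient.algebraMap_eq, Ideal.mk_ker] at hflat
  exact ⟨g, fun h => hg (Ideal.Quotient.eq_zero_iff_mem.mpr h), hflat⟩

open Groth.L07.FlatDescent in
/-- The stratification for one module of finite presentation. -/
theorem stratified_flatOn {A : Type u} [CommRing A] [Algebra R A] [Algebra.FinitePresentation R A]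
    [Module A M] [IsScalarTower R A M] [Module.FinitePresentation A M] :
    Stratified (FlatOn M) (⊥ : Ideal R) := by
  obtain ⟨d, n, R₀, _, K, ⟨e⟩⟩ := exists_model R (B₀ := A) M
  suffices H : ∀ I₀ : Ideal R₀, Stratified (FlatOn M) (I₀.map (algebraMap R₀ R)) by
    simpa using H ⊥
  intro I₀
  induction I₀ using IsNoetherian.induction with
  | hgt I₀ ih =>
    by_cases htop : (Ideal.radical I₀) = ⊤
    · rw [Ideal.radical_eq_top.mp htop, Ideal.map_top]
      exact .top
    obtain ⟨g, hg, hflat⟩ := exists_flatOn_radical (R := R₀) (F d n R₀ ⧸ K)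
      (A := MvPolynomial (Fin d) R₀) (Ideal.radical_isRadical I₀) htop
    refine .step (algebraMap R₀ R g) ((Ideal.radical I₀).map (algebraMap R₀ R))
      (Ideal.FG.map (IsNoetherian.noetherian _) _)
      (Ideal.mul_le_right.trans (Ideal.map_radical_le _)) (fun C _ _ hu hz => ?_) ?_
    · haveI := hflat C hu (by rwa [Ideal.map_map] at hz)
      obtain ⟨e₁⟩ := exists_modelEquiv K e C
      obtain ⟨e₂⟩ := exists_baseChangeEquiv K C
      exact Module.Flat.of_linearEquiv (e₁.trans e₂.symm)
    · rw [← Set.image_singleton, ← Ideal.map_span, ← Ideal.map_sup]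
      exact ih _ (left_lt_sup.mpr fun h => hg (Ideal.le_radical (h (Ideal.mem_span_singleton_self g))))

variable {M}

/-- A common stratification for finitely many modules. -/
theorem stratified_forall {ι : Type*} [Finite ι] (N : ι → Type u) [∀ k, AddCommGroup (N k)] [∀ k, Module R (N k)]
    (h : ∀ k, Stratified (FlatOn (N k)) (⊥ : Ideal R)) :
    Stratified (fun f J => ∀ k, FlatOn (N k) f J) (⊥ : Ideal R) := by
  classical
  haveI := Fintype.ofFinite ι
  suffices H : ∀ s : Finset ι, Stratified (fun f J => ∀ k ∈ s, FlatOn (N k) f J) (⊥ : Ideal R) from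
    (H Finset.univ).imp fun f J hf k => hf k (Finset.mem_univ k)
  intro s
  induction s using Finset.induction with
  | empty => exact (stratified_true ⊥).imp fun f J _ k hk => absurd hk (Finset.notMem_empty k)
  | insert a s _ ih =>
    refine (Stratified.and (fun f g J J' hf => hf.mono (dvd_mul_right f g) le_sup_left)
      (fun f g J J' hf k hk => (hf k hk).mono (dvd_mul_left g f) le_sup_right) (h a) ih).imp ?_
    intro f J hfJ k hk
    rcases Finset.mem_insert.mp hk with rfl | hk
    · exact hfJ.1
    · exact hfJ.2 k hk

end Groth.L20.Strata
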