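import Groth.Agent.L20.ResDescent
import Groth.Agent.L17.Approx.Extend

/-!
# The resolution property and affine morphisms
-/

set_option autoImplicit false
set_option linter.style.haveILetI false
set_option backward.isDefEq.respectTransparency.types false
set_option backward.isDefEq.respectTransparency false

universe u

open CategoryTheory CategoryTheory.Limits AlgebraicGeometry TopologicalSpace Opposite

noncomputable section

namespace Groth.L20.ResDescent

variable {X Y : Scheme.{u}}

/-- The resolution property passes up along affine morphisms. -/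
theorem hasResolutionProperty_of_isAffineHom (f : X ⟶ Y) [IsAffineHom f] [CompactSpace Y]
    [QuasiSeparatedSpace Y] (hY : PerfAux.HasResolutionProperty Y) : PerfAux.HasResolutionProperty X := by
  intro M hMq hMft
  haveI : Coh.IsQCoh M := hMq
  let G := (Scheme.Modules.pushforward f).obj M
  haveI : Coh.IsQCoh G := Groth.L16.QcqsPush.isQCoh_push _ f
  choose V hV hyV using fun y : Y => (show ∃ V : Y.Opens, IsAffineOpen V ∧ y ∈ V from by
    obtain ⟨_, ⟨V, hV, rfl⟩, hyV, -⟩ :=
      Y.isBasis_affineOpens.exists_subset_of_mem_open (Set.mem_univ y) isOpen_univ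
    exact ⟨V, hV, hyV⟩)
  obtain ⟨s, hs⟩ := isCompact_univ.elim_finite_subcover (fun y : Y => (V y : Set Y)) (fun y => (V y).2)
    (fun y _ => Set.mem_iUnion.2 ⟨y, hyV y⟩)
  have hfin : ∀ y : Y, Module.Finite Γ(X, f ⁻¹ᵁ V y) Γ(M, f ⁻¹ᵁ V y) := fun y =>
    Groth.L20.ModStalk.finite_sections M ⟨hMq, hMft⟩ ((hV y).preimage f)
  choose n t ht using fun y : Y => (hfin y).exists_fin
  obtain ⟨F, i, hi, hF, hti⟩ := Groth.L17.Approx.exists_submodule_finset G V (fun y => (hV y).isCompact)
    (fun y => ULift.{u} (Fin (n y))) (fun y q => (t y q.down : Γ(G, V y))) s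
  haveI := hi
  obtain ⟨E, π, hE, hπ⟩ := hY F hF.1 hF.2
  haveI := hπ
  let D := Scheme.Modules.pullbackPushforwardAdjunction f
  refine ⟨(Scheme.Modules.pullback f).obj E, (D.homEquiv E M).symm (π ≫ i),
    Groth.L29.LocFree.pullback f hE, Abelian.epi_of_cokernel_π_eq_zero _ ?_⟩
  let c := cokernel.π ((D.homEquiv E M).symm (π ≫ i))
  have h1 : π ≫ (i ≫ (Scheme.Modules.pushforward f).map c) = 0 := by
    have h2 := D.homEquiv_naturality_right ((D.homEquiv E M).symm (π ≫ i)) c
    rw [cokernel.condition, Equiv.apply_symm_apply, Category.assoc] at h2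
    refine h2.symm.trans ?_
    rw [Adjunction.homEquiv_unit, Functor.map_zero, comp_zero]
  rw [← comp_zero (f := π), cancel_epi] at h1
  refine eq_zero_of_affine c fun x => ?_
  obtain ⟨y, hy, hxy⟩ := Set.mem_iUnion₂.1 (hs (Set.mem_univ (f x)))
  refine ⟨f ⁻¹ᵁ V y, (hV y).preimage f, hxy, fun m => ?_⟩
  have hgen : ∀ q : Fin (n y), c.app (f ⁻¹ᵁ V y) (t y q) = 0 := fun q => by
    obtain ⟨z, hz⟩ := hti y hy ⟨q⟩
    rw [show (t y q : Γ(M, f ⁻¹ᵁ V y)) = i.app (V y) z from hz.symm]
    exact congr($(congrArg (fun k => Scheme.Modules.Hom.app k (V y)) h1) z)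
  have hm : m ∈ Submodule.span Γ(X, f ⁻¹ᵁ V y) (Set.range (t y)) := (ht y).ge Submodule.mem_top
  induction hm using Submodule.span_induction with
  | mem z hz => obtain ⟨q, rfl⟩ := hz; exact hgen q
  | zero => exact map_zero _
  | add a b _ _ ha hb => rw [map_add, ha, hb, add_zero]
  | smul a z _ hz => rw [Scheme.Modules.Hom.app_smul, hz, smul_zero]

end Groth.L20.ResDescent
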