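import Groth.Prelude.Def_W4c5suslinpi1abAdj

/-!
# Identities between projection morphisms, exterior and shriek products of adjoint triples
-/

set_option autoImplicit false

universe v u

open CategoryTheory MonoidalCategory Functor.LaxMonoidal Functor.OplaxMonoidal
open W4c5suslinpi1ab

namespace Groth.L20.AdjProd

variable {C : Type u} [Category.{v} C] [MonoidalCategory C]
variable {D : Type u} [Category.{v} D] [MonoidalCategory D]

section Proj

variable {L : C ⥤ D} {R : D ⥤ C} (adj : L ⊣ R)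

theorem symm_projR [L.OplaxMonoidal] [R.LaxMonoidal] [adj.IsMonoidal] (A : D) (B : C) :
    L.map (projR adj A B) ≫ adj.counit.app (A ⊗ L.obj B) =
      δ L (R.obj A) B ≫ (adj.counit.app A ▷ L.obj B) := by
  rw [projR, L.map_comp, Category.assoc, Adjunction.map_μ_comp_counit_app_tensor,
    tensorHom_def']
  erw [← δ_natural_right_assoc, ← MonoidalCategory.whiskerLeft_comp_assoc]
  rw [Adjunction.left_triangle_components]
  erw [MonoidalCategory.whiskerLeft_id, Category.id_comp]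
  rfl

theorem symm_projL [L.OplaxMonoidal] [R.LaxMonoidal] [adj.IsMonoidal] (A : C) (B : D) :
    L.map (projL adj A B) ≫ adj.counit.app (L.obj A ⊗ B) =
      δ L A (R.obj B) ≫ (L.obj A ◁ adj.counit.app B) := by
  rw [projL, L.map_comp, Category.assoc, Adjunction.map_μ_comp_counit_app_tensor,
    tensorHom_def]
  erw [← δ_natural_left_assoc, ← MonoidalCategory.comp_whiskerRight_assoc]
  erw [Adjunction.left_triangle_components, MonoidalCategory.id_whiskerRight, Category.id_comp]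
  rfl

variable [R.LaxMonoidal]

theorem projR_natural {A A' : D} {B B' : C} (f : A ⟶ A') (g : B ⟶ B') :
    (R.map f ⊗ₘ g) ≫ projR adj A' B' = projR adj A B ≫ R.map (f ⊗ₘ L.map g) := by
  have hu := adj.unit.naturality g
  dsimp at hu
  rw [projR, projR, ← id_tensorHom, ← id_tensorHom, tensorHom_comp_tensorHom_assoc, Category.comp_id, hu,
    Category.assoc, ← μ_natural, tensorHom_comp_tensorHom_assoc, Category.id_comp]

theorem projL_natural {A A' : C} {B B' : D} (f : A ⟶ A') (g : B ⟶ B') :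
    (f ⊗ₘ R.map g) ≫ projL adj A' B' = projL adj A B ≫ R.map (L.map f ⊗ₘ g) := by
  have hu := adj.unit.naturality f
  dsimp at hu
  rw [projL, projL, ← tensorHom_id, ← tensorHom_id, tensorHom_comp_tensorHom_assoc, Category.comp_id, hu,
    Category.assoc, ← μ_natural, tensorHom_comp_tensorHom_assoc, Category.id_comp]

theorem cupShriek_natural {S : C ⥤ D} (adj' : R ⊣ S) [∀ (A : D) (B : C), IsIso (projR adj A B)]
    (A : C) {B B' : C} (g : B ⟶ B') :
    (S.obj A ◁ L.map g) ≫ cupShriek adj adj' A B' = cupShriek adj adj' A B ≫ S.map (A ◁ g) := by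
  rw [cupShriek, cupShriek, ← Adjunction.homEquiv_naturality_left, ← Adjunction.homEquiv_naturality_right]
  congr 1
  have h := projR_natural adj (𝟙 (S.obj A)) g
  rw [R.map_id, id_tensorHom, id_tensorHom] at h
  rw [← cancel_epi (projR adj (S.obj A) B), ← reassoc_of% h, IsIso.hom_inv_id_assoc, Category.assoc,
    IsIso.hom_inv_id_assoc, whisker_exchange]
  rfl

theorem map_cupShriek_counit {S : C ⥤ D} (adj' : R ⊣ S) [∀ (A : D) (B : C), IsIso (projR adj A B)]
    (A B : C) :
    R.map (cupShriek adj adj' A B) ≫ adj'.counit.app (A ⊗ B) =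
      inv (projR adj (S.obj A) B) ≫ (adj'.counit.app A ▷ B) := by
  refine (adj'.homEquiv_counit _ _ _).symm.trans ?_
  rw [cupShriek]
  exact Equiv.symm_apply_apply _ _

end Proj

section Square

variable {S₀ : Type u} [Category.{v} S₀] [MonoidalCategory S₀]
variable {Y₁ : Type u} [Category.{v} Y₁] [MonoidalCategory Y₁]
variable {Y₂ : Type u} [Category.{v} Y₂] [MonoidalCategory Y₂]
variable {X : Type u} [Category.{v} X] [MonoidalCategory X]
variable {fL : S₀ ⥤ Y₁} {fR : Y₁ ⥤ S₀} {gR : Y₂ ⥤ S₀}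
variable {pL : Y₁ ⥤ X} {pR : X ⥤ Y₁} {qL : Y₂ ⥤ X} {qR : X ⥤ Y₂}
variable (adjf : fL ⊣ fR) (adjp : pL ⊣ pR) (adjq : qL ⊣ qR) (ν : qR ⋙ gR ⟶ pR ⋙ fR)

theorem extProd_natural [fR.LaxMonoidal] [pR.LaxMonoidal] {A A' : Y₁} {B B' : Y₂} (a : A ⟶ A') (b : B ⟶ B') :
    (fR.map a ⊗ₘ gR.map b) ≫ extProd adjf adjp adjq ν A' B' =
      extProd adjf adjp adjq ν A B ≫ fR.map (pR.map (pL.map a ⊗ₘ qL.map b)) := by
  have hb := (bcMor adjf adjq ν).naturality b
  dsimp at hb
  simp only [extProd, Category.assoc, reassoc_of% (projR_natural adjf a (gR.map b)), ← fR.map_comp]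
  congr 2
  rw [← id_tensorHom, ← id_tensorHom, tensorHom_comp_tensorHom_assoc, Category.comp_id, hb,
    ← projL_natural, tensorHom_comp_tensorHom_assoc, Category.id_comp]

theorem isIso_extProd [fR.LaxMonoidal] [pR.LaxMonoidal]
    [∀ (A : Y₁) (B : S₀), IsIso (projR adjf A B)] [∀ (A : Y₁) (B : X), IsIso (projL adjp A B)]
    [∀ B : Y₂, IsIso ((bcMor adjf adjq ν).app B)] (A : Y₁) (B : Y₂) :
    IsIso (extProd adjf adjp adjq ν A B) := by
  rw [extProd]; infer_instance

variable {fS : S₀ ⥤ Y₁} (adjf' : fR ⊣ fS) {gS : S₀ ⥤ Y₂} (adjg' : gR ⊣ gS) {pS : Y₁ ⥤ X} (adjp' : pR ⊣ pS)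

theorem extProd_map_prodShriek [fR.LaxMonoidal] [pR.LaxMonoidal]
    [∀ (A : Y₁) (B : S₀), IsIso (projR adjf A B)] [∀ (A : Y₁) (B : X), IsIso (projL adjp A B)]
    [∀ B : Y₂, IsIso ((bcMor adjf adjq ν).app B)] (A B : S₀) :
    extProd adjf adjp adjq ν (fS.obj A) (gS.obj B) ≫
      fR.map (pR.map (prodShriek adjf adjf' adjg' adjp adjp' adjq ν A B)) ≫
        fR.map (adjp'.counit.app (fS.obj (A ⊗ B))) =
      projR adjf (fS.obj A) (gR.obj (gS.obj B)) ≫
        fR.map (cupShriek adjf adjf' A (gR.obj (gS.obj B)) ≫ fS.map (A ◁ adjg'.counit.app B)) := by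
  have h : pR.map (prodShriek adjf adjf' adjg' adjp adjp' adjq ν A B) ≫ adjp'.counit.app (fS.obj (A ⊗ B)) =
      inv (projL adjp (fS.obj A) (qL.obj (gS.obj B))) ≫
        (fS.obj A ◁ inv ((bcMor adjf adjq ν).app (gS.obj B))) ≫
        cupShriek adjf adjf' A (gR.obj (gS.obj B)) ≫ fS.map (A ◁ adjg'.counit.app B) := by
    refine (adjp'.homEquiv_counit _ _ _).symm.trans ?_
    rw [prodShriek]
    exact Equiv.symm_apply_apply _ _
  rw [← fR.map_comp, h, extProd]
  simp only [Category.assoc, ← fR.map_comp, IsIso.hom_inv_id_assoc]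
  rw [← MonoidalCategory.whiskerLeft_comp_assoc, IsIso.hom_inv_id, MonoidalCategory.whiskerLeft_id,
    Category.id_comp]

theorem extProd_counit [fR.LaxMonoidal] [pR.LaxMonoidal]
    [∀ (A : Y₁) (B : S₀), IsIso (projR adjf A B)] [∀ (A : Y₁) (B : X), IsIso (projL adjp A B)]
    [∀ B : Y₂, IsIso ((bcMor adjf adjq ν).app B)] (A B : S₀) :
    extProd adjf adjp adjq ν (fS.obj A) (gS.obj B) ≫
      ((adjp'.comp adjf').homEquiv _ _).symm (prodShriek adjf adjf' adjg' adjp adjp' adjq ν A B) =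
      (adjf'.counit.app A ⊗ₘ adjg'.counit.app B) := by
  rw [Adjunction.comp_homEquiv]
  simp only [Equiv.symm_trans_apply, Adjunction.homEquiv_counit, fR.map_comp, Category.assoc]
  rw [reassoc_of% (extProd_map_prodShriek adjf adjp adjq ν adjf' adjg' adjp' A B)]
  have hn := adjf'.counit.naturality (A ◁ adjg'.counit.app B)
  dsimp at hn
  rw [fR.map_comp, Category.assoc, hn, reassoc_of% (map_cupShriek_counit adjf adjf' A (gR.obj (gS.obj B))),
    IsIso.hom_inv_id_assoc, tensorHom_def]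
  rfl

end Square

end Groth.L20.AdjProd
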