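import Mathlib.RingTheory.LocalRing.Module
import Mathlib.RingTheory.Flat.FaithfullyFlat.Basic
import Groth.Prelude.Def_FlatCA

/-!
# The support of a fibre module and a finitely presented cut of it
-/

set_option autoImplicit false
set_option linter.style.haveILetI false
set_option backward.isDefEq.respectTransparency.types false
universe u

open TensorProduct

noncomputable section

namespace Groth.L20.FibreSupport

theorem mem_support_baseChange (B F : Type u) [CommRing B] [CommRing F] [Algebra B F]
    (N : Type u) [AddCommGroup N] [Module B N] [Module.Finite B N] (x : PrimeSpectrum F) :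
    x ∈ Module.support F (F ⊗[B] N) ↔ PrimeSpectrum.comap (algebraMap B F) x ∈ Module.support B N := by
  rw [Module.mem_support_iff_nontrivial_residueField_tensorProduct,
    Module.mem_support_iff_nontrivial_residueField_tensorProduct]
  let q := PrimeSpectrum.comap (algebraMap B F) x
  letI : Algebra q.asIdeal.ResidueField x.asIdeal.ResidueField :=
    (Ideal.ResidueField.map q.asIdeal x.asIdeal (algebraMap B F) rfl).toAlgebra
  haveI : IsScalarTower B q.asIdeal.ResidueField x.asIdeal.ResidueField := by
    refine IsScalarTower.of_algebraMap_eq fun b => ?_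
    show _ = Ideal.ResidueField.map q.asIdeal x.asIdeal (algebraMap B F) rfl (algebraMap B _ b)
    rw [Ideal.ResidueField.map_algebraMap, ← IsScalarTower.algebraMap_apply]
  rw [(AlgebraTensorModule.cancelBaseChange B F x.asIdeal.ResidueField x.asIdeal.ResidueField N).nontrivial_congr,
    ← (AlgebraTensorModule.cancelBaseChange B q.asIdeal.ResidueField x.asIdeal.ResidueField x.asIdeal.ResidueField N).nontrivial_congr]
  exact Module.FaithfullyFlat.nontrivial_tensorProduct_iff_right (R := q.asIdeal.ResidueField) (M := x.asIdeal.ResidueField)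

variable {A B : Type u} [CommRing A] [CommRing B] [Algebra A B] [Algebra.FiniteType A B]

attribute [local instance] Algebra.TensorProduct.rightAlgebra

theorem exists_fg_cut (N : Type u) [AddCommGroup N] [Module B N] [Module A N] [IsScalarTower A B N] [Module.Finite B N]
    (p : Ideal A) [p.IsPrime] :
    ∃ J : Ideal B, J.FG ∧ J ≤ Module.annihilator B N ∧
      ∀ x : PrimeSpectrum (p.Fiber B), FlatCA.fiberIdeal p J ≤ x.asIdeal ↔ x ∈ Module.support (p.Fiber B) (FlatCA.fiberMod p B N) := by
  classical
  let φ : B →+* p.Fiber B := (Algebra.TensorProduct.includeRight (R := A) (A := p.ResidueField) (B := B)).toRingHom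
  haveI : IsNoetherianRing (p.Fiber B) := Algebra.FiniteType.isNoetherianRing p.ResidueField _
  obtain ⟨T, hT, hspan⟩ := (Submodule.fg_span_iff_fg_span_finset_subset (R := p.Fiber B) (φ '' (Module.annihilator B N : Set B))).1
    (IsNoetherian.noetherian _)
  choose! g hg using fun t (ht : t ∈ T) => hT ht
  refine ⟨Ideal.span ((T.image g : Finset B) : Set B), ⟨T.image g, rfl⟩, Ideal.span_le.2 fun b hb => ?_, fun x => ?_⟩
  · obtain ⟨t, ht, rfl⟩ := Finset.mem_image.1 hb
    exact (hg t ht).1
  have hJ : FlatCA.fiberIdeal p (Ideal.span ((T.image g : Finset B) : Set B)) = (Module.annihilator B N).map φ := by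
    show (Ideal.span ((T.image g : Finset B) : Set B)).map φ = _
    rw [Ideal.map_span, Finset.coe_image, ← Set.image_comp, show (φ ∘ g) '' (T : Set (p.Fiber B)) = T from
      (Set.image_congr fun t ht => (hg t ht).2).trans (Set.image_id _)]
    exact hspan.symm
  have hs : x ∈ Module.support (p.Fiber B) (FlatCA.fiberMod p B N) ↔
      PrimeSpectrum.comap (algebraMap B (p.Fiber B)) x ∈ Module.support B N :=
    mem_support_baseChange B (p.Fiber B) N x
  rw [hJ, hs, Module.support_eq_zeroLocus, Ideal.map_le_iff_le_comap]
  exact Iff.rfl

end Groth.L20.FibreSupport
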