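import Mathlib.RingTheory.ZariskisMainTheorem
import Mathlib.RingTheory.NoetherNormalization
import Mathlib.RingTheory.IntegralClosure.GoingDown
import Mathlib.RingTheory.Polynomial.IsIntegral
import Mathlib.RingTheory.Valuation.LocalSubring
import Mathlib.RingTheory.Ideal.GoingUp
import Mathlib.Algebra.MvPolynomial.Funext
import Mathlib.Algebra.GCDMonoid.IntegrallyClosed
import Mathlib.RingTheory.AlgebraicIndependent.Transcendental
import Mathlib.Algebra.Polynomial.Lifts

/-!
# Closed points of the generic fibre specialising to a closed point of a special fibre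
-/

set_option autoImplicit false
set_option linter.style.haveILetI false

universe u

open IsLocalRing

namespace Groth.L20.ClosedBetween

theorem isIntegrallyClosed_mvPolynomial (V : Type u) [CommRing V] [IsDomain V] [IsIntegrallyClosed V] :
    ∀ s : ℕ, IsIntegrallyClosed (MvPolynomial (Fin s) V)
  | 0 => IsIntegrallyClosed.of_equiv (MvPolynomial.isEmptyAlgEquiv V (Fin 0)).symm.toRingEquiv
  | s + 1 => by
    haveI := isIntegrallyClosed_mvPolynomial V s
    exact IsIntegrallyClosed.of_equiv (MvPolynomial.finSuccEquiv V s).symm.toRingEquiv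

theorem exists_primitive {V : Type u} [CommRing V] [IsDomain V] [ValuationRing V] {s : ℕ}
    (F : MvPolynomial (Fin s) V) (hF : F ≠ 0) :
    ∃ (c : V) (F₁ : MvPolynomial (Fin s) V), F = MvPolynomial.C c * F₁ ∧ ∃ i, MvPolynomial.coeff i F₁ = 1 := by
  classical
  have key : ∀ t : Finset (Fin s →₀ ℕ), t.Nonempty → ∃ i ∈ t, ∀ j ∈ t, MvPolynomial.coeff i F ∣ MvPolynomial.coeff j F := by
    intro t ht
    induction ht using Finset.Nonempty.cons_induction with
    | singleton a => exact ⟨a, by simp, by simp⟩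
    | cons a t _ _ ih =>
      obtain ⟨i, hi, hdvd⟩ := ih
      rcases ValuationRing.dvd_total (MvPolynomial.coeff i F) (MvPolynomial.coeff a F) with h | h
      · exact ⟨i, Finset.mem_cons_of_mem hi, fun j hj =>
          (Finset.mem_cons.mp hj).elim (fun e => e ▸ h) (hdvd j)⟩
      · exact ⟨a, Finset.mem_cons_self a t, fun j hj =>
          (Finset.mem_cons.mp hj).elim (fun e => e ▸ dvd_rfl) (fun hj => h.trans (hdvd j hj))⟩
  obtain ⟨i, hi, hdvd⟩ := key F.support (MvPolynomial.support_nonempty.mpr hF)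
  have hc : MvPolynomial.coeff i F ≠ 0 := MvPolynomial.mem_support_iff.mp hi
  have hall : ∀ j, MvPolynomial.coeff i F ∣ MvPolynomial.coeff j F := fun j => by
    by_cases hj : j ∈ F.support
    · exact hdvd j hj
    · rw [MvPolynomial.notMem_support_iff.mp hj]; exact dvd_zero _
  obtain ⟨F₁, h1⟩ := MvPolynomial.C_dvd_iff_dvd_coeff _ F |>.mpr hall
  refine ⟨_, F₁, h1, i, mul_left_cancel₀ hc ?_⟩
  rw [mul_one, ← MvPolynomial.coeff_C_mul, ← h1]

/-- The special fibre algebra contains a polynomial ring over which it is finite, with all variables in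
the given maximal ideal. -/
theorem exists_coordinates {V B : Type u} [CommRing V] [IsDomain V] [ValuationRing V] [CommRing B] [IsDomain B]
    [Algebra V B] [Algebra.FiniteType V B] [FaithfulSMul V B] (m' : Ideal B) [m'.IsMaximal]
    (hm : m'.comap (algebraMap V B) = maximalIdeal V) :
    ∃ (s : ℕ) (z : Fin s → B), (∀ i, z i ∈ m') ∧ Function.Injective (MvPolynomial.aeval (R := V) z) ∧
      RingHom.Finite ((Ideal.Quotient.mk ((maximalIdeal V).map (algebraMap V B))).comp
        (MvPolynomial.aeval (R := V) z).toRingHom) := by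
  set J := (maximalIdeal V).map (algebraMap V B) with hJ
  letI : Field (V ⧸ maximalIdeal V) := Ideal.Quotient.field _
  have hJm : J ≤ m' := Ideal.map_le_iff_le_comap.mpr hm.ge
  haveI : Nontrivial (B ⧸ J) := Ideal.Quotient.nontrivial_iff.mpr
    fun h => (Ideal.IsMaximal.ne_top inferInstance : m' ≠ ⊤) (top_le_iff.mp (h ▸ hJm))
  haveI : IsScalarTower V (V ⧸ maximalIdeal V) (B ⧸ J) := IsScalarTower.of_algebraMap_eq fun _ => rfl
  haveI : Algebra.FiniteType V (B ⧸ J) := Algebra.FiniteType.trans ‹_› inferInstance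
  haveI : Algebra.FiniteType (V ⧸ maximalIdeal V) (B ⧸ J) :=
    Algebra.FiniteType.of_restrictScalars_finiteType V _ _
  obtain ⟨s, φ, hφinj, hφfin⟩ := exists_finite_inj_algHom_of_fg (V ⧸ maximalIdeal V) (B ⧸ J)
  let n := m'.map (Ideal.Quotient.mk J)
  have hn : n.IsMaximal := by
    refine (Ideal.map_eq_top_or_isMaximal_of_surjective (Ideal.Quotient.mk J) Ideal.Quotient.mk_surjective
      inferInstance).resolve_left fun h => ?_
    have := congrArg (Ideal.comap (Ideal.Quotient.mk J)) h
    rw [Ideal.comap_map_of_surjective _ Ideal.Quotient.mk_surjective, Ideal.comap_top, ← RingHom.ker_eq_comap_bot,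
      Ideal.mk_ker, sup_eq_left.mpr hJm] at this
    exact (Ideal.IsMaximal.ne_top inferInstance : m' ≠ ⊤) this
  have halg : ∀ i : Fin s, ∃ f : Polynomial V, f.Monic ∧ 0 < f.natDegree ∧
      Polynomial.aeval (φ (MvPolynomial.X i)) (f.map (Ideal.Quotient.mk (maximalIdeal V))) ∈ n := by
    intro i
    letI : Field ((B ⧸ J) ⧸ n) := Ideal.Quotient.field n
    haveI : Algebra.FiniteType (V ⧸ maximalIdeal V) ((B ⧸ J) ⧸ n) :=
      Algebra.FiniteType.trans ‹_› inferInstance
    haveI : Module.Finite (V ⧸ maximalIdeal V) ((B ⧸ J) ⧸ n) :=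
      finite_of_finite_type_of_isJacobsonRing _ _
    have hint : IsIntegral (V ⧸ maximalIdeal V) (Ideal.Quotient.mk n (φ (MvPolynomial.X i))) :=
      Algebra.IsIntegral.isIntegral _
    obtain ⟨f, hf, hdeg, hfm⟩ := Polynomial.lifts_and_natDegree_eq_and_monic
      (f := Ideal.Quotient.mk (maximalIdeal V))
      (Polynomial.map_surjective _ Ideal.Quotient.mk_surjective (minpoly _ _) |>.elim fun g hg => ⟨g, hg⟩)
      (minpoly.monic hint)
    refine ⟨f, hfm, hdeg ▸ minpoly.natDegree_pos hint, ?_⟩
    rw [← Ideal.Quotient.eq_zero_iff_mem, hf, ← Ideal.Quotient.mkₐ_eq_mk (V ⧸ maximalIdeal V),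
      ← Polynomial.aeval_algHom_apply]
    exact minpoly.aeval _ _
  choose f hfm hfdeg hfn using halg
  obtain ⟨y, hy⟩ : ∃ y : Fin s → B, ∀ i, Ideal.Quotient.mk J (y i) = φ (MvPolynomial.X i) :=
    ⟨fun i => Function.surjInv Ideal.Quotient.mk_surjective (φ (MvPolynomial.X i)),
      fun i => Function.surjInv_eq Ideal.Quotient.mk_surjective _⟩
  let z : Fin s → B := fun i => Polynomial.aeval (y i) (f i)
  have hz : ∀ i, Ideal.Quotient.mk J (z i) =
      φ (Polynomial.aeval (MvPolynomial.X i) ((f i).map (Ideal.Quotient.mk (maximalIdeal V)))) := by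
    intro i
    rw [← Polynomial.aeval_algHom_apply φ, ← hy, ← Ideal.Quotient.algebraMap_eq (maximalIdeal V),
      Polynomial.aeval_map_algebraMap]
    exact (Polynomial.aeval_algHom_apply (Ideal.Quotient.mkₐ V J) (y i) (f i)).symm
  let τ : MvPolynomial (Fin s) (V ⧸ maximalIdeal V) →ₐ[V ⧸ maximalIdeal V]
      MvPolynomial (Fin s) (V ⧸ maximalIdeal V) :=
    MvPolynomial.aeval fun i => Polynomial.aeval (MvPolynomial.X i) ((f i).map (Ideal.Quotient.mk (maximalIdeal V)))
  have hτinj : Function.Injective τ :=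
    algebraicIndependent_iff_injective_aeval.mp
      ((MvPolynomial.algebraicIndependent_X (Fin s) (V ⧸ maximalIdeal V)).polynomial_aeval_of_transcendental
        fun i => Polynomial.transcendental _ (by
          rw [(hfm i).natDegree_map]; exact (hfdeg i).ne')
          (by rw [((hfm i).map _).leadingCoeff]; exact one_mem _))
  have hτint : τ.toRingHom.IsIntegral := by
    intro x
    letI := τ.toRingHom.toAlgebra
    change IsIntegral (MvPolynomial (Fin s) (V ⧸ maximalIdeal V)) x
    induction x using MvPolynomial.induction_on with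
    | C a =>
      rw [← MvPolynomial.algebraMap_eq, ← τ.commutes a]
      exact ⟨Polynomial.X - Polynomial.C (algebraMap _ _ a), Polynomial.monic_X_sub_C _, by
        rw [Polynomial.eval₂_sub, Polynomial.eval₂_X, Polynomial.eval₂_C]; exact sub_self _⟩
    | add p q hp hq => exact hp.add hq
    | mul_X p i hp =>
      refine hp.mul ⟨((f i).map (Ideal.Quotient.mk (maximalIdeal V))).map MvPolynomial.C -
        Polynomial.C (MvPolynomial.X i), (((hfm i).map _).map _).sub_of_left ?_, ?_⟩
      · refine lt_of_le_of_lt Polynomial.degree_C_le ?_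
        rw [Polynomial.degree_eq_natDegree (((hfm i).map _).map _).ne_zero, ((hfm i).map _).natDegree_map,
          (hfm i).natDegree_map]
        exact_mod_cast hfdeg i
      · rw [Polynomial.eval₂_sub, Polynomial.eval₂_C, Polynomial.eval₂_map, sub_eq_zero]
        have hC : τ.toRingHom.comp MvPolynomial.C = algebraMap (V ⧸ maximalIdeal V) _ := τ.comp_algebraMap
        rw [RingHom.algebraMap_toAlgebra, hC, ← Polynomial.aeval_def]
        simp [τ]
  have key : ∀ F : MvPolynomial (Fin s) V, Ideal.Quotient.mk J (MvPolynomial.aeval z F) =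
      φ (τ (MvPolynomial.map (Ideal.Quotient.mk (maximalIdeal V)) F)) := by
    intro F
    induction F using MvPolynomial.induction_on with
    | C a =>
      simp only [MvPolynomial.aeval_C, MvPolynomial.map_C]
      rw [← MvPolynomial.algebraMap_eq, AlgHom.commutes, AlgHom.commutes]
      rfl
    | add p q hp hq => simp only [map_add, hp, hq]
    | mul_X p i hp =>
      simp only [map_mul, hp, MvPolynomial.aeval_X, MvPolynomial.map_X, hz, τ]
  refine ⟨s, z, fun i => ?_, ?_, ?_⟩
  · have h1 : Ideal.Quotient.mk J (z i) ∈ n := by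
      rw [hz, ← Polynomial.aeval_algHom_apply]; exact hfn i
    have h2 : z i ∈ n.comap (Ideal.Quotient.mk J) := h1
    rwa [Ideal.comap_map_of_surjective _ Ideal.Quotient.mk_surjective, ← RingHom.ker_eq_comap_bot,
      Ideal.mk_ker, sup_eq_left.mpr hJm] at h2
  · rw [injective_iff_map_eq_zero]
    intro F hF
    by_contra hF0
    obtain ⟨c, F₁, rfl, i, hi⟩ := exists_primitive F hF0
    rw [map_mul, MvPolynomial.aeval_C, mul_eq_zero] at hF
    rcases hF with hc | hF
    · exact hF0 (by rw [(map_eq_zero_iff _ (FaithfulSMul.algebraMap_injective V B)).mp hc, map_zero, zero_mul])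
    · have h1 := key F₁
      rw [hF, map_zero, eq_comm, map_eq_zero_iff _ hφinj, map_eq_zero_iff _ hτinj] at h1
      have h2 := congrArg (MvPolynomial.coeff i) h1
      rw [MvPolynomial.coeff_map, hi, map_one, MvPolynomial.coeff_zero] at h2
      exact one_ne_zero h2
  · have : (Ideal.Quotient.mk J).comp (MvPolynomial.aeval (R := V) z).toRingHom =
        φ.toRingHom.comp (τ.toRingHom.comp (MvPolynomial.map (Ideal.Quotient.mk (maximalIdeal V)))) :=
      RingHom.ext key
    rw [this]
    refine RingHom.Finite.comp hφfin (RingHom.Finite.comp ?_ (RingHom.Finite.of_surjective _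
      (MvPolynomial.map_surjective _ Ideal.Quotient.mk_surjective)))
    exact hτint.to_finite (RingHom.FiniteType.of_comp_finiteType
      (f := algebraMap (V ⧸ maximalIdeal V) (MvPolynomial (Fin s) (V ⧸ maximalIdeal V)))
      (by rw [AlgHom.toRingHom_eq_coe, AlgHom.comp_algebraMap]; exact RingHom.finiteType_algebraMap.mpr inferInstance))

/-- Over a valuation ring: a closed point of the generic fibre below a closed point of the special fibre
avoiding a given element. -/
theorem exists_prime_valuation {V B : Type u} [CommRing V] [IsDomain V] [ValuationRing V] [CommRing B] [IsDomain B]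
    [Algebra V B] [Algebra.FiniteType V B] [FaithfulSMul V B] (m' : Ideal B) [m'.IsMaximal]
    (hm : m'.comap (algebraMap V B) = maximalIdeal V) (hV : maximalIdeal V ≠ ⊥) (g : B) (hg : g ≠ 0) :
    ∃ q : Ideal B, q.IsPrime ∧ q ≤ m' ∧ q.comap (algebraMap V B) = ⊥ ∧ g ∉ q ∧
      ∀ b ∉ q, ∃ (c : B) (a : V), a ≠ 0 ∧ b * c - algebraMap V B a ∈ q := by
  classical
  obtain ⟨s, z, hzm, hinj, hfin⟩ := exists_coordinates m' hm
  letI : Algebra (MvPolynomial (Fin s) V) B := (MvPolynomial.aeval z).toRingHom.toAlgebra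
  haveI : IsScalarTower V (MvPolynomial (Fin s) V) B := IsScalarTower.of_algebraMap_eq fun a =>
    ((MvPolynomial.aeval (R := V) z).commutes a).symm
  haveI : FaithfulSMul (MvPolynomial (Fin s) V) B := (faithfulSMul_iff_algebraMap_injective _ _).mpr hinj
  haveI : Algebra.FiniteType (MvPolynomial (Fin s) V) B := Algebra.FiniteType.of_restrictScalars_finiteType V _ _
  letI := IsBezout.toGCDDomain V
  haveI : IsIntegrallyClosed V := inferInstance
  haveI := isIntegrallyClosed_mvPolynomial V s
  set n₀ := m'.comap (algebraMap (MvPolynomial (Fin s) V) B) with hn₀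
  have hcoef : ∀ (α : Fin s → V), (∀ i, α i ∈ maximalIdeal V) → ∀ F : MvPolynomial (Fin s) V,
      MvPolynomial.aeval z F - algebraMap V B (MvPolynomial.eval α F) ∈ m' := by
    intro α hα F
    induction F using MvPolynomial.induction_on with
    | C a => simp
    | add p q hp hq =>
      simp only [map_add]
      rw [add_sub_add_comm]
      exact add_mem hp hq
    | mul_X p i hp =>
      simp only [map_mul, MvPolynomial.aeval_X, MvPolynomial.eval_X]
      have hα' : algebraMap V B (α i) ∈ m' := by rw [← Ideal.mem_comap, hm]; exact hα i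
      exact sub_mem (Ideal.mul_mem_left _ _ (hzm i)) (Ideal.mul_mem_left _ _ hα')
  have hmemn₀ : ∀ {F : MvPolynomial (Fin s) V}, MvPolynomial.eval (0 : Fin s → V) F ∈ maximalIdeal V → F ∈ n₀ := by
    intro F hF
    have h2 : algebraMap V B (MvPolynomial.eval (0 : Fin s → V) F) ∈ m' := by rw [← Ideal.mem_comap, hm]; exact hF
    show MvPolynomial.aeval z F ∈ m'
    simpa using add_mem (hcoef 0 (fun _ => zero_mem _) F) h2
  haveI hn₀max : n₀.IsMaximal := by
    haveI := Ideal.comap_isMaximal_of_surjective (MvPolynomial.eval (0 : Fin s → V))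
      (fun a => ⟨MvPolynomial.C a, MvPolynomial.eval_C a⟩) (K := maximalIdeal V)
    have : (maximalIdeal V).comap (MvPolynomial.eval (0 : Fin s → V)) = n₀ :=
      Ideal.IsMaximal.eq_of_le inferInstance (Ideal.IsPrime.ne_top inferInstance) fun F hF => hmemn₀ hF
    exact this ▸ inferInstance
  haveI : Algebra.QuasiFiniteAt (MvPolynomial (Fin s) V) m' := by
    set J := (maximalIdeal V).map (algebraMap V B) with hJ
    haveI hfin' : Module.Finite (MvPolynomial (Fin s) V) (B ⧸ J) := hfin
    haveI : Algebra.IsIntegral (MvPolynomial (Fin s) V) (B ⧸ J) := inferInstance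
    have hmax : ∀ q : PrimeSpectrum B, q.asIdeal.comap (algebraMap (MvPolynomial (Fin s) V) B) = n₀ →
        J ≤ q.asIdeal ∧ q.asIdeal.IsMaximal := by
      intro q hq
      have hJq : J ≤ q.asIdeal := Ideal.map_le_iff_le_comap.mpr fun a ha => by
        rw [Ideal.mem_comap, IsScalarTower.algebraMap_apply V (MvPolynomial (Fin s) V) B, ← Ideal.mem_comap, hq]
        exact hmemn₀ (by simpa using ha)
      refine ⟨hJq, ?_⟩
      have hqc : (q.asIdeal.map (Ideal.Quotient.mk J)).comap (Ideal.Quotient.mk J) = q.asIdeal := by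
        rw [Ideal.comap_map_of_surjective _ Ideal.Quotient.mk_surjective, ← RingHom.ker_eq_comap_bot,
          Ideal.mk_ker, sup_eq_left.mpr hJq]
      haveI : (q.asIdeal.map (Ideal.Quotient.mk J)).IsPrime :=
        Ideal.map_isPrime_of_surjective Ideal.Quotient.mk_surjective (by rwa [Ideal.mk_ker])
      haveI := Ideal.isMaximal_of_isIntegral_of_isMaximal_comap (R := MvPolynomial (Fin s) V)
        (q.asIdeal.map (Ideal.Quotient.mk J)) (by
          rw [IsScalarTower.algebraMap_eq (MvPolynomial (Fin s) V) B (B ⧸ J), Ideal.Quotient.algebraMap_eq,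
            ← Ideal.comap_comap, hqc, hq]
          exact hn₀max)
      rw [← hqc]
      exact Ideal.comap_isMaximal_of_surjective _ Ideal.Quotient.mk_surjective
    refine Algebra.QuasiFiniteAt.of_isOpen_singleton_fiber (R := MvPolynomial (Fin s) V) ⟨m', inferInstance⟩ ?_
    set T := PrimeSpectrum.comap (algebraMap (MvPolynomial (Fin s) V) B) ⁻¹'
      {PrimeSpectrum.comap (algebraMap (MvPolynomial (Fin s) V) B) ⟨m', inferInstance⟩}
    have hT : ∀ q ∈ T, q.asIdeal.comap (algebraMap (MvPolynomial (Fin s) V) B) = n₀ := fun q hq =>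
      congrArg PrimeSpectrum.asIdeal hq
    haveI : T1Space T := ⟨fun q => by
      have := (PrimeSpectrum.isClosed_singleton_iff_isMaximal q.1).mpr (hmax q.1 (hT q.1 q.2)).2
      convert this.preimage continuous_subtype_val using 1
      ext r; simp [Subtype.ext_iff]⟩
    haveI : Finite T := by
      have hf := Algebra.QuasiFinite.finite_comap_preimage_singleton (R := MvPolynomial (Fin s) V) (S := B ⧸ J)
        ⟨n₀, inferInstance⟩
      haveI := hf.to_subtype
      have hsub : ∀ q ∈ T, q ∈ Set.range (PrimeSpectrum.comap (Ideal.Quotient.mk J)) := fun q hq => by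
        rw [range_comap_of_surjective _ _ Ideal.Quotient.mk_surjective, Ideal.mk_ker,
          PrimeSpectrum.mem_zeroLocus]
        exact (hmax q (hT q hq)).1
      choose π hπ using hsub
      refine Finite.of_injective
        (fun q : T => (⟨π q.1 q.2, ?_⟩ : PrimeSpectrum.comap (algebraMap (MvPolynomial (Fin s) V) (B ⧸ J)) ⁻¹' {⟨n₀, inferInstance⟩}))
        fun a b h => ?_
      · refine PrimeSpectrum.ext ?_
        show _ = n₀
        rw [← hT q.1 q.2, PrimeSpectrum.comap_asIdeal, IsScalarTower.algebraMap_eq (MvPolynomial (Fin s) V) B (B ⧸ J),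
          Ideal.Quotient.algebraMap_eq, ← Ideal.comap_comap]
        conv_rhs => rw [← hπ q.1 q.2]
        rfl
      · have h1 : π a.1 a.2 = π b.1 b.2 := congrArg Subtype.val h
        exact Subtype.ext (by rw [← hπ a.1 a.2, ← hπ b.1 b.2, h1])
    exact isOpen_discrete _
  obtain ⟨S', hS', r, hr, hbij⟩ :=
    Algebra.QuasiFiniteAt.exists_fg_and_exists_notMem_and_awayMap_bijective (R := MvPolynomial (Fin s) V) m'
  haveI : Module.Finite (MvPolynomial (Fin s) V) S' := ⟨(Submodule.fg_top _).mpr hS'⟩
  haveI : Algebra.IsIntegral (MvPolynomial (Fin s) V) S' := inferInstance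
  haveI : FaithfulSMul (MvPolynomial (Fin s) V) S' := (faithfulSMul_iff_algebraMap_injective _ _).mpr
    fun a b h => hinj (congrArg Subtype.val h)
  have hmulpow : ∀ b : B, ∃ k : ℕ, b * r.1 ^ k ∈ S' := by
    intro b
    obtain ⟨y, hy⟩ := hbij.2 (algebraMap B (Localization.Away r.1) b)
    obtain ⟨a, ⟨_, k, rfl⟩, rfl⟩ := IsLocalization.exists_mk'_eq (Submonoid.powers r) y
    simp only [Localization.awayMap, IsLocalization.Away.map, IsLocalization.map_mk'] at hy
    replace hy : algebraMap B (Localization.Away r.1) a.1 =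
        algebraMap B (Localization.Away r.1) b * algebraMap B (Localization.Away r.1) (r.1 ^ k) :=
      IsLocalization.mk'_eq_iff_eq_mul.mp hy
    rw [← map_mul] at hy
    have hr0 : r.1 ≠ 0 := fun h => hr (h ▸ zero_mem m')
    have := (IsLocalization.injective (Localization.Away r.1)
      (powers_le_nonZeroDivisors_of_noZeroDivisors hr0)) hy
    refine ⟨k, ?_⟩
    have h2 : b * r.1 ^ k = a.1 := by
      simpa using this.symm
    rw [h2]
    exact a.2
  obtain ⟨k, hk⟩ := hmulpow g
  have hr0 : r.1 ≠ 0 := fun h => hr (h ▸ zero_mem m')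
  let w : S' := ⟨g * r.1 ^ k, hk⟩ * r
  have hw0 : w ≠ 0 := fun h => by
    have := congrArg Subtype.val h
    exact mul_ne_zero (mul_ne_zero hg (pow_ne_zero _ hr0)) hr0 this
  obtain ⟨a₀, ha₀, ha₀0⟩ := Submodule.exists_mem_ne_zero_of_ne_bot
    (Ideal.comap_ne_bot_of_integral_mem (R := MvPolynomial (Fin s) V) hw0 (Ideal.mem_span_singleton_self w)
      (Algebra.IsIntegral.isIntegral w))
  obtain ⟨α, hα, hαa⟩ : ∃ α : Fin s → V, (∀ i, α i ∈ maximalIdeal V) ∧ MvPolynomial.eval α a₀ ≠ 0 := by
    by_contra! H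
    refine ha₀0 (MvPolynomial.funext_set (fun _ => (maximalIdeal V : Set V)) (fun _ => ?_) fun x hx => ?_)
    · obtain ⟨t, ht, ht0⟩ := Submodule.exists_mem_ne_zero_of_ne_bot hV
      refine Set.infinite_of_injective_forall_mem (f := fun n : ℕ => t ^ (n + 1))
        (fun a b hab => ?_) fun n => Ideal.pow_mem_of_mem _ ht _ n.succ_pos
      have hnu : ∀ a d : ℕ, 0 < d → t ^ (a + 1) ≠ t ^ (a + d + 1) := fun a d hd h => by
        have h2 : t ^ (a + 1) * t ^ d = t ^ (a + 1) * 1 := by
          rw [mul_one, ← pow_add, show a + 1 + d = a + d + 1 by omega]; exact h.symm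
        exact (Ideal.IsPrime.ne_top inferInstance : maximalIdeal V ≠ ⊤)
          ((Ideal.eq_top_iff_one _).mpr (mul_left_cancel₀ (pow_ne_zero _ ht0) h2 ▸ Ideal.pow_mem_of_mem _ ht _ hd))
      rcases lt_trichotomy a b with h | h | h
      · exact absurd hab (by simpa [show a + (b - a) = b by omega] using hnu a (b - a) (by omega))
      · exact h
      · exact absurd hab.symm (by simpa [show b + (a - b) = a by omega] using hnu b (a - b) (by omega))
    · rw [map_zero]; exact H x fun i => hx i (Set.mem_univ i)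
  set P := RingHom.ker (MvPolynomial.eval α) with hP
  haveI hPp : P.IsPrime := RingHom.ker_isPrime _
  have hPn : P ≤ n₀ := fun F hF => by
    have h1 := hcoef α hα F
    rw [RingHom.mem_ker.mp hF, map_zero, sub_zero] at h1
    exact h1
  haveI : (m'.comap S'.val.toRingHom).IsPrime := Ideal.comap_isPrime _ _
  haveI : (m'.comap S'.val.toRingHom).LiesOver n₀ := ⟨by rw [Ideal.under, Ideal.comap_comap]; rfl⟩
  obtain ⟨q', hq'le, hq'p, hq'over⟩ := Ideal.exists_ideal_le_liesOver_of_le (m'.comap S'.val.toRingHom) hPn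
  have hrq' : r ∉ q' := fun h => hr (hq'le h)
  have hwq' : w ∉ q' := fun h => hαa (RingHom.mem_ker.mp (show a₀ ∈ P by
    rw [hq'over.over]
    exact Ideal.span_le.mpr (Set.singleton_subset_iff.mpr h) ha₀))
  let L := Localization.Away r
  let e : L ≃+* Localization.Away r.1 := RingEquiv.ofBijective _ hbij
  have hdisj : Disjoint (Submonoid.powers r : Set S') (q' : Set S') := by
    rw [Set.disjoint_left]; rintro _ ⟨j, rfl⟩ h; exact hrq' (hq'p.mem_of_pow_mem j h)
  haveI hQp : (q'.map (algebraMap S' L)).IsPrime :=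
    IsLocalization.isPrime_of_isPrime_disjoint (Submonoid.powers r) L q' hq'p hdisj
  let φ : B →+* L := e.symm.toRingHom.comp (algebraMap B (Localization.Away r.1))
  have hφ : ∀ a : S', φ a.1 = algebraMap S' L a := by
    intro a
    apply e.injective
    simp only [φ, RingHom.coe_comp, RingEquiv.toRingHom_eq_coe, RingEquiv.coe_toRingHom, Function.comp_apply,
      RingEquiv.apply_symm_apply]
    show algebraMap B (Localization.Away r.1) a.1 = Localization.awayMap S'.val.toRingHom r (algebraMap S' L a)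
    simp only [Localization.awayMap, IsLocalization.Away.map, L]
    exact (IsLocalization.map_eq (M := Submonoid.powers r) (S := Localization.Away r) (g := S'.val.toRingHom)
      (T := Submonoid.powers (S'.val.toRingHom r)) (Q := Localization.Away (S'.val.toRingHom r)) _ a).symm
  set q := (q'.map (algebraMap S' L)).comap φ with hq
  haveI hqp : q.IsPrime := Ideal.comap_isPrime _ _
  have hqS : ∀ a : S', a.1 ∈ q ↔ a ∈ q' := by
    intro a
    rw [hq, Ideal.mem_comap, hφ]
    exact SetLike.ext_iff.mp (IsLocalization.under_map_of_isPrime_disjoint (Submonoid.powers r) L hq'p hdisj) a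
  have hqR : ∀ F : MvPolynomial (Fin s) V, algebraMap (MvPolynomial (Fin s) V) B F ∈ q ↔ F ∈ P := by
    intro F
    rw [hq'over.over]
    exact hqS (algebraMap (MvPolynomial (Fin s) V) S' F)
  have hqm : q ≤ m' := by
    intro b hb
    obtain ⟨j, hj⟩ := hmulpow b
    have h1 : b * r.1 ^ j ∈ m' := hq'le ((hqS ⟨_, hj⟩).mp (Ideal.mul_mem_right _ _ hb))
    exact ((Ideal.IsMaximal.isPrime ‹_›).mem_or_mem h1).resolve_right
      fun h => hr ((Ideal.IsMaximal.isPrime ‹_›).mem_of_pow_mem j h)
  have hqV : q.comap (algebraMap V B) = ⊥ := by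
    refine (Submodule.eq_bot_iff _).mpr fun a ha => ?_
    rw [Ideal.mem_comap, IsScalarTower.algebraMap_apply V (MvPolynomial (Fin s) V) B, hqR] at ha
    simpa [hP] using ha
  refine ⟨q, hqp, hqm, hqV, fun h => hwq' ((hqS w).mp (Ideal.mul_mem_right _ _ (Ideal.mul_mem_right _ _ h))), ?_⟩
  intro b hb
  by_contra H
  push Not at H
  have hdis : Disjoint ((q ⊔ Ideal.span {b} : Ideal B) : Set B) ((nonZeroDivisors V).map (algebraMap V B) : Set B) := by
    rw [Set.disjoint_left]
    rintro _ hy ⟨a, ha, rfl⟩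
    obtain ⟨c, hc⟩ : ∃ c, b * c - algebraMap V B a ∈ q := by
      obtain ⟨u, hu, v, hv, huv⟩ := Submodule.mem_sup.mp hy
      obtain ⟨c, rfl⟩ := Ideal.mem_span_singleton'.mp hv
      exact ⟨c, by rw [show b * c - algebraMap V B a = -u from by rw [← huv]; ring]; exact neg_mem hu⟩
    exact H c a (nonZeroDivisors.ne_zero ha) hc
  obtain ⟨q₁, hq₁p, hle, hdis₁⟩ := Ideal.exists_le_prime_disjoint _ _ hdis
  have hq₁V : ∀ a : V, algebraMap V B a ∈ q₁ → a = 0 := fun a ha => by
    by_contra h0
    exact Set.disjoint_left.mp hdis₁ ha ⟨a, mem_nonZeroDivisors_of_ne_zero h0, rfl⟩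
  have hPeq : q₁.comap (algebraMap (MvPolynomial (Fin s) V) B) = P := by
    refine le_antisymm (fun F hF => ?_) fun F hF => hle (Ideal.mem_sup_left ((hqR F).mpr hF))
    have h1 : F - MvPolynomial.C (MvPolynomial.eval α F) ∈ P := by simp [hP, RingHom.mem_ker]
    have h2 := sub_mem (Ideal.mem_comap.mp hF) (hle (Ideal.mem_sup_left ((hqR _).mpr h1)))
    rw [← map_sub, sub_sub_cancel, ← MvPolynomial.algebraMap_eq,
      ← IsScalarTower.algebraMap_apply V (MvPolynomial (Fin s) V) B] at h2
    exact RingHom.mem_ker.mpr (hq₁V _ h2)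
  have hS : q₁.comap S'.val.toRingHom = q' := by
    haveI := hq'p
    have hle' : q' ≤ q₁.comap S'.val.toRingHom := fun a ha => hle (Ideal.mem_sup_left ((hqS a).mpr ha))
    by_contra hne
    obtain ⟨x, hx₁, hx⟩ := SetLike.exists_of_lt (lt_of_le_of_ne hle' (Ne.symm hne))
    refine (Ideal.comap_lt_comap_of_integral_mem_sdiff (R := MvPolynomial (Fin s) V) hle' ⟨hx₁, hx⟩
      (Algebra.IsIntegral.isIntegral x)).ne ?_
    rw [Ideal.comap_comap, ← Ideal.under]
    rw [← hq'over.over, ← hPeq]
    rfl
  obtain ⟨j, hj⟩ := hmulpow b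
  have h1 : (⟨_, hj⟩ : S') ∈ q' := hS ▸
    Ideal.mul_mem_right _ q₁ (hle (Ideal.mem_sup_right (Ideal.mem_span_singleton_self b)))
  refine hb (((hqp.mem_or_mem ((hqS _).mpr h1))).resolve_right fun h => hrq' ((hqS r).mp (hqp.mem_of_pow_mem j h)))


/-- Elements are algebraic modulo a prime which is closed in its fibre. -/
theorem exists_poly_mem {A B : Type u} [CommRing A] [CommRing B] [Algebra A B] [Algebra.FiniteType A B]
    (m' : Ideal B) [m'.IsPrime]
    (hclosed : ∀ q : Ideal B, q.IsPrime → m' ≤ q → q.comap (algebraMap A B) = m'.comap (algebraMap A B) → q = m')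
    (b : B) : ∃ F : Polynomial A, F.eval₂ (algebraMap A B) b ∈ m' ∧
      F.leadingCoeff ∉ m'.comap (algebraMap A B) ∧ 0 < F.natDegree := by
  classical
  set p' := m'.comap (algebraMap A B) with hp'
  let C := B ⧸ m'
  let R := A ⧸ p'
  haveI : p'.IsPrime := Ideal.comap_isPrime _ _
  let ρ : R →+* C := Ideal.quotientMap m' (algebraMap A B) le_rfl
  have hρ : Function.Injective ρ := Ideal.quotientMap_injective
  let L := FractionRing C
  let Kf := FractionRing R
  have hRL : Function.Injective ((algebraMap C L).comp ρ) := (IsFractionRing.injective C L).comp hρ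
  letI : Algebra Kf L := (IsFractionRing.lift (A := R) (K := Kf) hRL).toAlgebra
  have hRLmap : ∀ r : R, algebraMap R L r = algebraMap C L (ρ r) := fun r => by
    obtain ⟨a, rfl⟩ := Ideal.Quotient.mk_surjective r
    rfl
  haveI : IsScalarTower R Kf L := IsScalarTower.of_algebraMap_eq fun r =>
    (hRLmap r).trans (IsFractionRing.lift_algebraMap hRL r).symm
  obtain ⟨S, hS⟩ := (inferInstance : Algebra.FiniteType A B).out
  let π : B →+* L := (algebraMap C L).comp (Ideal.Quotient.mk m')
  have hπA : ∀ a : A, π (algebraMap A B a) = algebraMap R L (Ideal.Quotient.mk p' a) := fun a => rfl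
  let D : Subalgebra Kf L := Algebra.adjoin Kf (π '' (S : Set B))
  have hπD : ∀ x : B, π x ∈ D := by
    intro x
    have hx : x ∈ Algebra.adjoin A (S : Set B) := hS ▸ Algebra.mem_top
    induction hx using Algebra.adjoin_induction with
    | mem x hx => exact Algebra.subset_adjoin ⟨x, hx, rfl⟩
    | algebraMap a => rw [hπA, IsScalarTower.algebraMap_apply R Kf L]; exact D.algebraMap_mem _
    | add x y _ _ hx hy => rw [map_add]; exact add_mem hx hy
    | mul x y _ _ hx hy => rw [map_mul]; exact mul_mem hx hy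
  haveI : Algebra.FiniteType Kf D := D.fg_iff_finiteType.mp ⟨S.image π, by rw [Finset.coe_image]⟩
  have hden : ∀ y ∈ D, ∃ a : A, a ∉ p' ∧ ∃ x : B, π (algebraMap A B a) * y = π x := by
    intro y hy
    induction hy using Algebra.adjoin_induction with
    | mem x hx =>
      obtain ⟨x, -, rfl⟩ := hx
      exact ⟨1, fun h => (Ideal.IsPrime.ne_top inferInstance : p' ≠ ⊤) ((Ideal.eq_top_iff_one _).mpr h), x, by simp⟩
    | algebraMap v =>
      obtain ⟨n, d, hd, rfl⟩ := IsFractionRing.div_surjective R v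
      obtain ⟨n, rfl⟩ := Ideal.Quotient.mk_surjective n
      obtain ⟨d, rfl⟩ := Ideal.Quotient.mk_surjective d
      have hd0 : (algebraMap R Kf (Ideal.Quotient.mk p' d)) ≠ 0 :=
        (map_ne_zero_iff _ (IsFractionRing.injective R Kf)).mpr (nonZeroDivisors.ne_zero hd)
      refine ⟨d, fun h => nonZeroDivisors.ne_zero hd (Ideal.Quotient.eq_zero_iff_mem.mpr h), algebraMap A B n, ?_⟩
      rw [hπA, hπA, IsScalarTower.algebraMap_apply R Kf L, IsScalarTower.algebraMap_apply R Kf L, ← map_mul,
        mul_div_cancel₀ _ hd0]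
    | add x y hx' hy' hx hy =>
      obtain ⟨a, ha, u, hu⟩ := hx
      obtain ⟨a', ha', u', hu'⟩ := hy
      refine ⟨a * a', fun h => (Ideal.IsPrime.mem_or_mem inferInstance h).elim ha ha',
        algebraMap A B a' * u + algebraMap A B a * u', ?_⟩
      rw [map_mul, map_mul, map_add, map_mul, map_mul, ← hu, ← hu']
      ring
    | mul x y hx' hy' hx hy =>
      obtain ⟨a, ha, u, hu⟩ := hx
      obtain ⟨a', ha', u', hu'⟩ := hy
      refine ⟨a * a', fun h => (Ideal.IsPrime.mem_or_mem inferInstance h).elim ha ha', u * u', ?_⟩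
      rw [map_mul, map_mul, map_mul, ← hu, ← hu']
      ring
  have hfield : IsField D := by
    rw [Ring.isField_iff_isSimpleOrder_ideal]
    obtain ⟨M, hM⟩ := Ideal.exists_maximal D
    suffices h : M = ⊥ by
      subst h
      exact ⟨fun I => (eq_or_ne I ⊥).imp id fun h => hM.1.2 _ (bot_lt_iff_ne_bot.mpr h)⟩
    haveI := hM.isPrime
    let ψ : B →+* D := π.codRestrict D.toSubring hπD
    have h1 : m' ≤ M.comap ψ := fun x hx => by
      have : ψ x = 0 := Subtype.ext (by
        show algebraMap C L (Ideal.Quotient.mk m' x) = 0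
        rw [Ideal.Quotient.eq_zero_iff_mem.mpr hx, map_zero])
      rw [Ideal.mem_comap, this]; exact zero_mem _
    have h2 : (M.comap ψ).comap (algebraMap A B) = p' := by
      refine le_antisymm (fun a ha => ?_) (Ideal.comap_mono h1)
      by_contra hap
      refine hM.ne_top (Ideal.eq_top_of_isUnit_mem _ ha ?_)
      have hne : algebraMap R Kf (Ideal.Quotient.mk p' a) ≠ 0 :=
        (map_ne_zero_iff _ (IsFractionRing.injective R Kf)).mpr fun h => hap (Ideal.Quotient.eq_zero_iff_mem.mp h)
      have : ψ (algebraMap A B a) = algebraMap Kf D (algebraMap R Kf (Ideal.Quotient.mk p' a)) :=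
        Subtype.ext (by show π _ = _; rw [hπA, IsScalarTower.algebraMap_apply R Kf L]; rfl)
      rw [this]
      exact (IsUnit.mk0 _ hne).map _
    have h3 := hclosed _ (Ideal.comap_isPrime _ _) h1 h2
    refine (Submodule.eq_bot_iff _).mpr fun y hy => ?_
    obtain ⟨a, ha, x, hx⟩ := hden y.1 y.2
    have hψ : ψ (algebraMap A B a) * y = ψ x := Subtype.ext hx
    have hxm : x ∈ m' := h3 ▸ (show ψ x ∈ M from hψ ▸ Ideal.mul_mem_left _ _ hy)
    have hx0 : π x = 0 := by
      show algebraMap C L (Ideal.Quotient.mk m' x) = 0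
      rw [Ideal.Quotient.eq_zero_iff_mem.mpr hxm, map_zero]
    rw [hx0, mul_eq_zero] at hx
    refine Subtype.ext (hx.resolve_left ?_)
    rw [hπA, hRLmap, map_eq_zero_iff _ (IsFractionRing.injective C L), map_eq_zero_iff _ hρ]
    exact fun h => ha (Ideal.Quotient.eq_zero_iff_mem.mp h)
  letI := hfield.toField
  haveI : Module.Finite Kf D := finite_of_finite_type_of_isJacobsonRing _ _
  have hint : IsIntegral Kf (π b) := (Algebra.IsIntegral.isIntegral (⟨π b, hπD b⟩ : D)).map D.val
  obtain ⟨G, hG0, hG⟩ := (IsFractionRing.isAlgebraic_iff R Kf L).mpr hint.isAlgebraic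
  obtain ⟨F, hF, hFdeg⟩ := Polynomial.mem_lifts_and_degree_eq
    (Polynomial.map_surjective (Ideal.Quotient.mk p') Ideal.Quotient.mk_surjective G |>.elim
      fun F hF => (⟨F, hF⟩ : G ∈ Polynomial.lifts (Ideal.Quotient.mk p')))
  have hev : π (F.eval₂ (algebraMap A B) b) = Polynomial.aeval (π b) G := by
    rw [Polynomial.hom_eval₂, Polynomial.aeval_def, ← hF, Polynomial.eval₂_map]
    rfl
  refine ⟨F, ?_, ?_, ?_⟩
  · rw [← Ideal.Quotient.eq_zero_iff_mem]
    apply IsFractionRing.injective C L
    rw [map_zero]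
    exact hev.trans hG
  · rw [← Ideal.Quotient.eq_zero_iff_mem]
    intro h
    have h1 : G.leadingCoeff = 0 := by
      rw [Polynomial.leadingCoeff, Polynomial.natDegree_eq_of_degree_eq hFdeg.symm, ← hF, Polynomial.coeff_map]
      exact h
    exact hG0 (Polynomial.leadingCoeff_eq_zero.mp h1)
  · rw [Polynomial.natDegree_eq_of_degree_eq hFdeg]
    by_contra hdeg
    obtain ⟨c, rfl⟩ := Polynomial.natDegree_eq_zero.mp (Nat.eq_zero_of_not_pos hdeg)
    rw [Polynomial.aeval_C, hRLmap, map_eq_zero_iff _ (IsFractionRing.injective C L), map_eq_zero_iff _ hρ] at hG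
    exact hG0 (by rw [hG, map_zero])


set_option maxHeartbeats 1000000 in
/-- A closed point of the generic fibre below a prime which is closed in a fibre over a nonzero prime,
avoiding a given element. -/
theorem exists_prime {A B : Type u} [CommRing A] [IsDomain A] [CommRing B] [IsDomain B] [Algebra A B]
    [Algebra.FiniteType A B] (hAB : Function.Injective (algebraMap A B)) (m' : Ideal B) [m'.IsPrime]
    (hne : m'.comap (algebraMap A B) ≠ ⊥)
    (hclosed : ∀ q : Ideal B, q.IsPrime → m' ≤ q → q.comap (algebraMap A B) = m'.comap (algebraMap A B) → q = m')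
    (g : B) (hg : g ≠ 0) :
    ∃ q : Ideal B, q.IsPrime ∧ q ≤ m' ∧ q.comap (algebraMap A B) = ⊥ ∧ g ∉ q ∧
      ∀ b ∉ q, ∃ (c : B) (a : A), a ≠ 0 ∧ b * c - algebraMap A B a ∈ q := by
  classical
  let K := FractionRing A
  let L := FractionRing B
  let ι : B →+* L := algebraMap B L
  have hι : Function.Injective ι := IsFractionRing.injective B L
  have hAL : Function.Injective (ι.comp (algebraMap A B)) := hι.comp hAB
  letI : Algebra K L := (IsFractionRing.lift (A := A) (K := K) hAL).toAlgebra
  have hKL : ∀ a : A, algebraMap K L (algebraMap A K a) = ι (algebraMap A B a) := fun a =>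
    IsFractionRing.lift_algebraMap hAL a
  haveI : (m'.map ι.rangeRestrict).IsPrime := by
    refine Ideal.map_isPrime_of_surjective ι.rangeRestrict_surjective ?_
    intro x hx
    have : ι x = 0 := congrArg Subtype.val (RingHom.mem_ker.mp hx)
    rw [(map_eq_zero_iff _ hι).mp this]; exact zero_mem _
  obtain ⟨W, hW₁, hW₂⟩ := LocalSubring.exists_le_valuationSubring (LocalSubring.ofPrime ι.range (m'.map ι.rangeRestrict))
  have hBW : ∀ b : B, ι b ∈ W := fun b => hW₁ (LocalSubring.le_ofPrime _ _ ⟨b, rfl⟩)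
  have hmW : ∀ b : B, (b ∈ m' ↔ ¬ IsUnit (⟨ι b, hBW b⟩ : W)) := by
    intro b
    let P' := LocalSubring.ofPrime ι.range (m'.map ι.rangeRestrict)
    let bR : ι.range := ι.rangeRestrict b
    have h1 : b ∈ m' ↔ bR ∈ m'.map ι.rangeRestrict := by
      refine ⟨Ideal.mem_map_of_mem _, fun h => ?_⟩
      obtain ⟨x, hx, hxb⟩ := (Ideal.mem_map_iff_of_surjective _ ι.rangeRestrict_surjective).mp h
      rwa [← hι (congrArg Subtype.val hxb)]
    haveI := IsLocalHom.mk (f := Subring.inclusion hW₁) hW₂.1
    have h2 : IsUnit (algebraMap ι.range (Localization.AtPrime (m'.map ι.rangeRestrict)) bR) ↔ bR ∉ m'.map ι.rangeRestrict :=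
      IsLocalization.AtPrime.isUnit_to_map_iff (Localization.AtPrime (m'.map ι.rangeRestrict)) (m'.map ι.rangeRestrict) bR
    rw [h1, ← not_iff_not, not_not, ← h2]
    have h3 : (LocalSubring.ofPrimeEquiv ι.range (m'.map ι.rangeRestrict))
        (algebraMap ι.range (Localization.AtPrime (m'.map ι.rangeRestrict)) bR) =
        algebraMap ι.range P'.toSubring bR := AlgEquiv.commutes _ _
    rw [← MulEquiv.isUnit_map (LocalSubring.ofPrimeEquiv ι.range (m'.map ι.rangeRestrict)), h3]
    constructor
    · exact fun hu => hu.map (Subring.inclusion hW₁)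
    · exact fun hu => hW₂.1 _ hu
  let V : ValuationSubring K := W.comap (algebraMap K L)
  have hAV : ∀ a : A, algebraMap A K a ∈ V := fun a => by
    rw [ValuationSubring.mem_comap, hKL]; exact hBW _
  obtain ⟨S, hS⟩ := (inferInstance : Algebra.FiniteType A B).out
  let BV : Subalgebra V L := Algebra.adjoin V (ι '' (S : Set B))
  have hBV : ∀ b : B, ι b ∈ BV := by
    intro b
    have hb : b ∈ Algebra.adjoin A (S : Set B) := hS ▸ Algebra.mem_top
    induction hb using Algebra.adjoin_induction with
    | mem x hx => exact Algebra.subset_adjoin ⟨x, hx, rfl⟩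
    | algebraMap a => rw [← hKL]; exact BV.algebraMap_mem ⟨_, hAV a⟩
    | add x y _ _ hx hy => rw [map_add]; exact add_mem hx hy
    | mul x y _ _ hx hy => rw [map_mul]; exact mul_mem hx hy
  have hVW : ∀ x ∈ BV, x ∈ W := by
    intro x hx
    induction hx using Algebra.adjoin_induction with
    | mem x hx => obtain ⟨b, -, rfl⟩ := hx; exact hBW b
    | algebraMap a => exact a.2
    | add x y _ _ hx hy => exact W.add_mem _ _ hx hy
    | mul x y _ _ hx hy => exact W.mul_mem _ _ hx hy
  haveI : Algebra.FiniteType V BV :=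
    BV.fg_iff_finiteType.mp ⟨S.image ι, by rw [Finset.coe_image]⟩
  haveI : FaithfulSMul V BV := (faithfulSMul_iff_algebraMap_injective _ _).mpr fun a b h =>
    Subtype.ext ((algebraMap K L).injective (congrArg Subtype.val h))
  let toW : BV →+* W := BV.val.toRingHom.codRestrict W.toSubring fun x => hVW x.1 x.2
  let m'' : Ideal BV := (maximalIdeal W).comap toW
  haveI : m''.IsPrime := Ideal.comap_isPrime _ _
  let ψ : B →+* BV := ι.codRestrict BV.toSubring hBV
  have hm'' : ∀ b : B, ψ b ∈ m'' ↔ b ∈ m' := fun b => by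
    rw [Ideal.mem_comap, IsLocalRing.mem_maximalIdeal, mem_nonunits_iff, hmW]
    rfl
  have hunit : ∀ v : V, IsUnit (⟨algebraMap K L v.1, v.2⟩ : W) → IsUnit v := by
    intro v hv
    obtain ⟨w, hw⟩ := hv.exists_right_inv
    have hw' : algebraMap K L v.1 * w.1 = 1 := congrArg Subtype.val hw
    have hv0 : v.1 ≠ 0 := fun h => by simp [h] at hw'
    have hinv : v.1⁻¹ ∈ V := by
      rw [ValuationSubring.mem_comap, map_inv₀, ← eq_inv_of_mul_eq_one_right hw']
      exact w.2
    exact isUnit_iff_exists_inv.mpr ⟨⟨_, hinv⟩, Subtype.ext (mul_inv_cancel₀ hv0)⟩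
  have hcomap : m''.comap (algebraMap V BV) = maximalIdeal V := by
    refine le_antisymm (IsLocalRing.le_maximalIdeal (Ideal.IsPrime.ne_top inferInstance)) fun v hv => ?_
    rw [Ideal.mem_comap, Ideal.mem_comap, IsLocalRing.mem_maximalIdeal, mem_nonunits_iff]
    exact fun hu => hv (hunit v hu)
  haveI : m''.IsMaximal := by
    let p' := m'.comap (algebraMap A B)
    have hb := exists_poly_mem m' hclosed
    haveI : Algebra.IsIntegral V (BV ⧸ m'') := by
      have hgen : ∀ b : B, IsIntegral V (Ideal.Quotient.mk m'' (ψ b)) := by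
        intro b
        obtain ⟨F, hFm, hFlead, hFdeg⟩ := hb b
        let lA : A →+* V := (algebraMap A K).codRestrict V.toSubring hAV
        have hu : IsUnit (lA F.leadingCoeff) := by
          refine hunit _ ?_
          have := (hmW (algebraMap A B F.leadingCoeff)).not_left.mp (fun h => hFlead h)
          convert this using 1
          exact Subtype.ext (hKL _)
        obtain ⟨u, hu⟩ := hu
        let G : Polynomial V := Polynomial.C (↑u⁻¹ : V) * F.map lA
        have hGm : G.Monic := Polynomial.monic_C_mul_of_mul_leadingCoeff_eq_one (by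
          rw [Polynomial.leadingCoeff_map_of_leadingCoeff_ne_zero _ (by rw [← hu]; exact u.ne_zero), ← hu,
            Units.inv_mul])
        refine ⟨G, hGm, ?_⟩
        change Polynomial.eval₂RingHom (algebraMap V (BV ⧸ m'')) (Ideal.Quotient.mk m'' (ψ b))
          (Polynomial.C (↑u⁻¹ : V) * F.map lA) = 0
        rw [map_mul, Polynomial.coe_eval₂RingHom, Polynomial.eval₂_map]
        have hcomp : (algebraMap V (BV ⧸ m'')).comp lA = ((Ideal.Quotient.mk m'').comp ψ).comp (algebraMap A B) := by
          ext a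
          exact congrArg (Ideal.Quotient.mk m'') (Subtype.ext (hKL a))
        rw [hcomp, ← RingHom.comp_apply (Ideal.Quotient.mk m''), ← Polynomial.hom_eval₂]
        exact mul_eq_zero_of_right _ (Ideal.Quotient.eq_zero_iff_mem.mpr ((hm'' _).mpr hFm))
      refine ⟨fun y => ?_⟩
      obtain ⟨⟨x, hx⟩, rfl⟩ := Ideal.Quotient.mk_surjective y
      induction hx using Algebra.adjoin_induction with
      | mem x hx =>
        obtain ⟨b, -, rfl⟩ := hx
        exact hgen b
      | algebraMap a => exact isIntegral_algebraMap (R := V) (A := BV ⧸ m'') (x := a)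
      | add x y hx' hy' hx hy =>
        rw [show Ideal.Quotient.mk m'' (⟨x + y, _⟩ : BV) = Ideal.Quotient.mk m'' ⟨x, hx'⟩ + Ideal.Quotient.mk m'' ⟨y, hy'⟩
          from map_add (Ideal.Quotient.mk m'') (⟨x, hx'⟩ : BV) ⟨y, hy'⟩]
        exact IsIntegral.add (A := BV ⧸ m'') hx hy
      | mul x y hx' hy' hx hy =>
        rw [show Ideal.Quotient.mk m'' (⟨x * y, _⟩ : BV) = Ideal.Quotient.mk m'' ⟨x, hx'⟩ * Ideal.Quotient.mk m'' ⟨y, hy'⟩
          from map_mul (Ideal.Quotient.mk m'') (⟨x, hx'⟩ : BV) ⟨y, hy'⟩]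
        exact IsIntegral.mul (A := BV ⧸ m'') hx hy
    have := Ideal.isMaximal_of_isIntegral_of_isMaximal_comap (R := V) (S := BV ⧸ m'') (⊥ : Ideal (BV ⧸ m''))
      (by rw [IsScalarTower.algebraMap_eq V BV (BV ⧸ m''), ← Ideal.comap_comap, ← RingHom.ker_eq_comap_bot,
        Ideal.Quotient.algebraMap_eq, Ideal.mk_ker, hcomap]; infer_instance)
    have h2 := Ideal.comap_isMaximal_of_surjective (Ideal.Quotient.mk m'') Ideal.Quotient.mk_surjective
      (K := (⊥ : Ideal (BV ⧸ m'')))
    rwa [← RingHom.ker_eq_comap_bot, Ideal.mk_ker] at h2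
  have hVne : maximalIdeal V ≠ ⊥ := by
    obtain ⟨a, ha, ha0⟩ := Submodule.exists_mem_ne_zero_of_ne_bot hne
    intro h
    have h1 : (⟨_, hAV a⟩ : V) ∈ maximalIdeal V := by
      rw [← hcomap, Ideal.mem_comap]
      have := (hm'' (algebraMap A B a)).mpr ha
      convert this using 1
      exact Subtype.ext (hKL a)
    rw [h, Ideal.mem_bot] at h1
    exact ha0 ((map_eq_zero_iff _ (IsFractionRing.injective A K)).mp (congrArg Subtype.val h1))
  have hψinj : Function.Injective ψ := fun a b h => hι (congrArg Subtype.val h)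
  obtain ⟨q, hq, hqm, hqV, hgq, hmax⟩ := exists_prime_valuation m'' hcomap hVne (ψ g)
    (fun h => hg (hψinj (h.trans (map_zero ψ).symm)))
  have hqA : ∀ a : A, ψ (algebraMap A B a) ∈ q → a = 0 := fun a ha => by
    have h1 : (⟨_, hAV a⟩ : V) ∈ q.comap (algebraMap V BV) := by
      rw [Ideal.mem_comap]
      convert ha using 1
      exact Subtype.ext (hKL a)
    rw [hqV, Ideal.mem_bot] at h1
    exact (map_eq_zero_iff _ (IsFractionRing.injective A K)).mp (congrArg Subtype.val h1)
  have hden : ∀ x : BV, ∃ a : A, a ≠ 0 ∧ ∃ b : B, ψ (algebraMap A B a) * x = ψ b := by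
    rintro ⟨x, hx⟩
    induction hx using Algebra.adjoin_induction with
    | mem x hx =>
      obtain ⟨b, -, rfl⟩ := hx
      exact ⟨1, one_ne_zero, b, Subtype.ext (by simp [ψ])⟩
    | algebraMap v =>
      obtain ⟨n, d, hd, hv⟩ := IsFractionRing.div_surjective A v.1
      refine ⟨d, nonZeroDivisors.ne_zero hd, algebraMap A B n, Subtype.ext ?_⟩
      show ι (algebraMap A B d) * algebraMap K L v.1 = ι (algebraMap A B n)
      rw [← hKL, ← hKL, ← map_mul, ← hv, mul_div_cancel₀ _ ((map_ne_zero_iff _ (IsFractionRing.injective A K)).mpr (nonZeroDivisors.ne_zero hd))]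
    | add x y hx' hy' hx hy =>
      obtain ⟨a, ha, b, hab⟩ := hx
      obtain ⟨a', ha', b', hab'⟩ := hy
      refine ⟨a * a', mul_ne_zero ha ha', algebraMap A B a' * b + algebraMap A B a * b', ?_⟩
      rw [map_mul, map_mul, map_add, map_mul, map_mul, ← hab, ← hab']
      apply Subtype.ext
      show _ * (x + y) = _
      simp only [Subalgebra.coe_mul, Subalgebra.coe_add]
      ring
    | mul x y hx' hy' hx hy =>
      obtain ⟨a, ha, b, hab⟩ := hx
      obtain ⟨a', ha', b', hab'⟩ := hy
      refine ⟨a * a', mul_ne_zero ha ha', b * b', ?_⟩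
      rw [map_mul, map_mul, map_mul, ← hab, ← hab']
      apply Subtype.ext
      show _ * (x * y) = _
      simp only [Subalgebra.coe_mul]
      ring
  refine ⟨q.comap ψ, Ideal.comap_isPrime _ _, fun b hb => (hm'' b).mp (hqm hb),
    (Submodule.eq_bot_iff _).mpr fun a ha => hqA a ha, hgq, fun b hb => ?_⟩
  obtain ⟨x, v, hv, hxv⟩ := hmax (ψ b) hb
  obtain ⟨a, ha, c, hc⟩ := hden x
  obtain ⟨n, d, hd, hnd⟩ := IsFractionRing.div_surjective A v.1
  have hd0 : algebraMap A K d ≠ 0 := (map_ne_zero_iff _ (IsFractionRing.injective A K)).mpr (nonZeroDivisors.ne_zero hd)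
  have hn : n ≠ 0 := fun h => hv (Subtype.ext (by rw [← hnd, h, map_zero, zero_div]; rfl))
  have hvd : ψ (algebraMap A B d) * algebraMap V BV v = ψ (algebraMap A B n) := by
    apply Subtype.ext
    show ι (algebraMap A B d) * algebraMap K L v.1 = ι (algebraMap A B n)
    rw [← hKL, ← hKL, ← map_mul, ← hnd, mul_div_cancel₀ _ hd0]
  refine ⟨algebraMap A B d * c, a * n, mul_ne_zero ha hn, ?_⟩
  rw [Ideal.mem_comap, map_sub, map_mul, map_mul, map_mul, map_mul, ← hc, ← hvd]
  have := Ideal.mul_mem_left q (ψ (algebraMap A B d) * ψ (algebraMap A B a)) hxv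
  convert this using 1
  ring

end Groth.L20.ClosedBetween
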