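import Groth.Agent.L20.FibreFT
import Mathlib.RingTheory.LocalRing.ResidueField.Fiber

/-!
# The fibrewise criterion of flatness in terms of local rings
-/

set_option autoImplicit false
set_option linter.style.haveILetI false

universe u

open scoped TensorProduct

namespace Groth.L20.FibreCrit

/-- The quotient by `p` of a localization at a prime over `p` is the localization of the fibre ring at a
prime over the given one. -/
theorem exists_isLocalization_fibre {R U L : Type u} [CommRing R] [CommRing U] [CommRing L] [Algebra R U]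
    [Algebra U L] [Algebra R L] [IsScalarTower R U L] (p : Ideal R) [p.IsPrime] (q : Ideal U) [q.IsPrime]
    [IsLocalization.AtPrime L q] (hp : p = q.comap (algebraMap R U)) :
    ∃ η : p.ResidueField ⊗[R] U →ₐ[R] L ⧸ p.map (algebraMap R L),
      (∀ v, η (1 ⊗ₜ[R] v) = Ideal.Quotient.mk (p.map (algebraMap R L)) (algebraMap U L v)) ∧
      ∃ q' : Ideal (p.ResidueField ⊗[R] U), ∃ _ : q'.IsPrime,
        q'.comap (Algebra.TensorProduct.includeRight : U →ₐ[R] p.ResidueField ⊗[R] U) = q ∧
        @IsLocalization (p.ResidueField ⊗[R] U) _ q'.primeCompl (L ⧸ p.map (algebraMap R L)) _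
          η.toRingHom.toAlgebra := by
  classical
  haveI : IsLocalRing L := IsLocalization.AtPrime.isLocalRing L q
  have hple : p.map (algebraMap R L) ≤ IsLocalRing.maximalIdeal L := Ideal.map_le_iff_le_comap.mpr fun r hr => by
    rw [Ideal.mem_comap, IsScalarTower.algebraMap_apply R U L,
      IsLocalization.AtPrime.to_map_mem_maximal_iff L q]
    rw [hp] at hr
    exact hr
  haveI : Nontrivial (L ⧸ p.map (algebraMap R L)) := Ideal.Quotient.nontrivial_iff.mpr fun h =>
    (IsLocalRing.maximalIdeal.isMaximal L).ne_top (top_le_iff.mp (h ▸ hple))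
  haveI : IsLocalRing (L ⧸ p.map (algebraMap R L)) :=
    IsLocalRing.of_surjective' (Ideal.Quotient.mk _) Ideal.Quotient.mk_surjective
  have hmax : ∀ z : L, Ideal.Quotient.mk (p.map (algebraMap R L)) z ∈
      IsLocalRing.maximalIdeal (L ⧸ p.map (algebraMap R L)) ↔ z ∈ IsLocalRing.maximalIdeal L := fun z => by
    rw [← IsLocalRing.map_maximalIdeal_of_surjective (Ideal.Quotient.mk (p.map (algebraMap R L))) Ideal.Quotient.mk_surjective,
      ← Ideal.mem_comap, Ideal.comap_map_of_surjective _ Ideal.Quotient.mk_surjective, ← RingHom.ker_eq_comap_bot,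
      Ideal.mk_ker, sup_eq_left.mpr hple]
  have h1 : p ≤ RingHom.ker (Algebra.ofId R (L ⧸ p.map (algebraMap R L))).toRingHom := fun r hr => by
    rw [RingHom.mem_ker]
    show Ideal.Quotient.mk _ (algebraMap R L r) = 0
    exact Ideal.Quotient.eq_zero_iff_mem.mpr (Ideal.mem_map_of_mem _ hr)
  have h2 : p.primeCompl ≤
      (IsUnit.submonoid (L ⧸ p.map (algebraMap R L))).comap (Algebra.ofId R (L ⧸ p.map (algebraMap R L))) :=
    fun r hr => by
      show IsUnit (Ideal.Quotient.mk _ (algebraMap R L r))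
      rw [IsScalarTower.algebraMap_apply R U L]
      refine IsUnit.map _ (IsLocalization.map_units L (⟨algebraMap R U r, ?_⟩ : q.primeCompl))
      show algebraMap R U r ∉ q
      rw [← Ideal.mem_comap, ← hp]
      exact hr
  let η : p.ResidueField ⊗[R] U →ₐ[R] L ⧸ p.map (algebraMap R L) :=
    Algebra.TensorProduct.lift (Ideal.ResidueField.liftₐ p (Algebra.ofId R _) h1 h2)
      ((Ideal.Quotient.mkₐ R _).comp (IsScalarTower.toAlgHom R U L)) fun _ _ => Commute.all _ _
  have hη : ∀ v, η (1 ⊗ₜ[R] v) = Ideal.Quotient.mk (p.map (algebraMap R L)) (algebraMap U L v) := fun v => by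
    simp [η]
  refine ⟨η, hη, (IsLocalRing.maximalIdeal (L ⧸ p.map (algebraMap R L))).comap η.toRingHom, inferInstance, ?_, ?_⟩
  · ext v
    rw [Ideal.mem_comap, Ideal.mem_comap]
    show η (1 ⊗ₜ[R] v) ∈ _ ↔ _
    rw [hη, hmax, IsLocalization.AtPrime.to_map_mem_maximal_iff L q]
  letI := η.toRingHom.toAlgebra
  refine (isLocalization_iff _ _).mpr ⟨fun c => ?_, fun z => ?_, fun {c₁ c₂} he => ?_⟩
  · exact IsLocalRing.notMem_maximalIdeal.mp c.2
  · obtain ⟨z, rfl⟩ := Ideal.Quotient.mk_surjective z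
    obtain ⟨⟨v, t⟩, hvt⟩ := IsLocalization.surj (q.primeCompl) z
    refine ⟨⟨1 ⊗ₜ[R] v, ⟨1 ⊗ₜ[R] (t : U), ?_⟩⟩, ?_⟩
    · show η (1 ⊗ₜ[R] (t : U)) ∉ IsLocalRing.maximalIdeal _
      rw [hη, hmax, IsLocalization.AtPrime.to_map_mem_maximal_iff L q]
      exact t.2
    · show _ * η (1 ⊗ₜ[R] (t : U)) = η (1 ⊗ₜ[R] v)
      rw [hη, hη, ← map_mul, hvt]
  · obtain ⟨r, hr, v, hv⟩ := Ideal.Fiber.exists_smul_eq_one_tmul p (c₁ - c₂)
    have hz : η (c₁ - c₂) = 0 := by
      rw [map_sub, sub_eq_zero]; exact he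
    have hv0 : algebraMap U L v ∈ p.map (algebraMap R L) := by
      rw [← Ideal.Quotient.eq_zero_iff_mem, ← hη, ← hv, map_smul, hz, smul_zero]
    rw [IsScalarTower.algebraMap_eq R U L, ← Ideal.map_map,
      IsLocalization.algebraMap_mem_map_algebraMap_iff q.primeCompl] at hv0
    obtain ⟨t, ht, htv⟩ := hv0
    have htu : (1 : p.ResidueField) ⊗ₜ[R] (t * v) = 0 := by
      have : p.map (algebraMap R U) ≤ RingHom.ker
          (Algebra.TensorProduct.includeRight : U →ₐ[R] p.ResidueField ⊗[R] U).toRingHom :=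
        Ideal.map_le_iff_le_comap.mpr fun a ha => by
          rw [Ideal.mem_comap, RingHom.mem_ker]
          show (1 : p.ResidueField) ⊗ₜ[R] algebraMap R U a = 0
          rw [Algebra.algebraMap_eq_smul_one, TensorProduct.tmul_smul, TensorProduct.smul_tmul',
            ← Algebra.algebraMap_eq_smul_one, Ideal.algebraMap_residueField_eq_zero.mpr ha, TensorProduct.zero_tmul]
      exact this htv
    refine ⟨⟨(algebraMap R (p.ResidueField ⊗[R] U) r) * (1 ⊗ₜ[R] t), ?_⟩, ?_⟩
    · show η _ ∉ IsLocalRing.maximalIdeal _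
      rw [map_mul, hη, AlgHom.commutes, IsLocalRing.notMem_maximalIdeal]
      refine IsUnit.mul (h2 hr) ?_
      rw [← IsLocalRing.notMem_maximalIdeal, hmax, IsLocalization.AtPrime.to_map_mem_maximal_iff L q]
      exact ht
    · rw [← sub_eq_zero, ← mul_sub, mul_assoc, mul_comm ((1 : p.ResidueField) ⊗ₜ[R] t), ← mul_assoc,
        ← Algebra.smul_def, hv, Algebra.TensorProduct.tmul_mul_tmul, one_mul, mul_comm v, htu]

/-- The fibrewise criterion of flatness, in terms of local rings. -/
theorem flat_of_stalk {R A U LA LB : Type u} [CommRing R] [CommRing A] [CommRing U]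
    [Algebra R A] [Algebra.FiniteType R A] [Algebra A U] [Algebra R U] [IsScalarTower R A U]
    [Algebra.FinitePresentation R U] (q : Ideal U) [q.IsPrime]
    [Module.Flat R (LocalizedModule q.primeCompl U)]
    [CommRing LA] [Algebra A LA] [Algebra R LA] [IsScalarTower R A LA]
    [IsLocalization.AtPrime LA (q.comap (algebraMap A U))]
    [CommRing LB] [Algebra U LB] [Algebra R LB] [IsScalarTower R U LB] [IsLocalization.AtPrime LB q]
    (ψ : LA →+* LB) (hψ : ∀ a, ψ (algebraMap A LA a) = algebraMap U LB (algebraMap A U a))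
    (p : Ideal R) (hp : p = q.comap (algebraMap R U))
    (hle : p.map (algebraMap R LA) ≤ (p.map (algebraMap R LB)).comap ψ)
    (hflat : (Ideal.quotientMap (p.map (algebraMap R LB)) ψ hle).Flat) :
    Module.Flat A (LocalizedModule q.primeCompl U) := by
  classical
  haveI : p.IsPrime := hp ▸ inferInstance
  obtain ⟨ηA, hηA, qA, hqA, -, hlocA⟩ := exists_isLocalization_fibre (L := LA) p (q.comap (algebraMap A U))
    (by rw [hp, Ideal.comap_comap, ← IsScalarTower.algebraMap_eq])
  obtain ⟨ηU, hηU, q', hq'p, hq', hlocU⟩ := exists_isLocalization_fibre (L := LB) p q hp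
  letI : Algebra A (p.ResidueField ⊗[R] A) := Algebra.TensorProduct.rightAlgebra
  letI : Algebra U (p.ResidueField ⊗[R] U) := Algebra.TensorProduct.rightAlgebra
  letI : Algebra (p.ResidueField ⊗[R] A) (p.ResidueField ⊗[R] U) :=
    (Algebra.TensorProduct.map (AlgHom.id R p.ResidueField) (IsScalarTower.toAlgHom R A U)).toRingHom.toAlgebra
  letI : Algebra A (p.ResidueField ⊗[R] U) :=
    ((algebraMap U (p.ResidueField ⊗[R] U)).comp (algebraMap A U)).toAlgebra
  haveI : IsScalarTower A U (p.ResidueField ⊗[R] U) := IsScalarTower.of_algebraMap_eq fun x => rfl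
  haveI : IsScalarTower A (p.ResidueField ⊗[R] A) (p.ResidueField ⊗[R] U) :=
    IsScalarTower.of_algebraMap_eq fun x => by
      simp [RingHom.algebraMap_toAlgebra]
  haveI : Algebra.IsPushout R U p.ResidueField (p.ResidueField ⊗[R] U) := .symm inferInstance
  haveI : Algebra.IsPushout R A p.ResidueField (p.ResidueField ⊗[R] A) := .symm inferInstance
  letI := ηA.toRingHom.toAlgebra
  letI := ηU.toRingHom.toAlgebra
  haveI := hlocA
  haveI := hlocU
  letI : Algebra (LA ⧸ p.map (algebraMap R LA)) (LB ⧸ p.map (algebraMap R LB)) :=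
    (Ideal.quotientMap (p.map (algebraMap R LB)) ψ hle).toAlgebra
  letI : Algebra (p.ResidueField ⊗[R] A) (LB ⧸ p.map (algebraMap R LB)) :=
    ((algebraMap (LA ⧸ p.map (algebraMap R LA)) (LB ⧸ p.map (algebraMap R LB))).comp ηA.toRingHom).toAlgebra
  haveI : IsScalarTower (p.ResidueField ⊗[R] A) (LA ⧸ p.map (algebraMap R LA)) (LB ⧸ p.map (algebraMap R LB)) :=
    IsScalarTower.of_algebraMap_eq fun x => rfl
  have hψR : ∀ r, ψ (algebraMap R LA r) = algebraMap R LB r := fun r => by
    rw [IsScalarTower.algebraMap_apply R A LA, hψ, ← IsScalarTower.algebraMap_apply R A U,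
      ← IsScalarTower.algebraMap_apply R U LB]
  have hcomp : (Ideal.quotientMap (p.map (algebraMap R LB)) ψ hle).comp ηA.toRingHom =
      ηU.toRingHom.comp (algebraMap (p.ResidueField ⊗[R] A) (p.ResidueField ⊗[R] U)) := by
    refine Algebra.TensorProduct.ringHom_ext ?_ ?_
    · refine Ideal.ResidueField.ringHom_ext (RingHom.ext fun r => ?_)
      show Ideal.quotientMap _ ψ hle (ηA (algebraMap R p.ResidueField r ⊗ₜ[R] (1 : A))) =
        ηU (Algebra.TensorProduct.map (AlgHom.id R p.ResidueField) (IsScalarTower.toAlgHom R A U)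
          (algebraMap R p.ResidueField r ⊗ₜ[R] (1 : A)))
      rw [Algebra.TensorProduct.map_tmul, map_one, AlgHom.id_apply, ← Algebra.TensorProduct.algebraMap_apply,
        ← Algebra.TensorProduct.algebraMap_apply, AlgHom.commutes, AlgHom.commutes]
      show Ideal.Quotient.mk _ (ψ (algebraMap R LA r)) = Ideal.Quotient.mk _ (algebraMap R LB r)
      rw [hψR]
    · refine RingHom.ext fun x => ?_
      show Ideal.quotientMap _ ψ hle (ηA ((1 : p.ResidueField) ⊗ₜ[R] x)) =
        ηU (Algebra.TensorProduct.map (AlgHom.id R p.ResidueField) (IsScalarTower.toAlgHom R A U)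
          ((1 : p.ResidueField) ⊗ₜ[R] x))
      rw [Algebra.TensorProduct.map_tmul, AlgHom.id_apply, IsScalarTower.toAlgHom_apply, hηA, hηU,
        Ideal.quotientMap_mk, hψ]
  haveI : IsScalarTower (p.ResidueField ⊗[R] A) (p.ResidueField ⊗[R] U) (LB ⧸ p.map (algebraMap R LB)) :=
    IsScalarTower.of_algebraMap_eq fun x => RingHom.congr_fun hcomp x
  haveI : Module.Flat (p.ResidueField ⊗[R] A) (LA ⧸ p.map (algebraMap R LA)) :=
    IsLocalization.flat (LA ⧸ p.map (algebraMap R LA)) qA.primeCompl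
  haveI : Module.Flat (LA ⧸ p.map (algebraMap R LA)) (LB ⧸ p.map (algebraMap R LB)) := hflat
  haveI : Module.Flat (p.ResidueField ⊗[R] A) (LB ⧸ p.map (algebraMap R LB)) :=
    Module.Flat.trans _ (LA ⧸ p.map (algebraMap R LA)) _
  let e : Localization.AtPrime q' ≃ₐ[p.ResidueField ⊗[R] U] LB ⧸ p.map (algebraMap R LB) :=
    IsLocalization.algEquiv q'.primeCompl _ _
  haveI : Module.Flat (p.ResidueField ⊗[R] A) (Localization.AtPrime q') :=
    Module.Flat.of_linearEquiv (e.toLinearEquiv.restrictScalars (p.ResidueField ⊗[R] A))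
  refine flat_of_fibre_ft (R := R) (S := A) (U := U) (M := U) (K := p.ResidueField)
    (B := p.ResidueField ⊗[R] A) (C := p.ResidueField ⊗[R] U) q (by rw [Ideal.ker_algebraMap_residueField, hp]) q' hq' ?_
  exact Module.Flat.of_linearEquiv
    ((TensorProduct.AlgebraTensorModule.rid U (Localization.AtPrime q') (Localization.AtPrime q')).restrictScalars
      (p.ResidueField ⊗[R] A))

end Groth.L20.FibreCrit
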