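import Groth.Agent.L20.FibreAlg
import Mathlib.RingTheory.Flat.FaithfullyFlat.Basic
import Mathlib.LinearAlgebra.TensorProduct.Quotient

/-!
# The fibrewise criterion of flatness at stalks, for modules
-/

set_option autoImplicit false
set_option linter.style.haveILetI false

universe u

open scoped TensorProduct

namespace Groth.L20.FibreCrit

/-- `R`-flatness of a faithfully flat `A`-module gives `R`-flatness of `A`. -/
theorem flat_of_faithfullyFlat_module (R A N : Type u) [CommRing R] [CommRing A] [Algebra R A]
    [AddCommGroup N] [Module A N] [Module R N] [IsScalarTower R A N] [Module.FaithfullyFlat A N]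
    [Module.Flat R N] : Module.Flat R A := by
  rw [Module.Flat.iff_lTensor_preserves_injective_linearMap]
  intro P Q _ _ _ _ φ hφ
  have h1 : Function.Injective ((φ.baseChange A).lTensor N) := by
    have h2 : Function.Injective (φ.lTensor N) :=
      Module.Flat.lTensor_preserves_injective_linearMap φ hφ
    let eP := TensorProduct.AlgebraTensorModule.cancelBaseChange R A A N P
    let eQ := TensorProduct.AlgebraTensorModule.cancelBaseChange R A A N Q
    have hcomm : ∀ z, eQ ((φ.baseChange A).lTensor N z) = φ.lTensor N (eP z) := by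
      intro z
      induction z using TensorProduct.induction_on with
      | zero => simp only [LinearMap.map_zero, LinearEquiv.map_zero]
      | add x y hx hy => simp only [LinearMap.map_add, LinearEquiv.map_add, hx, hy]
      | tmul n w =>
        induction w using TensorProduct.induction_on with
        | zero => simp only [TensorProduct.tmul_zero, LinearMap.map_zero, LinearEquiv.map_zero]
        | add x y hx hy =>
          simp only [TensorProduct.tmul_add, LinearMap.map_add, LinearEquiv.map_add, hx, hy]
        | tmul a x =>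
          simp [eP, eQ, LinearMap.baseChange_tmul]
    intro x y hxy
    exact eP.injective (h2 (by rw [← hcomm, ← hcomm, hxy]))
  exact (Module.FaithfullyFlat.lTensor_injective_iff_injective A N (φ.baseChange A)).1 h1

/-- A nonzero finite module along a local homomorphism which is flat is faithfully flat. -/
theorem faithfullyFlat_of_finite_local {A B N : Type u} [CommRing A] [CommRing B] [IsLocalRing A]
    [IsLocalRing B] [Algebra A B] [IsLocalHom (algebraMap A B)] [AddCommGroup N] [Module B N]
    [Module A N] [IsScalarTower A B N] [Module.Finite B N] [Nontrivial N] [Module.Flat A N] :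
    Module.FaithfullyFlat A N := by
  refine ⟨fun m hm h => ?_⟩
  rw [IsLocalRing.eq_maximalIdeal hm] at h
  have h2 : (IsLocalRing.maximalIdeal B) • (⊤ : Submodule B N) = ⊤ := by
    rw [eq_top_iff]
    intro z _
    have hz : z ∈ (IsLocalRing.maximalIdeal A) • (⊤ : Submodule A N) := by rw [h]; exact Submodule.mem_top
    refine Submodule.smul_induction_on hz (fun a ha n _ => ?_) (fun x y hx hy => add_mem hx hy)
    rw [← algebraMap_smul B a n]
    exact Submodule.smul_mem_smul (map_nonunit (algebraMap A B) a ha) Submodule.mem_top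
  exact Submodule.top_ne_ideal_smul_of_le_jacobson_annihilator
    (IsLocalRing.maximalIdeal_le_jacobson _) h2.symm

/-- The fibrewise criterion at stalks, for a finitely presented module. -/
theorem flat_of_stalk_module {R A U LA LB M N : Type u} [CommRing R] [CommRing A] [CommRing U]
    [Algebra R A] [Algebra.FiniteType R A] [Algebra A U] [Algebra R U] [IsScalarTower R A U]
    [Algebra.FinitePresentation R U]
    [AddCommGroup M] [Module U M] [Module A M] [Module R M] [IsScalarTower A U M] [IsScalarTower R U M]
    [Module.FinitePresentation U M]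
    (q : Ideal U) [q.IsPrime] [Module.Flat R (LocalizedModule q.primeCompl M)]
    [CommRing LA] [Algebra A LA] [Algebra R LA] [IsScalarTower R A LA]
    [IsLocalization.AtPrime LA (q.comap (algebraMap A U))]
    [CommRing LB] [Algebra U LB] [Algebra R LB] [IsScalarTower R U LB] [IsLocalization.AtPrime LB q]
    [Algebra LA LB]
    (hψ : ∀ a, algebraMap LA LB (algebraMap A LA a) = algebraMap U LB (algebraMap A U a))
    [AddCommGroup N] [Module LB N] [Module LA N] [IsScalarTower LA LB N] [Module U N]
    [IsScalarTower U LB N] (g : M →ₗ[U] N) [IsLocalizedModule q.primeCompl g]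
    (p : Ideal R) (hp : p = q.comap (algebraMap R U))
    (hflat : Module.Flat (LA ⧸ p.map (algebraMap R LA))
      (N ⧸ (p.map (algebraMap R LA) • ⊤ : Submodule LA N))) :
    Module.Flat A (LocalizedModule q.primeCompl M) := by
  classical
  haveI : p.IsPrime := hp ▸ inferInstance
  let JA := p.map (algebraMap R LA)
  let JB := p.map (algebraMap R LB)
  have hψR : ∀ r, algebraMap LA LB (algebraMap R LA r) = algebraMap R LB r := fun r => by
    rw [IsScalarTower.algebraMap_apply R A LA, hψ, ← IsScalarTower.algebraMap_apply R A U,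
      ← IsScalarTower.algebraMap_apply R U LB]
  have hJ : JA.map (algebraMap LA LB) = JB := by
    rw [Ideal.map_map]
    congr 1
    exact RingHom.ext hψR
  have hle : JA ≤ JB.comap (algebraMap LA LB) := Ideal.map_le_iff_le_comap.1 hJ.le
  obtain ⟨ηA, hηA, qA, hqA, -, hlocA⟩ := exists_isLocalization_fibre (L := LA) p (q.comap (algebraMap A U))
    (by rw [hp, Ideal.comap_comap, ← IsScalarTower.algebraMap_eq])
  obtain ⟨ηU, hηU, q', hq'p, hq', hlocU⟩ := exists_isLocalization_fibre (L := LB) p q hp
  letI : Algebra A (p.ResidueField ⊗[R] A) := Algebra.TensorProduct.rightAlgebra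
  letI : Algebra U (p.ResidueField ⊗[R] U) := Algebra.TensorProduct.rightAlgebra
  letI : Algebra (p.ResidueField ⊗[R] A) (p.ResidueField ⊗[R] U) :=
    (Algebra.TensorProduct.map (AlgHom.id R p.ResidueField) (IsScalarTower.toAlgHom R A U)).toRingHom.toAlgebra
  letI : Algebra A (p.ResidueField ⊗[R] U) :=
    ((algebraMap U (p.ResidueField ⊗[R] U)).comp (algebraMap A U)).toAlgebra
  haveI : IsScalarTower A U (p.ResidueField ⊗[R] U) := IsScalarTower.of_algebraMap_eq fun x => rfl
  haveI : IsScalarTower A (p.ResidueField ⊗[R] A) (p.ResidueField ⊗[R] U) :=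
    IsScalarTower.of_algebraMap_eq fun x => by
      simp [RingHom.algebraMap_toAlgebra]
  haveI : Algebra.IsPushout R U p.ResidueField (p.ResidueField ⊗[R] U) := .symm inferInstance
  haveI : Algebra.IsPushout R A p.ResidueField (p.ResidueField ⊗[R] A) := .symm inferInstance
  letI := ηA.toRingHom.toAlgebra
  letI := ηU.toRingHom.toAlgebra
  haveI := hlocA
  haveI := hlocU
  letI : Algebra (LA ⧸ JA) (LB ⧸ JB) := (Ideal.quotientMap JB (algebraMap LA LB) hle).toAlgebra
  haveI : IsScalarTower LA (LA ⧸ JA) (LB ⧸ JB) := IsScalarTower.of_algebraMap_eq fun x => rfl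
  letI : Algebra (p.ResidueField ⊗[R] A) (LB ⧸ JB) :=
    ((algebraMap (LA ⧸ JA) (LB ⧸ JB)).comp ηA.toRingHom).toAlgebra
  haveI : IsScalarTower (p.ResidueField ⊗[R] A) (LA ⧸ JA) (LB ⧸ JB) :=
    IsScalarTower.of_algebraMap_eq fun x => rfl
  have hcomp : (Ideal.quotientMap JB (algebraMap LA LB) hle).comp ηA.toRingHom =
      ηU.toRingHom.comp (algebraMap (p.ResidueField ⊗[R] A) (p.ResidueField ⊗[R] U)) := by
    refine Algebra.TensorProduct.ringHom_ext ?_ ?_
    · refine Ideal.ResidueField.ringHom_ext (RingHom.ext fun r => ?_)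
      show Ideal.quotientMap _ (algebraMap LA LB) hle (ηA (algebraMap R p.ResidueField r ⊗ₜ[R] (1 : A))) =
        ηU (Algebra.TensorProduct.map (AlgHom.id R p.ResidueField) (IsScalarTower.toAlgHom R A U)
          (algebraMap R p.ResidueField r ⊗ₜ[R] (1 : A)))
      rw [Algebra.TensorProduct.map_tmul, map_one, AlgHom.id_apply, ← Algebra.TensorProduct.algebraMap_apply,
        ← Algebra.TensorProduct.algebraMap_apply, AlgHom.commutes, AlgHom.commutes]
      show Ideal.Quotient.mk _ (algebraMap LA LB (algebraMap R LA r)) = Ideal.Quotient.mk _ (algebraMap R LB r)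
      rw [hψR]
    · refine RingHom.ext fun x => ?_
      show Ideal.quotientMap _ (algebraMap LA LB) hle (ηA ((1 : p.ResidueField) ⊗ₜ[R] x)) =
        ηU (Algebra.TensorProduct.map (AlgHom.id R p.ResidueField) (IsScalarTower.toAlgHom R A U)
          ((1 : p.ResidueField) ⊗ₜ[R] x))
      rw [Algebra.TensorProduct.map_tmul, AlgHom.id_apply, IsScalarTower.toAlgHom_apply, hηA, hηU,
        Ideal.quotientMap_mk, hψ]
  haveI : IsScalarTower (p.ResidueField ⊗[R] A) (p.ResidueField ⊗[R] U) (LB ⧸ JB) :=
    IsScalarTower.of_algebraMap_eq fun x => RingHom.congr_fun hcomp x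
  haveI : IsScalarTower U (p.ResidueField ⊗[R] U) (LB ⧸ JB) :=
    IsScalarTower.of_algebraMap_eq fun x => (hηU x).symm
  haveI : Module.Flat (p.ResidueField ⊗[R] A) (LA ⧸ JA) := IsLocalization.flat (LA ⧸ JA) qA.primeCompl
  let e : Localization.AtPrime q' ≃ₐ[p.ResidueField ⊗[R] U] LB ⧸ JB :=
    IsLocalization.algEquiv q'.primeCompl _ _
  -- the fibre of the stalk
  have hsub : (JB • ⊤ : Submodule LB N).restrictScalars LA = (JA • ⊤ : Submodule LA N) := by
    refine le_antisymm ?_ ?_
    · intro z hz
      rw [Submodule.restrictScalars_mem] at hz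
      refine Submodule.smul_induction_on hz (fun b hb n _ => ?_) (fun x y hx hy => add_mem hx hy)
      rw [← hJ] at hb
      induction hb using Submodule.span_induction generalizing n with
      | mem x hx =>
        obtain ⟨a, ha, rfl⟩ := hx
        rw [algebraMap_smul]
        exact Submodule.smul_mem_smul ha Submodule.mem_top
      | zero => rw [zero_smul]; exact zero_mem _
      | add x y _ _ hx hy => rw [add_smul]; exact add_mem (hx _ Submodule.mem_top) (hy _ Submodule.mem_top)
      | smul c x _ hx => rw [smul_eq_mul, mul_comm, mul_smul]; exact hx _ Submodule.mem_top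
    · refine Submodule.smul_le.2 fun a ha n _ => ?_
      rw [Submodule.restrictScalars_mem, ← algebraMap_smul LB a n]
      exact Submodule.smul_mem_smul (hJ.le (Ideal.mem_map_of_mem _ ha)) Submodule.mem_top
  have hbc : IsBaseChange LB g := IsLocalizedModule.isBaseChange q.primeCompl LB g
  let eT : (LB ⧸ JB) ⊗[U] M ≃ₗ[LB] N ⧸ (JB • ⊤ : Submodule LB N) :=
    (TensorProduct.AlgebraTensorModule.cancelBaseChange U LB LB (LB ⧸ JB) M).symm ≪≫ₗ
      LinearEquiv.lTensor (LB ⧸ JB) hbc.equiv ≪≫ₗ TensorProduct.quotTensorEquivQuotSMul N JB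
  haveI : IsScalarTower LA LB ((LB ⧸ JB) ⊗[U] M) := IsScalarTower.of_algebraMap_smul fun a z => by
    induction z using TensorProduct.induction_on with
    | zero => simp
    | add x y hx hy => rw [smul_add, smul_add, hx, hy]
    | tmul l m => rw [TensorProduct.smul_tmul', TensorProduct.smul_tmul', algebraMap_smul]
  let eLA : (LB ⧸ JB) ⊗[U] M ≃ₗ[LA] N ⧸ (JA • ⊤ : Submodule LA N) :=
    eT.restrictScalars LA ≪≫ₗ (Submodule.Quotient.restrictScalarsEquiv LA (JB • ⊤ : Submodule LB N)).symm ≪≫ₗ
      Submodule.quotEquivOfEq _ _ hsub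
  haveI : Module.Flat (LA ⧸ JA) ((LB ⧸ JB) ⊗[U] M) :=
    @Module.Flat.of_linearEquiv _ _ _ _ _ _ _ _ hflat
      (eLA.extendScalarsOfSurjective (S := LA ⧸ JA) Ideal.Quotient.mk_surjective)
  haveI : Module.Flat (p.ResidueField ⊗[R] A) ((LB ⧸ JB) ⊗[U] M) :=
    Module.Flat.trans _ (LA ⧸ JA) _
  refine flat_of_fibre_ft (R := R) (S := A) (U := U) (M := M) (K := p.ResidueField)
    (B := p.ResidueField ⊗[R] A) (C := p.ResidueField ⊗[R] U) q (by rw [Ideal.ker_algebraMap_residueField, hp]) q' hq' ?_
  exact Module.Flat.of_linearEquiv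
    ((TensorProduct.AlgebraTensorModule.congr e.toLinearEquiv (LinearEquiv.refl U M)).restrictScalars
      (p.ResidueField ⊗[R] A))

end Groth.L20.FibreCrit
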