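import Groth.Prelude.Def_CAlgX
import Groth.Agent.L02.Flat
import Mathlib.RingTheory.Flat.FaithfullyFlat.Algebra
import Mathlib.RingTheory.Flat.Stability
import Mathlib.RingTheory.Nakayama

/-!
# The fibre product ring `B ×_{A/I} A` for a finite flat injective `B → A/I`
-/

universe u

namespace Groth.L20

open TensorProduct

/-- An injective finite flat ring map is faithfully flat. -/
theorem faithfullyFlat_of_injective_of_finite {B C : Type*} [CommRing B] [CommRing C] [Algebra B C]
    [Module.Finite B C] [Module.Flat B C] (h : Function.Injective (algebraMap B C)) :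
    Module.FaithfullyFlat B C := by
  refine ⟨fun m hm htop => ?_⟩
  obtain ⟨r, hr1, hr⟩ := Submodule.exists_sub_one_mem_and_smul_eq_zero_of_fg_of_le_smul m
    (⊤ : Submodule B C) Module.Finite.fg_top htop.ge
  have h0 : r = 0 := h (by rw [map_zero, ← mul_one (algebraMap B C r), ← Algebra.smul_def]; exact hr 1 trivial)
  rw [h0, zero_sub, neg_mem_iff, ← Ideal.eq_top_iff_one] at hr1
  exact hm.ne_top hr1

/-- A faithfully flat algebra map stays injective after any tensor product. -/
theorem lTensor_injective_of_faithfullyFlat (R : Type*) {B C R' : Type*} [CommRing R] [CommRing B] [CommRing C]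
    [CommRing R'] [Algebra R B] [Algebra R C] [Algebra B C] [IsScalarTower R B C] [Algebra R R']
    [Module.FaithfullyFlat B C] :
    Function.Injective ((IsScalarTower.toAlgHom R B C).toLinearMap.lTensor R') := by
  let e : C ⊗[B] (B ⊗[R] R') ≃ₗ[C] C ⊗[R] R' := AlgebraTensorModule.cancelBaseChange R B C C R'
  have key : ∀ z : R' ⊗[R] B, (TensorProduct.comm R R' C)
      ((IsScalarTower.toAlgHom R B C).toLinearMap.lTensor R' z) =
      e (TensorProduct.mk B C (B ⊗[R] R') 1 (TensorProduct.comm R R' B z)) := by
    intro z
    induction z using TensorProduct.induction_on with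
    | zero => simp only [map_zero]
    | add a b ha hb => simp only [map_add, ha, hb]
    | tmul r b => simp [e, Algebra.smul_def]
  intro x y hxy
  have := congrArg (TensorProduct.comm R R' C) hxy
  rw [key, key] at this
  exact (TensorProduct.comm R R' B).injective
    (Module.FaithfullyFlat.tensorProduct_mk_injective (A := B) (B := C) (B ⊗[R] R') (e.injective this))

section

variable (R A B : Type u) [CommRing R] [CommRing A] [CommRing B] [Algebra R A] [Algebra R B]
  (I : Ideal A) [Algebra B (A ⧸ I)] [IsScalarTower R B (A ⧸ I)]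

/-- The difference map `B × A → A/I`. -/
noncomputable def fibreDiff : (B × A) →ₗ[R] (A ⧸ I) :=
  ((IsScalarTower.toAlgHom R B (A ⧸ I)).comp (AlgHom.fst R B A)).toLinearMap -
    ((Ideal.Quotient.mkₐ R I).comp (AlgHom.snd R B A)).toLinearMap

theorem fibreDiff_surjective : Function.Surjective (fibreDiff R A B I) := by
  intro c
  obtain ⟨a, rfl⟩ := Ideal.Quotient.mk_surjective c
  exact ⟨(0, -a), by simp [fibreDiff]⟩

theorem fibreDiff_exact :
    Function.Exact (AlgHom.equalizer ((IsScalarTower.toAlgHom R B (A ⧸ I)).comp (AlgHom.fst R B A))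
          ((Ideal.Quotient.mkₐ R I).comp (AlgHom.snd R B A))).val.toLinearMap (fibreDiff R A B I) := by
  intro x
  constructor
  · intro h
    exact ⟨⟨x, by simpa [fibreDiff, sub_eq_zero] using h⟩, rfl⟩
  · rintro ⟨⟨x, hx⟩, rfl⟩
    simpa [fibreDiff, sub_eq_zero] using hx

theorem fibreProduct_universallyInjective [Module.Flat R B] [Module.Flat B (A ⧸ I)] :
    CAlgX.UniversallyInjective R (AlgHom.equalizer ((IsScalarTower.toAlgHom R B (A ⧸ I)).comp (AlgHom.fst R B A))
          ((Ideal.Quotient.mkₐ R I).comp (AlgHom.snd R B A))).val.toLinearMap := by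
  have : Module.Flat R (A ⧸ I) := Module.Flat.trans R B (A ⧸ I)
  exact Groth.L02.universallyInjective_of_flat_coker _ _ Subtype.val_injective (fibreDiff_exact R A B I)
    (fibreDiff_surjective R A B I)

end

end Groth.L20
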