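import Groth.Agent.L07.FlatStage
import Groth.Agent.L20.LocalizedFlat
import Groth.Agent.L20.FlatAtBaseChange

/-!
# The flat locus of a finitely presented module

Localised version of the stratification criterion of `Groth.Agent.L07.FlatDescent`: for a
multiplicative set `T` of the polynomial ring, flatness of `T⁻¹M` is a finite condition.
-/

universe u

namespace Groth.L20.FlatLocus

open MvPolynomial TensorProduct Groth.L07.FlatDescent

set_option linter.style.haveILetI false

variable {d n : ℕ} {R : Type u} [CommRing R] (K : Submodule (MvPolynomial (Fin d) R) (F d n R))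

/-- The presented module as a module over the polynomial ring. -/
abbrev MP (C : Type u) [CommRing C] [Algebra R C] : Type u := F d n C ⧸ KP (C := C) K

variable {C : Type u} [CommRing C] [Algebra R C]

theorem mem_KP {x : F d n C} : x ∈ KP (C := C) K ↔ x ∈ KC C K := Iff.rfl

/-- `x ∈ J • KC` up to `T`. -/
def Sat (T : Submonoid (MvPolynomial (Fin d) C)) (J : Ideal C) : Set (F d n C) :=
  {y | ∃ t ∈ T, t • y ∈ J • KC C K}

/-- Flatness of `T⁻¹ M`, elementwise. -/
def LocFlat (T : Submonoid (MvPolynomial (Fin d) C)) : Prop :=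
  ∀ J : Ideal C, ∀ x ∈ KC C K, x ∈ J • (⊤ : Submodule C (F d n C)) → x ∈ Sat K T J

theorem poly_smul_mem_smul (J : Ideal C) (p : MvPolynomial (Fin d) C) {y : F d n C}
    (hy : y ∈ J • KC C K) : p • y ∈ J • KC C K := by
  refine Submodule.smul_induction_on hy (fun a ha m hm => ?_) (fun a b ha hb => ?_)
  · rw [smul_comm]; exact Submodule.smul_mem_smul ha (poly_smul_mem K p hm)
  · rw [smul_add]; exact add_mem ha hb

theorem poly_smul_mem_top (J : Ideal C) (p : MvPolynomial (Fin d) C) {y : F d n C}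
    (hy : y ∈ J • (⊤ : Submodule C (F d n C))) : p • y ∈ J • (⊤ : Submodule C (F d n C)) := by
  refine Submodule.smul_induction_on hy (fun a ha m _ => ?_) (fun a b ha hb => ?_)
  · rw [smul_comm]; exact Submodule.smul_mem_smul ha trivial
  · rw [smul_add]; exact add_mem ha hb

section Sat

variable (T : Submonoid (MvPolynomial (Fin d) C)) (J : Ideal C)

theorem sat_of_mem {y : F d n C} (hy : y ∈ J • KC C K) : y ∈ Sat K T J :=
  ⟨1, T.one_mem, by rwa [one_smul]⟩

theorem sat_add {x y : F d n C} (hx : x ∈ Sat K T J) (hy : y ∈ Sat K T J) : x + y ∈ Sat K T J := by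
  obtain ⟨s, hs, hsx⟩ := hx
  obtain ⟨t, ht, hty⟩ := hy
  refine ⟨s * t, T.mul_mem hs ht, ?_⟩
  rw [smul_add]
  refine add_mem ?_ ?_
  · rw [mul_comm, mul_smul]; exact poly_smul_mem_smul K J t hsx
  · rw [mul_smul]; exact poly_smul_mem_smul K J s hty

theorem sat_sum {ι : Type*} (s : Finset ι) (g : ι → F d n C) (h : ∀ i ∈ s, g i ∈ Sat K T J) :
    ∑ i ∈ s, g i ∈ Sat K T J :=
  Finset.sum_induction g (· ∈ Sat K T J) (fun _ _ => sat_add K T J)
    (sat_of_mem K T J (zero_mem _)) h

theorem sat_smul (p : MvPolynomial (Fin d) C) {y : F d n C} (hy : y ∈ Sat K T J) :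
    p • y ∈ Sat K T J := by
  obtain ⟨t, ht, hty⟩ := hy
  exact ⟨t, ht, by rw [smul_comm]; exact poly_smul_mem_smul K J p hty⟩

theorem sat_csmul (c : C) {y : F d n C} (hy : y ∈ Sat K T J) : c • y ∈ Sat K T J := by
  rw [← algebraMap_smul (MvPolynomial (Fin d) C) c y]
  exact sat_smul K T J _ hy

theorem sat_mono {J' : Ideal C} (h : J ≤ J') {y : F d n C} (hy : y ∈ Sat K T J) : y ∈ Sat K T J' :=
  let ⟨t, ht, hty⟩ := hy
  ⟨t, ht, Submodule.smul_mono_left h hty⟩

end Sat

/-- The multiplication map `X ⊗ J → X`. -/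
noncomputable def mu (J : Ideal C) (X : Type u) [AddCommGroup X] [Module C X] : X ⊗[C] ↥J →ₗ[C] X :=
  (TensorProduct.rid C X).toLinearMap ∘ₗ J.subtype.lTensor X

theorem mu_tmul (J : Ideal C) {X : Type u} [AddCommGroup X] [Module C X] (x : X) (j : J) :
    mu J X (x ⊗ₜ[C] j) = (j : C) • x := by simp [mu]

theorem mu_injective (J : Ideal C) : Function.Injective (mu J (F d n C)) :=
  (TensorProduct.rid C (F d n C)).injective.comp
    (Module.Flat.lTensor_preserves_injective_linearMap _ J.injective_subtype)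

theorem exists_mu_eq (J : Ideal C) {x : F d n C} (hx : x ∈ J • (⊤ : Submodule C (F d n C))) :
    ∃ z, mu J (F d n C) z = x := by
  refine Submodule.smul_induction_on hx (fun a ha m _ => ⟨m ⊗ₜ[C] ⟨a, ha⟩, mu_tmul J _ _⟩) ?_
  rintro _ _ ⟨w, rfl⟩ ⟨w', rfl⟩
  exact ⟨w + w', map_add _ _ _⟩

theorem mu_mem_top (J : Ideal C) (w : F d n C ⊗[C] ↥J) :
    mu J (F d n C) w ∈ J • (⊤ : Submodule C (F d n C)) := by
  induction w using TensorProduct.induction_on with
  | zero => simp
  | tmul a b => rw [mu_tmul]; exact Submodule.smul_mem_smul b.2 trivial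
  | add a b ha hb => rw [map_add]; exact add_mem ha hb

theorem mu_smul (J : Ideal C) (p : MvPolynomial (Fin d) C) (w : F d n C ⊗[C] ↥J) :
    mu J (F d n C) (p • w) = p • mu J (F d n C) w := by
  induction w using TensorProduct.induction_on with
  | zero => simp
  | tmul a b => rw [TensorProduct.smul_tmul', mu_tmul, mu_tmul, smul_comm]
  | add a b ha hb => simp only [smul_add, map_add, ha, hb]

/-- The projection `F ⊗ J → M ⊗ J`. -/
noncomputable def proj (J : Ideal C) : F d n C ⊗[C] ↥J →ₗ[C] MP K C ⊗[C] ↥J :=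
  ((KP (C := C) K).mkQ.restrictScalars C).rTensor J

theorem proj_smul (J : Ideal C) (p : MvPolynomial (Fin d) C) (w : F d n C ⊗[C] ↥J) :
    proj K J (p • w) = p • proj K J w := by
  induction w using TensorProduct.induction_on with
  | zero => simp
  | tmul a b => simp [proj, TensorProduct.smul_tmul']
  | add a b ha hb => simp only [smul_add, map_add, ha, hb]

theorem lTensor_proj (J : Ideal C) (w : F d n C ⊗[C] ↥J) :
    J.subtype.lTensor (MP K C) (proj K J w) = 0 ↔ mu J (F d n C) w ∈ KC C K := by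
  have h : TensorProduct.rid C (MP K C) (J.subtype.lTensor (MP K C) (proj K J w)) =
      (KP (C := C) K).mkQ (mu J (F d n C) w) := by
    induction w using TensorProduct.induction_on with
    | zero => simp
    | tmul a b =>
      rw [mu_tmul]
      simp only [proj, LinearMap.rTensor_tmul, LinearMap.lTensor_tmul, TensorProduct.rid_tmul,
        LinearMap.restrictScalars_apply, Submodule.subtype_apply]
      rw [← algebraMap_smul (MvPolynomial (Fin d) C) (b : C) ((KP (C := C) K).mkQ a), ← map_smul,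
        algebraMap_smul]
    | add a b ha hb => simp only [map_add, ha, hb]
  rw [← (TensorProduct.rid C (MP K C)).map_eq_zero_iff, h, Submodule.mkQ_apply,
    Submodule.Quotient.mk_eq_zero, mem_KP]

theorem mu_mem_of_proj_eq_zero (J : Ideal C) {w : F d n C ⊗[C] ↥J} (h : proj K J w = 0) :
    mu J (F d n C) w ∈ J • KC C K := by
  have hex : Function.Exact ((KP (C := C) K).subtype.restrictScalars C)
      ((KP (C := C) K).mkQ.restrictScalars C) := LinearMap.exact_subtype_mkQ (KP (C := C) K)
  obtain ⟨v, rfl⟩ := (rTensor_exact (↥J) hex (Submodule.mkQ_surjective _) w).mp h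
  clear h
  induction v using TensorProduct.induction_on with
  | zero => simp
  | tmul a b => rw [LinearMap.rTensor_tmul, mu_tmul]; exact Submodule.smul_mem_smul b.2 a.2
  | add a b ha hb => rw [map_add, map_add]; exact add_mem ha hb

theorem proj_eq_zero_of_mu_mem (J : Ideal C) {w : F d n C ⊗[C] ↥J} (h : mu J (F d n C) w ∈ J • KC C K) :
    proj K J w = 0 := by
  obtain ⟨v, hv⟩ : ∃ v, mu J (F d n C) (((KP (C := C) K).subtype.restrictScalars C).rTensor J v) =
      mu J (F d n C) w := by
    refine Submodule.smul_induction_on h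
      (fun a ha m hm => ⟨(⟨m, hm⟩ : KP (C := C) K) ⊗ₜ[C] ⟨a, ha⟩, by rw [LinearMap.rTensor_tmul, mu_tmul]; rfl⟩) ?_
    rintro a b ⟨u, hu⟩ ⟨v, hv⟩
    exact ⟨u + v, by rw [map_add, map_add, hu, hv]⟩
  rw [← mu_injective J hv]
  show (((KP (C := C) K).mkQ.restrictScalars C).rTensor J)
    (((KP (C := C) K).subtype.restrictScalars C).rTensor J v) = 0
  rw [← LinearMap.rTensor_comp_apply]
  have : ((KP (C := C) K).mkQ.restrictScalars C) ∘ₗ ((KP (C := C) K).subtype.restrictScalars C) = 0 :=
    LinearMap.ext fun y => (Submodule.Quotient.mk_eq_zero _).mpr y.2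
  rw [this, LinearMap.rTensor_zero, LinearMap.zero_apply]

theorem locFlat_of_flat (T : Submonoid (MvPolynomial (Fin d) C))
    [Module.Flat C (LocalizedModule T (MP K C))] : LocFlat K T := by
  intro J x hx hxJ
  obtain ⟨z, rfl⟩ := exists_mu_eq J hxJ
  obtain ⟨t, ht, htz⟩ := Groth.L20.exists_smul_eq_zero_of_flat (R := C) (M := MP K C) T J.subtype
    J.injective_subtype (proj K J z) ((lTensor_proj K J z).mpr hx)
  refine ⟨t, ht, ?_⟩
  rw [← mu_smul]
  exact mu_mem_of_proj_eq_zero K J (by rw [proj_smul, htz])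

theorem flat_of_locFlat (T : Submonoid (MvPolynomial (Fin d) C)) (h : LocFlat K T) :
    Module.Flat C (LocalizedModule T (MP K C)) := by
  refine Groth.L20.flat_localizedModule_of_forall T fun J z hz => ?_
  obtain ⟨z, rfl⟩ : ∃ z', proj K J z' = z :=
    LinearMap.rTensor_surjective (↥J) (g := (KP (C := C) K).mkQ.restrictScalars C)
      (Submodule.mkQ_surjective _) z
  obtain ⟨t, ht, htx⟩ := h J _ ((lTensor_proj K J z).mp hz) (mu_mem_top J z)
  refine ⟨t, ht, ?_⟩
  rw [← proj_smul]
  exact proj_eq_zero_of_mu_mem K J (by rw [mu_smul]; exact htx)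

/-- The key lemma on a stratum, up to `T`. -/
theorem pow_smul_sat_of_stratum (T : Submonoid (MvPolynomial (Fin d) C)) {P : Ideal R} {f : R}
    (h : IsStratum K P f) (J : Ideal C)
    (hz : ∀ z ∈ K, z ∈ P • (⊤ : Submodule R (F d n R)) → ψ C z ∈ Sat K T J)
    {x : F d n C} (hx : x ∈ KC C K) (hxJ : x ∈ J • (⊤ : Submodule C (F d n C))) :
    ∃ N : ℕ, algebraMap R C f ^ N • x ∈ Sat K T J := by
  classical
  obtain ⟨t, c, ht, hcx⟩ : ∃ (t : Finset (F d n R)) (c : F d n R → C),
      (∀ y ∈ t, y ∈ K) ∧ ∑ y ∈ t, c y • ψ C y = x := by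
    obtain ⟨l, hl, hlx⟩ := (Finsupp.mem_span_image_iff_linearCombination C).mp hx
    exact ⟨l.support, l, fun y hy => (Finsupp.mem_supported C l).mp hl hy,
      by rw [← hlx, Finsupp.linearCombination_apply]; rfl⟩
  obtain ⟨N, k, hk, hkE⟩ := h (t.biUnion supp)
  set E := t.biUnion supp
  refine ⟨N, ?_⟩
  have hy : ∀ y ∈ t, ψ C (f ^ N • y - ∑ e ∈ E, co y e • k e) ∈ Sat K T J := fun y hy => by
    refine hz _ (sub_mem ?_ (Submodule.sum_mem _ fun e _ => ?_)) (hkE y (ht y hy) ?_)
    · exact K.smul_of_tower_mem _ (ht y hy)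
    · exact K.smul_of_tower_mem _ (hk e)
    · exact Finset.subset_biUnion_of_mem supp hy
  have hsplit : algebraMap R C f ^ N • x =
      (∑ y ∈ t, c y • ψ C (f ^ N • y - ∑ e ∈ E, co y e • k e)) +
        ∑ e ∈ E, co x e • ψ C (k e) := by
    have hco : ∀ e, co x e = ∑ y ∈ t, c y * algebraMap R C (co y e) := fun e => by
      rw [← hcx, co_sum]
      simp [co_smul, co_ψ]
    simp only [map_sub, map_smul, map_sum, smul_sub, Finset.smul_sum, Finset.sum_sub_distrib, hco,
      Finset.sum_smul]
    rw [Finset.sum_comm (s := E) (t := t)]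
    simp only [← algebraMap_smul C (co _ _), smul_smul, sub_add_cancel]
    rw [← hcx, Finset.smul_sum]
    exact Finset.sum_congr rfl fun y _ => by
      rw [smul_smul, ← algebraMap_smul C (f ^ N), map_pow, smul_smul, mul_comm]
  rw [hsplit]
  exact sat_add K T J (sat_sum K T J _ _ fun y hy' => sat_csmul K T J _ (hy y hy'))
    (sat_of_mem K T J (Submodule.sum_mem _ fun e _ =>
      Submodule.smul_mem_smul ((mem_smul_top_iff J x).mp hxJ e) (ψ_mem K (hk e))))

/-- Flatness of `T⁻¹ M` from a stratification. -/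
theorem locFlat_of_strata [IsNoetherianRing C] (T : Submonoid (MvPolynomial (Fin d) C))
    (S : Finset (Ideal R × R)) (hS : ∀ s ∈ S, IsStratum K s.1 s.2)
    (hcov : ∀ p : Ideal C, p.IsPrime → ∃ s ∈ S, s.1.map (algebraMap R C) ≤ p ∧ algebraMap R C s.2 ∉ p)
    (hz : ∀ s ∈ S, ∀ z ∈ K, z ∈ s.1 • (⊤ : Submodule R (F d n R)) →
      ψ C z ∈ Sat K T (s.1.map (algebraMap R C))) : LocFlat K T := by
  classical
  intro J
  induction J using IsNoetherian.induction with
  | hgt J ih =>
    replace ih : ∀ J' : Ideal C, J < J' → ∀ x ∈ KC C K,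
        x ∈ J' • (⊤ : Submodule C (F d n C)) → x ∈ Sat K T J' := ih
    intro x hx hxJ
    by_cases htop : J = ⊤
    · exact sat_of_mem K T J (by rwa [htop, Submodule.top_smul])
    by_cases hp : Ideal.IsPrime J
    · obtain ⟨s, hs, hsJ, hfJ⟩ := hcov J hp
      set g := algebraMap R C s.2
      have hlt : J < J ⊔ Ideal.span {g} :=
        left_lt_sup.mpr fun h => hfJ (h (Ideal.mem_span_singleton_self g))
      have hmul : ∀ k : F d n C, g • k ∈ J • (⊤ : Submodule C (F d n C)) →
          k ∈ J • (⊤ : Submodule C (F d n C)) := fun k hk => by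
        rw [mem_smul_top_iff] at hk ⊢
        intro e
        exact (hp.mem_or_mem (by rw [← co_smul]; exact hk e)).resolve_left hfJ
      have hstep : ∀ y ∈ KC C K, y ∈ J • (⊤ : Submodule C (F d n C)) → ∃ t ∈ T,
          ∃ a ∈ J • KC C K, ∃ k ∈ KC C K, k ∈ J • (⊤ : Submodule C (F d n C)) ∧ t • y = a + g • k := by
        intro y hy hyJ
        obtain ⟨t, ht, h1⟩ := ih _ hlt y hy (Submodule.smul_mono_left le_sup_left hyJ)
        rw [Submodule.sup_smul, Submodule.ideal_span_singleton_smul, Submodule.mem_sup] at h1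
        obtain ⟨a, ha, b, hb, hab⟩ := h1
        obtain ⟨k, hk, rfl⟩ := (Submodule.mem_smul_pointwise_iff_exists _ _ _).mp hb
        refine ⟨t, ht, a, ha, k, hk, hmul k ?_, hab.symm⟩
        refine (Submodule.add_mem_iff_right _ (Submodule.smul_mono le_rfl le_top ha)).mp ?_
        rw [hab]
        exact poly_smul_mem_top J t hyJ
      -- the submodule over the polynomial ring
      let W : Submodule (MvPolynomial (Fin d) C) (F d n C) :=
        KP K ⊓ Ideal.map (algebraMap C (MvPolynomial (Fin d) C)) J • ⊤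
      have hW : ∀ y, y ∈ W ↔ y ∈ KC C K ∧ y ∈ J • (⊤ : Submodule C (F d n C)) := fun y => by
        refine and_congr Iff.rfl ?_
        have e : (J • ⊤ : Submodule C (F d n C)) =
            (Ideal.map (algebraMap C (MvPolynomial (Fin d) C)) J • ⊤ :
              Submodule (MvPolynomial (Fin d) C) (F d n C)).restrictScalars C := by
          rw [Ideal.smul_restrictScalars, Submodule.restrictScalars_top]
        rw [e]; rfl
      obtain ⟨G, hG⟩ := (IsNoetherian.noetherian W : W.FG)
      have hloc : ∀ y ∈ W, ∃ N : ℕ, g ^ N • y ∈ Sat K T J := fun y hy =>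
        pow_smul_sat_of_stratum K T (hS s hs) J
          (fun z hz1 hz2 => sat_mono K T _ hsJ (hz s hs z hz1 hz2))
          ((hW y).mp hy).1 ((hW y).mp hy).2
      choose! N hN using hloc
      have hall : ∀ y ∈ W, g ^ (G.sup N) • y ∈ Sat K T J := by
        intro y hy
        rw [← hG] at hy
        refine Submodule.span_induction (p := fun y _ => g ^ (G.sup N) • y ∈ Sat K T J)
          ?_ (by rw [smul_zero]; exact sat_of_mem K T J (zero_mem _))
          (fun a b _ _ ha hb => by rw [smul_add]; exact sat_add K T J ha hb)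
          (fun p a _ ha => by rw [smul_comm]; exact sat_smul K T J p ha) hy
        intro y hy'
        obtain ⟨m, hm⟩ := Nat.exists_eq_add_of_le (Finset.le_sup (f := N) hy')
        rw [hm, add_comm, pow_add, mul_smul]
        exact sat_csmul K T J _ (hN y (hG ▸ Submodule.subset_span hy'))
      have hiter : ∀ m : ℕ, ∃ t ∈ T,
          ∃ a ∈ J • KC C K, ∃ k ∈ KC C K, k ∈ J • (⊤ : Submodule C (F d n C)) ∧ t • x = a + g ^ m • k := by
        intro m
        induction m with
        | zero => exact ⟨1, T.one_mem, 0, zero_mem _, x, hx, hxJ, by simp⟩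
        | succ m ihm =>
          obtain ⟨t, ht, a, ha, k, hk, hkJ, htx⟩ := ihm
          obtain ⟨t', ht', b, hb, k', hk', hk'J, htk⟩ := hstep k hk hkJ
          refine ⟨t' * t, T.mul_mem ht' ht, t' • a + g ^ m • b,
            add_mem (poly_smul_mem_smul K J t' ha) (Submodule.smul_mem _ _ hb), k', hk', hk'J, ?_⟩
          rw [mul_smul, htx, smul_add, smul_comm t' (g ^ m) k, htk, smul_add, smul_smul, ← pow_succ, add_assoc]
      obtain ⟨t, ht, a, ha, k, hk, hkJ, htx⟩ := hiter (G.sup N)
      obtain ⟨t', ht', htk⟩ := hall k ((hW k).mpr ⟨hk, hkJ⟩)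
      refine ⟨t' * t, T.mul_mem ht' ht, ?_⟩
      rw [mul_smul, htx, smul_add]
      exact add_mem (poly_smul_mem_smul K J t' ha) htk
    · rw [Ideal.isPrime_iff] at hp
      push Not at hp
      obtain ⟨a, b, hab, ha, hb⟩ := hp htop
      let J₂ : Ideal C := Submodule.comap (LinearMap.mulLeft C a) J
      have hJ₂ : J < J₂ := lt_of_le_of_ne (fun y hy => Ideal.mul_mem_left J a hy)
        fun h => hb (h ▸ hab : b ∈ J)
      obtain ⟨t, ht, h1⟩ := ih (J ⊔ Ideal.span {a})
        (left_lt_sup.mpr fun h => ha (h (Ideal.mem_span_singleton_self a))) x hx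
        (Submodule.smul_mono_left le_sup_left hxJ)
      rw [Submodule.sup_smul, Submodule.ideal_span_singleton_smul, Submodule.mem_sup] at h1
      obtain ⟨y, hy, z, hz', hyz⟩ := h1
      obtain ⟨k, hk, rfl⟩ := (Submodule.mem_smul_pointwise_iff_exists _ _ _).mp hz'
      have hak : a • k ∈ J • (⊤ : Submodule C (F d n C)) :=
        (Submodule.add_mem_iff_right _ (Submodule.smul_mono le_rfl le_top hy)).mp
          (hyz ▸ poly_smul_mem_top J t hxJ)
      have hk2 : k ∈ J₂ • (⊤ : Submodule C (F d n C)) := by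
        rw [mem_smul_top_iff] at hak ⊢
        intro e
        show a * co k e ∈ J
        rw [← co_smul]; exact hak e
      obtain ⟨t', ht', hk'⟩ := ih J₂ hJ₂ k hk hk2
      refine ⟨t' * t, T.mul_mem ht' ht, ?_⟩
      rw [mul_smul, ← hyz, smul_add]
      refine add_mem (poly_smul_mem_smul K J t' hy) ?_
      rw [smul_comm]
      refine Submodule.smul_induction_on hk' (fun c hc m hm => ?_) (fun u v hu hv => ?_)
      · rw [smul_smul]; exact Submodule.smul_mem_smul hc hm
      · rw [smul_add]; exact add_mem hu hv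

section Stage

variable {A : Type u} [CommRing A] [Algebra R A]

theorem exists_preimage_smul_KC (P : Ideal R) {v : F d n A} (hv : v ∈ P.map (algebraMap R A) • KC A K) :
    ∃ U : Finset A, ∀ (B : Subalgebra R A), (U : Set A) ⊆ B →
      ∃ y ∈ P.map (algebraMap R B) • KC B K, ψ A (y : F d n B) = v := by
  classical
  have hbase : ∀ r ∈ P, ∀ k ∈ K, ∀ a : A, ∃ U : Finset A, ∀ (B : Subalgebra R A), (U : Set A) ⊆ B →
      ∃ y ∈ P.map (algebraMap R B) • KC B K, ψ A (y : F d n B) = (algebraMap R A r * a) • ψ A k := by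
    intro r hr k hk a
    refine ⟨{a}, fun B hB => ⟨(algebraMap R B r * ⟨a, hB (Finset.mem_singleton_self a)⟩) • ψ B k,
      Submodule.smul_mem_smul (Ideal.mul_mem_right _ _ (Ideal.mem_map_of_mem _ hr)) (ψ_mem K hk), ?_⟩⟩
    rw [map_smul, ψ_ψ, ← algebraMap_smul A]
    rfl
  have hadd : ∀ v w : F d n A,
      (∃ U : Finset A, ∀ (B : Subalgebra R A), (U : Set A) ⊆ B →
        ∃ y ∈ P.map (algebraMap R B) • KC B K, ψ A (y : F d n B) = v) →
      (∃ U : Finset A, ∀ (B : Subalgebra R A), (U : Set A) ⊆ B →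
        ∃ y ∈ P.map (algebraMap R B) • KC B K, ψ A (y : F d n B) = w) →
      ∃ U : Finset A, ∀ (B : Subalgebra R A), (U : Set A) ⊆ B →
        ∃ y ∈ P.map (algebraMap R B) • KC B K, ψ A (y : F d n B) = v + w := by
    rintro v w ⟨U, hU⟩ ⟨V, hV⟩
    refine ⟨U ∪ V, fun B hB => ?_⟩
    rw [Finset.coe_union, Set.union_subset_iff] at hB
    obtain ⟨y, hy, rfl⟩ := hU B hB.1
    obtain ⟨z, hz, rfl⟩ := hV B hB.2
    exact ⟨y + z, add_mem hy hz, map_add _ _ _⟩
  have hzero : ∃ U : Finset A, ∀ (B : Subalgebra R A), (U : Set A) ⊆ B →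
      ∃ y ∈ P.map (algebraMap R B) • KC B K, ψ A (y : F d n B) = 0 :=
    ⟨∅, fun B _ => ⟨0, zero_mem _, map_zero _⟩⟩
  refine Submodule.smul_induction_on hv (fun c hc m hm => ?_) hadd
  revert c
  refine Submodule.span_induction (p := fun m _ => ∀ c ∈ P.map (algebraMap R A), ∃ U : Finset A,
      ∀ (B : Subalgebra R A), (U : Set A) ⊆ B → ∃ y ∈ P.map (algebraMap R B) • KC B K, ψ A (y : F d n B) = c • m)
    ?_ (fun c _ => by rw [smul_zero]; exact hzero)
    (fun a b _ _ ha hb c hc => by rw [smul_add]; exact hadd _ _ (ha c hc) (hb c hc))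
    (fun a m _ hm c hc => by rw [smul_smul]; exact hm _ (Ideal.mul_mem_right _ _ hc)) hm
  rintro _ ⟨k, hk, rfl⟩ c hc
  suffices H : ∀ a : A, ∃ U : Finset A, ∀ (B : Subalgebra R A), (U : Set A) ⊆ B →
      ∃ y ∈ P.map (algebraMap R B) • KC B K, ψ A (y : F d n B) = (a * c) • ψ A k by simpa using H 1
  refine Submodule.span_induction (p := fun c _ => ∀ a : A, ∃ U : Finset A, ∀ (B : Subalgebra R A),
      (U : Set A) ⊆ B → ∃ y ∈ P.map (algebraMap R B) • KC B K, ψ A (y : F d n B) = (a * c) • ψ A k)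
    ?_ (fun a => by rw [mul_zero, zero_smul]; exact hzero)
    (fun x y _ _ hx hy a => by rw [mul_add, add_smul]; exact hadd _ _ (hx a) (hy a))
    (fun b x _ hx a => by rw [smul_eq_mul, ← mul_assoc]; exact hx _) hc
  rintro _ ⟨r, hr, rfl⟩ a
  rw [mul_comm]
  exact hbase r hr k hk a

/-- Flatness of a localization is witnessed by one element and finitely many scalars. -/
theorem exists_stage [IsNoetherianRing R] (T : Submonoid (MvPolynomial (Fin d) A)) (h : LocFlat K T) :
    ∃ B : Subalgebra R A, B.FG ∧ ∃ g : MvPolynomial (Fin d) B,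
      MvPolynomial.map (algebraMap B A) g ∈ T ∧ LocFlat K (C := B) (Submonoid.powers g) := by
  classical
  obtain ⟨S, hS, hcov⟩ := exists_strata K
  let W : Ideal R → Submodule (MvPolynomial (Fin d) R) (F d n R) := fun P =>
    K ⊓ Ideal.map (algebraMap R (MvPolynomial (Fin d) R)) P • ⊤
  have hW : ∀ P y, y ∈ W P ↔ y ∈ K ∧ y ∈ P • (⊤ : Submodule R (F d n R)) := fun P y => by
    refine and_congr Iff.rfl ?_
    have e : (P • ⊤ : Submodule R (F d n R)) =
        (Ideal.map (algebraMap R (MvPolynomial (Fin d) R)) P • ⊤ :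
          Submodule (MvPolynomial (Fin d) R) (F d n R)).restrictScalars R := by
      rw [Ideal.smul_restrictScalars, Submodule.restrictScalars_top]
    rw [e]; rfl
  choose G hG using fun P => (IsNoetherian.noetherian (W P) : (W P).FG)
  have hwit : ∀ (P : Ideal R) (z : F d n R), ∃ t ∈ T, z ∈ W P →
      t • ψ A z ∈ P.map (algebraMap R A) • KC A K := by
    intro P z
    by_cases hz : z ∈ W P
    swap
    · exact ⟨1, T.one_mem, fun h => absurd h hz⟩
    obtain ⟨t, ht, htz⟩ := h (P.map (algebraMap R A)) _ (ψ_mem K ((hW P z).mp hz).1)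
      ((mem_smul_top_iff _ _).mpr fun e => by
        rw [co_ψ]; exact Ideal.mem_map_of_mem _ ((mem_smul_top_iff _ _).mp ((hW P z).mp hz).2 e))
    exact ⟨t, ht, fun _ => htz⟩
  choose t ht htz using hwit
  let g₀ : MvPolynomial (Fin d) A := ∏ s ∈ S, ∏ z ∈ G s.1, t s.1 z
  have hg₀ : g₀ ∈ T := T.prod_mem fun s _ => T.prod_mem fun z _ => ht s.1 z
  have hU : ∀ (P : Ideal R) (z : F d n R), ∃ U : Finset A, g₀ • ψ A z ∈ P.map (algebraMap R A) • KC A K →
      ∀ (B : Subalgebra R A), (U : Set A) ⊆ B →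
        ∃ y ∈ P.map (algebraMap R B) • KC B K, ψ A (y : F d n B) = g₀ • ψ A z := by
    intro P z
    by_cases hm : g₀ • ψ A z ∈ P.map (algebraMap R A) • KC A K
    · obtain ⟨U, hU⟩ := exists_preimage_smul_KC K P hm
      exact ⟨U, fun _ => hU⟩
    · exact ⟨∅, fun h => absurd h hm⟩
  choose U hU using hU
  let V : Finset A := g₀.support.image (fun m => g₀.coeff m) ∪ S.biUnion fun s => (G s.1).biUnion (U s.1)
  let B := Algebra.adjoin R (V : Set A)
  have : Algebra.FiniteType R B := B.fg_iff_finiteType.mp ⟨V, rfl⟩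
  have : IsNoetherianRing B := Algebra.FiniteType.isNoetherianRing R B
  obtain ⟨g, hg⟩ : g₀ ∈ Set.range (MvPolynomial.map (algebraMap B A)) := by
    rw [MvPolynomial.mem_range_map_iff_coeffs_subset]
    intro c hc
    obtain ⟨m, hm, rfl⟩ := MvPolynomial.mem_coeffs_iff.mp hc
    exact ⟨⟨_, Algebra.subset_adjoin (Finset.mem_union_left _ (Finset.mem_image_of_mem _ hm))⟩, rfl⟩
  refine ⟨B, ⟨V, rfl⟩, g, hg ▸ hg₀, locFlat_of_strata K (C := B) (Submonoid.powers g) S hS ?_ ?_⟩
  · intro p hp
    obtain ⟨s, hs, h1, h2⟩ := hcov (p.comap (algebraMap R B)) (Ideal.comap_isPrime _ p)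
    exact ⟨s, hs, Ideal.map_le_iff_le_comap.mpr h1, h2⟩
  · intro s hs z hz1 hz2
    have hz : z ∈ W s.1 := (hW _ _).mpr ⟨hz1, hz2⟩
    rw [← hG] at hz
    refine Submodule.span_induction
      (p := fun z _ => ψ B z ∈ Sat K (Submonoid.powers g) (s.1.map (algebraMap R B))) ?_
      (by rw [map_zero]; exact sat_of_mem K _ _ (zero_mem _))
      (fun a b _ _ ha hb => by rw [map_add]; exact sat_add K _ _ ha hb)
      (fun p a _ ha => by rw [ψ_poly_smul]; exact sat_smul K _ _ _ ha) hz
    intro z hz'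
    have hm : g₀ • ψ A z ∈ s.1.map (algebraMap R A) • KC A K := by
      have h1 := htz s.1 z (hG s.1 ▸ Submodule.subset_span hz')
      obtain ⟨c, hc⟩ : t s.1 z ∣ g₀ :=
        (Finset.dvd_prod_of_mem (fun z => t s.1 z) hz').trans
          (Finset.dvd_prod_of_mem (fun s : Ideal R × R => ∏ z ∈ G s.1, t s.1 z) hs)
      rw [hc, mul_comm, mul_smul]
      exact poly_smul_mem_smul K _ c h1
    obtain ⟨y, hy, hye⟩ := hU s.1 z hm B fun a ha => Algebra.subset_adjoin (Finset.mem_union_right _
      (Finset.mem_biUnion.mpr ⟨s, hs, Finset.mem_biUnion.mpr ⟨z, hz', ha⟩⟩))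
    refine ⟨g, Submonoid.mem_powers g, ?_⟩
    suffices g • ψ B z = y by rw [this]; exact hy
    funext i
    refine MvPolynomial.map_injective (algebraMap B A) Subtype.val_injective ?_
    have := congrFun hye i
    rw [ψ_apply] at this
    rw [this, ← hg]
    simp [ψ_apply, MvPolynomial.map_map, ← IsScalarTower.algebraMap_eq]

end Stage

section BaseChange

variable {B A : Type u} [CommRing B] [CommRing A] [Algebra R B] [Algebra R A] [Algebra B A]
  [IsScalarTower R B A]

/-- Localised flatness is stable under base change. -/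
theorem locFlat_baseChange (T : Submonoid (MvPolynomial (Fin d) B)) (T' : Submonoid (MvPolynomial (Fin d) A))
    (hT : ∀ t ∈ T, MvPolynomial.map (algebraMap B A) t ∈ T') (h : LocFlat K T) : LocFlat K T' := by
  classical
  have := flat_of_locFlat K T h
  let _ : Algebra (MvPolynomial (Fin d) B) (MvPolynomial (Fin d) A) :=
    (MvPolynomial.map (algebraMap B A)).toAlgebra
  let _ : Module (MvPolynomial (Fin d) B) (MP K A) := Module.compHom _ (MvPolynomial.map (algebraMap B A))
  have : IsScalarTower (MvPolynomial (Fin d) B) (MvPolynomial (Fin d) A) (MP K A) :=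
    IsScalarTower.of_algebraMap_smul fun _ _ => rfl
  have : IsScalarTower B (MvPolynomial (Fin d) B) (MP K A) := IsScalarTower.of_algebraMap_smul fun b x => by
    show MvPolynomial.map (algebraMap B A) (algebraMap B (MvPolynomial (Fin d) B) b) • x = b • x
    rw [MvPolynomial.algebraMap_eq, MvPolynomial.map_C, ← MvPolynomial.algebraMap_eq, algebraMap_smul,
      algebraMap_smul]
  let θ₀ : F d n B →ₛₗ[MvPolynomial.map (algebraMap B A)] MP K A :=
    { toFun := fun y => (KP (C := A) K).mkQ (ψ A y)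
      map_add' := fun a b => by rw [map_add, map_add]
      map_smul' := fun p a => by rw [ψ_poly_smul, map_smul] }
  have hker : ∀ y ∈ KP (C := B) K, θ₀ y = 0 := fun y hy => by
    refine (Submodule.Quotient.mk_eq_zero _).mpr ?_
    rw [mem_KP, ← KC_KP K B A]
    exact ψ_mem _ hy
  let θ : MP K B →ₗ[MvPolynomial (Fin d) B] MP K A :=
    { toFun := (KP (C := B) K).liftQ θ₀ hker
      map_add' := map_add _
      map_smul' := fun p a => by rw [map_smulₛₗ]; rfl }
  have hθ : ∀ y, θ ((KP (C := B) K).mkQ y) = (KP (C := A) K).mkQ (ψ A y) := fun _ => rfl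
  have hb : IsBaseChange A (θ.restrictScalars B) := by
    let q : F d n B →ₗ[B] A ⊗[B] MP K B :=
      (TensorProduct.mk B A _ 1) ∘ₗ ((KP (C := B) K).mkQ.restrictScalars B)
    let bwd₀ : F d n A →ₗ[A] A ⊗[B] MP K B := ∑ i : Fin n,
      ((MvPolynomial.basisMonomials (Fin d) A).constr A fun m => q (L07.FlatDescent.em (i, m))) ∘ₗ LinearMap.proj i
    have hem : ∀ e, bwd₀ (L07.FlatDescent.em e) = q (L07.FlatDescent.em e) := by
      intro e
      simp only [bwd₀, LinearMap.sum_apply, LinearMap.comp_apply, LinearMap.proj_apply]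
      rw [Finset.sum_eq_single e.1 (fun b _ hb => by simp [L07.FlatDescent.em, Pi.single_eq_of_ne hb]) (by simp)]
      have : L07.FlatDescent.em (C := A) e e.1 = MvPolynomial.basisMonomials (Fin d) A e.2 := by
        simp [L07.FlatDescent.em, Pi.single_eq_same, MvPolynomial.coe_basisMonomials]
      rw [this, Module.Basis.constr_basis]
    have hψ : ∀ y : F d n B, bwd₀ (ψ A y) = q y := by
      intro y
      conv_lhs => rw [← sum_em (Finset.Subset.refl (supp y))]
      conv_rhs => rw [← sum_em (Finset.Subset.refl (supp y))]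
      rw [map_sum, map_sum, map_sum]
      refine Finset.sum_congr rfl fun e _ => ?_
      rw [map_smul, LinearMap.map_smul_of_tower, ψ_em, hem, map_smul]
    have hle : (KP (C := A) K).restrictScalars A ≤ LinearMap.ker bwd₀ := by
      intro x hx
      rw [Submodule.restrictScalars_mem, mem_KP, ← KC_KP K B A] at hx
      refine Submodule.span_le.mpr ?_ hx
      rintro _ ⟨k, hk, rfl⟩
      rw [SetLike.mem_coe, LinearMap.mem_ker, hψ]
      show (1 : A) ⊗ₜ[B] ((KP (C := B) K).mkQ k) = 0
      rw [Submodule.mkQ_apply, (Submodule.Quotient.mk_eq_zero _).mpr hk, TensorProduct.tmul_zero]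
    let fwd : A ⊗[B] MP K B →ₗ[A] MP K A := (θ.restrictScalars B).liftBaseChange A
    let bwd : MP K A →ₗ[A] A ⊗[B] MP K B :=
      ((KP (C := A) K).restrictScalars A).liftQ bwd₀ hle ∘ₗ
        (Submodule.Quotient.restrictScalarsEquiv A (KP (C := A) K)).symm.toLinearMap
    have hbwd : ∀ x, bwd ((KP (C := A) K).mkQ x) = bwd₀ x := fun _ => rfl
    refine IsBaseChange.of_equiv (LinearEquiv.ofLinearMap fwd bwd ?_ ?_) fun x => by
      show fwd ((1 : A) ⊗ₜ[B] x) = θ x
      simp [fwd]
    · refine LinearMap.ext fun x => ?_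
      obtain ⟨x, rfl⟩ := Submodule.mkQ_surjective _ x
      rw [LinearMap.comp_apply, hbwd, LinearMap.id_apply, ← sum_em (Finset.Subset.refl (supp x))]
      have hlin : ∀ (a : A) (y : F d n A), (KP (C := A) K).mkQ (a • y) = a • (KP (C := A) K).mkQ y :=
        fun a y => LinearMap.map_smul_of_tower _ a y
      simp only [map_sum, map_smul, hlin]
      refine Finset.sum_congr rfl fun e _ => congrArg (co x e • ·) ?_
      rw [hem]
      show fwd ((1 : A) ⊗ₜ[B] ((KP (C := B) K).mkQ (L07.FlatDescent.em e))) = _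
      simp only [fwd, LinearMap.liftBaseChange_tmul, one_smul, LinearMap.restrictScalars_apply, hθ, ψ_em]
    · refine TensorProduct.AlgebraTensorModule.ext fun c x => ?_
      obtain ⟨y, rfl⟩ := Submodule.mkQ_surjective _ x
      rw [LinearMap.comp_apply, LinearMap.id_apply]
      simp only [fwd, LinearMap.liftBaseChange_tmul, LinearMap.restrictScalars_apply, hθ, map_smul, hbwd, hψ]
      simp [q, TensorProduct.smul_tmul']
  have := Groth.L20.flat_localizedModule_of_isBaseChange θ hb T T' hT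
  exact locFlat_of_flat K T'

end BaseChange

end Groth.L20.FlatLocus
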