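import Mathlib.RingTheory.Flat.EquationalCriterion
import Mathlib.RingTheory.Finiteness.ModuleFinitePresentation
import Mathlib.RingTheory.Localization.Free
import Mathlib.RingTheory.LocalRing.Module
import Mathlib.RingTheory.LocalRing.ResidueField.Fiber
import Mathlib.RingTheory.QuasiFinite.Basic
import Mathlib.RingTheory.Ideal.MinimalPrime.Basic
import Mathlib.RingTheory.Flat.Stability
import Mathlib.RingTheory.Spectrum.Prime.FreeLocus

/-!
# A section of a flat quasi-finite algebra lies in the image of a torsion free module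

For a section `g` let `p` be a minimal prime over its annihilator. After localizing at some
`a ∉ p` there is a finitely generated `J` killing `g` such that the algebra modulo `J` is finite
free, with a basis `vᵢ`; then `Ann(J)^r → B`, `y ↦ ∑ yᵢ vᵢ` is injective with image `Ann_B(J)`.
-/

universe u

open TensorProduct Polynomial

namespace Groth.L20.FlatSection

variable {A B : Type u} [CommRing A] [CommRing B] [Algebra A B]

/-- Membership in the extension of an ideal uses a finitely generated ideal only. -/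
theorem exists_fg_of_mem_map {I : Ideal A} {y : B} (hy : y ∈ I.map (algebraMap A B)) :
    ∃ J ≤ I, J.FG ∧ y ∈ J.map (algebraMap A B) := by
  induction hy using Submodule.span_induction with
  | mem z hz =>
    obtain ⟨a, ha, rfl⟩ := hz
    exact ⟨Ideal.span {a}, (Ideal.span_singleton_le_iff_mem _).mpr ha, Submodule.fg_span_singleton a,
      Ideal.mem_map_of_mem _ (Ideal.mem_span_singleton_self a)⟩
  | zero => exact ⟨⊥, bot_le, Submodule.fg_bot, zero_mem _⟩
  | add z w _ _ hz hw =>
    obtain ⟨J, hJ, hJf, hz⟩ := hz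
    obtain ⟨J', hJ', hJf', hw⟩ := hw
    exact ⟨J ⊔ J', sup_le hJ hJ', Submodule.FG.sup hJf hJf',
      add_mem (Ideal.map_mono le_sup_left hz) (Ideal.map_mono le_sup_right hw)⟩
  | smul b z _ hz =>
    obtain ⟨J, hJ, hJf, hz⟩ := hz
    exact ⟨J, hJ, hJf, Ideal.mul_mem_left _ b hz⟩

/-- Over a minimal prime of `I`, a power of a multiple of an element of `pB` is in `IB`. -/
theorem exists_pow_mul_mem_map {I p : Ideal A} (hp : p ∈ I.minimalPrimes) {y : B}
    (hy : y ∈ p.map (algebraMap A B)) :
    ∃ s ∉ p, ∃ n : ℕ, (algebraMap A B s * y) ^ n ∈ I.map (algebraMap A B) := by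
  have hpp : p.IsPrime := hp.1.1
  induction hy using Submodule.span_induction with
  | mem z hz =>
    obtain ⟨π, hπ, rfl⟩ := hz
    -- elements of a minimal prime over `I` are nilpotent modulo `I` away from `p`
    by_contra hc
    push Not at hc
    let T : Submonoid A := p.primeCompl ⊔ Submonoid.powers π
    have hT : Disjoint (I : Set A) (T : Set A) := by
      rw [Set.disjoint_left]
      intro x hxI hxT
      obtain ⟨s, hs, w, ⟨n, rfl⟩, rfl⟩ := Submonoid.mem_sup.mp hxT
      refine hc s hs (n + 1) ?_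
      have : (s * π) ^ (n + 1) ∈ I := by
        rw [mul_pow, pow_succ, pow_succ]
        have : s ^ n * s * (π ^ n * π) = (s ^ n * π) * (s * π ^ n) := by ring
        rw [this]
        exact I.mul_mem_left _ hxI
      rw [← map_mul, ← map_pow]
      exact Ideal.mem_map_of_mem _ this
    obtain ⟨q, hq, hIq, hqT⟩ := Ideal.exists_le_prime_disjoint I T hT
    have hqp : q ≤ p := fun x hx => by_contra fun hxp =>
      Set.disjoint_left.mp hqT hx (Submonoid.mem_sup_left hxp)
    have hpq : p ≤ q := hp.2 ⟨hq, hIq⟩ hqp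
    exact Set.disjoint_left.mp hqT (hpq hπ) (Submonoid.mem_sup_right (Submonoid.mem_powers π))
  | zero => exact ⟨1, (Ideal.ne_top_iff_one p).mp hpp.ne_top, 1, by simp⟩
  | add z w _ _ hz hw =>
    obtain ⟨s, hs, n, hz⟩ := hz
    obtain ⟨t, ht, m, hw⟩ := hw
    refine ⟨s * t, hpp.mul_notMem hs ht, n + m, ?_⟩
    rw [mul_add]
    refine Ideal.add_pow_mem_of_pow_mem_of_le _ (m := n) (n := m) ?_ ?_ (Nat.le_succ _)
    · rw [map_mul, show algebraMap A B s * algebraMap A B t * z = algebraMap A B t * (algebraMap A B s * z) by ring,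
        mul_pow]
      exact Ideal.mul_mem_left _ _ hz
    · rw [map_mul, mul_assoc, mul_pow]
      exact Ideal.mul_mem_left _ _ hw
  | smul b z _ hz =>
    obtain ⟨s, hs, n, hz⟩ := hz
    refine ⟨s, hs, n, ?_⟩
    rw [smul_eq_mul, mul_left_comm, mul_pow]
    exact Ideal.mul_mem_left _ _ hz

/-- Over a minimal prime of `I` a quasi-finite algebra is integral modulo `IB`. -/
theorem exists_poly [Algebra.FiniteType A B] [Algebra.QuasiFinite A B] {I p : Ideal A}
    (hp : p ∈ I.minimalPrimes) (x : B) :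
    ∃ Q : A[X], Q.leadingCoeff ∉ p ∧ aeval x Q ∈ I.map (algebraMap A B) := by
  classical
  have hpp : p.IsPrime := hp.1.1
  let _ := Algebra.TensorProduct.rightAlgebra (R := A) (A := p.ResidueField) (B := B)
  have hint : IsIntegral p.ResidueField ((1 : p.ResidueField) ⊗ₜ[A] x) := IsIntegral.of_finite _ _
  obtain ⟨P, hP, hPx⟩ := hint
  let d := P.natDegree
  have hfrac : ∀ z : p.ResidueField, ∃ n s : A, s ∉ p ∧
      algebraMap A p.ResidueField s * z = algebraMap A p.ResidueField n := by
    intro z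
    obtain ⟨a, b, hb, e⟩ := IsFractionRing.div_surjective (A ⧸ p) z
    obtain ⟨a, rfl⟩ := Ideal.Quotient.mk_surjective a
    obtain ⟨b, rfl⟩ := Ideal.Quotient.mk_surjective b
    have hb' : b ∉ p := fun h => nonZeroDivisors.ne_zero hb (Ideal.Quotient.eq_zero_iff_mem.mpr h)
    refine ⟨a, b, hb', ?_⟩
    rw [← e, Ideal.algebraMap_quotient_residueField_mk, Ideal.algebraMap_quotient_residueField_mk]
    exact mul_div_cancel₀ _ fun h => hb' (Ideal.algebraMap_residueField_eq_zero.mp h)
  choose n s hs hns using hfrac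
  let t : ℕ → A := fun i => s (P.coeff i)
  let S : A := ∏ i ∈ Finset.range d, t i
  have hS : S ∉ p := fun h => by
    obtain ⟨i, -, hi⟩ := hpp.prod_mem_iff.mp h
    exact hs _ hi
  let c : ℕ → A := fun i => (∏ j ∈ (Finset.range d).erase i, t j) * n (P.coeff i)
  let Q : A[X] := C S * X ^ d + ∑ i ∈ Finset.range d, C (c i) * X ^ i
  have hdeg : (∑ i ∈ Finset.range d, C (c i) * X ^ i).degree < (d : WithBot ℕ) :=
    lt_of_le_of_lt (degree_sum_le _ _) ((Finset.sup_lt_iff (WithBot.bot_lt_coe d)).mpr fun i hi =>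
      lt_of_le_of_lt (degree_C_mul_X_pow_le _ _) (WithBot.coe_lt_coe.mpr (Finset.mem_range.mp hi)))
  have hlead : ∀ {S' : A}, S' ≠ 0 → (C S' * X ^ d + ∑ i ∈ Finset.range d, C (c i) * X ^ i).leadingCoeff = S' :=
    fun {S'} hS' => by
      rw [leadingCoeff_add_of_degree_lt' (by rwa [degree_C_mul_X_pow _ hS']), leadingCoeff_C_mul_X_pow]
  have hcoef : ∀ i ∈ Finset.range d,
      algebraMap A p.ResidueField (c i) = algebraMap A p.ResidueField S * P.coeff i := by
    intro i hi
    simp only [c, S]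
    rw [← Finset.mul_prod_erase _ t hi, map_mul, map_mul, ← hns]
    ring
  have h0 : (1 : p.ResidueField) ⊗ₜ[A] aeval x Q = 0 := by
    have e : (1 : p.ResidueField) ⊗ₜ[A] aeval x Q =
        aeval ((1 : p.ResidueField) ⊗ₜ[A] x) (C (algebraMap A p.ResidueField S) * P) := by
      rw [show (1 : p.ResidueField) ⊗ₜ[A] aeval x Q =
          aeval ((1 : p.ResidueField) ⊗ₜ[A] x) Q from
        (aeval_algHom_apply (Algebra.TensorProduct.includeRight : B →ₐ[A] p.Fiber B) x Q).symm,
        ← Polynomial.aeval_map_algebraMap p.ResidueField]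
      congr 1
      simp only [Q, Polynomial.map_add, Polynomial.map_mul, Polynomial.map_C, Polynomial.map_pow,
        Polynomial.map_X, Polynomial.map_sum]
      conv_rhs => rw [hP.as_sum, mul_add, Finset.mul_sum]
      refine congrArg₂ (· + ·) rfl (Finset.sum_congr rfl fun i hi => ?_)
      rw [hcoef i hi, C_mul, mul_assoc]
    rw [e, map_mul, show aeval ((1 : p.ResidueField) ⊗ₜ[A] x) P = 0 from hPx, mul_zero]
  -- kernel of the map to the fibre
  obtain ⟨t₀, ht₀, hy⟩ : ∃ t ∉ p, algebraMap A B t * aeval x Q ∈ p.map (algebraMap A B) := by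
    have h1 := congrArg (Ideal.Fiber.algEquivAux₁ p) h0
    rw [map_zero, show (1 : p.ResidueField) ⊗ₜ[A] aeval x Q = algebraMap B (p.Fiber B) (aeval x Q) from rfl,
      AlgEquiv.commutes] at h1
    have h2 := Ideal.Quotient.eq_zero_iff_mem.mp h1
    obtain ⟨m, hm, h3⟩ := (IsLocalization.algebraMap_mem_map_algebraMap_iff
      (Algebra.algebraMapSubmonoid B p.primeCompl) _ _ _).mp h2
    obtain ⟨t, ht, rfl⟩ := hm
    exact ⟨t, ht, h3⟩
  obtain ⟨s', hs', N, hN⟩ := exists_pow_mul_mem_map hp hy
  rw [← mul_assoc, ← map_mul, ← aeval_C (x := x), ← map_mul, ← map_pow] at hN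
  refine ⟨_, ?_, hN⟩
  have hne : s' * t₀ * S ∉ p := hpp.mul_notMem (hpp.mul_notMem hs' ht₀) hS
  have hS0 : S ≠ 0 := fun h => hS (h ▸ zero_mem _)
  have : (C (s' * t₀) * Q).leadingCoeff = s' * t₀ * S := by
    rw [leadingCoeff_mul', leadingCoeff_C, hlead hS0]
    rw [leadingCoeff_C, hlead hS0]
    exact fun h => hne (h ▸ zero_mem _)
  have hpow : (s' * t₀ * S) ^ N ∉ p := fun h => hne (hpp.mem_of_pow_mem _ h)
  rwa [leadingCoeff_pow' (by rw [this]; exact fun h => hpow (h ▸ zero_mem _)), this]

theorem coeff_eq_zero {R M : Type*} [CommSemiring R] [AddCommMonoid M] [Module R M] {r : ℕ}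
    (e : Module.Basis (Fin r) R M) (c : Fin r → R) (h : ∑ i, c i • e i = 0) (i : Fin r) : c i = 0 := by
  have := e.repr_sum_self c
  rw [h, map_zero] at this
  exact (congrFun this i).symm

/-- A finitely presented flat module is free near any prime. -/
theorem exists_free_away {R M : Type u} [CommRing R] [AddCommGroup M] [Module R M] [Module.Flat R M]
    [Module.FinitePresentation R M] (p : Ideal R) [p.IsPrime] :
    ∃ c ∉ p, Module.Free (Localization (Submonoid.powers c)) (LocalizedModule.Away c M) := by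
  have hf : (⟨p, inferInstance⟩ : PrimeSpectrum R) ∈ Module.freeLocus R M := by
    rw [Module.freeLocus_eq_univ]; trivial
  have : Module.Free (Localization.AtPrime p) (LocalizedModule p.primeCompl M) := hf
  obtain ⟨c, hc, hfree, -⟩ := Module.FinitePresentation.exists_free_localizedModule_powers p.primeCompl
    (LocalizedModule.mkLinearMap p.primeCompl M) (Localization.AtPrime p)
  exact ⟨c, hc, hfree⟩

open TensorProduct in
set_option maxHeartbeats 1600000 in
/-- After a localization at an element outside `p`, a flat quasi-finite algebra is finite free modulo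
a finitely generated subideal of `I`. -/
theorem exists_free [Algebra.FinitePresentation A B] [Module.Flat A B] [Algebra.QuasiFinite A B]
    {I p : Ideal A} (hp : p ∈ I.minimalPrimes) (g : B) :
    ∃ J ≤ I, J.FG ∧ ∃ a ∉ p, ∃ (r : ℕ) (v : Fin r → B),
      (∀ m : B, ∃ (n : ℕ) (y : Fin r → A),
        algebraMap A B (a ^ n) * m - ∑ i, y i • v i ∈ J.map (algebraMap A B)) ∧
      (∀ y : Fin r → A, ∑ i, y i • v i ∈ J.map (algebraMap A B) → ∀ i, ∃ n : ℕ, a ^ n * y i ∈ J) := by
  classical
  have hpp : p.IsPrime := hp.1.1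
  obtain ⟨G, hG⟩ := Algebra.FiniteType.out (R := A) (A := B)
  choose Q hQ1 hQ2 using fun x : B => exists_poly hp x
  choose J hJI hJf hJ using fun x : B => exists_fg_of_mem_map (hQ2 x)
  let J₀ : Ideal A := G.sup J
  have hJ₀I : J₀ ≤ I := Finset.sup_le fun x _ => hJI x
  have hJ₀f : J₀.FG := Finset.sup_induction Submodule.fg_bot (fun _ h _ h' => Submodule.FG.sup h h') fun x _ => hJf x
  let a₁ : A := ∏ x ∈ G, (Q x).leadingCoeff
  have ha₁ : a₁ ∉ p := fun h => by
    obtain ⟨x, -, hx⟩ := hpp.prod_mem_iff.mp h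
    exact hQ1 x hx
  let Ab := A ⧸ J₀
  let A1 := Localization.Away (Ideal.Quotient.mk J₀ a₁ : Ab)
  let B1 := A1 ⊗[A] B
  let θ : B →ₐ[A] B1 := Algebra.TensorProduct.includeRight
  let ℓ : Ab →ₗ[A] A1 := (IsScalarTower.toAlgHom A Ab A1).toLinearMap
  have hℓ : IsLocalizedModule (Submonoid.powers a₁) ℓ := by
    refine isLocalizedModule_iff_isLocalization.mpr ?_
    rw [show Algebra.algebraMapSubmonoid Ab (Submonoid.powers a₁) =
      Submonoid.powers (Ideal.Quotient.mk J₀ a₁) from Submonoid.map_powers _ _]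
    infer_instance
  let ℓB : Ab ⊗[A] B →ₗ[A] B1 := ℓ.rTensor B
  have hℓB : IsLocalizedModule (Submonoid.powers a₁) ℓB := by
    have h := IsLocalizedModule.rTensor (R := A) (A := A) (N := B) (Submonoid.powers a₁) ℓ
    exact h
  have hℓθ : ∀ b : B, ℓB ((1 : Ab) ⊗ₜ[A] b) = θ b := fun b => by
    change ℓ 1 ⊗ₜ[A] b = (1 : A1) ⊗ₜ[A] b
    rw [show ℓ 1 = 1 from map_one (IsScalarTower.toAlgHom A Ab A1)]
  -- integrality of the generators
  have hint : ∀ x ∈ G, IsIntegral A1 (θ x) := by
    intro x hx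
    have h0 : aeval (θ x) (Q x) = 0 := by
      rw [aeval_algHom_apply]
      have h1 : aeval x (Q x) ∈ RingHom.ker θ.toRingHom :=
        (Ideal.map_le_iff_le_comap.mpr fun j hj => ?_ : (J₀.map (algebraMap A B)) ≤ RingHom.ker θ.toRingHom)
          (Ideal.map_mono (Finset.le_sup (f := J) hx) (hJ x))
      · exact h1
      · rw [Ideal.mem_comap, RingHom.mem_ker]
        change θ (algebraMap A B j) = 0
        rw [AlgHom.commutes, IsScalarTower.algebraMap_apply A Ab B1,
          show algebraMap A Ab j = 0 from Ideal.Quotient.eq_zero_iff_mem.mpr hj, map_zero]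
    have hu : IsUnit (algebraMap A A1 (Q x).leadingCoeff) := by
      refine isUnit_of_dvd_unit (map_dvd _ (Finset.dvd_prod_of_mem (fun x => (Q x).leadingCoeff) hx)) ?_
      rw [IsScalarTower.algebraMap_apply A Ab A1]
      exact IsLocalization.Away.algebraMap_isUnit (Ideal.Quotient.mk J₀ a₁)
    let P := C (hu.unit⁻¹ : A1ˣ).val * (Q x).map (algebraMap A A1)
    have hne : algebraMap A A1 (Q x).leadingCoeff * (hu.unit⁻¹ : A1ˣ).val = 1 := hu.mul_val_inv
    refine ⟨P, ?_, ?_⟩
    · refine monic_of_natDegree_le_of_coeff_eq_one (Q x).natDegree ?_ ?_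
      · exact (natDegree_C_mul_le _ _).trans natDegree_map_le
      · rw [coeff_C_mul, coeff_map, mul_comm]
        exact hne
    · change aeval (θ x) P = 0
      rw [map_mul, aeval_map_algebraMap, h0]
      exact mul_zero (_ : B1)
  have hgen : Algebra.adjoin A1 (θ '' (G : Set B)) = ⊤ := by
    rw [eq_top_iff]
    rintro z -
    induction z using TensorProduct.induction_on with
    | zero => exact zero_mem _
    | add z w hz hw => exact add_mem hz hw
    | tmul r b =>
      have hb : θ b ∈ Algebra.adjoin A1 (θ '' (G : Set B)) := by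
        have : θ b ∈ (Algebra.adjoin A (G : Set B)).map θ := ⟨b, by rw [hG]; trivial, rfl⟩
        rw [AlgHom.map_adjoin] at this
        exact Algebra.adjoin_le (S := (Algebra.adjoin A1 (θ '' (G : Set B))).restrictScalars A)
          Algebra.subset_adjoin this
      rw [show r ⊗ₜ[A] b = r • θ b by
        change _ = r • ((1 : A1) ⊗ₜ[A] b)
        rw [TensorProduct.smul_tmul', smul_eq_mul, mul_one]]
      exact Subalgebra.smul_mem _ hb _
  have hfin : Module.Finite A1 B1 :=
    ⟨by rw [← Algebra.top_toSubmodule, ← hgen]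
        exact fg_adjoin_of_finite (G.finite_toSet.image θ) (by rintro _ ⟨x, hx, rfl⟩; exact hint x hx)⟩
  have : Module.FinitePresentation A1 B1 := .of_finite_of_finitePresentation _ _
  have hJp : J₀ ≤ p := hJ₀I.trans hp.1.2
  let pb : Ideal Ab := p.map (Ideal.Quotient.mk J₀)
  have : pb.IsPrime := Ideal.map_isPrime_of_surjective Ideal.Quotient.mk_surjective (by rwa [Ideal.mk_ker])
  have hcomap : pb.comap (Ideal.Quotient.mk J₀) = p := by
    rw [Ideal.comap_map_of_surjective _ Ideal.Quotient.mk_surjective, ← RingHom.ker_eq_comap_bot,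
      Ideal.mk_ker, sup_eq_left.mpr hJp]
  have hdis : Disjoint (Submonoid.powers (Ideal.Quotient.mk J₀ a₁) : Set Ab) (pb : Set Ab) := by
    rw [Ideal.disjoint_powers_iff_notMem_of_isPrime]
    exact fun h => ha₁ (hcomap ▸ (h : a₁ ∈ pb.comap (Ideal.Quotient.mk J₀)))
  let p1 : Ideal A1 := pb.map (algebraMap Ab A1)
  have : p1.IsPrime := IsLocalization.isPrime_of_isPrime_disjoint _ A1 pb inferInstance hdis
  have hp1 : p1.comap (algebraMap Ab A1) = pb :=
    IsLocalization.under_map_of_isPrime_disjoint _ A1 ‹pb.IsPrime› hdis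
  obtain ⟨c, hc, hfree⟩ := exists_free_away (R := A1) (M := B1) p1
  let A2 := Localization (Submonoid.powers c)
  let L := LocalizedModule.Away c B1
  have : Module.Finite A2 L :=
    Module.Finite.of_isLocalizedModule (Submonoid.powers c) (LocalizedModule.mkLinearMap _ _)
  obtain ⟨r, ⟨b⟩⟩ : ∃ r, Nonempty (Module.Basis (Fin r) A2 L) :=
    ⟨_, ⟨(Module.Free.chooseBasis A2 L).reindex (Fintype.equivFin _)⟩⟩
  obtain ⟨⟨c0, ⟨_, k, rfl⟩⟩, hc0⟩ := IsLocalization.surj (Submonoid.powers (Ideal.Quotient.mk J₀ a₁)) c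
  obtain ⟨c0, rfl⟩ := Ideal.Quotient.mk_surjective c0
  have hc0' : c * algebraMap A A1 a₁ ^ k = algebraMap A A1 c0 := by
    rw [IsScalarTower.algebraMap_apply A Ab A1, IsScalarTower.algebraMap_apply A Ab A1 c0, ← map_pow]
    exact hc0
  let a := a₁ * c0
  have ha : a ∉ p := by
    refine hpp.mul_notMem ha₁ fun h => hc ?_
    have h1 : algebraMap A A1 c0 ∈ p1 := by
      rw [IsScalarTower.algebraMap_apply A Ab A1]
      exact Ideal.mem_map_of_mem _ (Ideal.mem_map_of_mem _ h)
    rw [← hc0'] at h1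
    refine (Ideal.IsPrime.mem_or_mem ‹p1.IsPrime› h1).resolve_right fun h2 => ha₁ ?_
    have h3 : algebraMap Ab A1 (Ideal.Quotient.mk J₀ a₁) ∈ p1 := by
      have := Ideal.IsPrime.mem_of_pow_mem ‹p1.IsPrime› _ h2
      rwa [IsScalarTower.algebraMap_apply A Ab A1] at this
    rw [← Ideal.mem_comap, hp1] at h3
    exact hcomap ▸ (h3 : a₁ ∈ pb.comap (Ideal.Quotient.mk J₀))
  -- the localization maps
  have hsplit : ∀ n : ℕ, a ^ n = a₁ ^ n * c0 ^ n := fun n => mul_pow _ _ _
  have hunit1 : IsUnit (algebraMap A A1 a₁) := by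
    rw [IsScalarTower.algebraMap_apply A Ab A1]
    exact IsLocalization.Away.algebraMap_isUnit (Ideal.Quotient.mk J₀ a₁)
  let ι : B1 →ₗ[A1] L := LocalizedModule.mkLinearMap _ _
  let ψ : B →ₗ[A] L := (ι.restrictScalars A).comp θ.toLinearMap
  have hunit2 : IsUnit (algebraMap A A2 a) := by
    rw [IsScalarTower.algebraMap_apply A A1 A2, map_mul, ← hc0', map_mul, map_mul]
    exact (hunit1.map _).mul ((IsLocalization.Away.algebraMap_isUnit c).mul ((hunit1.pow k).map _))
  have hsurjA : ∀ z : A2, ∃ (n : ℕ) (y : A), algebraMap A A2 (a ^ n) * z = algebraMap A A2 y := by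
    intro z
    obtain ⟨⟨z1, ⟨_, n, rfl⟩⟩, hz⟩ := IsLocalization.surj (Submonoid.powers c) z
    obtain ⟨⟨z0, ⟨_, m, rfl⟩⟩, hz1⟩ := IsLocalization.surj (Submonoid.powers (Ideal.Quotient.mk J₀ a₁)) z1
    obtain ⟨z0, rfl⟩ := Ideal.Quotient.mk_surjective z0
    have hz1' : z1 * algebraMap A A1 a₁ ^ m = algebraMap A A1 z0 := by
      rw [IsScalarTower.algebraMap_apply A Ab A1, IsScalarTower.algebraMap_apply A Ab A1 z0, ← map_pow]
      exact hz1
    refine ⟨n + m, z0 * a₁ ^ n * c0 ^ m * a₁ ^ (k * n), ?_⟩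
    simp only [hsplit, IsScalarTower.algebraMap_apply A A1 A2, map_mul, map_pow, ← hc0', ← hz1']
    rw [← hz]
    simp only [map_pow]
    ring
  have hkerA : ∀ y : A, algebraMap A A2 y = 0 → ∃ n, a ^ n * y ∈ J₀ := by
    intro y hy
    rw [IsScalarTower.algebraMap_apply A A1 A2] at hy
    obtain ⟨⟨_, n, rfl⟩, hn⟩ := (IsLocalization.map_eq_zero_iff (Submonoid.powers c) A2 _).mp hy
    have h1 : algebraMap Ab A1 (Ideal.Quotient.mk J₀ (c0 ^ n * y)) = 0 := by
      change algebraMap Ab A1 (algebraMap A Ab (c0 ^ n * y)) = 0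
      rw [← IsScalarTower.algebraMap_apply A Ab A1, map_mul, map_pow, ← hc0', mul_pow, mul_right_comm]
      rw [show c ^ n * algebraMap A A1 y = 0 from hn, zero_mul]
    obtain ⟨⟨_, m, rfl⟩, hm⟩ :=
      (IsLocalization.map_eq_zero_iff (Submonoid.powers (Ideal.Quotient.mk J₀ a₁)) A1 _).mp h1
    replace hm : Ideal.Quotient.mk J₀ a₁ ^ m * Ideal.Quotient.mk J₀ (c0 ^ n * y) = 0 := hm
    rw [← map_pow, ← map_mul, Ideal.Quotient.eq_zero_iff_mem] at hm
    refine ⟨n + m, ?_⟩
    rw [show a ^ (n + m) * y = (a₁ ^ n * c0 ^ m) * (a₁ ^ m * (c0 ^ n * y)) by rw [hsplit]; ring]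
    exact J₀.mul_mem_left _ hm
  have hsurjL : ∀ z : L, ∃ (n : ℕ) (m : B), algebraMap A A2 (a ^ n) • z = ψ m := by
    intro z
    obtain ⟨⟨z1, ⟨_, n, rfl⟩⟩, hz⟩ := IsLocalizedModule.surj (Submonoid.powers c) ι z
    obtain ⟨⟨zb, ⟨_, m, rfl⟩⟩, hz1⟩ := IsLocalizedModule.surj (Submonoid.powers a₁) ℓB z1
    obtain ⟨b0, rfl⟩ : ∃ b0 : B, (1 : Ab) ⊗ₜ[A] b0 = zb :=
      TensorProduct.mk_surjective A B Ab Ideal.Quotient.mk_surjective zb
    refine ⟨n + m, (a₁ ^ n * c0 ^ m * a₁ ^ (k * n)) • b0, ?_⟩
    have hz1' : algebraMap A A1 a₁ ^ m • z1 = θ b0 := by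
      rw [← map_pow, algebraMap_smul]
      exact (show (a₁ ^ m) • z1 = _ from hz1).trans (hℓθ b0)
    have hz' : c ^ n • z = ι z1 := hz
    rw [LinearMap.map_smul, show ψ b0 = ι (θ b0) from rfl, ← hz1', ι.map_smul, ← hz',
      ← algebraMap_smul A1 (a₁ ^ n * c0 ^ m * a₁ ^ (k * n)), IsScalarTower.algebraMap_apply A A1 A2,
      algebraMap_smul, smul_smul, smul_smul]
    congr 1
    simp only [hsplit, map_mul, map_pow, ← hc0']
    ring
  have hkerL : ∀ m : B, ψ m = 0 → ∃ n, algebraMap A B (a ^ n) * m ∈ J₀.map (algebraMap A B) := by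
    intro m hm
    obtain ⟨⟨_, n, rfl⟩, hn⟩ := (IsLocalizedModule.eq_zero_iff (Submonoid.powers c) ι).mp hm
    have h1 : ℓB ((1 : Ab) ⊗ₜ[A] (c0 ^ n • m)) = 0 := by
      rw [hℓθ]
      rw [map_smul, ← algebraMap_smul A1, map_pow, ← hc0', mul_pow, mul_comm, mul_smul]
      rw [show c ^ n • θ m = 0 from hn, smul_zero]
    obtain ⟨⟨_, l, rfl⟩, hl⟩ := (IsLocalizedModule.eq_zero_iff
      (Submonoid.powers a₁) ℓB).mp h1
    have hl' : (1 : Ab) ⊗ₜ[A] (a₁ ^ l • c0 ^ n • m) = 0 := by
      rw [TensorProduct.tmul_smul]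
      exact hl
    have h2 := congrArg (TensorProduct.quotTensorEquivQuotSMul B J₀) hl'
    rw [map_zero, quotTensorEquivQuotSMul_mk_one_tmul] at h2
    rw [Submodule.Quotient.mk_eq_zero, Ideal.smul_top_eq_map, Submodule.restrictScalars_mem] at h2
    refine ⟨n + l, ?_⟩
    rw [show algebraMap A B (a ^ (n + l)) * m =
        algebraMap A B (a₁ ^ n * c0 ^ l) * (a₁ ^ l • c0 ^ n • m) by
      rw [Algebra.smul_def, Algebra.smul_def, hsplit, map_mul, map_mul, ← mul_assoc, ← mul_assoc,
        ← map_mul, ← map_mul, ← map_mul, ← map_mul]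
      ring_nf]
    exact Ideal.mul_mem_left _ _ h2
  -- the lifted basis
  choose n v hv using fun i => hsurjL (b i)
  let e := b.isUnitSMul (w := fun i => algebraMap A A2 (a ^ n i)) fun i => by
    rw [map_pow]; exact hunit2.pow _
  have he : ∀ i, e i = ψ (v i) := fun i => (Module.Basis.isUnitSMul_apply _ i).trans (hv i)
  refine ⟨J₀, hJ₀I, hJ₀f, a, ha, r, v, fun m => ?_, fun y hy i => ?_⟩
  · choose N y hy using fun i => hsurjA (e.repr (ψ m) i)
    let M := ∑ i, N i
    let y' : Fin r → A := fun i => a ^ (M - N i) * y i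
    have hsum : ψ (algebraMap A B (a ^ M) * m - ∑ i, y' i • v i) = 0 := by
      rw [← Algebra.smul_def, map_sub, map_sum, sub_eq_zero, map_smul]
      conv_lhs => rw [← e.sum_repr (ψ m), Finset.smul_sum]
      refine Finset.sum_congr rfl fun i _ => ?_
      rw [map_smul, ← algebraMap_smul A2 (a ^ M), ← algebraMap_smul A2 (y' i), smul_smul, ← he,
        map_mul, ← hy, ← mul_assoc, ← map_mul, ← pow_add,
        Nat.sub_add_cancel (Finset.single_le_sum (fun j _ => Nat.zero_le (N j)) (Finset.mem_univ i))]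
    obtain ⟨l, hl⟩ := hkerL _ hsum
    refine ⟨l + M, fun i => a ^ l * y' i, ?_⟩
    rw [mul_sub, Finset.mul_sum, ← mul_assoc, ← map_mul, ← pow_add] at hl
    simpa [Algebra.smul_def, map_mul, mul_assoc] using hl
  · have h0 : ψ (∑ j, y j • v j) = 0 := by
      have hθ : θ (∑ j, y j • v j) = 0 := by
        refine (Ideal.map_le_iff_le_comap.mpr fun j hj => ?_ :
          (J₀.map (algebraMap A B)) ≤ RingHom.ker θ.toRingHom) hy
        rw [Ideal.mem_comap, RingHom.mem_ker]
        change θ (algebraMap A B j) = 0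
        rw [AlgHom.commutes, IsScalarTower.algebraMap_apply A Ab B1,
          show algebraMap A Ab j = 0 from Ideal.Quotient.eq_zero_iff_mem.mpr hj, map_zero]
      change ι (θ (∑ j, y j • v j)) = 0
      rw [hθ, map_zero]
    rw [map_sum, Finset.sum_congr rfl fun j _ => show ψ (y j • v j) = algebraMap A A2 (y j) • e j by
      rw [he, algebraMap_smul, map_smul]] at h0
    exact hkerA (y i) (coeff_eq_zero e (fun j => algebraMap A A2 (y j)) h0 i)

/-- The annihilator of `J`. -/
def annIdeal {A' : Type u} [CommRing A'] (J : Ideal A') : Ideal A' where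
  carrier := {y | ∀ j ∈ J, j * y = 0}
  zero_mem' _ _ := mul_zero _
  add_mem' hx hy j hj := by rw [mul_add, hx j hj, hy j hj, add_zero]
  smul_mem' c y hy j hj := by rw [smul_eq_mul, mul_left_comm, hy j hj, mul_zero]

theorem smul_eq_zero_of_mem_annIdeal {A' B' : Type u} [CommRing A'] [CommRing B'] [Algebra A' B']
    {J : Ideal A'} {y : A'} (hy : y ∈ annIdeal J) {z : B'} (hz : z ∈ J.map (algebraMap A' B')) :
    y • z = 0 := by
  induction hz using Submodule.span_induction with
  | mem w hw =>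
    obtain ⟨j, hj, rfl⟩ := hw
    rw [Algebra.smul_def, ← map_mul, mul_comm, hy j hj, map_zero]
  | zero => exact smul_zero _
  | add z w _ _ hz hw => rw [smul_add, hz, hw, add_zero]
  | smul b z _ hz => rw [smul_comm, hz, smul_zero]

theorem exists_injective_of_basis_mod {A' B' : Type u} [CommRing A'] [CommRing B'] [Algebra A' B']
    [Module.Flat A' B'] {J : Ideal A'} (hJ : J.FG) {r : ℕ} (v : Fin r → B')
    (hsp : ∀ m : B', ∃ y : Fin r → A', m - ∑ i, y i • v i ∈ J.map (algebraMap A' B'))
    (hli : ∀ y : Fin r → A', ∑ i, y i • v i ∈ J.map (algebraMap A' B') → ∀ i, y i ∈ J)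
    {g : B'} (hg : ∀ j ∈ J, j • g = 0) :
    ∃ φ : (Fin r → ↥(annIdeal J)) →ₗ[A'] B', Function.Injective φ ∧ g ∈ LinearMap.range φ := by
  classical
  let φ : (Fin r → ↥(annIdeal J)) →ₗ[A'] B' :=
    { toFun := fun y => ∑ i, (y i : A') • v i
      map_add' := fun y z => by simp [add_smul, Finset.sum_add_distrib]
      map_smul' := fun c y => by simp [Finset.smul_sum, mul_smul] }
  choose cf hcf using hsp
  have hw' : ∀ {k : ℕ} (w : (Fin k →₀ A') →ₗ[A'] B') (α : Fin k →₀ A'),
      w α = ∑ j, α j • w (Finsupp.single j 1) := fun w α => by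
    conv_lhs => rw [← Finsupp.univ_sum_single α, map_sum]
    exact Finset.sum_congr rfl fun j _ => by rw [← map_smul, Finsupp.smul_single_one]
  refine ⟨φ, ?_, ?_⟩
  · rw [← LinearMap.ker_eq_bot, eq_bot_iff]
    intro y hy
    let x : (Fin r →₀ A') →ₗ[A'] B' := Finsupp.linearCombination A' v
    let f : Fin r →₀ A' := Finsupp.equivFunOnFinite.symm fun i => (y i : A')
    have hxf : x f = 0 := by
      rw [show x f = Finsupp.linearCombination A' v f from rfl, Finsupp.linearCombination_apply,
        Finsupp.sum_fintype _ _ fun i => by simp]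
      exact hy
    obtain ⟨k, a, w, hxw, haf⟩ := Module.Flat.exists_factorization_of_apply_eq_zero_of_free hxf
    let E : Fin r → Fin r → A' := fun i l =>
      ∑ j, a (Finsupp.single i 1) j * cf (w (Finsupp.single j 1)) l
    have hE : ∀ i l, (if l = i then 1 else 0) - E i l ∈ J := by
      intro i l
      refine hli (fun l => (if l = i then 1 else 0) - E i l) ?_ l
      have hvi : v i = ∑ j, a (Finsupp.single i 1) j • w (Finsupp.single j 1) := by
        rw [← hw']
        have := LinearMap.congr_fun hxw (Finsupp.single i 1)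
        simpa [x] using this
      simp only [sub_smul, Finset.sum_sub_distrib, ite_smul, one_smul, zero_smul, Finset.sum_ite_eq',
        Finset.mem_univ, if_true, E, Finset.sum_smul]
      rw [Finset.sum_comm, hvi, ← Finset.sum_sub_distrib]
      refine sum_mem fun j _ => ?_
      simp only [mul_smul, ← Finset.smul_sum, ← smul_sub]
      rw [Algebra.smul_def]
      exact Ideal.mul_mem_left _ _ (hcf _)
    refine (Submodule.mem_bot A').mpr (funext fun l => Subtype.ext ?_)
    have h1 : (y l : A') = ∑ i, (y i : A') * (if l = i then 1 else 0) := by simp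
    have h2 : ∀ i, (y i : A') * (if l = i then 1 else 0) = (y i : A') * E i l := fun i => by
      rw [← sub_eq_zero, ← mul_sub, mul_comm]
      exact (y i).2 _ (hE i l)
    rw [h1, Finset.sum_congr rfl fun i _ => h2 i]
    simp only [E, Finset.mul_sum]
    rw [Finset.sum_comm]
    refine Finset.sum_eq_zero fun j _ => ?_
    have h3 : ∑ i, (y i : A') * a (Finsupp.single i 1) j = 0 := by
      have := DFunLike.congr_fun haf j
      rw [← Finsupp.univ_sum_single f, map_sum, Finsupp.finsetSum_apply, Finsupp.zero_apply] at this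
      rw [← this]
      refine Finset.sum_congr rfl fun i _ => ?_
      conv_rhs => rw [← Finsupp.smul_single_one, map_smul, Finsupp.smul_apply, smul_eq_mul]
      rfl
    simp only [← mul_assoc, ← Finset.sum_mul, h3, zero_mul]
  · have : Module.Finite A' J := Module.Finite.of_fg hJ
    let f : J →ₗ[A'] (Fin 1 →₀ A') := (Finsupp.lsingle 0).comp J.subtype
    let x : (Fin 1 →₀ A') →ₗ[A'] B' := Finsupp.linearCombination A' fun _ => g
    have hxf : x ∘ₗ f = 0 := LinearMap.ext fun j => by simpa [x, f] using hg j j.2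
    obtain ⟨k, a, w, hxw, haf⟩ := Module.Flat.exists_factorization_of_comp_eq_zero_of_free hxf
    let α := a (Finsupp.single 0 1)
    have hα : ∀ j, α j ∈ annIdeal J := fun j i hi => by
      have := DFunLike.congr_fun (LinearMap.congr_fun haf ⟨i, hi⟩) j
      simp only [f, LinearMap.coe_comp, Function.comp_apply, Submodule.subtype_apply,
        Finsupp.lsingle_apply, LinearMap.zero_apply, Finsupp.zero_apply] at this
      rwa [← Finsupp.smul_single_one, map_smul, Finsupp.smul_apply, smul_eq_mul] at this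
    refine ⟨fun l => ⟨∑ j, α j * cf (w (Finsupp.single j 1)) l,
      Ideal.sum_mem _ fun j _ => Ideal.mul_mem_right _ _ (hα j)⟩, ?_⟩
    have hgα : g = ∑ j, α j • w (Finsupp.single j 1) := by
      rw [← hw']
      have := LinearMap.congr_fun hxw (Finsupp.single 0 1)
      simpa [x, α] using this
    change ∑ l, (∑ j, α j * cf (w (Finsupp.single j 1)) l) • v l = g
    rw [hgα]
    simp only [Finset.sum_smul, mul_smul]
    rw [Finset.sum_comm]
    refine Finset.sum_congr rfl fun j _ => ?_
    rw [← Finset.smul_sum, eq_comm, ← sub_eq_zero, ← smul_sub]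
    exact smul_eq_zero_of_mem_annIdeal (hα j) (hcf _)

/-- The main algebraic statement. -/
theorem exists_torsionFree_map [Algebra.FinitePresentation A B] [Module.Flat A B]
    [Algebra.QuasiFinite A B] (g : B) (hg : g ≠ 0) :
    ∃ a : A, ∀ (A' B' : Type u) [CommRing A'] [CommRing B'] [Algebra A A'] [Algebra B B'] [Algebra A B']
      [Algebra A' B'] [IsScalarTower A A' B'] [IsScalarTower A B B'] [IsLocalization.Away a A']
      [IsLocalization.Away (algebraMap A B a) B'] [Module.Flat A' B'],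
      algebraMap B B' g ≠ 0 ∧ ∃ (F : Ideal A') (r : ℕ), 0 < r ∧
        ∃ φ : (Fin r → ↥F) →ₗ[A'] B', Function.Injective φ ∧ algebraMap B B' g ∈ LinearMap.range φ := by
  classical
  let I : Ideal A := LinearMap.ker (LinearMap.toSpanSingleton A B g)
  have hI : I ≠ ⊤ := fun h => hg (by
    simpa [I] using (show (1 : A) ∈ I from h ▸ Submodule.mem_top))
  obtain ⟨p, hp⟩ := Ideal.nonempty_minimalPrimes hI
  obtain ⟨J, hJI, hJf, a, ha, r, v, hsp, hli⟩ := exists_free hp g
  refine ⟨a, fun A' B' _ _ _ _ _ _ _ _ _ _ _ => ?_⟩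
  let J' := J.map (algebraMap A A')
  have hJB : J'.map (algebraMap A' B') = (J.map (algebraMap A B)).map (algebraMap B B') := by
    rw [Ideal.map_map, Ideal.map_map, ← IsScalarTower.algebraMap_eq, ← IsScalarTower.algebraMap_eq]
  have hne : algebraMap B B' g ≠ 0 := fun h => by
    obtain ⟨⟨_, n, rfl⟩, hn⟩ :=
      (IsLocalization.map_eq_zero_iff (Submonoid.powers (algebraMap A B a)) B' g).mp h
    have : a ^ n ∈ I := by
      change a ^ n • g = 0
      rw [Algebra.smul_def, map_pow]
      exact hn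
    exact ha (hp.1.1.mem_of_pow_mem n (hp.1.2 this))
  have hua : IsUnit (algebraMap A A' a) := IsLocalization.Away.algebraMap_isUnit a
  have hub : IsUnit (algebraMap B B' (algebraMap A B a)) := IsLocalization.Away.algebraMap_isUnit _
  have hsp' : ∀ m : B', ∃ y : Fin r → A',
      m - ∑ i, y i • algebraMap B B' (v i) ∈ J'.map (algebraMap A' B') := by
    intro m
    obtain ⟨⟨b, ⟨_, n, rfl⟩⟩, hm⟩ := IsLocalization.surj (Submonoid.powers (algebraMap A B a)) m
    obtain ⟨k, y, hy⟩ := hsp b
    let ε : A' := ((hua.pow (n + k)).unit⁻¹ : A'ˣ).val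
    have hε : algebraMap A A' (a ^ (n + k)) * ε = 1 := by
      rw [map_pow]; exact (hua.pow (n + k)).mul_val_inv
    refine ⟨fun i => ε * algebraMap A A' (y i), ?_⟩
    have key : m - ∑ i, (ε * algebraMap A A' (y i)) • algebraMap B B' (v i) =
        algebraMap A' B' ε * algebraMap B B' (algebraMap A B (a ^ k) * b - ∑ i, y i • v i) := by
      rw [map_sub, map_sum, mul_sub, Finset.mul_sum]
      congr 1
      · rw [map_mul, show algebraMap B B' b = m * algebraMap B B' (algebraMap A B a ^ n) from hm.symm,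
          ← map_pow, ← IsScalarTower.algebraMap_apply, ← IsScalarTower.algebraMap_apply,
          mul_left_comm _ m, ← map_mul, ← mul_assoc, IsScalarTower.algebraMap_apply A A' B',
          mul_comm (algebraMap A' B' ε) m, mul_assoc, ← map_mul, ← pow_add, add_comm k n,
          mul_comm ε, hε, map_one, mul_one]
      · refine Finset.sum_congr rfl fun i _ => ?_
        rw [Algebra.smul_def, Algebra.smul_def, map_mul, map_mul, ← IsScalarTower.algebraMap_apply A B B',
          ← IsScalarTower.algebraMap_apply A A' B', mul_assoc]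
    rw [key, hJB]
    exact Ideal.mul_mem_left _ _ (Ideal.mem_map_of_mem _ hy)
  have hli' : ∀ y : Fin r → A',
      ∑ i, y i • algebraMap B B' (v i) ∈ J'.map (algebraMap A' B') → ∀ i, y i ∈ J' := by
    intro y hy i
    obtain ⟨⟨_, n, rfl⟩, hn⟩ := IsLocalization.exist_integer_multiples_of_finite (Submonoid.powers a) y
    choose y₀ hy₀ using hn
    have hy₀' : ∀ j, algebraMap A A' (y₀ j) = algebraMap A A' (a ^ n) * y j := fun j => by
      rw [← Algebra.smul_def]; exact hy₀ j
    have hmem : algebraMap B B' (∑ j, y₀ j • v j) ∈ (J.map (algebraMap A B)).map (algebraMap B B') := by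
      rw [map_sum, ← hJB]
      have : ∑ j, algebraMap B B' (y₀ j • v j) =
          algebraMap A' B' (algebraMap A A' (a ^ n)) * ∑ j, y j • algebraMap B B' (v j) := by
        rw [Finset.mul_sum]
        refine Finset.sum_congr rfl fun j _ => ?_
        rw [Algebra.smul_def, Algebra.smul_def, map_mul, ← IsScalarTower.algebraMap_apply A B B',
          IsScalarTower.algebraMap_apply A A' B', hy₀', map_mul, mul_assoc]
      rw [this]
      exact Ideal.mul_mem_left _ _ hy
    obtain ⟨_, ⟨l, rfl⟩, hl⟩ :=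
      (IsLocalization.algebraMap_mem_map_algebraMap_iff (Submonoid.powers (algebraMap A B a)) B' _ _).mp hmem
    obtain ⟨k, hk⟩ := hli (fun j => a ^ l * y₀ j) (by
      rw [show ∑ j, (a ^ l * y₀ j) • v j = algebraMap A B a ^ l * ∑ j, y₀ j • v j by
        rw [Finset.mul_sum]
        exact Finset.sum_congr rfl fun j _ => by rw [mul_smul, Algebra.smul_def, map_pow]]
      exact hl) i
    have h1 : algebraMap A A' (a ^ k * a ^ l * a ^ n) * y i ∈ J' := by
      rw [map_mul, mul_assoc, ← hy₀', ← map_mul, mul_assoc]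
      exact Ideal.mem_map_of_mem _ hk
    rwa [← pow_add, ← pow_add, map_pow, Ideal.unit_mul_mem_iff_mem _ (hua.pow _)] at h1
  have hgJ : ∀ j ∈ J', j • algebraMap B B' g = 0 := by
    intro j hj
    induction hj using Submodule.span_induction with
    | mem w hw =>
      obtain ⟨j, hj, rfl⟩ := hw
      have h0 : j • g = 0 := hJI hj
      rw [Algebra.smul_def, ← IsScalarTower.algebraMap_apply, IsScalarTower.algebraMap_apply A B B',
        ← map_mul, ← Algebra.smul_def, h0, map_zero]
    | zero => exact zero_smul _ _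
    | add z w _ _ hz hw => rw [add_smul, hz, hw, add_zero]
    | smul b z _ hz => rw [smul_assoc, hz, smul_zero]
  obtain ⟨φ, hφ, hgφ⟩ := exists_injective_of_basis_mod (Ideal.FG.map hJf _)
    (fun i => algebraMap B B' (v i)) hsp' hli' hgJ
  refine ⟨hne, annIdeal J', r, Nat.pos_of_ne_zero fun h => ?_, φ, hφ, hgφ⟩
  subst h
  obtain ⟨y, hy⟩ := hgφ
  exact hne (by rw [← hy, Subsingleton.elim y 0, map_zero])

end Groth.L20.FlatSection
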