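import Groth.Agent.L07.Spread.Base
import Groth.Agent.L20.GenericFreeness
import Groth.Agent.L20.GeomFibre
import Mathlib.RingTheory.IsTensorProduct

/-!
Spreading out non-reducedness of the generic fibre.
-/

universe u

open CategoryTheory CategoryTheory.Limits AlgebraicGeometry TensorProduct

namespace Groth.L20.GenNonReduced

set_option autoImplicit false
set_option linter.style.haveILetI false
set_option maxSynthPendingDepth 3
/-- Ring form: a nilpotent in the generic fibre ring survives in the fibre rings over an open. -/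
theorem exists_forall_not_isReduced {A B : Type u} [CommRing A] [IsDomain A] [CommRing B]
    [Algebra A B] [Algebra.FiniteType A B]
    (h : ¬ _root_.IsReduced (FractionRing A ⊗[A] B)) :
    ∃ a : A, a ≠ 0 ∧ ∀ (K : Type u) [Field K] [Algebra A K], algebraMap A K a ≠ 0 →
      ¬ _root_.IsReduced (K ⊗[A] B) := by
  rw [isReduced_iff] at h
  push Not at h
  obtain ⟨z, ⟨n, hn⟩, hz⟩ := h
  obtain ⟨⟨b, s⟩, hbs⟩ := IsLocalizedModule.surj (nonZeroDivisors A) (TensorProduct.mk A (FractionRing A) B 1) z
  replace hbs : (s : A) • z = (1 : FractionRing A) ⊗ₜ[A] b := hbs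
  have htor : ∀ a : A, a ≠ 0 → a • b ≠ 0 := by
    intro a ha hab
    refine hz ?_
    have h1 : (a * (s : A)) • z = 0 := by
      rw [mul_smul, hbs, ← TensorProduct.tmul_smul, hab, TensorProduct.tmul_zero]
    have hu : IsUnit (algebraMap A (FractionRing A) (a * (s : A))) :=
      IsLocalization.map_units (FractionRing A) (⟨_, mul_mem (mem_nonZeroDivisors_of_ne_zero ha) s.2⟩ : nonZeroDivisors A)
    rw [← algebraMap_smul (FractionRing A)] at h1
    exact hu.smul_eq_zero.1 h1
  obtain ⟨c, hc, hcb⟩ : ∃ c : A, c ≠ 0 ∧ c • b ^ n = 0 := by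
    have h1 : TensorProduct.mk A (FractionRing A) B 1 (b ^ n) = 0 := by
      show (1 : FractionRing A) ⊗ₜ[A] (b ^ n) = 0
      rw [← one_pow n, ← Algebra.TensorProduct.tmul_pow, ← hbs, smul_pow, hn, smul_zero]
    obtain ⟨c, hc⟩ := (IsLocalizedModule.eq_zero_iff (nonZeroDivisors A) _).1 h1
    exact ⟨c, nonZeroDivisors.coe_ne_zero c, hc⟩
  let N : Ideal B := Ideal.span {b}
  haveI : Module.Finite B N := Module.Finite.iff_fg.2 ⟨{b}, by simp [N]⟩
  obtain ⟨g₁, hg₁, hN, -⟩ := Groth.L20.GF.exists_free_and_nearlyFP (R := A) (S := B) N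
  obtain ⟨g₂, hg₂, hQ, -⟩ := Groth.L20.GF.exists_free_and_nearlyFP (R := A) (S := B) (B ⧸ N)
  let g := g₁ * g₂
  let L := Localization.Away g
  have hu : IsUnit (algebraMap A L g₁) ∧ IsUnit (algebraMap A L g₂) := by
    have := IsLocalization.Away.algebraMap_isUnit (S := L) g
    rwa [map_mul, IsUnit.mul_iff] at this
  haveI := hN
  haveI := hQ
  haveI : Module.Free L (L ⊗[A] N) := Groth.L20.GF.free_of_isUnit L hu.1 _
  haveI : Module.Free L (L ⊗[A] (B ⧸ N)) := Groth.L20.GF.free_of_isUnit L hu.2 _
  let ι : N →ₗ[A] B := (Submodule.subtype N).restrictScalars A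
  let π : B →ₗ[A] B ⧸ N := ((Submodule.mkQ N).restrictScalars A)
  have hex : Function.Exact (ι.baseChange L) (π.baseChange L) :=
    lTensor_exact L (f := ι) (g := π) (LinearMap.exact_subtype_mkQ N) (Submodule.mkQ_surjective N)
  have hinj : Function.Injective (ι.baseChange L) :=
    Module.Flat.lTensor_preserves_injective_linearMap (M := L) ι Subtype.val_injective
  have hsurj : Function.Surjective (π.baseChange L) :=
    LinearMap.lTensor_surjective L (Submodule.mkQ_surjective N)
  obtain ⟨r, hr⟩ : ∃ r : L ⊗[A] B →ₗ[L] L ⊗[A] N, r ∘ₗ ι.baseChange L = LinearMap.id := by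
    obtain ⟨σ, hσ⟩ := Module.projective_lifting_property (π.baseChange L) LinearMap.id hsurj
    have h12 := (Function.Exact.split_tfae hex hinj hsurj).out 0 1
    exact h12.1 ⟨σ, hσ⟩
  haveI : Nontrivial (L ⊗[A] N) := by
    refine ⟨⟨(1 : L) ⊗ₜ[A] (⟨b, Ideal.mem_span_singleton_self b⟩ : N), 0, fun h0 => ?_⟩⟩
    obtain ⟨⟨_, k, rfl⟩, hk⟩ := (IsLocalizedModule.eq_zero_iff (Submonoid.powers g)
      (TensorProduct.mk A L N 1)).1 h0
    exact htor (g ^ k) (pow_ne_zero k (mul_ne_zero hg₁ hg₂)) (congrArg Subtype.val hk)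
  refine ⟨g * c, mul_ne_zero (mul_ne_zero hg₁ hg₂) hc, fun K _ _ hK hred => ?_⟩
  rw [map_mul, mul_ne_zero_iff] at hK
  have hzero : (1 : K) ⊗ₜ[A] b = 0 := by
    refine hred.eq_zero _ ⟨n, ?_⟩
    rw [Algebra.TensorProduct.tmul_pow, one_pow]
    have h1 : algebraMap A K c • ((1 : K) ⊗ₜ[A] (b ^ n)) = 0 := by
      rw [algebraMap_smul, ← TensorProduct.tmul_smul, hcb, TensorProduct.tmul_zero]
    exact (smul_eq_zero.1 h1).resolve_left hK.2
  let φ : L →+* K := IsLocalization.Away.lift g (isUnit_iff_ne_zero.2 hK.1)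
  letI : Algebra L K := φ.toAlgebra
  haveI : IsScalarTower A L K :=
    IsScalarTower.of_algebraMap_eq fun x => (IsLocalization.Away.lift_eq g (isUnit_iff_ne_zero.2 hK.1) x).symm
  let eN := AlgebraTensorModule.cancelBaseChange A L K K N
  let eB := AlgebraTensorModule.cancelBaseChange A L K K B
  have hcomm : ∀ x, eB ((ι.baseChange L).baseChange K x) = ι.baseChange K (eN x) := by
    intro x
    induction x using TensorProduct.induction_on with
    | zero => simp only [LinearMap.map_zero, LinearEquiv.map_zero]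
    | add x y hx hy => simp only [LinearMap.map_add, LinearEquiv.map_add, hx, hy]
    | tmul k w =>
      induction w using TensorProduct.induction_on with
      | zero => simp only [TensorProduct.tmul_zero, LinearMap.map_zero, LinearEquiv.map_zero]
      | add x y hx hy =>
        simp only [TensorProduct.tmul_add, LinearMap.map_add, LinearEquiv.map_add, hx, hy]
      | tmul l m =>
        simp only [eN, eB, LinearMap.baseChange_tmul, AlgebraTensorModule.cancelBaseChange_tmul]
  have hi : Function.Injective (ι.baseChange K) := by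
    have h1 : Function.Injective ((ι.baseChange L).baseChange K) :=
      Function.LeftInverse.injective (g := r.baseChange K) fun x => by
        rw [← LinearMap.comp_apply, ← LinearMap.baseChange_comp, hr, LinearMap.baseChange_id]
        rfl
    intro x y hxy
    obtain ⟨x, rfl⟩ := eN.surjective x
    obtain ⟨y, rfl⟩ := eN.surjective y
    rw [← hcomm, ← hcomm] at hxy
    rw [h1 (eB.injective hxy)]
  haveI : Nontrivial (K ⊗[A] N) := by
    haveI : Nonempty (Module.Free.ChooseBasisIndex L (L ⊗[A] N)) :=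
      (Module.Free.chooseBasis L (L ⊗[A] N)).index_nonempty
    haveI : Nontrivial (K ⊗[L] (L ⊗[A] N)) :=
      ((Module.Free.chooseBasis L (L ⊗[A] N)).baseChange K).repr.toEquiv.nontrivial
    exact eN.symm.toEquiv.nontrivial
  obtain ⟨x, hx⟩ := exists_ne (0 : K ⊗[A] N)
  refine hx (hi ?_)
  rw [map_zero]
  clear hx
  induction x using TensorProduct.induction_on with
  | zero => simp
  | add x y hx hy => rw [map_add, hx, hy, add_zero]
  | tmul k m =>
    obtain ⟨y, hy⟩ := Ideal.mem_span_singleton'.1 m.2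
    show k ⊗ₜ[A] (m : B) = 0
    have h2 : k ⊗ₜ[A] (m : B) = (k ⊗ₜ[A] y) * ((1 : K) ⊗ₜ[A] b) := by
      rw [Algebra.TensorProduct.tmul_mul_tmul, mul_one, hy]
    rw [h2, hzero, mul_zero]

set_option backward.isDefEq.respectTransparency.types false
set_option backward.isDefEq.respectTransparency false

/-- The pullback of an affine piece. -/
theorem isReduced_pullback_SpecMap_iff {A B K : Type u} [CommRing A] [CommRing B] [CommRing K]
    [Algebra A B] [Algebra A K] :
    IsReduced (pullback (Groth.L07.Spread.specAlg A B) (Groth.L07.Spread.specAlg A K)) ↔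
      _root_.IsReduced (K ⊗[A] B) := by
  letI : Algebra B (K ⊗[A] B) := Algebra.TensorProduct.rightAlgebra
  have sq := (isPullback_SpecMap_of_isPushout _ _ _ _
    (CommRingCat.isPushout_of_isPushout A K B (K ⊗[A] B))).flip
  constructor
  · intro h
    haveI hr : IsReduced (Spec (CommRingCat.of (K ⊗[A] B))) :=
      isReduced_of_isOpenImmersion sq.isoPullback.hom
    exact (affine_isReduced_iff (CommRingCat.of (K ⊗[A] B))).1 hr
  · intro h
    haveI : IsReduced (Spec (CommRingCat.of (K ⊗[A] B))) := (affine_isReduced_iff _).2 h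
    exact isReduced_of_isOpenImmersion sq.isoPullback.inv

/-- Scheme form. -/
theorem exists_forall_pullback_not_isReduced {A : Type u} [CommRing A] [IsDomain A] {X : Scheme.{u}}
    (h : X ⟶ Spec (CommRingCat.of A)) [LocallyOfFiniteType h]
    (hnr : ¬ IsReduced (pullback h (Groth.L07.Spread.specAlg A (FractionRing A)))) :
    ∃ a : A, a ≠ 0 ∧ ∀ (K : Type u) [Field K] [Algebra A K], algebraMap A K a ≠ 0 →
      ¬ IsReduced (pullback h (Groth.L07.Spread.specAlg A K)) := by
  let gK := Groth.L07.Spread.specAlg A (FractionRing A)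
  obtain ⟨j, hj⟩ : ∃ j, ¬ IsReduced
      (pullback (X.affineCover.f j) (pullback.fst h gK)) := by
    by_contra! hall
    refine hnr (@isReduced_of_isReduced_stalk _ fun z => ?_)
    obtain ⟨j, w, hw⟩ := X.affineCover.exists_eq (pullback.fst h gK z)
    obtain ⟨z', -, hz'⟩ := Scheme.Pullback.exists_preimage_pullback (f := X.affineCover.f j)
      (g := pullback.fst h gK) w z hw
    haveI := hall j
    subst hz'
    exact isReduced_of_injective
      ((pullback.snd (X.affineCover.f j) (pullback.fst h gK)).stalkMap z').hom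
      (ConcreteCategory.bijective_of_isIso
        ((pullback.snd (X.affineCover.f j) (pullback.fst h gK)).stalkMap z')).1
  obtain ⟨B, φ, hφ⟩ : ∃ (B : CommRingCat.{u}) (φ : CommRingCat.of A ⟶ B) (e : X.affineCover.X j ≅ Spec B),
      e.hom ≫ Spec.map φ = X.affineCover.f j ≫ h := by
    obtain ⟨φ, hφ⟩ := Spec.map_surjective ((X.affineCover.X j).isoSpec.inv ≫ X.affineCover.f j ≫ h)
    exact ⟨_, φ, (X.affineCover.X j).isoSpec, by rw [hφ, Iso.hom_inv_id_assoc]⟩
  obtain ⟨e, he⟩ := hφ
  letI : Algebra A B := φ.hom.toAlgebra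
  haveI : Algebra.FiniteType A B := by
    have : LocallyOfFiniteType (Spec.map φ) := by
      rw [show Spec.map φ = e.inv ≫ X.affineCover.f j ≫ h by rw [← he, Iso.inv_hom_id_assoc]]
      infer_instance
    exact HasRingHomProperty.Spec_iff.mp this
  have key : ∀ (K : Type u) [Field K] [Algebra A K],
      IsReduced (pullback (X.affineCover.f j) (pullback.fst h (Groth.L07.Spread.specAlg A K))) ↔
        _root_.IsReduced (K ⊗[A] B) := fun K _ _ => by
    refine Iff.trans ?_ (isReduced_pullback_SpecMap_iff (A := A) (B := B) (K := K))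
    let q := pullback.map (X.affineCover.f j ≫ h) (Groth.L07.Spread.specAlg A K) (Spec.map φ)
      (Groth.L07.Spread.specAlg A K) e.hom (𝟙 _) (𝟙 _) (by rw [Category.comp_id]; exact he.symm) (by simp)
    let q' := pullbackRightPullbackFstIso h (Groth.L07.Spread.specAlg A K) (X.affineCover.f j)
    haveI : IsIso q := pullback.map_isIso _ _ _ _ _ _ _ _ _
    exact ⟨fun _ => isReduced_of_isOpenImmersion (inv q ≫ q'.inv),
      fun _ => isReduced_of_isOpenImmersion (q'.hom ≫ q)⟩
  obtain ⟨a, ha, hK⟩ := exists_forall_not_isReduced fun hr => hj ((key _).2 hr)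
  refine ⟨a, ha, fun K _ _ hKa hr => hK K hKa ((key K).1 ?_)⟩
  exact isReduced_of_isOpenImmersion (pullback.snd _ _)

/-- A non-reduced generic fibre gives non-reduced fibres over an open. -/
theorem exists_opens_not_isReduced {X Y : Scheme.{u}} (f : X ⟶ Y) [IrreducibleSpace Y]
    [LocallyOfFiniteType f] (h : ¬ IsReduced (f.fiber (genericPoint Y))) :
    ∃ V : Y.Opens, (V : Set Y).Nonempty ∧ ∀ y ∈ V, ¬ IsReduced (f.fiber y) := by
  obtain ⟨A, hA, i, hi, hV⟩ := Groth.L07.Spread.exists_integral_base Y
  haveI := hA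
  let g := Groth.L07.Spread.specAlg A (FractionRing A) ≫ i
  obtain ⟨a, ha, hK⟩ := exists_forall_pullback_not_isReduced (pullback.snd f i) fun hr => by
    refine h ?_
    haveI : IsReduced (pullback f g) :=
      isReduced_of_isOpenImmersion (pullbackLeftPullbackSndIso f i _).inv
    let c : Spec (CommRingCat.of (FractionRing A)) := (⟨⊥, Ideal.isPrime_bot⟩ : PrimeSpectrum (FractionRing A))
    have hgc : g c = genericPoint Y := by
      rw [Scheme.Hom.comp_apply]
      exact hi _ ((Groth.L07.Spread.specAlg_apply (FractionRing A) c).trans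
        ((RingHom.injective_iff_ker_eq_bot _).mp (IsFractionRing.injective A (FractionRing A))))
    obtain ⟨⟨z, ψ⟩, hg⟩ := (Scheme.SpecToEquivOfField _ _).symm.surjective g
    have hg' : Spec.map ψ ≫ Y.fromSpecResidueField z = g := hg
    obtain rfl : z = genericPoint Y := by
      rw [← hgc, ← hg', Scheme.Hom.comp_apply]
      exact (Scheme.fromSpecResidueField_apply ..).symm
    haveI : IsReduced (pullback (f.fiberToSpecResidueField (genericPoint Y)) (Spec.map ψ)) :=
      isReduced_of_isOpenImmersion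
        ((pullbackLeftPullbackSndIso f _ _) ≪≫ pullback.congrHom rfl hg').hom
    letI : Algebra (Y.residueField (genericPoint Y)) (FractionRing A) := ψ.hom.toAlgebra
    haveI : Module.Free (Y.residueField (genericPoint Y)) (FractionRing A) :=
      Module.Free.of_divisionRing _ _
    haveI hfl : Module.Flat (Y.residueField (genericPoint Y)) (FractionRing A) := Module.Flat.of_free
    haveI : Flat (Spec.map ψ) :=
      Flat.SpecMap_iff.mpr (RingHom.flat_algebraMap_iff.mpr hfl)
    haveI : Surjective (Spec.map ψ) := ⟨fun p => ⟨c, Subsingleton.elim _ _⟩⟩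
    exact Groth.L20.isReduced_of_surjective_of_flat
      (pullback.fst (f.fiberToSpecResidueField (genericPoint Y)) (Spec.map ψ))
  obtain ⟨V, hξ, hVK⟩ := hV a ha
  refine ⟨V, ⟨_, hξ⟩, fun y hy hr => ?_⟩
  obtain ⟨φ, hφ, hφa⟩ := hVK (Y.residueField y) (Y.fromSpecResidueField y) fun c => by
    exact (Scheme.fromSpecResidueField_apply y c).symm ▸ hy
  letI := φ.hom.toAlgebra
  refine hK (Y.residueField y) hφa ?_
  haveI : IsReduced (pullback f (Y.fromSpecResidueField y)) := hr
  exact isReduced_of_isOpenImmersion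
    ((pullbackLeftPullbackSndIso f i (Spec.map φ)) ≪≫ pullback.congrHom rfl hφ).hom

end Groth.L20.GenNonReduced
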