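import Groth.Agent.L20.GenericFreeness
import Mathlib.Data.Finsupp.MonomialOrder.DegLex
import Mathlib.Data.Finsupp.PWO
import Mathlib.Order.WellQuasiOrder
import Mathlib.LinearAlgebra.StdBasis
import Mathlib.RingTheory.MvPolynomial.Basic
import Mathlib.RingTheory.Nilpotent.Defs

/-!
# Generic freeness over a reduced ring

The leading exponents of relations that become monic after inverting `f` form an upper set of a well
quasi ordered set, so they stabilise: after inverting a suitable `f` all leading coefficients are `0` or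
units, and division gives a basis.
-/

set_option autoImplicit false
set_option linter.style.haveILetI false

universe u

open scoped TensorProduct

namespace Groth.L20.GFR

/-! ## Division in a free module with a well ordered basis -/

section Division

variable {R : Type u} [CommRing R] {J : Type} {κ : Type} [LinearOrder κ]

/-- The indices whose coefficient is a leading power of `f` of an element of `K`. -/
def lead (K : Submodule R (J →₀ R)) (key : J → κ) (f : R) : Set J :=
  {j | ∃ x ∈ K, ∃ k : ℕ, x j = f ^ k ∧ ∀ i, key j < key i → x i = 0}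

theorem lead_mono (K : Submodule R (J →₀ R)) (key : J → κ) (f c : R) : lead K key f ⊆ lead K key (f * c) := by
  rintro j ⟨x, hx, k, hxj, htop⟩
  exact ⟨c ^ k • x, K.smul_mem _ hx, k, by rw [Finsupp.smul_apply, smul_eq_mul, hxj, mul_pow, mul_comm],
    fun i hi => by rw [Finsupp.smul_apply, htop i hi, smul_zero]⟩

/-- All leading coefficients outside `lead` die after multiplying by `f`. -/
def Stable (K : Submodule R (J →₀ R)) (key : J → κ) (f : R) : Prop :=
  ∀ c, f * c ≠ 0 → lead K key (f * c) ⊆ lead K key f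

variable {K : Submodule R (J →₀ R)} {key : J → κ} {f : R}

theorem Stable.mul_coeff_eq_zero (h : Stable K key f) {x : J →₀ R} (hx : x ∈ K) {j : J}
    (hj : j ∉ lead K key f) (htop : ∀ i, key j < key i → x i = 0) : f * x j = 0 := by
  by_contra hne
  exact hj (h (x j) hne ⟨f • x, K.smul_mem _ hx, 1, by simp, fun i hi => by
    rw [Finsupp.smul_apply, htop i hi, smul_zero]⟩)

/-- Relations among the basis elements outside `lead` are killed by `f`. -/
theorem Stable.smul_eq_zero [IsReduced R] (h : Stable K key f) {y : J →₀ R}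
    (hy : y ∈ K) (hsupp : ∀ j ∈ y.support, j ∉ lead K key f) : f • y = 0 := by
  induction hn : y.support.card using Nat.strong_induction_on generalizing y with
  | _ n ih =>
    subst hn
    by_cases h0 : y.support.Nonempty
    · obtain ⟨j, hj, hmax⟩ := y.support.exists_max_image key h0
      have hfj : f * y j = 0 := h.mul_coeff_eq_zero hy (hsupp j hj) fun i hi => by
        by_contra hne
        exact absurd (hmax i (Finsupp.mem_support_iff.mpr hne)) (not_le.mpr hi)
      have hsub : (f • y).support ⊂ y.support := by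
        refine Finset.ssubset_iff_of_subset Finsupp.support_smul |>.mpr ⟨j, hj, ?_⟩
        simp [hfj]
      have := ih _ (Finset.card_lt_card hsub) (K.smul_mem f hy) (fun i hi => hsupp i (hsub.subset hi)) rfl
      ext i
      have hi : f * (f * y i) = 0 := by simpa using DFunLike.congr_fun this i
      have : IsNilpotent (f * y i) := ⟨2, by rw [pow_two, mul_comm f (y i), mul_assoc, ← mul_comm f (y i), hi, mul_zero]⟩
      simpa using this.eq_zero
    · rw [Finset.not_nonempty_iff_eq_empty, Finsupp.support_eq_empty] at h0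
      rw [h0, smul_zero]

/-- Division: modulo witnesses of the leading indices everything is reduced to the other indices, up to
powers of `f`. -/
theorem exists_reduced [WellFoundedLT κ] (hkey : Function.Injective key) (K' : Submodule R (J →₀ R))
    (hK' : ∀ j ∈ lead K key f, ∃ x ∈ K', ∃ k : ℕ, x j = f ^ k ∧ ∀ i, key j < key i → x i = 0)
    (y : J →₀ R) : ∃ k : ℕ, ∃ z : J →₀ R, (∀ j ∈ z.support, j ∉ lead K key f) ∧ f ^ k • y - z ∈ K' := by
  classical
  let P : (J →₀ R) → Prop := fun y =>
    ∃ k : ℕ, ∃ z : J →₀ R, (∀ j ∈ z.support, j ∉ lead K key f) ∧ f ^ k • y - z ∈ K'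
  have hzero : P 0 := ⟨0, 0, by simp, by simp⟩
  have hadd : ∀ {y₁ y₂}, P y₁ → P y₂ → P (y₁ + y₂) := by
    rintro y₁ y₂ ⟨k₁, z₁, hz₁, h₁⟩ ⟨k₂, z₂, hz₂, h₂⟩
    refine ⟨k₁ + k₂, f ^ k₂ • z₁ + f ^ k₁ • z₂, fun j hj => ?_, ?_⟩
    · rcases Finset.mem_union.mp (Finsupp.support_add hj) with hj | hj
      · exact hz₁ j (Finsupp.support_smul hj)
      · exact hz₂ j (Finsupp.support_smul hj)
    · have : f ^ (k₁ + k₂) • (y₁ + y₂) - (f ^ k₂ • z₁ + f ^ k₁ • z₂) =
          f ^ k₂ • (f ^ k₁ • y₁ - z₁) + f ^ k₁ • (f ^ k₂ • y₂ - z₂) := by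
        simp only [smul_add, smul_sub, smul_smul, ← pow_add, add_comm k₂ k₁]
        abel
      rw [this]
      exact K'.add_mem (K'.smul_mem _ h₁) (K'.smul_mem _ h₂)
  suffices key' : ∀ j r, P (Finsupp.single j r) by
    induction y using Finsupp.induction with
    | zero => exact hzero
    | single_add j r y _ _ hy => exact hadd (key' j r) hy
  intro j
  induction j using (InvImage.wf key wellFounded_lt).induction with
  | _ j ih =>
    intro r
    by_cases hj : j ∈ lead K key f
    · obtain ⟨x, hx, k, hxj, htop⟩ := hK' j hj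
      have hrest : P (f ^ k • Finsupp.single j r - r • x) := by
        have hlow : ∀ i ∈ (f ^ k • Finsupp.single j r - r • x).support, key i < key j := by
          intro i hi
          rw [Finsupp.mem_support_iff] at hi
          by_contra hle
          rw [not_lt] at hle
          apply hi
          rcases hle.eq_or_lt with heq | hlt
          · rw [← hkey heq]; simp [hxj, mul_comm]
          · have hne : i ≠ j := fun he => hlt.ne (by rw [he])
            simp [Finsupp.single_eq_of_ne hne, htop i hlt]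
        rw [← Finsupp.sum_single (f ^ k • Finsupp.single j r - r • x)]
        exact Finset.sum_induction _ P (fun _ _ => hadd) hzero fun i hi => ih i (hlow i hi) _
      obtain ⟨l, z, hz, hzK⟩ := hrest
      refine ⟨l + k, z, hz, ?_⟩
      have : f ^ (l + k) • Finsupp.single j r - z =
          f ^ l • (f ^ k • Finsupp.single j r - r • x) - z + f ^ l • r • x := by
        rw [smul_sub, smul_smul, ← pow_add]
        abel
      rw [this]
      exact K'.add_mem hzK (K'.smul_mem _ (K'.smul_mem _ hx))
    · refine ⟨0, Finsupp.single j r, fun i hi => ?_, by simp⟩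
      rw [Finset.mem_singleton.mp (Finsupp.support_single_subset hi)]
      exact hj

end Division

/-- If `θ : F → M` has kernel and cokernel `f`-power torsion and `F` is free then `M_f` is free. -/
theorem free_away_of_torsion {R M : Type u} [CommRing R] [AddCommGroup M] [Module R M] {ι : Type}
    (θ : (ι →₀ R) →ₗ[R] M) (f : R) (hinj : ∀ z, θ z = 0 → ∃ k : ℕ, f ^ k • z = 0)
    (hsurj : ∀ m, ∃ k : ℕ, f ^ k • m ∈ LinearMap.range θ) :
    Module.Free (Localization.Away f) (Localization.Away f ⊗[R] M) := by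
  have hb1 : IsBaseChange (Localization.Away f) (TensorProduct.mk R (Localization.Away f) (ι →₀ R) 1) :=
    TensorProduct.isBaseChange _ _ _
  haveI := (isLocalizedModule_iff_isBaseChange (Submonoid.powers f) (Localization.Away f)
    (TensorProduct.mk R (Localization.Away f) (ι →₀ R) 1)).mpr hb1
  haveI := (isLocalizedModule_iff_isBaseChange (Submonoid.powers f) (Localization.Away f)
    (TensorProduct.mk R (Localization.Away f) M 1)).mpr (TensorProduct.isBaseChange _ _ _)
  have hbij : Function.Bijective (θ.baseChange (Localization.Away f)) := by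
    refine ⟨(injective_iff_map_eq_zero _).mpr fun x hx => ?_, fun y => ?_⟩
    · obtain ⟨⟨z, ⟨_, k, rfl⟩⟩, hz⟩ :=
        IsLocalizedModule.surj (Submonoid.powers f) (TensorProduct.mk R (Localization.Away f) (ι →₀ R) 1) x
      replace hz : f ^ k • x = (1 : Localization.Away f) ⊗ₜ[R] z := hz
      have h0 : (1 : Localization.Away f) ⊗ₜ[R] θ z = 0 := by
        rw [← LinearMap.baseChange_tmul, ← hz, LinearMap.map_smul_of_tower, hx, smul_zero]
      obtain ⟨⟨_, l, rfl⟩, hl⟩ := (IsLocalizedModule.eq_zero_iff (Submonoid.powers f)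
        (TensorProduct.mk R (Localization.Away f) M 1)).mp h0
      obtain ⟨l', hl'⟩ := hinj (f ^ l • z) (by rw [map_smul]; exact hl)
      have hz0 : f ^ (l' + l + k) • x = 0 := by
        rw [pow_add, mul_smul, hz, ← TensorProduct.tmul_smul, pow_add, mul_smul, hl', TensorProduct.tmul_zero]
      have hu : IsUnit (algebraMap R (Localization.Away f) (f ^ (l' + l + k))) := by
        rw [map_pow]; exact (IsLocalization.Away.algebraMap_isUnit f).pow _
      rwa [← algebraMap_smul (Localization.Away f), hu.smul_eq_zero] at hz0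
    · induction y using TensorProduct.induction_on with
      | zero => exact ⟨0, map_zero _⟩
      | tmul a m =>
        obtain ⟨k, z, hz⟩ := hsurj m
        obtain ⟨w, hw⟩ : ∃ w : Localization.Away f, algebraMap R _ (f ^ k) * w = 1 := by
          have hu : IsUnit (algebraMap R (Localization.Away f) (f ^ k)) := by
            rw [map_pow]; exact (IsLocalization.Away.algebraMap_isUnit f).pow _
          exact hu.exists_right_inv
        refine ⟨(a * w) ⊗ₜ z, ?_⟩
        rw [LinearMap.baseChange_tmul, hz, TensorProduct.tmul_smul, TensorProduct.smul_tmul', Algebra.smul_def,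
          mul_left_comm, hw, mul_one]
      | add a b ha hb =>
        obtain ⟨a', rfl⟩ := ha
        obtain ⟨b', rfl⟩ := hb
        exact ⟨a' + b', map_add _ _ _⟩
  exact Module.Free.of_equiv (LinearEquiv.ofBijective _ hbij)

/-! ## Polynomial rings -/

section Poly

variable {R : Type u} [CommRing R] {n a : ℕ}

/-- Exponents of monomials of the free module. -/
abbrev Idx (n a : ℕ) : Type := Σ _ : Fin a, (Fin n →₀ ℕ)

/-- The monomial basis. -/
noncomputable def monBasis (R : Type u) [CommRing R] (n a : ℕ) :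
    Module.Basis (Idx n a) R (Fin a → MvPolynomial (Fin n) R) :=
  Pi.basis fun _ => MvPolynomial.basisMonomials (Fin n) R

theorem monBasis_repr (x : Fin a → MvPolynomial (Fin n) R) (j : Idx n a) :
    (monBasis R n a).repr x j = (x j.1).coeff j.2 := by
  rw [monBasis, Pi.basis_repr]
  rfl

/-- The order key. -/
noncomputable def ordKey (j : Idx n a) : (MonomialOrder.degLex (σ := Fin n)).syn ×ₗ Fin a :=
  toLex ((MonomialOrder.degLex (σ := Fin n)).toSyn j.2, j.1)

theorem ordKey_injective : Function.Injective (ordKey (n := n) (a := a)) := by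
  rintro ⟨i, e⟩ ⟨i', e'⟩ h
  simp only [ordKey, Prod.mk.injEq, EmbeddingLike.apply_eq_iff_eq] at h
  obtain ⟨rfl, rfl⟩ := h
  rfl

theorem ordKey_add_lt {i i' : Fin a} {d e e' : Fin n →₀ ℕ} (h : ordKey (⟨i, d + e⟩ : Idx n a) < ordKey ⟨i', d + e'⟩) :
    ordKey (⟨i, e⟩ : Idx n a) < ordKey ⟨i', e'⟩ := by
  simp only [ordKey, Prod.Lex.toLex_lt_toLex, map_add, add_lt_add_iff_left, add_right_inj] at h ⊢
  exact h

/-- Translates of witnesses. -/
theorem shift_witness (x : Fin a → MvPolynomial (Fin n) R) (i : Fin a) (d e : Fin n →₀ ℕ) (r : R)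
    (hxj : (monBasis R n a).repr x ⟨i, e⟩ = r)
    (htop : ∀ j, ordKey (⟨i, e⟩ : Idx n a) < ordKey j → (monBasis R n a).repr x j = 0) :
    (monBasis R n a).repr (MvPolynomial.monomial d (1 : R) • x) ⟨i, d + e⟩ = r ∧
      ∀ j, ordKey (⟨i, d + e⟩ : Idx n a) < ordKey j →
        (monBasis R n a).repr (MvPolynomial.monomial d (1 : R) • x) j = 0 := by
  refine ⟨?_, fun j hj => ?_⟩
  · rw [monBasis_repr, Pi.smul_apply, smul_eq_mul, MvPolynomial.coeff_monomial_mul, one_mul]
    rw [monBasis_repr] at hxj
    exact hxj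
  · obtain ⟨i', e'⟩ := j
    rw [monBasis_repr, Pi.smul_apply, smul_eq_mul, MvPolynomial.coeff_monomial_mul']
    split_ifs with hle
    · obtain ⟨e'', rfl⟩ := exists_add_of_le hle
      rw [one_mul, add_tsub_cancel_left]
      have := htop ⟨i', e''⟩ (ordKey_add_lt hj)
      rwa [monBasis_repr] at this
    · rfl

variable {M : Type u} [AddCommGroup M] [Module (MvPolynomial (Fin n) R) M]
  (π : (Fin a → MvPolynomial (Fin n) R) →ₗ[MvPolynomial (Fin n) R] M)

/-- The relations, in coordinates. -/
noncomputable def rel : Submodule R (Idx n a →₀ R) :=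
  ((LinearMap.ker π).restrictScalars R).map (monBasis R n a).repr.toLinearMap

theorem lead_upward {f : R} {i : Fin a} {e e' : Fin n →₀ ℕ} (hle : e ≤ e')
    (h : (⟨i, e⟩ : Idx n a) ∈ lead (rel π) ordKey f) : (⟨i, e'⟩ : Idx n a) ∈ lead (rel π) ordKey f := by
  obtain ⟨_, ⟨x, hx, rfl⟩, k, hxj, htop⟩ := h
  obtain ⟨d, rfl⟩ := exists_add_of_le hle
  rw [add_comm e d]
  obtain ⟨h1, h2⟩ := shift_witness x i d e (f ^ k) hxj htop
  exact ⟨_, ⟨MvPolynomial.monomial d (1 : R) • x, Submodule.smul_mem (LinearMap.ker π) _ hx, rfl⟩, k, h1, h2⟩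

theorem wellQuasiOrdered_idx :
    WellQuasiOrdered (fun p q : Fin a × (Fin n →₀ ℕ) => p.1 = q.1 ∧ p.2 ≤ q.2) :=
  (Finite.wellQuasiOrdered (· = ·)).prod wellQuasiOrdered_le

/-- Above any nonzero element some multiple is stable. -/
theorem exists_stable (g : R) (hg : g ≠ 0) :
    ∃ c, g * c ≠ 0 ∧ Stable (rel π) ordKey (g * c) := by
  classical
  by_contra hcon
  push Not at hcon
  have step : ∀ f : {f : R // ∃ c, f = g * c ∧ f ≠ 0}, ∃ f' : {f : R // ∃ c, f = g * c ∧ f ≠ 0},
      lead (rel π) ordKey f.1 ⊆ lead (rel π) ordKey f'.1 ∧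
      ∃ j : Idx n a, j ∈ lead (rel π) ordKey f'.1 ∧ j ∉ lead (rel π) ordKey f.1 := by
    rintro ⟨_, c, rfl, hne⟩
    have := hcon c hne
    simp only [Stable, not_forall, Set.not_subset] at this
    obtain ⟨c', hc', j, hj, hj'⟩ := this
    exact ⟨⟨g * c * c', c * c', mul_assoc _ _ _, hc'⟩, lead_mono _ _ _ _, j, hj, hj'⟩
  choose next hnext j hj hj' using step
  let seq : ℕ → {f : R // ∃ c, f = g * c ∧ f ≠ 0} := fun k =>
    Nat.rec ⟨g, 1, (mul_one g).symm, hg⟩ (fun _ f => next f) k
  have hmono : Monotone fun k => lead (rel π) ordKey (seq k).1 :=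
    monotone_nat_of_le_succ fun k => hnext (seq k)
  obtain ⟨k, l, hkl, h1, h2⟩ := wellQuasiOrdered_idx fun k => ((j (seq k)).1, (j (seq k)).2)
  apply hj' (seq l)
  refine hmono (Nat.succ_le_of_lt hkl) ?_
  have : j (seq k) ∈ lead (rel π) ordKey (seq (k + 1)).1 := hj (seq k)
  obtain ⟨i, e, hjk⟩ : ∃ i e, j (seq k) = ⟨i, e⟩ := ⟨_, _, rfl⟩
  obtain ⟨i', e', hjl⟩ : ∃ i' e', j (seq l) = ⟨i', e'⟩ := ⟨_, _, rfl⟩
  simp only [hjk, hjl] at h1 h2 this ⊢
  subst h1
  exact lead_upward π h2 this

/-- Finitely many indices generate the leading set. -/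
theorem exists_finite_gens (f : R) : ∃ G : Finset (Idx n a),
    (∀ p ∈ G, p ∈ lead (rel π) ordKey f) ∧
    ∀ j ∈ lead (rel π) ordKey f, ∃ p ∈ G, p.1 = j.1 ∧ p.2 ≤ j.2 := by
  classical
  by_contra hcon
  push Not at hcon
  have hc : ∀ G : {G : Finset (Idx n a) // ∀ p ∈ G, p ∈ lead (rel π) ordKey f},
      ∃ j ∈ lead (rel π) ordKey f, ∀ p ∈ G.1, p.1 = j.1 → ¬ p.2 ≤ j.2 := fun G => hcon G.1 G.2
  choose j hj hjn using hc
  let seq : ℕ → {G : Finset (Idx n a) // ∀ p ∈ G, p ∈ lead (rel π) ordKey f} := fun k =>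
    Nat.rec ⟨∅, by simp⟩ (fun _ G => ⟨insert (j G) G.1, fun p hp => by
      rcases Finset.mem_insert.mp hp with rfl | hp
      · exact hj G
      · exact G.2 p hp⟩) k
  have hmono : Monotone fun k => (seq k).1 :=
    monotone_nat_of_le_succ fun k => Finset.subset_insert _ _
  obtain ⟨k, l, hkl, h1, h2⟩ := wellQuasiOrdered_idx fun k => ((j (seq k)).1, (j (seq k)).2)
  exact hjn (seq l) (j (seq k)) (hmono (Nat.succ_le_of_lt hkl) (Finset.mem_insert_self _ _)) h1 h2

/-- Generic freeness over a reduced ring, polynomial case. -/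
theorem exists_free_and_nearlyFP_poly [IsReduced R] [Module R M] [IsScalarTower R (MvPolynomial (Fin n) R) M]
    (hπ : Function.Surjective π) (g : R) (hg : g ≠ 0) :
    ∃ c, g * c ≠ 0 ∧ Module.Free (Localization.Away (g * c)) (Localization.Away (g * c) ⊗[R] M) ∧
      GF.NearlyFP (g * c) (MvPolynomial (Fin n) R) M := by
  classical
  obtain ⟨c, hc, hstab⟩ := exists_stable π g hg
  refine ⟨c, hc, ?_⟩
  set f := g * c with hf
  obtain ⟨G, hG, hGgen⟩ := exists_finite_gens π f
  -- relations with monic leading coefficient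
  have hwit : ∀ p ∈ G, ∃ x ∈ LinearMap.ker π, ∃ k : ℕ, (monBasis R n a).repr x p = f ^ k ∧
      ∀ i, ordKey p < ordKey i → (monBasis R n a).repr x i = 0 := fun p hp => by
    obtain ⟨_, ⟨x, hx, rfl⟩, k, h1, h2⟩ := hG p hp
    exact ⟨x, hx, k, h1, h2⟩
  choose! w hw kw hwp hwtop using hwit
  let K₀ : Submodule (MvPolynomial (Fin n) R) (Fin a → MvPolynomial (Fin n) R) := Submodule.span _ (w '' G)
  have hK₀ : K₀ ≤ LinearMap.ker π := Submodule.span_le.mpr (by rintro _ ⟨p, hp, rfl⟩; exact hw p hp)
  have hdiv : ∀ y : Fin a → MvPolynomial (Fin n) R, ∃ k : ℕ, ∃ z : Fin a → MvPolynomial (Fin n) R,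
      (∀ j ∈ ((monBasis R n a).repr z).support, j ∉ lead (rel π) ordKey f) ∧ f ^ k • y - z ∈ K₀ := by
    intro y
    obtain ⟨k, z, hz, hzK⟩ := exists_reduced (K := rel π) (key := ordKey) (f := f) ordKey_injective
      ((K₀.restrictScalars R).map (monBasis R n a).repr.toLinearMap) (fun j hj => by
        obtain ⟨⟨i, e⟩, hp, rfl, hle⟩ := hGgen j hj
        obtain ⟨d, hd⟩ := exists_add_of_le hle
        obtain ⟨h1, h2⟩ := shift_witness (w ⟨_, e⟩) j.1 d e _ (hwp _ hp) (hwtop _ hp)
        have hje : j = ⟨j.1, d + e⟩ := by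
          obtain ⟨i, e'⟩ := j
          simp only at hd
          rw [hd, add_comm]
        rw [hje]
        exact ⟨_, ⟨MvPolynomial.monomial d (1 : R) • w ⟨_, e⟩,
          Submodule.smul_mem K₀ _ (Submodule.subset_span ⟨_, hp, rfl⟩), rfl⟩, _, h1, h2⟩)
      ((monBasis R n a).repr y)
    obtain ⟨v, hv, hvz⟩ := hzK
    refine ⟨k, (monBasis R n a).repr.symm z, by simpa using hz, ?_⟩
    have : f ^ k • y - (monBasis R n a).repr.symm z = v := by
      apply (monBasis R n a).repr.injective
      rw [map_sub, map_smul, LinearEquiv.apply_symm_apply]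
      exact hvz.symm
    rw [this]
    exact hv
  have hind : ∀ z : Fin a → MvPolynomial (Fin n) R, π z = 0 →
      (∀ j ∈ ((monBasis R n a).repr z).support, j ∉ lead (rel π) ordKey f) → f • z = 0 := fun z hz hsupp => by
    apply (monBasis R n a).repr.injective
    rw [map_smul, map_zero]
    exact hstab.smul_eq_zero ⟨z, hz, rfl⟩ hsupp
  constructor
  · let θ : ({j : Idx n a // j ∉ lead (rel π) ordKey f} →₀ R) →ₗ[R] M :=
      (π.restrictScalars R) ∘ₗ (monBasis R n a).repr.symm.toLinearMap ∘ₗ Finsupp.lmapDomain R R Subtype.val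
    refine free_away_of_torsion θ f (fun z hz => ⟨1, ?_⟩) fun m => ?_
    · apply Finsupp.mapDomain_injective (Subtype.val_injective (p := fun j : Idx n a => j ∉ lead (rel π) ordKey f))
      have := hind ((monBasis R n a).repr.symm (Finsupp.mapDomain Subtype.val z)) hz (fun j hj => by
        rw [LinearEquiv.apply_symm_apply] at hj
        obtain ⟨j', -, rfl⟩ := Finset.mem_image.mp (Finsupp.mapDomain_support hj)
        exact j'.2)
      rw [← map_smul, LinearEquiv.map_eq_zero_iff] at this
      rw [pow_one, Finsupp.mapDomain_zero, Finsupp.mapDomain_smul]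
      exact this
    · obtain ⟨y, rfl⟩ := hπ m
      obtain ⟨k, z, hz, hzK⟩ := hdiv y
      refine ⟨k, ((monBasis R n a).repr z).subtypeDomain _, ?_⟩
      show π ((monBasis R n a).repr.symm (Finsupp.mapDomain Subtype.val _)) = _
      have hmap : Finsupp.mapDomain Subtype.val
          (((monBasis R n a).repr z).subtypeDomain fun j => j ∉ lead (rel π) ordKey f) = (monBasis R n a).repr z := by
        classical
        refine ((Finsupp.embDomain_eq_mapDomain _ _).symm.trans
          ((Finsupp.extendDomain_eq_embDomain_subtype _).symm.trans (Finsupp.extendDomain_subtypeDomain _ hz)))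
      rw [hmap,
        LinearEquiv.symm_apply_apply,
        ← π.map_smul_of_tower, ← sub_eq_zero, ← map_sub, ← neg_sub, map_neg, neg_eq_zero]
      exact hK₀ hzK
  · refine ⟨a, π, fun m => ⟨0, by simpa using hπ m⟩, K₀, Submodule.fg_span (G.finite_toSet.image _), hK₀,
      fun y hy => ?_⟩
    obtain ⟨k, z, hz, hzK⟩ := hdiv y
    have hπz : π z = 0 := by
      have := LinearMap.mem_ker.mp (hK₀ hzK)
      rwa [map_sub, π.map_smul_of_tower, LinearMap.mem_ker.mp hy, smul_zero, zero_sub, neg_eq_zero] at this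
    refine ⟨k + 1, ?_⟩
    rw [← map_pow, algebraMap_smul]
    have : f ^ (k + 1) • y = f • (f ^ k • y - z) + f • z := by
      rw [smul_sub, sub_add_cancel, smul_smul, pow_succ']
    rw [this, hind z hπz hz, add_zero]
    exact Submodule.smul_of_tower_mem K₀ f hzK

end Poly

/-- **Generic freeness over a reduced ring**: below every nonzero `g` there is a nonzero multiple `f` such
that `M_f` is free and nearly finitely presented. -/
theorem exists_free_and_nearlyFP {R S : Type u} [CommRing R] [IsReduced R] [CommRing S] [Algebra R S]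
    [Algebra.FiniteType R S] (M : Type u) [AddCommGroup M] [Module S M] [Module R M] [IsScalarTower R S M]
    [Module.Finite S M] (g : R) (hg : g ≠ 0) :
    ∃ c, g * c ≠ 0 ∧ Module.Free (Localization.Away (g * c)) (Localization.Away (g * c) ⊗[R] M) ∧
      GF.NearlyFP (g * c) S M := by
  obtain ⟨n, φ, hφ⟩ := Algebra.FiniteType.iff_quotient_mvPolynomial''.mp (inferInstance : Algebra.FiniteType R S)
  let _ : Module (MvPolynomial (Fin n) R) M := Module.compHom M φ.toRingHom
  have : IsScalarTower R (MvPolynomial (Fin n) R) M := IsScalarTower.of_algebraMap_smul fun r m => by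
    show φ (algebraMap R _ r) • m = r • m
    rw [AlgHom.commutes, algebraMap_smul]
  obtain ⟨a, m, hm⟩ := Module.Finite.exists_fin (R := S) (M := M)
  have hπ : Function.Surjective (Fintype.linearCombination (MvPolynomial (Fin n) R) m) := by
    intro x
    have hx : x ∈ Submodule.span S (Set.range m) := by rw [hm]; trivial
    obtain ⟨s, rfl⟩ := (Submodule.mem_span_range_iff_exists_fun S).mp hx
    choose p hp using fun i => hφ (s i)
    refine ⟨p, ?_⟩
    rw [Fintype.linearCombination_apply]
    exact Finset.sum_congr rfl fun i _ => by show φ (p i) • m i = _; rw [hp]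
  obtain ⟨c, hc, hfree, h⟩ := exists_free_and_nearlyFP_poly (Fintype.linearCombination (MvPolynomial (Fin n) R) m) hπ g hg
  exact ⟨c, hc, hfree, GF.NearlyFP.change φ h (AddMonoidHom.id M) (fun _ _ => rfl) Function.injective_id
    fun x => ⟨0, x, by simp⟩⟩

end Groth.L20.GFR
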