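import Groth.Agent.L20.GenericFreeReduced
import Mathlib.RingTheory.Spectrum.Prime.Topology
import Mathlib.RingTheory.Localization.BaseChange
import Mathlib.RingTheory.RingHom.FinitePresentation

/-!
# The generic freeness open subset
-/

set_option autoImplicit false
set_option linter.style.haveILetI false

universe u

open scoped TensorProduct

namespace Groth.L20.GFR

variable {R S : Type u} [CommRing R] [CommRing S] [Algebra R S]

/-- All conclusions of generic freeness after inverting `f`. -/
def GoodAway (R S M : Type u) [CommRing R] [CommRing S] [Algebra R S] [AddCommGroup M] [Module S M] [Module R M]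
    (f : R) : Prop :=
  Module.Free (Localization.Away f) (Localization.Away f ⊗[R] M) ∧
  Module.Free (Localization.Away f) (Localization.Away f ⊗[R] S) ∧
  Algebra.FinitePresentation (Localization.Away f) (Localization.Away f ⊗[R] S) ∧
  GF.NearlyFP f S M

/-- Below every nonzero element generic freeness holds. -/
theorem exists_goodAway [IsReduced R] [Algebra.FiniteType R S] (M : Type u) [AddCommGroup M] [Module S M]
    [Module R M] [IsScalarTower R S M] [Module.Finite S M] (g : R) (hg : g ≠ 0) :
    ∃ c, g * c ≠ 0 ∧ GoodAway R S M (g * c) := by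
  obtain ⟨c₁, hc₁, hfree₁, hM⟩ := exists_free_and_nearlyFP (R := R) (S := S) M g hg
  obtain ⟨c₂, hc₂, hfree₂, -⟩ := exists_free_and_nearlyFP (R := R) (S := S) S (g * c₁) hc₁
  obtain ⟨n, φ, hφ⟩ := Algebra.FiniteType.iff_quotient_mvPolynomial''.mp (inferInstance : Algebra.FiniteType R S)
  obtain ⟨c₃, hc₃, I, hI, hle, htor⟩ : ∃ c₃ : R, g * c₁ * c₂ * c₃ ≠ 0 ∧ ∃ I : Ideal (MvPolynomial (Fin n) R), I.FG ∧
      I ≤ RingHom.ker φ ∧ ∀ x ∈ RingHom.ker φ, ∃ k : ℕ, algebraMap R _ (g * c₁ * c₂ * c₃) ^ k * x ∈ I := by
    let _ : Algebra (MvPolynomial (Fin n) R) S := φ.toRingHom.toAlgebra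
    have : IsScalarTower R (MvPolynomial (Fin n) R) S := IsScalarTower.of_algebraMap_eq fun r => (φ.commutes r).symm
    have : Module.Finite (MvPolynomial (Fin n) R) S := Module.Finite.of_surjective (Algebra.linearMap _ S) hφ
    obtain ⟨c₃, hc₃, -, h⟩ := exists_free_and_nearlyFP (R := R) (S := MvPolynomial (Fin n) R) S (g * c₁ * c₂) hc₂
    exact ⟨c₃, hc₃, h.exists_fg_ideal hφ⟩
  refine ⟨c₁ * c₂ * c₃, by simpa only [← mul_assoc] using hc₃, ?_⟩
  rw [show g * (c₁ * c₂ * c₃) = g * c₁ * c₂ * c₃ by ring]
  have hu : IsUnit (algebraMap R (Localization.Away (g * c₁ * c₂ * c₃)) (g * c₁ * c₂ * c₃)) :=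
    IsLocalization.Away.algebraMap_isUnit _
  have hu₂ : IsUnit (algebraMap R (Localization.Away (g * c₁ * c₂ * c₃)) (g * c₁ * c₂)) := by
    rw [map_mul, IsUnit.mul_iff] at hu; exact hu.1
  have hu₁ : IsUnit (algebraMap R (Localization.Away (g * c₁ * c₂ * c₃)) (g * c₁)) := by
    rw [map_mul, IsUnit.mul_iff] at hu₂; exact hu₂.1
  exact ⟨GF.free_of_isUnit _ hu₁ M, GF.free_of_isUnit _ hu₂ S,
    GF.finitePresentation_baseChange_quotient φ hφ hI hle htor _ hu, (hM.mul c₂).mul c₃⟩

/-- The union of the basic opens where generic freeness holds. -/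
def goodSet (R S M : Type u) [CommRing R] [CommRing S] [Algebra R S] [AddCommGroup M] [Module S M] [Module R M] :
    Set (PrimeSpectrum R) :=
  {u | ∃ f, f ∉ u.asIdeal ∧ GoodAway R S M f}

theorem basicOpen_subset_goodSet {M : Type u} [AddCommGroup M] [Module S M] [Module R M] {f : R}
    (h : GoodAway R S M f) : (PrimeSpectrum.basicOpen f : Set (PrimeSpectrum R)) ⊆ goodSet R S M :=
  fun _ hu => ⟨f, hu, h⟩

theorem isOpen_goodSet (R S M : Type u) [CommRing R] [CommRing S] [Algebra R S] [AddCommGroup M] [Module S M]
    [Module R M] : IsOpen (goodSet R S M) := by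
  rw [isOpen_iff_forall_mem_open]
  rintro u ⟨f, hf, h⟩
  exact ⟨_, basicOpen_subset_goodSet h, (PrimeSpectrum.basicOpen f).2, hf⟩

theorem dense_goodSet [IsReduced R] [Algebra.FiniteType R S] (M : Type u) [AddCommGroup M] [Module S M]
    [Module R M] [IsScalarTower R S M] [Module.Finite S M] : Dense (goodSet R S M) := by
  rw [PrimeSpectrum.isTopologicalBasis_basic_opens.dense_iff]
  rintro _ ⟨g, rfl⟩ ⟨u, hu⟩
  have hg : g ≠ 0 := by
    rintro rfl
    exact hu u.asIdeal.zero_mem
  obtain ⟨c, hc, h⟩ := exists_goodAway (R := R) (S := S) M g hg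
  obtain ⟨v, hv⟩ : ∃ v : PrimeSpectrum R, g * c ∉ v.asIdeal := by
    by_contra hall
    push Not at hall
    exact hc (IsNilpotent.eq_zero (nilpotent_iff_mem_prime.mpr fun J hJ => hall ⟨J, hJ⟩))
  exact ⟨v, fun hgv => hv (v.asIdeal.mul_mem_right c hgv), g * c, hv, h⟩

/-- The algebra statement in terms of the localization of `S`. -/
theorem GoodAway.awayMap_finitePresentation {M : Type u} [AddCommGroup M] [Module S M] [Module R M] {f : R}
    (h : GoodAway R S M f) : (Localization.awayMap (algebraMap R S) f).FinitePresentation := by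
  letI : Algebra (Localization.Away f) (Localization.Away (algebraMap R S f)) :=
    (Localization.awayMap (algebraMap R S) f).toAlgebra
  haveI : IsScalarTower R (Localization.Away f) (Localization.Away (algebraMap R S f)) :=
    IsScalarTower.of_algebraMap_eq fun x => by
      rw [RingHom.algebraMap_toAlgebra, Localization.awayMap, IsLocalization.Away.map, IsLocalization.map_eq,
        ← IsScalarTower.algebraMap_apply]
  haveI : IsLocalization (Algebra.algebraMapSubmonoid S (Submonoid.powers f)) (Localization.Away (algebraMap R S f)) := by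
    rw [Algebra.algebraMapSubmonoid, Submonoid.map_powers]
    infer_instance
  haveI : Algebra.IsPushout R (Localization.Away f) S (Localization.Away (algebraMap R S f)) :=
    (Algebra.isPushout_of_isLocalization (Submonoid.powers f) (Localization.Away f) S
      (Localization.Away (algebraMap R S f))).symm
  haveI := h.2.2.1
  exact RingHom.finitePresentation_algebraMap.mpr (Algebra.FinitePresentation.equiv
    (Algebra.IsPushout.equiv R (Localization.Away f) S (Localization.Away (algebraMap R S f))))

/-- The module statement in terms of the localized module. -/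
theorem free_localizedModule (M : Type u) [AddCommGroup M] [Module R M] {f : R}
    (h : Module.Free (Localization.Away f) (Localization.Away f ⊗[R] M)) :
    Module.Free (Localization.Away f) (LocalizedModule (Submonoid.powers f) M) :=
  Module.Free.of_equiv (LocalizedModule.equivTensorProduct (Submonoid.powers f) M).symm

end Groth.L20.GFR
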