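import Groth.Agent.L20.GenConn.Basic
import Groth.Agent.L07.Count.FlatProperConst
import Groth.Agent.L07.Count.Split
import Groth.Agent.L07.Count.Top
import Groth.Agent.L07.Count.Proper
import Groth.Agent.S1338
import Groth.Agent.L23.SchemeFacts

/-!
# Upper semicontinuity of the number of geometric irreducible components
-/

set_option autoImplicit false
set_option linter.style.haveILetI false
set_option maxSynthPendingDepth 3
set_option backward.isDefEq.respectTransparency.types false

universe u

open CategoryTheory CategoryTheory.Limits AlgebraicGeometry TopologicalSpace IsLocalRing Groth.L07.Spread Groth.L07.Count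
  Groth.L22.GeomConn

noncomputable section

namespace Groth.L20.GeomIrrUsc

/-- A noetherian local ring with a regular element of reduced quotient has at most one prime avoiding the element,
as soon as some minimal prime has maximal radical together with it. -/
theorem eq_bot_of_minimal {A : Type u} [CommRing A] [IsNoetherianRing A] [IsLocalRing A] {π : A}
    (hπ : π ∈ nonZeroDivisors A) (hπm : π ∈ maximalIdeal A) (hred : ∀ w : A, w * w ∈ Ideal.span {π} → w ∈ Ideal.span {π})
    {P : Ideal A} (hP : P ∈ minimalPrimes A) (hrad : maximalIdeal A ≤ (P ⊔ Ideal.span {π}).radical) :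
    maximalIdeal A = Ideal.span {π} ∧ ∀ Q : Ideal A, Q.IsPrime → π ∉ Q → Q = ⊥ := by
  haveI hPp : P.IsPrime := hP.1.1
  have hπP : π ∉ P := fun h => (Ideal.disjoint_nonZeroDivisors_of_mem_minimalPrimes hP).ne_of_mem h hπ rfl
  have hass : P ∈ associatedPrimes A A := by
    refine Module.associatedPrimes.minimalPrimes_annihilator_subset_associatedPrimes A A ?_
    rwa [show Module.annihilator A A = ⊥ from Module.annihilator_eq_bot.2 inferInstance]
  obtain ⟨-, y, hy⟩ := hass
  have hmem : ∀ a, a ∈ P → ∃ n : ℕ, a ^ n * y = 0 := fun a ha => by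
    rw [hy] at ha
    obtain ⟨n, hn⟩ := ha
    exact ⟨n, by simpa using hn⟩
  have hy0 : y ≠ 0 := fun h => hPp.ne_top (by
    rw [hy]; refine Ideal.radical_eq_top.2 ?_; ext a; simp [h])
  obtain ⟨n, y', hy'π, hyy⟩ : ∃ (n : ℕ) (y' : A), y' ∉ Ideal.span {π} ∧ y = π ^ n * y' := by
    by_contra hne
    push Not at hne
    have hall : ∀ n : ℕ, ∃ z, y = π ^ n * z := fun n => by
      induction n with
      | zero => exact ⟨y, by rw [pow_zero, one_mul]⟩
      | succ n ih =>
        obtain ⟨z, hz⟩ := ih
        by_cases hzπ : z ∈ Ideal.span {π}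
        · obtain ⟨z', rfl⟩ := Ideal.mem_span_singleton'.1 hzπ
          exact ⟨z', by rw [hz, pow_succ]; ring⟩
        · exact absurd hz (hne n z hzπ)
    have hinf : y ∈ ⨅ n : ℕ, Ideal.span {π} ^ n := Submodule.mem_iInf _ |>.2 fun n => by
      obtain ⟨z, hz⟩ := hall n
      rw [hz, Ideal.span_singleton_pow]
      exact Ideal.mul_mem_right _ _ (Ideal.mem_span_singleton_self _)
    rw [Ideal.iInf_pow_eq_bot_of_isLocalRing _ (fun h => hπm (Ideal.span_singleton_eq_top.1 h))] at hinf
    exact hy0 hinf
  have hkill : ∀ a ∈ maximalIdeal A, ∃ m : ℕ, a ^ m * y' ∈ Ideal.span {π} := fun a ha => by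
    obtain ⟨m, hm⟩ := hrad ha
    obtain ⟨p, hp, q, hq, hpq⟩ := Submodule.mem_sup.1 hm
    obtain ⟨l, hl⟩ := hmem p hp
    have hl' : p ^ l * y' = 0 :=
      (pow_mem hπ n).1 (p ^ l * y') (by rw [← hl, hyy]; ring)
    refine ⟨m * l, ?_⟩
    rw [pow_mul, ← hpq]
    obtain ⟨c, hc⟩ := (sub_dvd_pow_sub_pow (p + q) p l)
    rw [add_sub_cancel_left] at hc
    have e : (p + q) ^ l * y' = q * (c * y') + p ^ l * y' := by
      rw [show (p + q) ^ l = q * c + p ^ l by rw [← hc]; ring]; ring
    rw [e, hl', add_zero]
    exact Ideal.mul_mem_right _ _ hq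
  have hkill1 : ∀ a ∈ maximalIdeal A, a * y' ∈ Ideal.span {π} := fun a ha => by
    obtain ⟨m, hm⟩ := hkill a ha
    induction m generalizing a with
    | zero => exact absurd (by simpa using hm) hy'π
    | succ m ih =>
      by_cases hm0 : m = 0
      · subst hm0; simpa using hm
      · refine ih a ha (hred _ ?_)
        obtain ⟨j, rfl⟩ := Nat.exists_eq_succ_of_ne_zero hm0
        rw [show a ^ (j + 1) * y' * (a ^ (j + 1) * y') = a ^ (j + 1 + 1) * y' * (a ^ j * y') by ring]
        exact Ideal.mul_mem_right _ _ hm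
  have hu : IsUnit y' := by
    by_contra hu
    exact hy'π (hred y' (hkill1 y' hu))
  have hmax : maximalIdeal A = Ideal.span {π} := le_antisymm (fun a ha => by
    obtain ⟨u, rfl⟩ := hu
    simpa using Ideal.mul_mem_right (↑u⁻¹ : A) _ (hkill1 a ha)) ((Ideal.span_singleton_le_iff_mem _).2 hπm)
  refine ⟨hmax, fun Q hQ hQπ => ?_⟩
  refine Submodule.eq_bot_of_le_smul_of_le_jacobson_bot (Ideal.span {π}) Q (IsNoetherian.noetherian Q)
    (fun x hx => ?_) ?_
  · have hxm : x ∈ Ideal.span {π} := hmax ▸ IsLocalRing.le_maximalIdeal hQ.ne_top hx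
    obtain ⟨z, rfl⟩ := Ideal.mem_span_singleton'.1 hxm
    rw [mul_comm, smul_eq_mul]
    exact Ideal.mul_mem_mul (Ideal.mem_span_singleton_self π) ((hQ.mem_or_mem hx).resolve_right hQπ)
  · rw [IsLocalRing.jacobson_eq_maximalIdeal ⊥ bot_ne_top, hmax]

variable {R : Type u} [CommRing R] [IsDomain R] [IsDiscreteValuationRing R] {X : Scheme.{u}}
  (f : X ⟶ Spec (CommRingCat.of R))

/-- On an affine chart of a flat scheme with reduced closed fibre a uniformizer is regular with reduced quotient. -/
theorem exists_uniformizer_chart [Flat f] (hred : IsReduced (f.fiber (IsLocalRing.closedPoint R))) (U : X.Opens)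
    (hU : IsAffineOpen U) :
    ∃ u : Γ(X, U), (∀ x ∈ U, (x ∈ X.basicOpen u ↔ f x ≠ IsLocalRing.closedPoint R)) ∧ u ∈ nonZeroDivisors Γ(X, U) ∧
      ∀ w : Γ(X, U), w * w ∈ Ideal.span {u} → w ∈ Ideal.span {u} := by
  obtain ⟨ϖ, hϖ⟩ := IsDiscreteValuationRing.exists_irreducible R
  let s : Γ(Spec (CommRingCat.of R), ⊤) := (Scheme.ΓSpecIso (CommRingCat.of R)).inv ϖ
  let G : X.Opens := f ⁻¹ᵁ (Spec (CommRingCat.of R)).basicOpen s
  have hGmem : ∀ x : X, x ∈ G ↔ f x ≠ IsLocalRing.closedPoint R := fun x => by
    show f x ∈ (Spec (CommRingCat.of R)).basicOpen s ↔ _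
    rw [show (Spec (CommRingCat.of R)).basicOpen s = PrimeSpectrum.basicOpen ϖ from basicOpen_eq_of_affine (R := CommRingCat.of R) ϖ]
    refine ⟨fun h e => h (e ▸ hϖ.not_isUnit), fun h hm => h (PrimeSpectrum.ext (le_antisymm
      (IsLocalRing.le_maximalIdeal (f x).isPrime.ne_top) ?_))⟩
    show maximalIdeal R ≤ _
    rw [hϖ.maximalIdeal_eq, Ideal.span_singleton_le_iff_mem]
    exact hm
  suffices h : ∀ (U : X.Opens), IsAffineOpen U → ∃ u : Γ(X, U), X.basicOpen u = U ⊓ G ∧ u ∈ nonZeroDivisors Γ(X, U) ∧
      ∀ w : Γ(X, U), w * w ∈ Ideal.span {u} → w ∈ Ideal.span {u} by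
    obtain ⟨u, hb, h1, h2⟩ := h U hU
    refine ⟨u, fun x hx => ?_, h1, h2⟩
    rw [hb, ← hGmem]
    exact ⟨fun h => h.2, fun h => ⟨hx, h⟩⟩
  clear hU U
  intro U hU
  let u := f.appLE ⊤ U le_top s
  have hb : X.basicOpen u = U ⊓ G := Scheme.basicOpen_appLE f U ⊤ le_top s
  refine ⟨u, hb, ?_, fun w hw => ?_⟩
  · haveI : IsDomain Γ(Spec (CommRingCat.of R), ⊤) :=
      (Scheme.ΓSpecIso (CommRingCat.of R)).commRingCatIsoToRingEquiv.toMulEquiv.isDomain R
    letI := (f.appLE ⊤ U le_top).hom.toAlgebra
    haveI : Module.Flat Γ(Spec (CommRingCat.of R), ⊤) Γ(X, U) := f.flat_appLE (isAffineOpen_top _) hU le_top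
    haveI : Module.IsTorsionFree Γ(Spec (CommRingCat.of R), ⊤) Γ(X, U) := inferInstance
    have hs : s ≠ 0 := fun h => hϖ.ne_zero ((map_eq_zero_iff _
      (ConcreteCategory.bijective_of_isIso (Scheme.ΓSpecIso (CommRingCat.of R)).inv).1).1 h)
    exact mem_nonZeroDivisors_iff_right.2 fun v hv =>
      (smul_eq_zero.1 (show s • v = 0 by rw [Algebra.smul_def, mul_comm]; exact hv)).resolve_left hs
  · let K : Ideal Γ(X, U) := Submodule.comap (LinearMap.toSpanSingleton Γ(X, U) Γ(X, U) w) (Ideal.span {u})
    suffices K = ⊤ by simpa [K] using (Ideal.eq_top_iff_one K).1 this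
    by_contra hK
    obtain ⟨P, hP, hle⟩ := K.exists_le_maximal hK
    haveI := hP.isPrime
    let x := hU.fromSpec ⟨P, hP.isPrime⟩
    have hxU : x ∈ U := hU.range_fromSpec.subset (Set.mem_range_self _)
    letI := X.presheaf.algebra_section_stalk ⟨x, hxU⟩
    haveI hloc := hU.isLocalization_stalk ⟨x, hxU⟩
    have hPx : (hU.primeIdealOf ⟨x, hxU⟩).asIdeal = P :=
      congrArg PrimeSpectrum.asIdeal (hU.fromSpec.isOpenEmbedding.injective (hU.fromSpec_primeIdealOf ⟨x, hxU⟩))
    simp only [hPx] at hloc
    clear_value x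
    have key : algebraMap Γ(X, U) (X.presheaf.stalk x) w ∈
        (Ideal.span {u}).map (algebraMap Γ(X, U) (X.presheaf.stalk x)) := by
      by_cases huP : u ∈ P
      · have hxc : f x = IsLocalRing.closedPoint R := by
          have h1 : f x ∉ (Spec (CommRingCat.of R)).basicOpen s := fun h => by
            have h2 : x ∈ X.basicOpen u := by rw [hb]; exact ⟨hxU, h⟩
            rw [X.mem_basicOpen u x hxU] at h2
            exact ((IsLocalization.AtPrime.to_map_mem_maximal_iff (X.presheaf.stalk x) P u).2 huP) h2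
          rw [show (Spec (CommRingCat.of R)).basicOpen s = PrimeSpectrum.basicOpen ϖ from basicOpen_eq_of_affine (R := CommRingCat.of R) ϖ] at h1
          have h3 : ϖ ∈ (f x).asIdeal := not_not.1 h1
          exact PrimeSpectrum.ext (le_antisymm (IsLocalRing.le_maximalIdeal (f x).isPrime.ne_top)
            (by show maximalIdeal R ≤ _; rw [hϖ.maximalIdeal_eq, Ideal.span_singleton_le_iff_mem]; exact h3))
        obtain ⟨v, hv⟩ : x ∈ Set.range (f.fiberι (IsLocalRing.closedPoint R)) := by rw [f.range_fiberι]; exact hxc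
        haveI := hred
        obtain ⟨-, hker⟩ := Groth.L18.stalkMap_fiberι f (IsLocalRing.closedPoint R) v
        have hker' : ∀ x' : X, x' = x → (hxU' : x' ∈ U) → maximalIdeal ((Spec (CommRingCat.of R)).presheaf.stalk (f x')) ≤
            Ideal.span {(Spec (CommRingCat.of R)).presheaf.germ ⊤ (f x') trivial s} := by
          intro x' e _
          subst x'
          have hxT : f x ∈ (⊤ : (Spec (CommRingCat.of R)).Opens) := trivial
          letI := (Spec (CommRingCat.of R)).presheaf.algebra_section_stalk ⟨f x, hxT⟩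
          haveI := (isAffineOpen_top (Spec (CommRingCat.of R))).isLocalization_stalk ⟨f x, hxT⟩
          intro t ht
          obtain ⟨⟨c, d⟩, hcd⟩ := IsLocalization.surj ((isAffineOpen_top (Spec (CommRingCat.of R))).primeIdealOf ⟨f x, hxT⟩).asIdeal.primeCompl t
          have hc : algebraMap _ ((Spec (CommRingCat.of R)).presheaf.stalk (f x)) c ∈ maximalIdeal _ :=
            hcd ▸ Ideal.mul_mem_right _ _ ht
          have hcn : ¬ IsUnit c := fun hcu => hc (hcu.map _)
          let i := (Scheme.ΓSpecIso (CommRingCat.of R)).commRingCatIsoToRingEquiv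
          have : i c ∈ maximalIdeal R := fun hcu => hcn (by simpa using hcu.map i.symm)
          rw [hϖ.maximalIdeal_eq, Ideal.mem_span_singleton'] at this
          obtain ⟨k, hk⟩ := this
          have hck : c = i.symm k * s := by
            rw [show s = i.symm ϖ from rfl, ← map_mul, hk, i.symm_apply_apply]
          refine (Ideal.mul_unit_mem_iff_mem _ (IsLocalization.map_units _ d)).1 ?_
          rw [hcd, hck, map_mul]
          exact Ideal.mul_mem_left _ _ (Ideal.mem_span_singleton_self _)
        subst hv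
        have hkle : RingHom.ker ((f.fiberι (IsLocalRing.closedPoint R)).stalkMap v).hom ≤
            (Ideal.span {u}).map (algebraMap Γ(X, U) (X.presheaf.stalk (f.fiberι (IsLocalRing.closedPoint R) v))) := by
          rw [hker]
          refine (Ideal.map_mono (hker' _ rfl hxU)).trans ?_
          rw [Ideal.map_span, Set.image_singleton, Ideal.map_span, Set.image_singleton, Scheme.Hom.germ_stalkMap_apply]
          refine le_of_eq (congrArg (fun t => Ideal.span {t}) ?_)
          exact (TopCat.Presheaf.germ_res_apply X.presheaf (homOfLE (le_top : U ≤ f ⁻¹ᵁ ⊤)) _ hxU _).symm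
        refine hkle ?_
        rw [RingHom.mem_ker]
        refine (pow_eq_zero_iff (two_ne_zero)).1 ?_
        rw [← map_pow, ← RingHom.mem_ker, hker, pow_two, ← map_mul]
        have h4 := Ideal.mem_map_of_mem (algebraMap Γ(X, U) (X.presheaf.stalk (f.fiberι (IsLocalRing.closedPoint R) v))) hw
        rw [Ideal.map_span, Set.image_singleton] at h4
        refine (Ideal.span_le.2 ?_) h4
        rintro _ rfl
        refine SetLike.mem_coe.2 ?_
        show X.presheaf.germ U _ hxU (f.appLE ⊤ U le_top s) ∈ _
        rw [Scheme.Hom.appLE, CommRingCat.comp_apply, TopCat.Presheaf.germ_res_apply, ← Scheme.Hom.germ_stalkMap_apply]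
        refine Ideal.mem_map_of_mem _ fun hcu => ?_
        rw [← (Spec (CommRingCat.of R)).mem_basicOpen s _ (trivial : f (f.fiberι (IsLocalRing.closedPoint R) v) ∈ (⊤ : (Spec (CommRingCat.of R)).Opens))] at hcu
        rw [show (Spec (CommRingCat.of R)).basicOpen s = PrimeSpectrum.basicOpen ϖ from basicOpen_eq_of_affine (R := CommRingCat.of R) ϖ] at hcu
        refine hcu ?_
        rw [hxc]
        show ϖ ∈ maximalIdeal R
        exact hϖ.not_isUnit
      · rw [Ideal.map_span, Set.image_singleton, Ideal.span_singleton_eq_top.2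
          (IsLocalization.map_units (X.presheaf.stalk x) (⟨u, huP⟩ : P.primeCompl))]
        trivial
    rw [IsLocalization.algebraMap_mem_map_algebraMap_iff P.primeCompl] at key
    obtain ⟨t, ht, htw⟩ := key
    exact ht (hle (by simpa [K, Submodule.mem_comap] using htw))

/-- Finite unions of locally constructible sets. -/
theorem isLocallyConstructible_biUnion {T : Type*} [TopologicalSpace T] {ι : Type*} (s : Finset ι) {E : ι → Set T}
    (h : ∀ i ∈ s, Topology.IsLocallyConstructible (E i)) : Topology.IsLocallyConstructible (⋃ i ∈ s, E i) := by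
  classical
  induction s using Finset.induction with
  | empty => simpa using Topology.IsConstructible.empty.isLocallyConstructible
  | insert i s his ih =>
    rw [Finset.set_biUnion_insert]
    exact (h i (Finset.mem_insert_self i s)).union (ih fun j hj => h j (Finset.mem_insert_of_mem hj))

/-- A point of a scheme which is the only generalisation of itself. -/
def IsMax' {T : Scheme.{u}} (c : T) : Prop := ∀ z : T, z ⤳ c → z = c

/-- Generic points of components are the maximal points. -/
theorem mem_genericPoints_iff {T : Scheme.{u}} {c : T} : c ∈ genericPoints T ↔ IsMax' c := by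
  refine ⟨fun hc z hz => ?_, fun hc => ?_⟩
  · have h1 : closure ({c} : Set T) ⊆ closure {z} := hz.closure_subset
    have h2 : closure ({z} : Set T) = closure {c} := le_antisymm (hc.2 isIrreducible_singleton.closure h1) h1
    exact (show IsGenericPoint z (closure {c}) from h2).eq isGenericPoint_closure
  · obtain ⟨η, hη⟩ := QuasiSober.sober (isIrreducible_irreducibleComponent (x := c)) isClosed_irreducibleComponent
    have h := hc η (hη.specializes mem_irreducibleComponent)
    subst h
    show closure {η} ∈ irreducibleComponents T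
    rw [hη.def]
    exact irreducibleComponent_mem_irreducibleComponents η

/-- The number of components is the number of generic points. -/
theorem nIrr_eq (T : Scheme.{u}) : nIrr T = ENat.card (genericPoints T) := by
  rw [ENat.card_congr (Equiv.ofBijective (genericPoints.component (α := T))
    ⟨fun a b hab => Subtype.ext ((genericPoints.isGenericPoint a).eq (hab ▸ genericPoints.isGenericPoint b)),
      fun Z => ⟨genericPoints.ofComponent Z, genericPoints.component_ofComponent Z⟩⟩)]
  exact (ENat.card_coe_set_eq _).symm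

/-- The components of a closed fibre meeting the closure of a maximal point of the general fibre. -/
theorem eq_of_specializes_closedFibre [IsLocallyNoetherian X] [Flat f] (hred : IsReduced (f.fiber (IsLocalRing.closedPoint R)))
    {c ξ : X} (hc : IsMax' c) (hcξ : c ⤳ ξ) (hξ : f ξ = IsLocalRing.closedPoint R)
    (hmax : ∀ z : X, c ⤳ z → z ⤳ ξ → f z = IsLocalRing.closedPoint R → z = ξ) :
    (∀ z : X, z ⤳ ξ → f z = IsLocalRing.closedPoint R → z = ξ) ∧
      ∀ z : X, z ⤳ ξ → f z ≠ IsLocalRing.closedPoint R → z = c := by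
  obtain ⟨_, ⟨U, hU, rfl⟩, hξU, -⟩ := X.isBasis_affineOpens.exists_subset_of_mem_open (Set.mem_univ ξ) isOpen_univ
  change X.Opens at U
  replace hU : IsAffineOpen U := hU
  obtain ⟨u, hu, hnzd, hsq⟩ := exists_uniformizer_chart f hred U hU
  haveI : IsNoetherianRing Γ(X, U) := IsLocallyNoetherian.component_noetherian ⟨U, hU⟩
  let q := hU.primeIdealOf ⟨ξ, hξU⟩
  have hq : hU.fromSpec q = ξ := hU.fromSpec_primeIdealOf ⟨ξ, hξU⟩
  let A := Localization.AtPrime q.asIdeal
  -- points specialising to `ξ` are primes of the local ring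
  let pt : ∀ z : X, z ⤳ ξ → PrimeSpectrum Γ(X, U) := fun z hz => hU.primeIdealOf ⟨z, hz.mem_open U.2 hξU⟩
  have hpt : ∀ z (hz : z ⤳ ξ), hU.fromSpec (pt z hz) = z := fun z hz => hU.fromSpec_primeIdealOf _
  have hspec : ∀ a b : PrimeSpectrum Γ(X, U), hU.fromSpec a ⤳ hU.fromSpec b ↔ a.asIdeal ≤ b.asIdeal := fun a b => by
    rw [hU.fromSpec.isOpenEmbedding.isInducing.specializes_iff]
    exact (PrimeSpectrum.le_iff_specializes a b).symm
  have hu' : ∀ a : PrimeSpectrum Γ(X, U), u ∈ a.asIdeal ↔ f (hU.fromSpec a) = IsLocalRing.closedPoint R := fun a => by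
    have h1 : hU.fromSpec a ∈ X.basicOpen u ↔ u ∉ a.asIdeal := SetLike.ext_iff.1 (hU.fromSpec_preimage_basicOpen u) a
    have h2 := hu (hU.fromSpec a) (hU.range_fromSpec.le ⟨a, rfl⟩)
    rw [h1] at h2
    tauto
  let π : A := algebraMap Γ(X, U) A u
  have hπ : π ∈ nonZeroDivisors A := IsLocalization.map_nonZeroDivisors_le q.asIdeal.primeCompl A ⟨u, hnzd, rfl⟩
  have hπm : π ∈ maximalIdeal A :=
    (IsLocalization.AtPrime.to_map_mem_maximal_iff A q.asIdeal u).2 ((hu' q).2 (hq.symm ▸ hξ))
  have hredA : ∀ w : A, w * w ∈ Ideal.span {π} → w ∈ Ideal.span {π} := fun w hw => by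
    obtain ⟨r, d, rfl⟩ := IsLocalization.exists_mk'_eq q.asIdeal.primeCompl w
    have hs : Ideal.span {π} = (Ideal.span {u}).map (algebraMap Γ(X, U) A) := by
      rw [Ideal.map_span, Set.image_singleton]
    have h1 : algebraMap Γ(X, U) A (r * r) ∈ Ideal.span {π} := by
      have := Ideal.mul_mem_left _ (algebraMap Γ(X, U) A d * algebraMap Γ(X, U) A d) hw
      rwa [mul_mul_mul_comm, IsLocalization.mk'_spec', ← map_mul] at this
    rw [hs, IsLocalization.algebraMap_mem_map_algebraMap_iff q.asIdeal.primeCompl] at h1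
    obtain ⟨t, ht, htr⟩ := h1
    have h2 : t * r ∈ Ideal.span {u} := hsq _ (by
      rw [show t * r * (t * r) = t * (t * (r * r)) by ring]
      exact Ideal.mul_mem_left _ _ htr)
    rw [hs, IsLocalization.mk'_mem_map_algebraMap_iff q.asIdeal.primeCompl A]
    exact ⟨t, ht, h2⟩
  have hprime : ∀ (z : X) (hz : z ⤳ ξ), (pt z hz).asIdeal ≤ q.asIdeal := fun z hz =>
    (hspec _ q).1 (by rw [hpt z hz, hq]; exact hz)
  let P := (pt c hcξ).asIdeal.map (algebraMap Γ(X, U) A)
  have hdisj : ∀ (z : X) (hz : z ⤳ ξ), Disjoint (q.asIdeal.primeCompl : Set Γ(X, U)) (pt z hz).asIdeal :=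
    fun z hz => Set.disjoint_left.2 fun a ha ha' => ha (hprime z hz ha')
  have hcomap : ∀ (z : X) (hz : z ⤳ ξ), ((pt z hz).asIdeal.map (algebraMap Γ(X, U) A)).comap (algebraMap Γ(X, U) A) =
      (pt z hz).asIdeal := fun z hz => IsLocalization.comap_map_of_isPrime_disjoint q.asIdeal.primeCompl A (pt z hz).2 (hdisj z hz)
  haveI hPp : ∀ (z : X) (hz : z ⤳ ξ), ((pt z hz).asIdeal.map (algebraMap Γ(X, U) A)).IsPrime := fun z hz =>
    IsLocalization.isPrime_of_isPrime_disjoint q.asIdeal.primeCompl A _ (pt z hz).2 (hdisj z hz)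
  have hPmin : P ∈ minimalPrimes A := by
    refine ⟨⟨hPp c hcξ, bot_le⟩, fun Q hQ hle => ?_⟩
    haveI := hQ.1
    let a : PrimeSpectrum Γ(X, U) := ⟨Q.comap (algebraMap Γ(X, U) A), inferInstance⟩
    have h1 : a.asIdeal ≤ (pt c hcξ).asIdeal := (Ideal.comap_mono hle).trans (hcomap c hcξ).le
    have h2 : hU.fromSpec a = hU.fromSpec (pt c hcξ) :=
      (hpt c hcξ).symm ▸ hc _ ((hpt c hcξ) ▸ (hspec a (pt c hcξ)).2 h1)
    have h3 := congrArg PrimeSpectrum.asIdeal (hU.fromSpec.isOpenEmbedding.injective h2)
    have h4 : (pt c hcξ).asIdeal.map (algebraMap Γ(X, U) A) = Q := by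
      rw [← h3]
      exact IsLocalization.map_comap q.asIdeal.primeCompl A Q
    exact h4.le
  have hrad : maximalIdeal A ≤ (P ⊔ Ideal.span {π}).radical := by
    rw [Ideal.radical_eq_sInf]
    refine le_sInf fun Q hQ => ?_
    obtain ⟨hQle, hQp⟩ := hQ
    let a : PrimeSpectrum Γ(X, U) := ⟨Q.comap (algebraMap Γ(X, U) A), Ideal.comap_isPrime _ Q⟩
    have ha : a.asIdeal ≤ q.asIdeal := by
      refine (Ideal.comap_mono (IsLocalRing.le_maximalIdeal hQp.ne_top)).trans (le_of_eq ?_)
      exact IsLocalization.AtPrime.comap_maximalIdeal A q.asIdeal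
    have hz : hU.fromSpec a ⤳ ξ := hq ▸ (hspec a q).2 ha
    have hcz : c ⤳ hU.fromSpec a := by
      refine hpt c hcξ ▸ (hspec (pt c hcξ) a).2 ?_
      exact (hcomap c hcξ).ge.trans (Ideal.comap_mono (le_sup_left.trans hQle))
    have hua : u ∈ a.asIdeal := Ideal.mem_comap.2 (hQle (Ideal.mem_sup_right (Ideal.mem_span_singleton_self π)))
    have h5 := hmax _ hcz hz ((hu' a).1 hua)
    have h6 : a = q := hU.fromSpec.isOpenEmbedding.injective (h5.trans hq.symm)
    rw [← IsLocalization.map_comap q.asIdeal.primeCompl A Q, ← Localization.AtPrime.map_eq_maximalIdeal]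
    exact le_of_eq (congrArg (Ideal.map _) (congrArg PrimeSpectrum.asIdeal h6).symm)
  obtain ⟨hmaxA, hbot⟩ := eq_bot_of_minimal hπ hπm hredA hPmin hrad
  refine ⟨fun z hz hfz => ?_, fun z hz hfz => ?_⟩
  · have hmem : π ∈ (pt z hz).asIdeal.map (algebraMap Γ(X, U) A) :=
      Ideal.mem_map_of_mem _ ((hu' _).2 ((hpt z hz).symm ▸ hfz))
    have h1 : (pt z hz).asIdeal.map (algebraMap Γ(X, U) A) = maximalIdeal A :=
      le_antisymm (IsLocalRing.le_maximalIdeal (hPp z hz).ne_top)
        (hmaxA ▸ (Ideal.span_singleton_le_iff_mem _).2 hmem)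
    have h2 : pt z hz = q := PrimeSpectrum.ext (by
      rw [← hcomap z hz, h1]; exact IsLocalization.AtPrime.comap_maximalIdeal A q.asIdeal)
    rw [← hpt z hz, h2, hq]
  · have key : ∀ (z : X) (hz : z ⤳ ξ), f z ≠ IsLocalRing.closedPoint R →
        (pt z hz).asIdeal.map (algebraMap Γ(X, U) A) = ⊥ := fun z hz hfz => hbot _ (hPp z hz) fun hmem => hfz (by
      rw [← hpt z hz]
      refine (hu' _).1 ?_
      rw [← hcomap z hz]
      exact hmem)
    have hfc : f c ≠ IsLocalRing.closedPoint R := fun hfc => by
      have hπP : π ∈ P := Ideal.mem_map_of_mem _ ((hu' _).2 ((hpt c hcξ).symm ▸ hfc))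
      exact (Ideal.disjoint_nonZeroDivisors_of_mem_minimalPrimes hPmin).ne_of_mem hπP hπ rfl
    have h2 : pt z hz = pt c hcξ := PrimeSpectrum.ext (by
      rw [← hcomap z hz, ← hcomap c hcξ, key z hz hfz, key c hcξ hfc])
    rw [← hpt z hz, h2, hpt c hcξ]

/-- Over a discrete valuation ring a proper flat scheme with reduced closed fibre has no more components in the
generic fibre than in the closed fibre. -/
theorem nIrr_generic_le_closed [IsProper f] [Flat f] (hred : IsReduced (f.fiber (IsLocalRing.closedPoint R))) :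
    nIrr (pullback f (specAlg R (FractionRing R))) ≤ nIrr (pullback f (specAlg R (ResidueField R))) := by
  haveI : IsLocallyNoetherian X := LocallyOfFiniteType.isLocallyNoetherian f
  let π₀ := pullback.fst f (specAlg R (ResidueField R))
  let π₁ := pullback.fst f (specAlg R (FractionRing R))
  haveI : IsPreimmersion (specAlg R (FractionRing R)) := IsPreimmersion.of_isLocalization (nonZeroDivisors R)
  haveI : IsPreimmersion (specAlg R (ResidueField R)) := by
    haveI : IsClosedImmersion (specAlg R (ResidueField R)) := IsClosedImmersion.spec_of_surjective _ residue_surjective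
    infer_instance
  have hη₁ : ∀ z, (f (π₁ z)).asIdeal = ⊥ := fun z => (asIdeal_fst f _ z).trans
    ((RingHom.injective_iff_ker_eq_bot _).mp (IsFractionRing.injective R (FractionRing R)))
  have hne : ∀ z, f (π₁ z) ≠ closedPoint R := fun z e =>
    IsDiscreteValuationRing.not_a_field R ((congrArg PrimeSpectrum.asIdeal e).symm.trans (hη₁ z))
  have hlift : ∀ x : X, f x ≠ closedPoint R → ∃ p, π₁ p = x := fun x hx => by
    refine exists_fst_eq f (FractionRing R) x ?_
    rw [(RingHom.injective_iff_ker_eq_bot _).mp (IsFractionRing.injective R (FractionRing R))]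
    by_contra hne
    exact hx (PrimeSpectrum.ext (IsLocalRing.eq_maximalIdeal
      (IsPrime.to_maximal_ideal (fun h => hne (by first | exact h | exact h.symm)))))
  have hcl : IsClosed ({closedPoint R} : Set (Spec (CommRingCat.of R))) :=
    (PrimeSpectrum.isClosed_singleton_iff_isMaximal (closedPoint R)).mpr (maximalIdeal.isMaximal R)
  have hmap : ∀ c : genericPoints ↥(pullback f (specAlg R (FractionRing R))),
      ∃ p : genericPoints ↥(pullback f (specAlg R (ResidueField R))), π₁ c.1 ⤳ π₀ p.1 ∧
        ∀ z : X, z ⤳ π₀ p.1 → f z ≠ closedPoint R → z = π₁ c.1 := fun c => by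
    have hc : IsMax' (π₁ c.1) := fun z hz => by
      have hfz : f z ≠ closedPoint R := fun e => hne c.1
        (Set.mem_singleton_iff.1 ((hz.map f.continuous).mem_closed hcl e))
      obtain ⟨p, rfl⟩ := hlift z hfz
      rw [mem_genericPoints_iff.1 c.2 p (π₁.isEmbedding.isInducing.specializes_iff.1 hz)]
    obtain ⟨b, hb, hfb⟩ : ∃ b ∈ closure ({π₁ c.1} : Set X), f b = closedPoint R :=
      (IsLocalRing.specializes_closedPoint (f (π₁ c.1))).mem_closed (f.isClosedMap _ isClosed_closure)
        ⟨π₁ c.1, subset_closure rfl, rfl⟩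
    let F : Set X := closure ({π₁ c.1} : Set X) ∩ f.base ⁻¹' {closedPoint R}
    have hF : IsClosed F := isClosed_closure.inter (hcl.preimage f.continuous)
    obtain ⟨Z, hZ, hbZ⟩ : ∃ Z ∈ irreducibleComponents F, (⟨b, hb, hfb⟩ : F) ∈ Z :=
      ⟨_, irreducibleComponent_mem_irreducibleComponents _, mem_irreducibleComponent⟩
    have hZ' : IsIrreducible (Subtype.val '' Z : Set X) := hZ.1.image _ continuous_subtype_val.continuousOn
    obtain ⟨ξ, hξ⟩ := QuasiSober.sober hZ'.closure isClosed_closure
    have hξF : ξ ∈ F := closure_minimal (by rintro _ ⟨z, -, rfl⟩; exact z.2) hF (hξ.mem)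
    have hmax : ∀ z : X, π₁ c.1 ⤳ z → z ⤳ ξ → f z = closedPoint R → z = ξ := fun z h1 h2 h3 => by
      have hzF : z ∈ F := ⟨h1.mem_closure, h3⟩
      have hle : Z ⊆ Subtype.val ⁻¹' closure ({z} : Set X) := fun y hy =>
        closure_minimal (Set.singleton_subset_iff.2 h2.mem_closure) isClosed_closure
          (hξ.def.ge (subset_closure ⟨y, hy, rfl⟩))
      have hirr : IsIrreducible (closure ({(⟨z, hzF⟩ : F)} : Set F)) := isIrreducible_singleton.closure
      have h4 : Z ⊆ closure ({(⟨z, hzF⟩ : F)} : Set F) := fun y hy => by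
        rw [closure_subtype, Set.image_singleton]
        exact hle hy
      have h5 : (⟨z, hzF⟩ : F) ∈ Z := hZ.2 hirr h4 (subset_closure rfl)
      have h6 : ξ ⤳ z := hξ.specializes (subset_closure ⟨_, h5, rfl⟩)
      exact (h2.antisymm h6).eq
    have hcξ : π₁ c.1 ⤳ ξ := specializes_iff_mem_closure.2 hξF.1
    obtain ⟨hA, hB⟩ := eq_of_specializes_closedFibre f hred hc hcξ hξF.2 hmax
    obtain ⟨p, hp⟩ := exists_fst_eq f (ResidueField R) ξ (by rw [show f ξ = closedPoint R from hξF.2]; exact ker_residue.symm)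
    have hpm : p ∈ genericPoints ↥(pullback f (specAlg R (ResidueField R))) := mem_genericPoints_iff.2 fun z hz => by
      have h1 : π₀ z ⤳ ξ := (show π₀ p = ξ from hp) ▸ hz.map π₀.continuous
      have h2 : f (π₀ z) = closedPoint R := PrimeSpectrum.ext ((asIdeal_fst f _ z).trans ker_residue)
      exact π₀.isEmbedding.injective ((hA _ h1 h2).trans hp.symm)
    refine ⟨⟨p, hpm⟩, ?_, fun z hz hfz => hB z ((show π₀ p = ξ from hp) ▸ hz) hfz⟩
    rw [show π₀ p = ξ from hp]
    exact hcξ
  choose p hp hpu using hmap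
  rw [nIrr_eq, nIrr_eq]
  refine ENat.card_le_card_of_injective (f := p) fun a b hab => ?_
  have h1 := hp a
  rw [hab] at h1
  exact Subtype.ext (π₁.isEmbedding.injective (hpu b _ h1 (hne a.1)))

variable {k : Type u} [Field k]

/-- Over a bigger field there are at least as many components. -/
theorem nIrr_bc_le {Z : Scheme.{u}} (h : Z ⟶ Spec (CommRingCat.of k)) (L K : Type u) [Field L] [Field K]
    [Algebra k L] [Algebra k K] [Algebra L K] [IsScalarTower k L K] : nIrr (FBase.bc h L) ≤ nIrr (FBase.bc h K) := by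
  let r := bcMap h L K
  have hchoice : ∀ S : irreducibleComponents ↥(FBase.bc h L), ∃ T : irreducibleComponents ↥(FBase.bc h K),
      closure (r '' T.1) = S.1 := fun S => by
    obtain ⟨z, hz⟩ := r.surjective (genericPoints.ofComponent S).1
    refine ⟨⟨_, irreducibleComponent_mem_irreducibleComponents z⟩, ?_⟩
    have hirr : IsIrreducible (closure (r '' irreducibleComponent z)) :=
      (isIrreducible_irreducibleComponent.image _ r.continuous.continuousOn).closure
    have hle : S.1 ⊆ closure (r '' irreducibleComponent z) := by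
      rw [← congrArg Subtype.val (genericPoints.component_ofComponent S)]
      exact closure_mono (Set.singleton_subset_iff.2 ⟨z, mem_irreducibleComponent, hz⟩)
    exact le_antisymm (S.2.2 hirr hle) hle
  choose T hT using hchoice
  rw [nIrr, nIrr, ← ENat.card_coe_set_eq, ← ENat.card_coe_set_eq]
  exact ENat.card_le_card_of_injective (f := T) fun a b hab => Subtype.ext (by rw [← hT a, ← hT b, hab])

/-- The irreducible components over the algebraic closure appear over a finite extension. -/
theorem exists_finite_ext_irr {Z : Scheme.{u}} (h : Z ⟶ Spec (CommRingCat.of k))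
    [LocallyOfFiniteType h] [QuasiCompact h] :
    ∃ L : IntermediateField k (AlgebraicClosure k), FiniteDimensional k L ∧
      nIrr (pullback h (specAlg k (AlgebraicClosure k))) ≤ nIrr (pullback h (specAlg k L)) := by
  classical
  let Ω := AlgebraicClosure k
  let P : Scheme.{u} := pullback h (specAlg k Ω)
  haveI : IsLocallyNoetherian P := LocallyOfFiniteType.isLocallyNoetherian (pullback.snd h (specAlg k Ω))
  haveI : CompactSpace P := QuasiCompact.compactSpace_of_compactSpace (pullback.snd h (specAlg k Ω))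
  haveI : IsNoetherian P := ⟨⟩
  haveI : Finite (irreducibleComponents P) := TopologicalSpace.NoetherianSpace.finite_irreducibleComponents.to_subtype
  let T : irreducibleComponents P → Set P := fun c => c.1
  have hT : ∀ c, IsClosed (T c) := fun c => isClosed_of_mem_irreducibleComponents _ c.2
  obtain ⟨A', ⟨s, hs⟩, hstage⟩ := exists_stage_closed h Ω T hT
  let L : IntermediateField k Ω := IntermediateField.adjoin k (s : Set Ω)
  have hle : A' ≤ L.toSubalgebra := hs ▸ Algebra.adjoin_le (IntermediateField.subset_adjoin k (s : Set Ω))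
  let r : pullback h (specAlg k L) ⟶ pullback h (specAlg k A') := bcTo h (Subalgebra.inclusion hle)
  let q : P ⟶ pullback h (specAlg k L) := bcTo h L.val
  have hrq : q ≫ r = bcTo h A'.val := by
    apply pullback.hom_ext
    · simp [q, r]
    · simp [q, r, bcTo_snd_assoc]
      rw [← Spec.map_comp, ← CommRingCat.ofHom_comp]
      rfl
  haveI : Surjective (Spec.map (CommRingCat.ofHom L.val.toRingHom)) := ⟨fun c =>
    ⟨(⟨⊥, Ideal.isPrime_bot⟩ : PrimeSpectrum Ω), Subsingleton.elim (α := PrimeSpectrum L) _ _⟩⟩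
  let C : irreducibleComponents P → Set (pullback h (specAlg k L) : Scheme.{u}) := fun c => closure (q '' T c)
  have hpre : ∀ c z, q z ∈ C c → z ∈ T c := fun c z hz => hstage c (by
    show bcTo h A'.val z ∈ closure (bcTo h A'.val '' T c)
    rw [← hrq]
    have := image_closure_subset_closure_image r.continuous ⟨_, hz, rfl⟩
    rw [← Set.image_comp] at this
    exact this)
  have hq : Function.Surjective q := by
    intro w
    have hsq : IsPullback q (pullback.snd h (specAlg k Ω)) (pullback.snd h (specAlg k L))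
        (Spec.map (CommRingCat.ofHom L.val.toRingHom)) := by
      refine IsPullback.of_right ?_ (bcTo_snd h L.val) (IsPullback.of_hasPullback h (specAlg k L))
      rw [bcTo_fst, ← Spec.map_comp, ← CommRingCat.ofHom_comp,
        show L.val.toRingHom.comp (algebraMap k L) = algebraMap k Ω from L.val.comp_algebraMap]
      exact IsPullback.of_hasPullback h (specAlg k Ω)
    haveI : Surjective q := MorphismProperty.of_isPullback (P := @Surjective) hsq.flip inferInstance
    exact q.surjective w
  refine ⟨L, IntermediateField.finiteDimensional_adjoin fun x _ => (Algebra.IsAlgebraic.isAlgebraic x).isIntegral, ?_⟩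
  refine le_of_eq ?_
  rw [nIrr, nIrr, encard_irreducibleComponents C (fun _ => isClosed_closure)
    (fun c => (c.2.1.image _ q.continuous.continuousOn).closure) (fun w => ?_) (fun c => ?_), ENat.card_coe_set_eq]
  · obtain ⟨z, rfl⟩ := hq w
    exact ⟨⟨_, irreducibleComponent_mem_irreducibleComponents z⟩, subset_closure ⟨z, mem_irreducibleComponent, rfl⟩⟩
  · let η := (genericPoints.ofComponent c).1
    have hηc : closure ({η} : Set P) = c.1 := congrArg Subtype.val (genericPoints.component_ofComponent c)
    refine ⟨q η, subset_closure ⟨η, hηc.le (subset_closure rfl), rfl⟩, fun d hd hmem => hd (Subtype.ext ?_)⟩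
    have hsub : c.1 ⊆ d.1 := hηc.ge.trans (closure_minimal (Set.singleton_subset_iff.2 (hpre d η hmem)) (hT d))
    exact le_antisymm (c.2.2 d.2.1 hsub) hsub

/-- A discrete valuation ring with algebraically closed residue field realizing a specialization and all the
geometric irreducible components of the general fibre. -/
theorem exists_dvr_split_irr {Z Y : Scheme.{u}} [IsLocallyNoetherian Y] (g : Z ⟶ Y) [LocallyOfFiniteType g]
    [QuasiCompact g] {y' y : Y} (hy : y' ⤳ y) (hne : y' ≠ y) :
    ∃ (B : Type u) (_ : CommRing B) (_ : IsDomain B) (_ : IsDiscreteValuationRing B)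
      (t : Spec (CommRingCat.of B) ⟶ Y),
      IsAlgClosed (ResidueField B) ∧ t (closedPoint B) = y ∧
      MoreMor.nGeomIrredComp g y' ≤ nIrr (pullback (pullback.snd g t) (specAlg B (FractionRing B))) := by
  haveI : LocallyOfFiniteType (g.fiberToSpecResidueField y') :=
    inferInstanceAs (LocallyOfFiniteType (pullback.snd g (Y.fromSpecResidueField y')))
  haveI : QuasiCompact (g.fiberToSpecResidueField y') :=
    inferInstanceAs (QuasiCompact (pullback.snd g (Y.fromSpecResidueField y')))
  obtain ⟨L, hLfin, hLn⟩ := exists_finite_ext_irr (k := ↑(Y.residueField y')) (g.fiberToSpecResidueField y')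
  obtain ⟨W₀, t₀, hW₀, ht₀c, ht₀g⟩ := Groth.L07.DVRProper.exists_dvr_through' hy hne
  let k := ↑(Y.residueField y')
  let φ₀ : W₀ →+* L := (algebraMap k L).comp W₀.subtype
  letI : Algebra W₀ L := φ₀.toAlgebra
  have hsub : ∀ x : k, algebraMap k L x ∈ Subfield.closure (Set.range (algebraMap W₀ L)) := fun x => by
    rcases W₀.mem_or_inv_mem x with hx | hx
    · exact Subfield.subset_closure ⟨⟨x, hx⟩, rfl⟩
    · have := inv_mem (Subfield.subset_closure (show algebraMap k L x⁻¹ ∈ Set.range (algebraMap W₀ L) from ⟨⟨x⁻¹, hx⟩, rfl⟩))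
      rwa [map_inv₀, inv_inv] at this
  let b := Module.Free.chooseBasis k L
  have hgen : Subfield.closure (Set.range (algebraMap W₀ L) ∪ Set.range b) = ⊤ := by
    refine eq_top_iff.mpr fun z _ => ?_
    rw [← b.sum_repr z]
    refine Subfield.sum_mem _ fun i _ => ?_
    rw [Algebra.smul_def]
    exact mul_mem (Subfield.closure_mono Set.subset_union_left (hsub _)) (Subfield.subset_closure (Or.inr ⟨i, rfl⟩))
  have hinj₀ : Function.Injective (algebraMap W₀ L) := (algebraMap k L).injective.comp Subtype.val_injective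
  obtain ⟨W, hW, hmem, hval⟩ := Groth.L18.exists_isDiscreteValuationRing_dominating (A := W₀) (Set.finite_range b) hgen
    (by rw [(RingHom.injective_iff_ker_eq_bot _).mp hinj₀]; exact (IsDiscreteValuationRing.not_a_field W₀).symm)
  let φ : W₀ →+* W := (algebraMap W₀ L).codRestrict W.toSubring hmem
  haveI hφl : IsLocalHom φ := ⟨fun a ha => by
    by_contra hna
    have h1 := hval a ((mem_maximalIdeal a).mpr hna)
    rw [← W.valuation_lt_one_iff ⟨_, hmem a⟩] at h1
    exact h1 ha⟩
  obtain ⟨B, _, _, _, ψ, hψ, hψl, -, hBk⟩ := exists_complete_over W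
  haveI := hψl
  let ι : L →+* FractionRing B := IsFractionRing.lift (A := W) (g := (algebraMap B (FractionRing B)).comp ψ)
    ((IsFractionRing.injective B (FractionRing B)).comp hψ)
  let t : Spec (CommRingCat.of B) ⟶ Y := Spec.map (CommRingCat.ofHom (ψ.comp φ)) ≫ t₀
  letI : Algebra k (FractionRing B) := (ι.comp (algebraMap k L)).toAlgebra
  letI : Algebra L (FractionRing B) := ι.toAlgebra
  haveI : IsScalarTower k L (FractionRing B) := IsScalarTower.of_algebraMap_eq fun _ => rfl
  have hgen' : Spec.map (CommRingCat.ofHom (algebraMap k (FractionRing B))) ≫ Y.fromSpecResidueField y' =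
      specAlg B (FractionRing B) ≫ t := by
    rw [← ht₀g, ← Category.assoc, ← Spec.map_comp, ← Category.assoc, ← Spec.map_comp]
    refine congrArg (fun m => Spec.map m ≫ t₀) (CommRingCat.hom_ext (RingHom.ext fun a => ?_))
    show ι (algebraMap k L (a : k)) = algebraMap B (FractionRing B) (ψ (φ a))
    rw [show algebraMap k L (a : k) = algebraMap W L (φ a) from rfl, IsFractionRing.lift_algebraMap]
    rfl
  refine ⟨B, inferInstance, inferInstance, inferInstance, t, hBk, ?_, ?_⟩
  · rw [Scheme.Hom.comp_apply, ← ht₀c]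
    haveI : IsLocalHom (ψ.comp φ) := RingHom.isLocalHom_comp ψ φ
    exact congrArg t₀.base (comap_closedPoint (ψ.comp φ))
  · have e : nIrr (pullback (pullback.snd g t) (specAlg B (FractionRing B))) =
        nIrr (pullback g (specAlg B (FractionRing B) ≫ t)) := nIrr_congr (pullbackLeftPullbackSndIso g t _)
    obtain ⟨i⟩ := nonempty_iso_bc g (y := y') (FractionRing B) (specAlg B (FractionRing B) ≫ t) hgen'
    rw [e, nIrr_congr i]
    refine le_trans (le_trans ?_ hLn) (nIrr_bc_le (k := k) (g.fiberToSpecResidueField y') L (FractionRing B))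
    refine le_of_eq ?_
    let Ω := AlgebraicClosure k
    obtain ⟨j⟩ := nonempty_iso_bc g (y := y') Ω
      (Spec.map (CommRingCat.ofHom (algebraMap k Ω)) ≫ Y.fromSpecResidueField y') rfl
    rw [nGeomIrredComp_eq g Ω (Spec.map (CommRingCat.ofHom (algebraMap k Ω)) ≫ Y.fromSpecResidueField y') y'
      (fun c => by rw [Scheme.Hom.comp_apply]; exact Scheme.fromSpecResidueField_apply _ _), nIrr_congr j]
    rfl

/-- Along a specialization onto a point with geometrically reduced fibre the geometric number of irreducible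
components of a flat proper morphism does not increase. -/
theorem nGeomIrredComp_le_of_specializes {Z Y : Scheme.{u}} [IsLocallyNoetherian Y] (g : Z ⟶ Y) [IsProper g] [Flat g]
    {y' y : Y} (hy : y' ⤳ y) (hred : GeometricallyReduced (g.fiberToSpecResidueField y)) :
    MoreMor.nGeomIrredComp g y' ≤ MoreMor.nGeomIrredComp g y := by
  rcases eq_or_ne y' y with rfl | hne
  · exact le_rfl
  obtain ⟨B, _, _, _, t, hBk, htc, hn⟩ := exists_dvr_split_irr g hy hne
  let h := pullback.snd g t
  have hc : ∀ c, specAlg B (ResidueField B) c = closedPoint B := fun c => PrimeSpectrum.ext (by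
    rw [specAlg_apply]; exact ker_residue)
  haveI : AlgebraicGeometry.IsReduced
      (pullback g ((Spec (CommRingCat.of B)).fromSpecResidueField (closedPoint B) ≫ t)) :=
    isReduced_pullback_of_geomReduced g hred ((Spec (CommRingCat.of B)).residueField (closedPoint B)) _ fun c => by
      rw [Scheme.Hom.comp_apply]
      exact (congrArg t.base (Scheme.fromSpecResidueField_apply _ _)).trans htc
  have hredB : AlgebraicGeometry.IsReduced (h.fiber (closedPoint B)) :=
    isReduced_of_isOpenImmersion (pullbackLeftPullbackSndIso g t _).hom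
  refine hn.trans ((nIrr_generic_le_closed h hredB).trans_eq ?_)
  rw [← htc, ← nGeomIrredComp_of_isPullback g (IsPullback.of_hasPullback g t),
    nGeomIrredComp_eq h (ResidueField B) (specAlg B (ResidueField B)) _ hc]

/-- Closed points with geometrically reduced fibres suffice for upper semicontinuity. -/
theorem upperSemicontinuous_card {k : Type u} [Field k] {Z Y : Scheme.{u}} (sY : Y ⟶ Spec (CommRingCat.of k))
    [LocallyOfFiniteType sY] (g : Z ⟶ Y) [Flat g] [IsProper g]
    (hred : ∀ y : ↥Y, IsClosed ({y} : Set ↥Y) → GeometricallyReduced (g.fiberToSpecResidueField y)) :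
    UpperSemicontinuous (fun y : ↥Y =>
      Nat.card ↥(irreducibleComponents (↥(pullback g
        (Spec.map (CommRingCat.ofHom (algebraMap (Y.residueField y) (AlgebraicClosure (Y.residueField y)))) ≫
          Y.fromSpecResidueField y)) : Type u))) := by
  haveI : IsLocallyNoetherian Y := LocallyOfFiniteType.isLocallyNoetherian sY
  haveI : LocallyOfFinitePresentation g := Groth.L23.lfp_of_lft_locallyNoetherian g
  haveI : JacobsonSpace Y := LocallyOfFiniteType.jacobsonSpace sY
  have hall : ∀ y : Y, GeometricallyReduced (g.fiberToSpecResidueField y) := fun y => by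
    by_contra hy
    let G : Set Y := {s : Y | GeometricallyReduced (g.fiberToSpecResidueField s)}
    have hG : IsOpen G := isOpen_geomReduced_fibre g
    have hne : (Gᶜ ∩ closedPoints Y).Nonempty :=
      nonempty_inter_closedPoints ⟨y, hy⟩ hG.isClosed_compl.isLocallyClosed
    obtain ⟨c, hc, hcc⟩ := hne
    exact hc (hred c hcc)
  have hN : ∀ y : Y, Nat.card ↥(irreducibleComponents (↥(pullback g
      (Spec.map (CommRingCat.ofHom (algebraMap (Y.residueField y) (AlgebraicClosure (Y.residueField y)))) ≫
        Y.fromSpecResidueField y)) : Type u)) = (MoreMor.nGeomIrredComp g y).toNat ∧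
      MoreMor.nGeomIrredComp g y ≠ ⊤ := fun y => by
    rw [nGeomIrredComp_eq g (AlgebraicClosure (Y.residueField y)) (Spec.map (CommRingCat.ofHom
      (algebraMap (Y.residueField y) (AlgebraicClosure (Y.residueField y)))) ≫ Y.fromSpecResidueField y) y
      fun c => by rw [Scheme.Hom.comp_apply]; exact Scheme.fromSpecResidueField_apply _ _]
    let gK := Spec.map (CommRingCat.ofHom
      (algebraMap (Y.residueField y) (AlgebraicClosure (Y.residueField y)))) ≫ Y.fromSpecResidueField y
    haveI : IsLocallyNoetherian (pullback g gK) :=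
      LocallyOfFiniteType.isLocallyNoetherian (pullback.snd g gK)
    haveI : CompactSpace ↥(pullback g gK) :=
      QuasiCompact.compactSpace_of_compactSpace (pullback.snd g gK)
    haveI : IsNoetherian (pullback g gK) := ⟨⟩
    have hfin : (irreducibleComponents ↥(pullback g gK)).Finite :=
      TopologicalSpace.NoetherianSpace.finite_irreducibleComponents
    exact ⟨Nat.card_coe_set_eq _, hfin.encard_lt_top.ne⟩
  intro y m hm
  have hm' : (MoreMor.nGeomIrredComp g y).toNat < m := by rw [← (hN y).1]; exact hm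
  let E : Set Y := ⋃ i ∈ Finset.range m, {z : Y | MoreMor.nGeomIrredComp g z = (i : ℕ∞)}
  have hE : Topology.IsLocallyConstructible E := by
    refine Groth.L20.GeomIrrUsc.isLocallyConstructible_biUnion (Finset.range m) fun i _ => ?_
    exact Groth.Agent.S1338.result g _
  have hnhds : E ∈ nhds y := mem_nhds_of_isLocallyConstructible hE fun z hz => by
    obtain ⟨a, ha⟩ := ENat.ne_top_iff_exists.1 (hN z).2
    obtain ⟨b, hb⟩ := ENat.ne_top_iff_exists.1 (hN y).2
    have h1 := nGeomIrredComp_le_of_specializes g hz (hall y)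
    rw [← ha, ← hb, Nat.cast_le] at h1
    rw [← hb, ENat.toNat_coe] at hm'
    exact Set.mem_iUnion₂.2 ⟨a, Finset.mem_range.2 (h1.trans_lt hm'), ha.symm⟩
  filter_upwards [hnhds] with z hz
  obtain ⟨i, hi, hzi⟩ := Set.mem_iUnion₂.1 hz
  rw [(hN z).1, show MoreMor.nGeomIrredComp g z = (i : ℕ∞) from hzi, ENat.toNat_coe]
  exact Finset.mem_range.1 hi

end Groth.L20.GeomIrrUsc
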