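import Mathlib.RingTheory.Ideal.MinimalPrime.Localization
import Mathlib.RingTheory.Localization.AtPrime.Basic
import Mathlib.RingTheory.Finiteness.Ideal

/-!
# An element in all powers of finitely generated ideals

If every prime containing `f` contains a finitely generated ideal `I` with `f` in all powers of `I`,
then `f` is nilpotent locally, so in a domain it is zero or a unit.
-/

namespace Groth.L20

theorem eq_zero_of_mem_all_pow {A : Type*} [CommRing A] [IsDomain A] (f : A) (hf : ¬ IsUnit f)
    (h : ∀ p : Ideal A, p.IsPrime → f ∈ p → ∃ I : Ideal A, I.FG ∧ I ≤ p ∧ ∀ n : ℕ, 0 < n → f ∈ I ^ n) :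
    f = 0 := by
  have htop : Ideal.span {f} ≠ ⊤ := fun e => hf (Ideal.span_singleton_eq_top.mp e)
  obtain ⟨m, hm, hfm⟩ := Ideal.exists_le_maximal _ htop
  obtain ⟨p, hp, -⟩ := Ideal.exists_minimalPrimes_le hfm
  have : p.IsPrime := hp.1.1
  obtain ⟨I, hI, hIp, hpow⟩ := h p this (hp.1.2 (Ideal.mem_span_singleton_self f))
  let L := Localization.AtPrime p
  let φ := algebraMap A L
  have hrad : ((Ideal.span {f}).map φ).radical = IsLocalRing.maximalIdeal L :=
    (IsLocalization.AtPrime.radical_map_of_mem_minimalPrimes L p _ hp).trans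
      (IsLocalization.AtPrime.map_eq_maximalIdeal p L)
  have hle : I.map φ ≤ IsLocalRing.maximalIdeal L := by
    rw [Ideal.map_le_iff_le_comap]
    exact hIp.trans (IsLocalization.AtPrime.under_maximalIdeal L p).ge
  obtain ⟨n, hn⟩ := Ideal.exists_pow_le_of_le_radical_of_fg (hle.trans hrad.ge) (hI.map φ)
  have hmem : φ f ∈ Ideal.span {φ f} * IsLocalRing.maximalIdeal L := by
    have := Ideal.mem_map_of_mem φ (hpow (n + 1) n.succ_pos)
    rw [Ideal.map_pow, pow_succ] at this
    rw [← Set.image_singleton, ← Ideal.map_span]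
    exact Ideal.mul_mono hn hle this
  obtain ⟨y, hy, hfy⟩ := Ideal.mem_span_singleton_mul.mp hmem
  by_contra h0
  have h1 : φ f ≠ 0 := fun e => h0
    (IsLocalization.injective L p.primeCompl_le_nonZeroDivisors (by rw [map_zero]; exact e))
  have : y = 1 := mul_left_cancel₀ h1 (by rw [hfy, mul_one])
  exact hy (this ▸ isUnit_one)

end Groth.L20
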