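import Groth.Agent.L20.FlatHartogs
import Groth.Agent.L20.SchDesc.AffineHom
import Groth.Agent.L20.SchDesc.Hull
import Groth.Agent.L23.AffineMor
import Groth.Prelude.Def_SGA2

/-!
# Descent of purity along faithfully flat quasi-compact morphisms

If the depth is at least two outside `U`, finite etale covers of an open are determined by their
restriction to `U`, also after a flat base change; this gives descent of essential surjectivity.
-/

set_option autoImplicit false
set_option linter.style.haveILetI false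
set_option backward.isDefEq.respectTransparency.types false

universe u

open CategoryTheory Limits AlgebraicGeometry TopologicalSpace

namespace Groth.L20.PureDescent

open Groth.L20.SchDesc

variable {X : Scheme.{u}} [IsLocallyNoetherian X] {U : X.Opens}
  (hU : ∀ x : X, x ∉ U → (2 : ℕ∞) ≤ LocCoh.depth (X.presheaf.stalk x) (X.presheaf.stalk x))
  {V : X.Opens}

/-- The inclusion of the trace of `U` on `V`. -/
noncomputable abbrev inc (U V : X.Opens) : (V ⊓ U : X.Opens).toScheme ⟶ V.toScheme :=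
  X.homOfLE (inf_le_left : V ⊓ U ≤ V)

theorem isPullback_inc {P Z : Scheme.{u}} {fst : P ⟶ Z} {snd : P ⟶ (V ⊓ U : X.Opens)}
    {h : Z ⟶ V.toScheme} (sq : IsPullback fst snd h (inc U V)) :
    ∃ e : ((h ≫ V.ι) ⁻¹ᵁ U).toScheme ≅ P, e.hom ≫ fst = ((h ≫ V.ι) ⁻¹ᵁ U).ι := by
  have : IsOpenImmersion fst := MorphismProperty.of_isPullback sq.flip inferInstance
  have hr : Set.range fst = ((h ≫ V.ι) ⁻¹ᵁ U : Z.Opens) := by
    apply Set.eq_of_subset_of_subset
    · rintro _ ⟨a, rfl⟩
      show V.ι (h (fst a)) ∈ U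
      rw [← Scheme.Hom.comp_apply fst h, sq.w, Scheme.Hom.comp_apply, ← Scheme.Hom.comp_apply _ V.ι,
        Scheme.homOfLE_ι]
      exact (snd a).2.2
    · intro z hz
      obtain ⟨w, hw⟩ : ∃ w, inc U V w = h z := by
        refine ⟨⟨(h z).1, (h z).2, hz⟩, V.ι.isOpenEmbedding.injective ?_⟩
        rw [← Scheme.Hom.comp_apply, Scheme.homOfLE_ι]
        rfl
      obtain ⟨a, ha, -⟩ := Scheme.Pullback.exists_preimage_pullback (f := h) (g := inc U V) z w hw.symm
      exact ⟨sq.isoPullback.inv a, by rw [← Scheme.Hom.comp_apply, sq.isoPullback_inv_fst, ha]⟩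
  have he : Set.range fst = Set.range ((h ≫ V.ι) ⁻¹ᵁ U).ι := hr.trans (Scheme.Opens.range_ι _).symm
  exact ⟨(IsOpenImmersion.isoOfRangeEq fst _ he).symm,
    IsOpenImmersion.isoOfRangeEq_inv_fac fst _ he⟩

include hU in
theorem hom_ext {P Z T B : Scheme.{u}} {fst : P ⟶ Z} {snd : P ⟶ (V ⊓ U : X.Opens)}
    {h : Z ⟶ V.toScheme} [Flat h] (sq : IsPullback fst snd h (inc U V)) (t : T ⟶ B)
    [IsAffineHom t] {a b : Z ⟶ T} (e : a ≫ t = b ≫ t) (e' : fst ≫ a = fst ≫ b) : a = b := by
  obtain ⟨i, hi⟩ := isPullback_inc sq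
  refine FlatHartogs.ext hU (h ≫ V.ι) t e ?_
  rw [← hi, Category.assoc, e', Category.assoc]

include hU in
theorem exists_extend {P Z T B : Scheme.{u}} {fst : P ⟶ Z} {snd : P ⟶ (V ⊓ U : X.Opens)}
    {h : Z ⟶ V.toScheme} [Flat h] (sq : IsPullback fst snd h (inc U V)) (t : T ⟶ B)
    [IsAffineHom t] (c : Z ⟶ B) (ψ : P ⟶ T) (hψ : ψ ≫ t = fst ≫ c) :
    ∃ a : Z ⟶ T, a ≫ t = c ∧ fst ≫ a = ψ := by
  obtain ⟨i, hi⟩ := isPullback_inc sq
  obtain ⟨a, ha, ha'⟩ := FlatHartogs.exists_extend hU (h ≫ V.ι) t c (i.hom ≫ ψ)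
    (by rw [Category.assoc, hψ, ← Category.assoc, hi])
  exact ⟨a, ha, by rw [← cancel_epi i.hom, ← ha', ← hi, Category.assoc]⟩

include hU in
theorem faithful_restrict : (FEt.restrict (inc U V)).Faithful where
  map_injective {A B} a b e := by
    have : Flat A.hom := by have := A.prop.2; infer_instance
    have : IsAffineHom B.hom := by have := B.prop.1; infer_instance
    refine MorphismProperty.Over.Hom.ext (hom_ext hU (IsPullback.of_hasPullback A.hom (inc U V))
      B.hom ((MorphismProperty.Over.w a).trans (MorphismProperty.Over.w b).symm) ?_)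
    have he := congrArg (fun m : (FEt.restrict (inc U V)).obj A ⟶ (FEt.restrict (inc U V)).obj B =>
      m.left ≫ pullback.fst B.hom (inc U V)) e
    exact (pullback.lift_fst _ _ _).symm.trans (he.trans (pullback.lift_fst _ _ _))

include hU in
theorem full_restrict : (FEt.restrict (inc U V)).Full where
  map_surjective {A B} m := by
    have : Flat A.hom := by have := A.prop.2; infer_instance
    have : IsAffineHom B.hom := by have := B.prop.1; infer_instance
    obtain ⟨a, ha, ha'⟩ := exists_extend hU (IsPullback.of_hasPullback A.hom (inc U V)) B.hom A.hom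
      (m.left ≫ pullback.fst B.hom (inc U V)) (by
        exact (Category.assoc _ _ _).trans ((congrArg (m.left ≫ ·) pullback.condition).trans
          ((Category.assoc _ _ _).symm.trans ((congrArg (· ≫ inc U V)
            (MorphismProperty.Over.w m)).trans pullback.condition.symm))))
    refine ⟨MorphismProperty.Over.homMk a ha, MorphismProperty.Over.Hom.ext (pullback.hom_ext ?_ ?_)⟩
    · exact (pullback.lift_fst _ _ _).trans ha'
    · exact (pullback.lift_snd _ _ _).trans (MorphismProperty.Over.w m).symm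

section descent

variable {V₁ W Y Z₀ P₀ : Scheme.{u}} {p : V₁ ⟶ V.toScheme} {w₁ : W ⟶ V₁}
  {j₁ : P₀ ⟶ V₁} {p₀ : P₀ ⟶ (V ⊓ U : X.Opens)} {i : Y ⟶ W} {y : Y ⟶ P₀}
  {z₀ : Z₀ ⟶ (V ⊓ U : X.Opens)} {q : Y ⟶ Z₀}

variable (i q) in
/-- Two points with the same image in the cover to be descended. -/
def Rel {T : Scheme.{u}} (v w : T ⟶ W) : Prop :=
  ∃ v' w' : T ⟶ Y, v' ≫ i = v ∧ w' ≫ i = w ∧ v' ≫ q = w' ≫ q

theorem Rel.symm {T : Scheme.{u}} {v w : T ⟶ W} (h : Rel i q v w) : Rel i q w v := by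
  obtain ⟨v', w', h1, h2, h3⟩ := h
  exact ⟨w', v', h2, h1, h3.symm⟩

theorem Rel.trans [Mono i] {T : Scheme.{u}} {u v w : T ⟶ W} (h : Rel i q u v) (h' : Rel i q v w) :
    Rel i q u w := by
  obtain ⟨u', v', h1, h2, h3⟩ := h
  obtain ⟨v'', w', h1', h2', h3'⟩ := h'
  obtain rfl : v' = v'' := (cancel_mono i).1 (h2.trans h1'.symm)
  exact ⟨u', w', h1, h2', h3.trans h3'⟩

theorem Rel.comp {T T' : Scheme.{u}} (g : T' ⟶ T) {v w : T ⟶ W} (h : Rel i q v w) :
    Rel i q (g ≫ v) (g ≫ w) := by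
  obtain ⟨v', w', h1, h2, h3⟩ := h
  exact ⟨g ≫ v', g ≫ w', by simp [h1], by simp [h2], by simp [h3]⟩

theorem Rel.eq [Mono j₁] (hY : IsPullback i y w₁ j₁) (hZ : IsPullback q y z₀ p₀)
    {T : Scheme.{u}} {u v w : T ⟶ W} (h : Rel i q u v) (h' : Rel i q u w)
    (e : v ≫ w₁ = w ≫ w₁) : v = w := by
  have : Mono i := MorphismProperty.of_isPullback
    (P := MorphismProperty.monomorphisms Scheme.{u}) hY.flip (show Mono j₁ by infer_instance)
  obtain ⟨v', w', rfl, rfl, h3⟩ := Rel.trans h.symm h'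
  refine congrArg (· ≫ i) (hZ.hom_ext h3 ((cancel_mono j₁).1 ?_))
  rw [Category.assoc, Category.assoc, ← hY.w]
  simpa using e

include hU in
/-- A finite etale cover of the trace of `U` whose pullback extends, extends. -/
theorem exists_of_extends [Flat p] [Surjective p] [QuasiCompact p] [IsFinite w₁] [Etale w₁]
    (hj : IsPullback j₁ p₀ p (inc U V))
    (hY : IsPullback i y w₁ j₁) (hZ : IsPullback q y z₀ p₀) :
    ∃ (Z : Scheme.{u}) (a : Z ⟶ V.toScheme), (IsFinite a ∧ Etale a) ∧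
      ∃ φ : pullback a (inc U V) ≅ Z₀, φ.hom ≫ z₀ = pullback.snd a (inc U V) := by
  have : Mono j₁ := MorphismProperty.of_isPullback
    (P := MorphismProperty.monomorphisms Scheme.{u}) hj.flip (show Mono (inc U V) by infer_instance)
  have : Mono i := MorphismProperty.of_isPullback
    (P := MorphismProperty.monomorphisms Scheme.{u}) hY.flip (show Mono j₁ by infer_instance)
  have : Flat p₀ := MorphismProperty.of_isPullback hj inferInstance
  have : Surjective p₀ := MorphismProperty.of_isPullback hj inferInstance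
  have : QuasiCompact p₀ := MorphismProperty.of_isPullback hj inferInstance
  -- the action
  have hlift : ∀ {T : Scheme.{u}} (v : T ⟶ Y) (x : T ⟶ V₁), v ≫ i ≫ w₁ ≫ p = x ≫ p →
      ∃ w : T ⟶ Y, w ≫ i ≫ w₁ = x ∧ Rel i q (v ≫ i) (w ≫ i) := by
    intro T v x h
    let x₀ : T ⟶ P₀ := hj.lift x (v ≫ y ≫ p₀) (by
      rw [← h, reassoc_of% hY.w, hj.w, Category.assoc, Category.assoc])
    have hx₀ : x₀ ≫ j₁ = x := hj.lift_fst _ _ _
    have hc : (v ≫ q) ≫ z₀ = x₀ ≫ p₀ := by
      rw [Category.assoc, hZ.w, hj.lift_snd]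
    refine ⟨hZ.lift (v ≫ q) x₀ hc, ?_, v, hZ.lift (v ≫ q) x₀ hc, rfl, rfl,
      (hZ.lift_fst _ _ _).symm⟩
    rw [hY.w, ← Category.assoc, hZ.lift_snd, hx₀]
  let πP : Pairs p w₁ ⟶ V.toScheme := src p w₁ ≫ w₁ ≫ p
  have : Flat (src p w₁) := MorphismProperty.pullback_fst _ _ inferInstance
  have : Flat πP := inferInstanceAs (Flat (src p w₁ ≫ w₁ ≫ p))
  let sP := pullback.fst πP (inc U V)
  let v₀ : pullback πP (inc U V) ⟶ Y := (hY.paste_vert hj).lift (sP ≫ src p w₁)
    (pullback.snd πP (inc U V)) (by rw [Category.assoc]; exact pullback.condition)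
  have hv₀ : v₀ ≫ i = sP ≫ src p w₁ := (hY.paste_vert hj).lift_fst _ _ _
  obtain ⟨w₀, hw₀, hrel⟩ := hlift v₀ (sP ≫ pt p w₁) (by
    rw [reassoc_of% hv₀, pairs_cond, Category.assoc])
  obtain ⟨t, ht, ht'⟩ := exists_extend hU (IsPullback.of_hasPullback πP (inc U V)) w₁
    (pt p w₁) (w₀ ≫ i) (by rw [Category.assoc]; exact hw₀)
  have key : ∀ {T : Scheme.{u}} (g : T ⟶ Pairs p w₁) (σ : T ⟶ (V ⊓ U : X.Opens)),
      g ≫ πP = σ ≫ inc U V → Rel i q (g ≫ src p w₁) (g ≫ t) := by
    intro T g σ hg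
    have := Rel.comp (pullback.lift g σ hg) hrel
    rw [hv₀, ← ht'] at this
    simp only [← Category.assoc, sP, pullback.lift_fst] at this
    exact this
  let Δ : W ⟶ Pairs p w₁ := pullback.lift (𝟙 W) w₁ (Category.id_comp _)
  have hself : Δ ≫ t = 𝟙 W := by
    refine hom_ext hU (hY.paste_vert hj) w₁ ?_ ?_
    · rw [Category.assoc, ht, Category.id_comp]
      exact pullback.lift_snd _ _ _
    · have hs : Δ ≫ src p w₁ = 𝟙 W := pullback.lift_fst _ _ _
      have h1 := key (i ≫ Δ) (y ≫ p₀) (by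
        show (i ≫ Δ) ≫ src p w₁ ≫ w₁ ≫ p = _
        rw [Category.assoc, reassoc_of% hs, reassoc_of% hY.w, hj.w, Category.assoc])
      rw [Category.assoc, hs, Category.comp_id, Category.assoc] at h1
      rw [Category.comp_id]
      refine Rel.eq hY hZ h1 ⟨𝟙 Y, 𝟙 Y, Category.id_comp _, Category.id_comp _, rfl⟩ ?_
      have : Δ ≫ pt p w₁ = w₁ := pullback.lift_snd _ _ _
      rw [Category.assoc, Category.assoc, ht, this]
  have hcomp : pullback.lift (proj p w₁ ≫ t) (last p w₁) (triples_cond' t ht) ≫ t =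
      pullback.lift (proj p w₁ ≫ src p w₁) (last p w₁) triples_cond ≫ t := by
    let πT : Triples p w₁ ⟶ V.toScheme := proj p w₁ ≫ πP
    have : Flat (proj p w₁) := MorphismProperty.pullback_fst _ _ inferInstance
    have : Flat πT := inferInstanceAs (Flat (proj p w₁ ≫ πP))
    refine hom_ext hU (IsPullback.of_hasPullback πT (inc U V)) w₁ ?_ ?_
    · rw [Category.assoc, Category.assoc, ht, pullback.lift_snd, pullback.lift_snd]
    · let g := pullback.fst πT (inc U V)
      let σ := pullback.snd πT (inc U V)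
      have hσ : g ≫ proj p w₁ ≫ πP = σ ≫ inc U V := pullback.condition
      let g₁ := g ≫ pullback.lift (proj p w₁ ≫ t) (last p w₁) (triples_cond' t ht)
      let g₂ := g ≫ pullback.lift (proj p w₁ ≫ src p w₁) (last p w₁) triples_cond
      have hs₁ : g₁ ≫ src p w₁ = (g ≫ proj p w₁) ≫ t := by
        rw [Category.assoc, pullback.lift_fst, Category.assoc]
      have hs₂ : g₂ ≫ src p w₁ = (g ≫ proj p w₁) ≫ src p w₁ := by
        rw [Category.assoc, pullback.lift_fst, Category.assoc]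
      have e1 := key g₁ σ (by
        show g₁ ≫ src p w₁ ≫ w₁ ≫ p = _
        rw [reassoc_of% hs₁, ← hσ, reassoc_of% ht, ← pairs_cond])
      have e2 := key g₂ σ (by
        show g₂ ≫ src p w₁ ≫ w₁ ≫ p = _
        rw [reassoc_of% hs₂, ← hσ])
      have e3 := key (g ≫ proj p w₁) σ (by rw [Category.assoc]; exact hσ)
      rw [hs₁] at e1
      rw [hs₂] at e2
      have := Rel.eq hY hZ (Rel.trans e3 e1) e2 (by
        simp only [g₁, g₂, Category.assoc, ht, pullback.lift_snd])
      simpa [g₁, g₂] using this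
  -- descend
  obtain ⟨d⟩ := effective_of_isAffineHom (Pre.ofMap t ht hself hcomp)
  have hQ : (@Surjective ⊓ @Flat ⊓ @QuasiCompact : MorphismProperty Scheme.{u}) p :=
    ⟨⟨inferInstance, inferInstance⟩, inferInstance⟩
  have ha₁ : IsFinite d.a :=
    MorphismProperty.of_isPullback_of_descendsAlong (P := @IsFinite) d.isPullback hQ ‹IsFinite w₁›
  have ha₂ : Etale d.a :=
    MorphismProperty.of_isPullback_of_descendsAlong (P := @Etale) d.isPullback hQ ‹Etale w₁›
  let r : Y ⟶ pullback d.a (inc U V) := pullback.lift (i ≫ d.q) (y ≫ p₀) (by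
    rw [Category.assoc, ← d.isPullback.w, reassoc_of% hY.w, hj.w, Category.assoc])
  have hr₁ : r ≫ pullback.fst d.a (inc U V) = i ≫ d.q := pullback.lift_fst _ _ _
  have hr₂ : r ≫ pullback.snd d.a (inc U V) = y ≫ p₀ := pullback.lift_snd _ _ _
  have hr : IsPullback r y (pullback.snd d.a (inc U V)) p₀ := by
    refine IsPullback.of_right ?_ hr₂ (IsPullback.of_hasPullback d.a (inc U V))
    rw [hr₁, ← hj.w]
    exact hY.paste_horiz d.isPullback.flip
  have : Flat r := MorphismProperty.of_isPullback hr.flip inferInstance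
  have : Surjective r := MorphismProperty.of_isPullback hr.flip inferInstance
  have : QuasiCompact r := MorphismProperty.of_isPullback hr.flip inferInstance
  have := Cov.epi r
  obtain ⟨φ, hφ⟩ := Cov.exists_desc (p := r) q fun {T} g₁ g₂ hg => by
    have hq : (g₁ ≫ i) ≫ d.q = (g₂ ≫ i) ≫ d.q := by
      rw [Category.assoc, ← hr₁, reassoc_of% hg, Category.assoc, hr₁]
    have hc := d.cond (g₁ ≫ i) (g₂ ≫ i) hq
    have he := d.act_eq (g₁ ≫ i) (g₂ ≫ i) hq hc
    change pullback.lift (g₁ ≫ i) ((g₂ ≫ i) ≫ w₁) hc ≫ t = g₂ ≫ i at he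
    have := key (pullback.lift (g₁ ≫ i) ((g₂ ≫ i) ≫ w₁) hc) (g₁ ≫ y ≫ p₀) (by
      show _ ≫ src p w₁ ≫ w₁ ≫ p = _
      rw [pullback.lift_fst_assoc, Category.assoc, reassoc_of% hY.w, hj.w, Category.assoc,
        Category.assoc])
    rw [he, pullback.lift_fst] at this
    obtain ⟨a', b', ha', hb', hab⟩ := this
    rwa [(cancel_mono i).1 ha', (cancel_mono i).1 hb'] at hab
  have hφz : φ ≫ z₀ = pullback.snd d.a (inc U V) := by
    rw [← cancel_epi r, reassoc_of% hφ, hZ.w, hr₂]
  have sqφ : IsPullback r (𝟙 Y) φ q := by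
    refine IsPullback.of_bot ?_ (by simp [hφ]) hZ
    rwa [Category.id_comp, hφz]
  have : Flat q := MorphismProperty.of_isPullback hZ.flip inferInstance
  have : Surjective q := MorphismProperty.of_isPullback hZ.flip inferInstance
  have : QuasiCompact q := MorphismProperty.of_isPullback hZ.flip inferInstance
  have : IsIso φ := MorphismProperty.of_isPullback_of_descendsAlong
    (P := MorphismProperty.isomorphisms Scheme.{u}) (Q := @Surjective ⊓ @Flat ⊓ @QuasiCompact)
    sqφ.flip ⟨⟨inferInstance, inferInstance⟩, inferInstance⟩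
    (MorphismProperty.isomorphisms.infer_property (𝟙 Y))
  exact ⟨d.U, d.a, ⟨ha₁, ha₂⟩, asIso φ, hφz⟩

end descent

include hU in
theorem isEquivalence_restrict {V₁ P₀ : Scheme.{u}} {p : V₁ ⟶ V.toScheme} [Flat p] [Surjective p]
    [QuasiCompact p] {j₁ : P₀ ⟶ V₁} {p₀ : P₀ ⟶ (V ⊓ U : X.Opens)}
    (hj : IsPullback j₁ p₀ p (inc U V)) [(FEt.restrict j₁).EssSurj] :
    (FEt.restrict (inc U V)).IsEquivalence where
  faithful := faithful_restrict hU
  full := full_restrict hU
  essSurj := ⟨fun Z₀ => by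
    obtain ⟨W, ⟨e⟩⟩ : (FEt.restrict j₁).essImage ((FEt.restrict p₀).obj Z₀) :=
      Functor.EssSurj.mem_essImage (F := FEt.restrict j₁) _
    have := W.prop.1
    have := W.prop.2
    let eL : pullback W.hom j₁ ≅ pullback Z₀.hom p₀ :=
      (MorphismProperty.Over.forget _ _ _ ⋙ Over.forget _).mapIso e
    have hY := IsPullback.of_hasPullback W.hom j₁
    have hw : e.hom.left ≫ pullback.snd Z₀.hom p₀ = pullback.snd W.hom j₁ :=
      MorphismProperty.Over.w e.hom
    have hZ : IsPullback (e.hom.left ≫ pullback.fst Z₀.hom p₀) (pullback.snd W.hom j₁) Z₀.hom p₀ :=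
      (IsPullback.of_hasPullback Z₀.hom p₀).of_iso eL.symm (Iso.refl _) (Iso.refl _) (Iso.refl _)
        ((Category.comp_id _).trans (eL.inv_hom_id_assoc _).symm)
        ((Category.comp_id _).trans ((eL.inv_hom_id_assoc _).symm.trans (congrArg (eL.inv ≫ ·) hw)))
        (by simp) (by simp)
    obtain ⟨Z, a, ha, φ, hφ⟩ := exists_of_extends hU hj hY hZ
    exact ⟨MorphismProperty.Over.mk ⊤ a ha, ⟨MorphismProperty.Over.isoMk φ hφ⟩⟩⟩

end Groth.L20.PureDescent
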