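import Groth.Agent.L20.FlatStrata
import Groth.Agent.L20.ModPullback
import Groth.Agent.L19.Approx.IdealExt

/-!
# Flattening stratification of a quasi-compact quasi-separated base
-/

set_option autoImplicit false
set_option linter.style.haveILetI false

universe u

open CategoryTheory CategoryTheory.Limits AlgebraicGeometry TopologicalSpace
open scoped TensorProduct

namespace Groth.L20.Strata

variable {X S : Scheme.{u}}

/-- Flatness of a pullback at a point of an affine square from flatness of the base changed sections. -/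
theorem isFlatOverAt_of_square {X' S' : Scheme.{u}} {f : X ⟶ S} {f' : X' ⟶ S'} {g' : X' ⟶ X} {g : S' ⟶ S}
    (hc : IsPullback g' f' f g) (F : X.Modules) [Coh.IsQCoh F] {W : S.Opens} {V : X.Opens} {W' : S'.Opens}
    (hW : IsAffineOpen W) (hV : IsAffineOpen V) (hW' : IsAffineOpen W') (eV : V ≤ f ⁻¹ᵁ W) (eW : W' ≤ g ⁻¹ᵁ W)
    (x' : X') (hxV : g' x' ∈ V) (hxW : f' x' ∈ W')
    (hflat : letI := (g.appLE W W' eW).hom.toAlgebra
      letI := Module.compHom Γ(F, V) (f.appLE W V eV).hom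
      Module.Flat Γ(S', W') (Γ(S', W') ⊗[Γ(S, W)] Γ(F, V))) :
    FlatMod.IsFlatOverAt f' ((Scheme.Modules.pullback g').obj F) x' := by
  have hpb := Scheme.Hom.isPullback_resLE hc (UT := W') eW eV (UY := g' ⁻¹ᵁ V ⊓ f' ⁻¹ᵁ W') rfl
  haveI : IsAffine W.toScheme := hW
  haveI : IsAffine V.toScheme := hV
  haveI : IsAffine W'.toScheme := hW'
  have hU : IsAffineOpen (g' ⁻¹ᵁ V ⊓ f' ⁻¹ᵁ W') := IsAffine.of_isPullback hpb
  have hpo : IsPushout (f.appLE W V eV) (g.appLE W W' eW)
      (g'.appLE V (g' ⁻¹ᵁ V ⊓ f' ⁻¹ᵁ W') inf_le_left) (f'.appLE W' (g' ⁻¹ᵁ V ⊓ f' ⁻¹ᵁ W') inf_le_right) := by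
    refine (isPushout_appTop_of_isPullback hpb).of_iso W.topIso V.topIso W'.topIso
      (g' ⁻¹ᵁ V ⊓ f' ⁻¹ᵁ W').topIso ?_ ?_ ?_ ?_ <;>
    simp only [Scheme.Hom.appTop, Scheme.Hom.resLE_app_top, Category.assoc, Iso.inv_hom_id, Category.comp_id]
  set U := g' ⁻¹ᵁ V ⊓ f' ⁻¹ᵁ W' with hUdef
  have eU : U ≤ g' ⁻¹ᵁ V := inf_le_left
  have eU' : U ≤ f' ⁻¹ᵁ W' := inf_le_right
  have hxU : x' ∈ U := ⟨hxV, hxW⟩
  algebraize [(f.appLE W V eV).hom, (g.appLE W W' eW).hom, (g'.appLE V U eU).hom, (f'.appLE W' U eU').hom,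
    ((g'.appLE V U eU).hom.comp (f.appLE W V eV).hom)]
  haveI : IsScalarTower Γ(S, W) Γ(S', W') Γ(X', U) := IsScalarTower.of_algebraMap_eq' (congrArg CommRingCat.Hom.hom hpo.w)
  haveI : Algebra.IsPushout Γ(S, W) Γ(X, V) Γ(S', W') Γ(X', U) := CommRingCat.isPushout_iff_isPushout.mp hpo
  letI := Module.compHom Γ(F, V) (f.appLE W V eV).hom
  haveI : IsScalarTower Γ(S, W) Γ(X, V) Γ(F, V) := IsScalarTower.of_algebraMap_smul fun _ _ => rfl
  have hbc := Groth.L20.isBaseChange_restrictScalars (R := Γ(S, W)) (S := Γ(X, V)) (R' := Γ(S', W')) (S' := Γ(X', U))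
    (TensorProduct.isBaseChange Γ(X, V) Γ(F, V) Γ(X', U))
  haveI := hflat
  haveI : Module.Flat Γ(S', W') (Γ(X', U) ⊗[Γ(X, V)] Γ(F, V)) := Module.Flat.of_linearEquiv hbc.equiv.symm
  rw [Groth.L20.ModStalk.isFlatOverAt_iff_sections f' _ hW' eU' hxU]
  obtain ⟨ψ, hψ⟩ := Groth.L20.ModStalk.exists_isBaseChange_pullback_stalk g' F hV (eU hxU)
  letI : Algebra Γ(X', U) (X'.presheaf.stalk x') := (X'.presheaf.germ U x' hxU).hom.toAlgebra
  letI : Algebra Γ(X, V) (X'.presheaf.stalk x') :=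
    ((g'.stalkMap x').hom.comp (X.presheaf.germ V (g' x') (eU hxU)).hom).toAlgebra
  haveI : IsScalarTower Γ(X, V) Γ(X', U) (X'.presheaf.stalk x') := IsScalarTower.of_algebraMap_eq fun a =>
    Groth.L20.ModStalk.stalkMap_germ eU hxU (eU hxU) a
  letI : Module Γ(X, V) (((Scheme.Modules.pullback g').obj F).presheaf.stalk x') :=
    Module.compHom _ ((g'.stalkMap x').hom.comp (X.presheaf.germ V (g' x') (eU hxU)).hom)
  letI := Groth.L20.ModStalk.stalkModule ((Scheme.Modules.pullback g').obj F) hxU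
  haveI : IsScalarTower Γ(X, V) (X'.presheaf.stalk x') (((Scheme.Modules.pullback g').obj F).presheaf.stalk x') :=
    IsScalarTower.of_algebraMap_smul fun _ _ => rfl
  haveI : IsScalarTower Γ(X', U) (X'.presheaf.stalk x') (((Scheme.Modules.pullback g').obj F).presheaf.stalk x') :=
    IsScalarTower.of_algebraMap_smul fun _ _ => rfl
  haveI : IsScalarTower Γ(X, V) Γ(X', U) (((Scheme.Modules.pullback g').obj F).presheaf.stalk x') :=
    IsScalarTower.of_algebraMap_smul fun a m => by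
      show (X'.presheaf.germ U x' hxU).hom ((g'.appLE V U eU).hom a) • m =
        (g'.stalkMap x').hom (X.presheaf.germ V (g' x') (eU hxU) a) • m
      congr 1
      exact (Groth.L20.ModStalk.stalkMap_germ eU hxU (eU hxU) a).symm
  have hb₁ : IsBaseChange Γ(X', U) (TensorProduct.mk Γ(X, V) Γ(X', U) Γ(F, V) 1) := TensorProduct.isBaseChange _ _ _
  have hb₂ : IsBaseChange (X'.presheaf.stalk x') (hb₁.lift ψ) := by
    refine IsBaseChange.of_comp hb₁ ?_
    rw [show (hb₁.lift ψ).restrictScalars Γ(X, V) ∘ₗ TensorProduct.mk Γ(X, V) Γ(X', U) Γ(F, V) 1 = ψ from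
      LinearMap.ext fun m => hb₁.lift_eq ψ m]
    exact hψ
  haveI := hU.isLocalization_stalk ⟨x', hxU⟩
  letI : Module Γ(S', W') (((Scheme.Modules.pullback g').obj F).presheaf.stalk x') :=
    Module.compHom _ ((X'.presheaf.germ U x' hxU).hom.comp (f'.appLE W' U eU').hom)
  haveI : IsScalarTower Γ(S', W') Γ(X', U) (((Scheme.Modules.pullback g').obj F).presheaf.stalk x') :=
    IsScalarTower.of_algebraMap_smul fun _ _ => rfl
  haveI : Module.Flat Γ(X', U) (X'.presheaf.stalk x') :=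
    IsLocalization.flat _ (hU.primeIdealOf ⟨x', hxU⟩).asIdeal.primeCompl
  letI : Algebra Γ(S', W') (X'.presheaf.stalk x') :=
    ((X'.presheaf.germ U x' hxU).hom.comp (f'.appLE W' U eU').hom).toAlgebra
  haveI : IsScalarTower Γ(S', W') Γ(X', U) (X'.presheaf.stalk x') := IsScalarTower.of_algebraMap_eq fun _ => rfl
  haveI := Groth.L20.ModStalk.flat_tensorProduct (R := Γ(S', W')) (S := Γ(X', U))
    (T := X'.presheaf.stalk x') (M := Γ(X', U) ⊗[Γ(X, V)] Γ(F, V))
  haveI : IsScalarTower Γ(S', W') (X'.presheaf.stalk x') (((Scheme.Modules.pullback g').obj F).presheaf.stalk x') :=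
    IsScalarTower.of_algebraMap_smul fun _ _ => rfl
  exact Module.Flat.of_linearEquiv (hb₂.equiv.restrictScalars Γ(S', W')).symm

variable (f : X ⟶ S) (F : X.Modules)

/-- A piece of the base over which the pullback is flat. -/
def Good (O : S.affineOpens) (J : Ideal Γ(S, O.1)) : Prop :=
  ∀ {T : Scheme.{u}} (g : T ⟶ S) (W' : T.Opens), IsAffineOpen W' → ∀ (e : W' ≤ g ⁻¹ᵁ O.1),
    J.map (g.appLE O.1 W' e).hom = ⊥ → ∀ x' : (pullback f g : Scheme.{u}), (pullback.snd f g) x' ∈ W' →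
      FlatMod.IsFlatOverAt (pullback.snd f g) ((Scheme.Modules.pullback (pullback.fst f g)).obj F) x'

/-- An ordered decomposition of a closed set into pieces satisfying `P`. -/
inductive GStrat (P : ∀ O : S.affineOpens, Ideal Γ(S, O.1) → Prop) : Set S → Prop
  | empty : GStrat P ∅
  | step {G : Set S} (O : S.affineOpens) (J : Ideal Γ(S, O.1)) : J.FG →
      G ∩ O.1 ⊆ S.zeroLocus (U := O.1) J → P O J → GStrat P (G \ O.1) → GStrat P G

open Groth.L19.Approx in
theorem exists_fg_extension [CompactSpace S] [QuasiSeparatedSpace S] (Z : Closeds S) (O : S.affineOpens)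
    (J : Ideal Γ(S, O.1)) (hJ : J.FG) (hZ : (Z : Set S) ∩ O.1 ⊆ S.zeroLocus (U := O.1) J) :
    ∃ K : S.IdealSheafData, (∀ V : S.affineOpens, (K.ideal V).FG) ∧ (Z : Set S) ⊆ K.support ∧ K.ideal O = J := by
  let L := Scheme.IdealSheafData.vanishingIdeal Z ⊓ kerSpan O J
  have hL : L.ideal O = J := by
    change (Scheme.IdealSheafData.vanishingIdeal Z).ideal O ⊓ (kerSpan O J).ideal O = J
    rw [kerSpan_ideal_self, inf_eq_right, Scheme.IdealSheafData.vanishingIdeal_ideal,
      ← PrimeSpectrum.subset_zeroLocus_iff_le_vanishingIdeal]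
    intro p hp
    have hpO : O.2.fromSpec p ∈ (O.1 : Set S) := O.2.range_fromSpec ▸ ⟨p, rfl⟩
    have := hZ ⟨hp, hpO⟩
    exact (Set.ext_iff.mp (O.2.fromSpec_preimage_zeroLocus _) p).mp this
  obtain ⟨K, hK, hfg, heq⟩ := exists_fgOn_top L O.2.isCompact
    (fgOn_of_le_iSup _ _ (fun _ : Unit => O) (le_iSup_of_le () le_rfl) (fun _ => by rw [hL]; exact hJ))
  exact ⟨K, fun V => hfg V le_top, SetLike.coe_subset_coe.mpr
    (Scheme.IdealSheafData.le_support_iff_le_vanishingIdeal.mpr (hK.trans inf_le_left)), (heq O le_rfl).trans hL⟩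

theorem support_sup_eq {I K : S.IdealSheafData} : ((I ⊔ K).support : Set S) = (I.support : Set S) ∩ K.support := by
  rw [Scheme.IdealSheafData.support_sup]
  rfl

/-- The chain of ideals of a decomposition. -/
theorem GStrat.exists_chain [CompactSpace S] [QuasiSeparatedSpace S] {P : ∀ O : S.affineOpens, Ideal Γ(S, O.1) → Prop}
    {G : Set S} (h : GStrat P G) (I₀ : S.IdealSheafData) (hfg : ∀ V : S.affineOpens, (I₀.ideal V).FG)
    (hG : (I₀.support : Set S) = G) :
    ∃ (t : ℕ) (I : Fin (t + 1) → S.IdealSheafData), I₀ ≤ I 0 ∧ Monotone I ∧ I (Fin.last t) = ⊤ ∧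
      ((I 0).support : Set S) = G ∧ (∀ i, ∀ V : S.affineOpens, ((I i).ideal V).FG) ∧
      ∀ (i : Fin t) (s : S), s ∈ (I i.castSucc).support → s ∉ (I i.succ).support →
        ∃ (O : S.affineOpens) (J : Ideal Γ(S, O.1)), s ∈ O.1 ∧ J ≤ (I i.castSucc).ideal O ∧ P O J := by
  induction h generalizing I₀ with
  | empty =>
    have htop : I₀ = ⊤ := (Scheme.IdealSheafData.support_eq_bot_iff (I := I₀)).mp (SetLike.coe_injective (hG.trans rfl))
    exact ⟨0, fun _ => I₀, le_rfl, monotone_const, htop, hG, fun _ => hfg, fun i => i.elim0⟩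
  | @step G O J hJ hGJ hP hrec ih =>
    obtain ⟨K, hKfg, hKG, hKO⟩ := exists_fg_extension I₀.support O J hJ (hG ▸ hGJ)
    obtain ⟨H, hHfg, hHG, hHO⟩ := exists_fg_extension
      ⟨G \ O.1, (hG ▸ I₀.support.isClosed).sdiff O.1.2⟩ O ⊤ ⟨{1}, by simp⟩
      (fun x hx => absurd hx.2 hx.1.2)
    have hK' : ((I₀ ⊔ K).support : Set S) = G := by
      rw [support_sup_eq, Set.inter_eq_left.mpr hKG, hG]
    have hH' : (((I₀ ⊔ K) ⊔ H).support : Set S) = G \ O.1 := by
      rw [support_sup_eq, hK']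
      refine Set.Subset.antisymm (fun x hx => ⟨hx.1, fun hxO => ?_⟩) (fun x hx => ⟨hx.1, hHG hx⟩)
      have := (Scheme.IdealSheafData.mem_support_iff_of_mem hxO).mp hx.2
      rw [hHO] at this
      have h2 := (S.mem_zeroLocus_iff _ x).mp this 1 Submodule.mem_top
      exact h2 (by rw [S.basicOpen_of_isUnit isUnit_one]; exact hxO)
    obtain ⟨t, I, h0, hmono, hlast, hsupp, hfgI, hgood⟩ := ih ((I₀ ⊔ K) ⊔ H)
      (fun V => Submodule.FG.sup (Submodule.FG.sup (hfg V) (hKfg V)) (hHfg V)) hH'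
    refine ⟨t + 1, Fin.cons (I₀ ⊔ K) I, ?_, ?_, ?_, ?_, ?_, ?_⟩
    · exact le_sup_left
    · refine Fin.monotone_iff_le_succ.mpr fun i => ?_
      cases i using Fin.cases with
      | zero => simpa using le_sup_left.trans h0
      | succ j => simpa [← Fin.succ_castSucc] using hmono (Fin.castSucc_le_succ j)
    · rw [← Fin.succ_last, Fin.cons_succ]; exact hlast
    · simpa using hK'
    · intro i V
      cases i using Fin.cases with
      | zero => rw [Fin.cons_zero]; exact Submodule.FG.sup (hfg V) (hKfg V)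
      | succ j => simpa using hfgI j V
    · intro i s hs hns
      cases i using Fin.cases with
      | zero =>
        simp only [Fin.castSucc_zero, Fin.cons_zero] at hs
        simp only [Fin.cons_succ] at hns
        refine ⟨O, J, ?_, ?_, hP⟩
        · by_contra hsO
          have : s ∈ ((I 0).support : Set S) := hsupp ▸ (⟨hK' ▸ hs, hsO⟩ : s ∈ G \ O.1)
          exact hns this
        · rw [Fin.castSucc_zero, Fin.cons_zero]
          exact hKO.ge.trans ((le_sup_right : K ≤ I₀ ⊔ K) O)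
      | succ j =>
        simp only [← Fin.succ_castSucc, Fin.cons_succ] at hs hns ⊢
        exact hgood j s hs hns

open Groth.L20.ModStalk in
/-- The decomposition over an affine open of the base. -/
theorem gStrat_affine [LocallyOfFinitePresentation f] [QuasiCompact f] [Coh.IsQCoh F] (hfp : CohB1.IsFP F)
    (U : S.affineOpens) (G : Set S) (hrec : ∀ G' ⊆ G \ U.1, GStrat (Good f F) G') : GStrat (Good f F) G := by
  obtain ⟨t, ht, hcov⟩ := Groth.L19.Approx.exists_finite_affineOpens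
    (f.isCompact_preimage U.2.isCompact : IsCompact ((f ⁻¹ᵁ U.1 : X.Opens) : Set X))
  haveI := ht.to_subtype
  have hle : ∀ V : t, V.1.1 ≤ f ⁻¹ᵁ U.1 := fun V => hcov ▸ le_iSup (fun V : t => V.1.1) V
  letI : ∀ V : t, Module Γ(S, U.1) Γ(F, V.1.1) := fun V => Module.compHom _ (f.appLE U.1 V.1.1 (hle V)).hom
  have hstrat : Stratified (fun a J => ∀ V : t, FlatOn Γ(F, V.1.1) a J) (⊥ : Ideal Γ(S, U.1)) := by
    refine stratified_forall (fun V : t => Γ(F, V.1.1)) fun V => ?_
    letI := (f.appLE U.1 V.1.1 (hle V)).hom.toAlgebra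
    haveI : Algebra.FinitePresentation Γ(S, U.1) Γ(X, V.1.1) := f.finitePresentation_appLE U.2 V.1.2 (hle V)
    haveI : IsScalarTower Γ(S, U.1) Γ(X, V.1.1) Γ(F, V.1.1) := IsScalarTower.of_algebraMap_smul fun _ _ => rfl
    haveI := finitePresentation_sections F hfp V.1.2
    exact stratified_flatOn (A := Γ(X, V.1.1)) Γ(F, V.1.1)
  suffices H : ∀ I : Ideal Γ(S, U.1), Stratified (fun a J => ∀ V : t, FlatOn Γ(F, V.1.1) a J) I →
      ∀ G : Set S, G ∩ U.1 ⊆ S.zeroLocus (U := U.1) I → (∀ G' ⊆ G \ U.1, GStrat (Good f F) G') →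
        GStrat (Good f F) G by
    refine H ⊥ hstrat G ?_ hrec
    intro x _
    simp
  intro I hI
  induction hI with
  | top =>
    intro G hG hrec
    refine hrec G fun x hx => ⟨hx, fun hxU => ?_⟩
    exact ((S.mem_zeroLocus_iff _ x).mp (hG ⟨hx, hxU⟩) 1 Submodule.mem_top)
      (by rw [S.basicOpen_of_isUnit isUnit_one]; exact hxU)
  | @step I a J hJ haJ hflat _ ih =>
    intro G hG hrec
    set ρ := (S.presheaf.map (homOfLE (S.basicOpen_le a)).op).hom with hρ
    refine .step (S.affineBasicOpen a) (J.map ρ) (Ideal.FG.map hJ ρ) ?_ ?_ (ih _ ?_ ?_)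
    · rintro x ⟨hxG, hxa : x ∈ S.basicOpen a⟩
      have hxI := hG ⟨hxG, S.basicOpen_le a hxa⟩
      rw [Scheme.mem_zeroLocus_iff]
      have hsub : (J.map ρ : Set Γ(S, S.basicOpen a)) ⊆ Ideal.comap (S.presheaf.germ _ x hxa).hom
          (IsLocalRing.maximalIdeal (S.presheaf.stalk x)) := by
        refine SetLike.coe_subset_coe.mpr (Ideal.map_le_iff_le_comap.mpr fun j hj => ?_)
        have hmem : a * j ∈ I.radical := haJ (Ideal.mul_mem_mul (Ideal.mem_span_singleton_self a) hj)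
        obtain ⟨m, hm⟩ := hmem
        have h1 : ¬ IsUnit (S.presheaf.germ _ x (S.basicOpen_le a hxa) ((a * j) ^ m)) := fun hu =>
          (S.mem_zeroLocus_iff _ x).mp hxI _ hm ((Scheme.mem_basicOpen S _ x _).mpr hu)
        have ha : IsUnit (S.presheaf.germ _ x (S.basicOpen_le a hxa) a) := (Scheme.mem_basicOpen S _ x _).mp hxa
        rw [Ideal.mem_comap, Ideal.mem_comap, IsLocalRing.mem_maximalIdeal, mem_nonunits_iff]
        intro hu
        apply h1
        rw [map_pow, map_mul]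
        refine ((ha.mul ?_).pow m)
        have h2 := TopCat.Presheaf.germ_res_apply S.presheaf (homOfLE (S.basicOpen_le a)) x hxa j
        exact h2 ▸ hu
      intro y hy hb
      exact (IsLocalRing.mem_maximalIdeal _).mp (hsub hy) ((Scheme.mem_basicOpen S y x hxa).mp hb)
    · intro T g W' hW' e hz x' hx'
      have hxU : (pullback.fst f g) x' ∈ f ⁻¹ᵁ U.1 := by
        show f (pullback.fst f g x') ∈ U.1
        rw [← Scheme.Hom.comp_apply, pullback.condition, Scheme.Hom.comp_apply]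
        exact S.basicOpen_le a (e hx')
      rw [hcov, Opens.mem_iSup] at hxU
      obtain ⟨V, hxV⟩ := hxU
      have eW : W' ≤ g ⁻¹ᵁ U.1 := e.trans (g.preimage_mono (S.basicOpen_le a))
      refine isFlatOverAt_of_square (IsPullback.of_hasPullback f g) F U.2 V.1.2 hW' (hle V) eW x' hxV hx' ?_
      letI := (g.appLE U.1 W' eW).hom.toAlgebra
      have eA : W' ≤ g ⁻¹ᵁ S.basicOpen a := e
      have hcomp : (g.appLE U.1 W' eW).hom = (g.appLE (S.basicOpen a) W' eA).hom.comp ρ :=
        congrArg CommRingCat.Hom.hom (g.map_appLE eA (homOfLE (S.basicOpen_le a)).op).symm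
      refine hflat V Γ(T, W') ?_ ?_
      · show IsUnit ((g.appLE U.1 W' eW).hom a)
        rw [hcomp]
        exact (RingedSpace.isUnit_res_basicOpen _ a).map (g.appLE (S.basicOpen a) W' eA).hom
      · show J.map (g.appLE U.1 W' eW).hom = ⊥
        rw [hcomp, ← Ideal.map_map]
        exact hz
    · rintro x ⟨⟨hxG, hxna⟩, hxU⟩
      rw [Scheme.mem_zeroLocus_iff]
      intro y hy hb
      have hle : I ⊔ Ideal.span {a} ≤ Ideal.comap (S.presheaf.germ _ x hxU).hom
          (IsLocalRing.maximalIdeal (S.presheaf.stalk x)) := by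
        refine sup_le (fun z hz => ?_) ((Ideal.span_singleton_le_iff_mem _).mpr ?_)
        · rw [Ideal.mem_comap, IsLocalRing.mem_maximalIdeal, mem_nonunits_iff]
          exact fun hu => (S.mem_zeroLocus_iff _ x).mp (hG ⟨hxG, hxU⟩) z hz ((Scheme.mem_basicOpen S z x hxU).mpr hu)
        · rw [Ideal.mem_comap, IsLocalRing.mem_maximalIdeal, mem_nonunits_iff]
          exact fun hu => hxna ((Scheme.mem_basicOpen S a x hxU).mpr hu)
      exact (IsLocalRing.mem_maximalIdeal _).mp (hle hy) ((Scheme.mem_basicOpen S y x hxU).mp hb)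
    · intro G' hG'
      exact hrec G' (hG'.trans fun x hx => ⟨hx.1.1, hx.2⟩)

/-- The decomposition of the whole base. -/
theorem gStrat_univ [CompactSpace S] [LocallyOfFinitePresentation f] [QuasiCompact f] [Coh.IsQCoh F]
    (hfp : CohB1.IsFP F) : GStrat (Good f F) Set.univ := by
  classical
  obtain ⟨s, hs, hcov⟩ := Groth.L19.Approx.exists_finite_affineOpens (U := (⊤ : S.Opens)) isCompact_univ
  suffices H : ∀ t : Finset S.affineOpens, ∀ G : Set S, (G ⊆ ⋃ U ∈ t, (U.1 : Set S)) → GStrat (Good f F) G by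
    refine H hs.toFinset _ fun x _ => ?_
    have hx : x ∈ (⊤ : S.Opens) := trivial
    rw [hcov, Opens.mem_iSup] at hx
    obtain ⟨V, hV⟩ := hx
    exact Set.mem_biUnion (hs.mem_toFinset.mpr V.2) hV
  intro t
  induction t using Finset.induction with
  | empty =>
    intro G hG
    rw [show G = ∅ from Set.subset_empty_iff.mp (by simpa using hG)]
    exact .empty
  | insert U t _ ih =>
    intro G hG
    refine gStrat_affine f F hfp U G fun G' hG' => ih G' fun x hx => ?_
    obtain ⟨hxG, hxU⟩ := hG' hx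
    have := hG hxG
    rw [Finset.set_biUnion_insert] at this
    exact this.resolve_left hxU

end Groth.L20.Strata
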