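import Groth.Agent.L27.TopSets
import Mathlib.CategoryTheory.Adjunction.Triple
import Mathlib.CategoryTheory.Adjunction.FullyFaithful
import Mathlib.Topology.Sheaves.SheafCondition.UniqueGluing

/-!
# Direct images of sheaves of sets along embeddings, and extension by the empty set
-/

set_option autoImplicit false
set_option linter.style.haveILetI false
set_option backward.defeqAttrib.useBackward true
set_option backward.isDefEq.respectTransparency false
set_option backward.isDefEq.respectTransparency.types false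

universe u

open CategoryTheory CategoryTheory.Limits Opposite TopologicalSpace Topology
open Groth.L27.TopSets

noncomputable section

namespace Groth.L20.ShEmbed

variable {X Y Z : TopCat.{u}}

theorem res_res (F : TopCat.Sheaf (Type u) X) {U V W : Opens X} (h : V ≤ U) (h' : W ≤ V) (s : Sect F U) :
    res F h' (res F h s) = res F (h'.trans h) s :=
  (ConcreteCategory.congr_hom (F.obj.map_comp (homOfLE h).op (homOfLE h').op) s).symm

theorem res_self (F : TopCat.Sheaf (Type u) X) {U : Opens X} (h : U ≤ U) (s : Sect F U) : res F h s = s :=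
  ConcreteCategory.congr_hom (F.obj.map_id (op U)) s

theorem res_app {F G : TopCat.Sheaf (Type u) X} (φ : F ⟶ G) {U V : Opens X} (h : V ≤ U) (s : Sect F U) :
    res G h (φ.hom.app (op U) s) = φ.hom.app (op V) (res F h s) :=
  (ConcreteCategory.congr_hom (φ.hom.naturality (homOfLE h).op) s).symm

theorem hom_ext {F G : TopCat.Sheaf (Type u) X} {φ ψ : F ⟶ G}
    (h : ∀ (U : Opens X) (s : Sect F U), φ.hom.app (op U) s = ψ.hom.app (op U) s) : φ = ψ :=
  Sheaf.hom_ext (NatTrans.ext (funext fun U => ConcreteCategory.hom_ext _ _ (h U.unop)))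

/-- Direct image along a map inducing the topology is fully faithful. -/
theorem pushforward_fullyFaithful {i : Z ⟶ X} (hi : IsInducing i) :
    (TopCat.Sheaf.pushforward (Type u) i).Full ∧ (TopCat.Sheaf.pushforward (Type u) i).Faithful := by
  have hW : ∀ V : Opens Z, ∃ W : Opens X, (Opens.map i).obj W = V := fun V => by
    obtain ⟨W, hWo, hWV⟩ := hi.isOpen_iff.1 V.2
    exact ⟨⟨W, hWo⟩, Opens.ext hWV⟩
  choose W hW using hW
  refine ⟨⟨fun {A B} φ => ?_⟩, ⟨fun {A B} a b h => ?_⟩⟩
  · let app : ∀ V : Opens Z, Sect A V → Sect B V := fun V s =>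
      res B (hW V).ge (φ.hom.app (op (W V)) (res A (hW V).le s))
    have key : ∀ (V : Opens Z) (W' : Opens X) (h : (Opens.map i).obj W' ≤ V) (h' : (Opens.map i).obj W' ≤ (Opens.map i).obj W')
        (s : Sect A V), φ.hom.app (op W') (res A h s) = res B h (app V s) := by
      intro V W' h _ s
      have e : (Opens.map i).obj W' = (Opens.map i).obj (W' ⊓ W V) := by
        refine le_antisymm (fun z hz => ⟨hz, ?_⟩) fun z hz => hz.1
        exact (hW V).ge (h hz)
      have n1 := res_app φ (inf_le_left : W' ⊓ W V ≤ W') (res A h s)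
      have n2 := res_app φ (inf_le_right : W' ⊓ W V ≤ W V) (res A (hW V).le s)
      have n1' : res B e.ge (φ.hom.app (op W') (res A h s)) = φ.hom.app (op (W' ⊓ W V)) (res A (e.ge.trans h) s) :=
        n1.trans (congrArg (φ.hom.app (op (W' ⊓ W V))) (res_res A h _ s))
      have n2' : res B ((e.ge.trans h).trans (hW V).ge) (φ.hom.app (op (W V)) (res A (hW V).le s)) =
          φ.hom.app (op (W' ⊓ W V)) (res A (e.ge.trans h) s) :=
        n2.trans (congrArg (φ.hom.app (op (W' ⊓ W V))) (res_res A _ _ s))
      have n3 := congrArg (res B e.le) (n1'.trans n2'.symm)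
      rw [res_res, res_res, res_self] at n3
      rw [n3, res_res]
    refine ⟨⟨⟨fun V => TypeCat.ofHom (app V.unop), fun {V V'} f => ?_⟩⟩, hom_ext fun U s => ?_⟩
    · ext s
      change app V'.unop (A.obj.map f s) = B.obj.map f (app V.unop s)
      have hle : V'.unop ≤ V.unop := f.unop.le
      rw [show f = (homOfLE hle).op from Subsingleton.elim _ _]
      change app V'.unop (res A hle s) = res B hle (app V.unop s)
      have k := key V.unop (W V'.unop) ((hW _).le.trans hle) le_rfl s
      change res B _ (φ.hom.app _ (res A _ (res A hle s))) = _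
      rw [res_res, k, res_res]
    · change app ((Opens.map i).obj U) s = φ.hom.app (op U) s
      have k := key ((Opens.map i).obj U) U le_rfl le_rfl s
      rw [res_self, res_self] at k
      exact k.symm
  · refine hom_ext fun V s => ?_
    have h' := congrArg (fun k : (TopCat.Sheaf.pushforward (Type u) i).obj A ⟶ (TopCat.Sheaf.pushforward (Type u) i).obj B =>
      k.hom.app (op (W V)) (res A (hW V).le s)) h
    change a.hom.app (op ((Opens.map i).obj (W V))) (res A (hW V).le s) =
      b.hom.app (op ((Opens.map i).obj (W V))) (res A (hW V).le s) at h'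
    rw [← res_app, ← res_app] at h'
    have h'' := congrArg (res B (hW V).ge) h'
    rwa [res_res, res_res, res_self, res_self] at h''

theorem isIso_counit {i : Z ⟶ X} (hi : IsInducing i) (F : Z.Sheaf (Type u)) :
    IsIso ((TopCat.Sheaf.pullbackPushforwardAdjunction (Type u) i).counit.app F) := by
  haveI := (pushforward_fullyFaithful hi).1
  haveI := (pushforward_fullyFaithful hi).2
  infer_instance

/-- The stalk of a direct image off a closed image is a point. -/
theorem nonempty_unique_stalk {i : Z ⟶ X} (F : Z.Sheaf (Type u)) {x : X} {V : Opens X} (hx : x ∈ V)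
    (hV : ∀ z, i z ∉ V) : Nonempty (Unique (((TopCat.Sheaf.pushforward (Type u) i).obj F).presheaf.stalk x)) := by
  have hsub : ∀ W : Opens X, W ≤ V → Nonempty (Unique (Sect ((TopCat.Sheaf.pushforward (Type u) i).obj F) W)) := by
    intro W hWV
    have h : (Opens.map i).obj W = ⊥ := Opens.ext (Set.eq_empty_of_forall_notMem fun z hz => hV z (hWV hz))
    exact ⟨(Types.isTerminalEquivUnique _).1 (F.isTerminalOfEqEmpty h)⟩
  obtain ⟨u0⟩ := hsub V le_rfl
  refine ⟨{ default := germ _ x hx u0.default, uniq := fun a => ?_ }⟩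
  revert a
  suffices h : ∀ a b : ((TopCat.Sheaf.pushforward (Type u) i).obj F).presheaf.stalk x, a = b from fun a => h a _
  intro a b
  obtain ⟨U₁, hx₁, s, rfl⟩ := TopCat.Presheaf.exists_germ_eq (C := Type u) (X := X) _ a
  obtain ⟨U₂, hx₂, t, rfl⟩ := TopCat.Presheaf.exists_germ_eq (C := Type u) (X := X) _ b
  obtain ⟨u1⟩ := hsub (U₁ ⊓ U₂ ⊓ V) inf_le_right
  have hxW : x ∈ U₁ ⊓ U₂ ⊓ V := ⟨⟨hx₁, hx₂⟩, hx⟩
  refine (germ_res ((TopCat.Sheaf.pushforward (Type u) i).obj F) (inf_le_left.trans inf_le_left) x hxW s).symm.trans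
    ((congrArg (germ _ x hxW) ?_).trans
      (germ_res ((TopCat.Sheaf.pushforward (Type u) i).obj F) (inf_le_left.trans inf_le_right) x hxW t))
  exact u1.instSubsingleton.elim _ _

theorem essImage_iff {i : Z ⟶ X} (hi : IsClosedEmbedding i) (G : X.Sheaf (Type u)) :
    (TopCat.Sheaf.pushforward (Type u) i).essImage G ↔
      ∀ x : X, x ∉ Set.range i → Nonempty (Unique (G.presheaf.stalk x)) := by
  have hout : ∀ (F : Z.Sheaf (Type u)) (x : X), x ∉ Set.range i →
      Nonempty (Unique (((TopCat.Sheaf.pushforward (Type u) i).obj F).presheaf.stalk x)) := fun F x hx =>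
    nonempty_unique_stalk F (V := ⟨(Set.range i)ᶜ, hi.isClosed_range.isOpen_compl⟩) hx fun z hz => hz ⟨z, rfl⟩
  constructor
  · rintro ⟨F, ⟨e⟩⟩ x hx
    obtain ⟨u0⟩ := hout F x hx
    letI : Unique ((TopCat.Presheaf.stalkFunctor (Type u) x).obj
      ((sheafToPresheaf _ _).obj ((TopCat.Sheaf.pushforward (Type u) i).obj F))) := u0
    exact ⟨((TopCat.Presheaf.stalkFunctor (Type u) x).mapIso
      ((sheafToPresheaf _ _).mapIso e)).toEquiv.symm.unique⟩
  · intro hG
    let adj := TopCat.Sheaf.pullbackPushforwardAdjunction (Type u) i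
    haveI : ∀ x : X, IsIso ((TopCat.Presheaf.stalkFunctor (Type u) x).map (adj.unit.app G).hom) := fun x => by
      rw [isIso_iff_bijective]
      by_cases hx : x ∈ Set.range i
      · obtain ⟨z, rfl⟩ := hx
        have h := isPullUnit_unit i G z
        haveI := TopCat.Presheaf.stalkPushforward.stalkPushforward_iso_of_isInducing (C := Type u)
          hi.isInducing ((TopCat.Sheaf.pullback (Type u) i).obj G).obj z
        exact (Function.Bijective.of_comp_iff' (ConcreteCategory.bijective_of_isIso
          (TopCat.Presheaf.stalkPushforward (Type u) i ((TopCat.Sheaf.pullback (Type u) i).obj G).obj z)) _).1 h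
      · obtain ⟨u1⟩ := hG x hx
        obtain ⟨u2⟩ := hout ((TopCat.Sheaf.pullback (Type u) i).obj G) x hx
        exact ⟨fun a b _ => u1.instSubsingleton.elim a b, fun c => ⟨u1.default, u2.instSubsingleton.elim _ c⟩⟩
    haveI := TopCat.Presheaf.isIso_of_stalkFunctor_map_iso (adj.unit.app G)
    exact ⟨(TopCat.Sheaf.pullback (Type u) i).obj G, ⟨(asIso (adj.unit.app G)).symm⟩⟩

section Extension

variable (U : Opens X)

/-- The inclusion of an open subspace. -/
abbrev incl₀ : TopCat.of U ⟶ X := TopCat.ofHom ⟨Subtype.val, continuous_subtype_val⟩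

theorem fullyFaithful_left (L : (TopCat.of U).Sheaf (Type u) ⥤ X.Sheaf (Type u))
    (adj : L ⊣ U.sheafRestrict (C := Type u)) : L.Full ∧ L.Faithful := by
  have hj : IsOpenEmbedding (incl₀ U) := U.isOpenEmbedding
  let e : U.sheafRestrict (C := Type u) ≅ TopCat.Sheaf.pullback (Type u) (incl₀ U) :=
    (Topology.IsOpenEmbedding.sheafPullbackIso (A := Type u) (f := incl₀ U) hj).symm
  let t : Adjunction.Triple L (U.sheafRestrict (C := Type u)) (TopCat.Sheaf.pushforward (Type u) (incl₀ U)) :=
    ⟨adj, (TopCat.Sheaf.pullbackPushforwardAdjunction (Type u) (incl₀ U)).ofNatIsoLeft e.symm⟩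
  haveI := (pushforward_fullyFaithful (i := incl₀ U) hj.isInducing).1
  haveI := (pushforward_fullyFaithful (i := incl₀ U) hj.isInducing).2
  have hL := t.fullyFaithfulEquiv.symm (Functor.FullyFaithful.ofFullyFaithful _)
  exact ⟨hL.full, hL.faithful⟩

/-- The subterminal sheaf of an open. -/
def sub : X.Sheaf (Type u) :=
  ⟨yoneda.obj U, TopCat.Presheaf.isSheaf_of_isSheafUniqueGluing_types _ fun ι V sf _ =>
    ⟨homOfLE (iSup_le fun i => (sf i).le), fun _ => Subsingleton.elim (α := (_ : Opens X) ⟶ U) _ _,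
      fun _ _ => Subsingleton.elim (α := (_ : Opens X) ⟶ U) _ _⟩⟩

theorem isEmpty_stalk_left (L : (TopCat.of U).Sheaf (Type u) ⥤ X.Sheaf (Type u))
    (adj : L ⊣ U.sheafRestrict (C := Type u)) (F : (TopCat.of U).Sheaf (Type u)) {x : X} (hx : x ∉ U) :
    IsEmpty ((L.obj F).presheaf.stalk x) := by
  have hle : ∀ W : Opens U, U.isOpenEmbedding.isOpenMap.functor.obj W ≤ U := by
    rintro W _ ⟨w, -, rfl⟩
    exact w.2
  let g : F ⟶ U.sheafRestrict.obj (sub U) :=
    ⟨⟨fun W => TypeCat.ofHom fun _ => homOfLE (hle W.unop), fun _ _ _ => by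
      ext s; exact Subsingleton.elim (α := (_ : Opens X) ⟶ U) _ _⟩⟩
  let ψ := (adj.homEquiv _ _).symm g
  refine ⟨fun a => ?_⟩
  obtain ⟨V, hxV, s, -⟩ := TopCat.Presheaf.exists_germ_eq (C := Type u) (X := X) _ a
  exact hx ((ψ.hom.app (op V) s).le hxV)

theorem bijective_stalk_counit (L : (TopCat.of U).Sheaf (Type u) ⥤ X.Sheaf (Type u))
    (adj : L ⊣ U.sheafRestrict (C := Type u)) (G : X.Sheaf (Type u)) {x : X} (hx : x ∈ U) :
    Function.Bijective ((TopCat.Presheaf.stalkFunctor (Type u) x).map (adj.counit.app G).hom) := by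
  haveI := (fullyFaithful_left U L adj).1
  haveI := (fullyFaithful_left U L adj).2
  let c := adj.counit.app G
  haveI : IsIso (U.sheafRestrict.map c) := by
    haveI : IsIso (adj.unit.app (U.sheafRestrict.obj G) ≫ U.sheafRestrict.map c) := by
      rw [adj.right_triangle_components]; exact IsIso.id _
    exact IsIso.of_isIso_comp_left (adj.unit.app (U.sheafRestrict.obj G)) _
  have happ : ∀ V : Opens X, V ≤ U → Function.Bijective (c.hom.app (op V)) := by
    intro V hV
    have e : U.isOpenEmbedding.isOpenMap.functor.obj ((Opens.map (incl₀ U)).obj V) = V :=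
      Opens.ext (Set.image_preimage_eq_of_subset fun v hv => ⟨⟨v, hV hv⟩, rfl⟩)
    haveI : IsIso (U.sheafRestrict.map c).hom :=
      inferInstanceAs (IsIso ((sheafToPresheaf _ _).map (U.sheafRestrict.map c)))
    have h := ConcreteCategory.bijective_of_isIso ((U.sheafRestrict.map c).hom.app (op ((Opens.map (incl₀ U)).obj V)))
    change Function.Bijective (c.hom.app (op (U.isOpenEmbedding.isOpenMap.functor.obj ((Opens.map (incl₀ U)).obj V)))) at h
    rwa [e] at h
  constructor
  · intro a b hab
    obtain ⟨V, hVU, hxV, s, rfl⟩ := TopCat.Presheaf.exists_le_germ_eq (C := Type u) (X := X) _ a (V := U) hx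
    obtain ⟨V', hVU', hxV', t, rfl⟩ := TopCat.Presheaf.exists_le_germ_eq (C := Type u) (X := X) _ b (V := U) hx
    erw [TopCat.Presheaf.stalkFunctor_map_germ_apply, TopCat.Presheaf.stalkFunctor_map_germ_apply] at hab
    obtain ⟨W, hxW, iV, iV', hW⟩ := TopCat.Presheaf.germ_eq (C := Type u) (X := X) _ x hxV hxV' _ _ hab
    have h1 : res (L.obj (U.sheafRestrict.obj G)) iV.le s = res (L.obj (U.sheafRestrict.obj G)) iV'.le t := by
      refine (happ W (iV.le.trans hVU)).1 ?_
      exact ((res_app c iV.le s).symm.trans hW).trans (res_app c iV'.le t)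
    exact (germ_res _ iV.le x hxW s).symm.trans ((congrArg (germ _ x hxW) h1).trans (germ_res _ iV'.le x hxW t))
  · intro a
    obtain ⟨V, hVU, hxV, s, rfl⟩ := TopCat.Presheaf.exists_le_germ_eq (C := Type u) (X := X) _ a (V := U) hx
    obtain ⟨s', hs'⟩ := (happ V hVU).2 s
    refine ⟨germ (L.obj (U.sheafRestrict.obj G)) x hxV s', ?_⟩
    erw [TopCat.Presheaf.stalkFunctor_map_germ_apply, hs']

theorem essImage_left_iff (L : (TopCat.of U).Sheaf (Type u) ⥤ X.Sheaf (Type u))
    (adj : L ⊣ U.sheafRestrict (C := Type u)) (G : X.Sheaf (Type u)) :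
    L.essImage G ↔ ∀ x : X, x ∉ U → IsEmpty (G.presheaf.stalk x) := by
  constructor
  · rintro ⟨F, ⟨e⟩⟩ x hx
    haveI : IsEmpty ((TopCat.Presheaf.stalkFunctor (Type u) x).obj ((sheafToPresheaf _ _).obj (L.obj F))) :=
      isEmpty_stalk_left U L adj F hx
    exact ((TopCat.Presheaf.stalkFunctor (Type u) x).mapIso
      ((sheafToPresheaf _ _).mapIso e)).toEquiv.symm.isEmpty
  · intro hG
    haveI : ∀ x : X, IsIso ((TopCat.Presheaf.stalkFunctor (Type u) x).map (adj.counit.app G).hom) := fun x => by
      rw [isIso_iff_bijective]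
      by_cases hx : x ∈ U
      · exact bijective_stalk_counit U L adj G hx
      · haveI := isEmpty_stalk_left U L adj (U.sheafRestrict.obj G) hx
        haveI := hG x hx
        exact ⟨fun a => ((isEmpty_stalk_left U L adj (U.sheafRestrict.obj G) hx).false a).elim, fun c => ((hG x hx).false c).elim⟩
    haveI := TopCat.Presheaf.isIso_of_stalkFunctor_map_iso (adj.counit.app G)
    exact ⟨U.sheafRestrict.obj G, ⟨asIso (adj.counit.app G)⟩⟩

end Extension

end Groth.L20.ShEmbed
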