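import Mathlib.RingTheory.Flat.EquationalCriterion
import Mathlib.RingTheory.Flat.Stability
import Mathlib.LinearAlgebra.TensorProduct.RightExactness
import Mathlib.LinearAlgebra.DirectSum.Finsupp
import Mathlib.RingTheory.LocalRing.Module
import Mathlib.RingTheory.Filtration

/-!
Elementary lemmas on tensoring injective maps with modules.
-/

universe u v w

namespace Groth.L20

open TensorProduct LinearMap

variable {R : Type u} [CommRing R]

/-- An element of `M ⊗ X` is zero as soon as all its images under coordinate maps of a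
decomposition of the identity vanish. -/
theorem finsupp_tensor_ext {ι : Type*} {M X : Type*} [AddCommGroup M] [Module R M]
    [AddCommGroup X] [Module R X] {z : M ⊗[R] (ι →₀ X)}
    (h : ∀ i, (Finsupp.lapply i).lTensor M z = 0) : z = 0 := by
  classical
  apply (finsuppRight R R M X ι).injective
  ext i
  rw [finsuppRight_apply, h i, map_zero, Finsupp.zero_apply]

theorem mem_range_lTensor_of_exact {M : Type*} [AddCommGroup M] [Module R M]
    {A B C : Type*} [AddCommGroup A] [Module R A] [AddCommGroup B] [Module R B]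
    [AddCommGroup C] [Module R C] {f : A →ₗ[R] B} {g : B →ₗ[R] C}
    (h : Function.Exact f g) (hg : Function.Surjective g) {z : M ⊗[R] B}
    (hz : g.lTensor M z = 0) : ∃ w : M ⊗[R] A, f.lTensor M w = z :=
  ((lTensor_exact M h hg) z).mp hz

theorem mem_range_rTensor_of_exact {M : Type*} [AddCommGroup M] [Module R M]
    {A B C : Type*} [AddCommGroup A] [Module R A] [AddCommGroup B] [Module R B]
    [AddCommGroup C] [Module R C] {f : A →ₗ[R] B} {g : B →ₗ[R] C}
    (h : Function.Exact f g) (hg : Function.Surjective g) {z : B ⊗[R] M}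
    (hz : g.rTensor M z = 0) : ∃ w : A ⊗[R] M, f.rTensor M w = z :=
  ((rTensor_exact M h hg) z).mp hz

/-- If `z ∈ M ⊗ A` dies in `M ⊗ (A ⊔ B)` then it comes from `M ⊗ (A ⊓ B)`. -/
theorem exists_of_map_sup_eq_zero {M X : Type*} [AddCommGroup M] [Module R M]
    [AddCommGroup X] [Module R X] (A B : Submodule R X) {z : M ⊗[R] A}
    (hz : (Submodule.inclusion (le_sup_left : A ≤ A ⊔ B)).lTensor M z = 0) :
    ∃ w : M ⊗[R] (A ⊓ B : Submodule R X),
      (Submodule.inclusion (inf_le_left : A ⊓ B ≤ A)).lTensor M w = z := by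
  let f : (A ⊓ B : Submodule R X) →ₗ[R] A × B :=
    (Submodule.inclusion inf_le_left).prod (-Submodule.inclusion inf_le_right)
  let g : A × B →ₗ[R] (A ⊔ B : Submodule R X) :=
    (Submodule.inclusion le_sup_left).coprod (Submodule.inclusion le_sup_right)
  have hgs : Function.Surjective g := by
    rintro ⟨x, hx⟩
    obtain ⟨a, ha, b, hb, rfl⟩ := Submodule.mem_sup.mp hx
    exact ⟨(⟨a, ha⟩, ⟨b, hb⟩), by ext; simp [g]⟩
  have hex : Function.Exact f g := by
    rintro ⟨⟨a, ha⟩, ⟨b, hb⟩⟩
    constructor
    · intro h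
      have h' : a + b = 0 := by simpa [g] using congrArg Subtype.val h
      have hab : a = -b := eq_neg_of_add_eq_zero_left h'
      refine ⟨⟨a, ha, hab ▸ B.neg_mem hb⟩, ?_⟩
      ext
      · simp [f]
      · simp [f, hab]
    · rintro ⟨⟨x, hx⟩, hx'⟩
      rw [← hx']
      ext
      simp [f, g]
  have hz' : g.lTensor M ((LinearMap.inl R A B).lTensor M z) = 0 := by
    rw [← lTensor_comp_apply]
    have : g ∘ₗ LinearMap.inl R A B = Submodule.inclusion le_sup_left := by ext; simp [g]
    rw [this, hz]
  obtain ⟨w, hw⟩ := mem_range_lTensor_of_exact hex hgs hz'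
  refine ⟨w, ?_⟩
  have h2 := congrArg ((LinearMap.fst R A B).lTensor M) hw
  rw [← lTensor_comp_apply, ← lTensor_comp_apply, fst_comp_inl, lTensor_id, id_apply] at h2
  rw [← h2]
  rfl

/-- If `z ∈ M ⊗ (I • ⊤)` then its image in `M ⊗ X` lies in `I • ⊤`. -/
theorem range_lTensor_smul_top_le {M X : Type*} [AddCommGroup M] [Module R M]
    [AddCommGroup X] [Module R X] (I : Ideal R) :
    range ((I • (⊤ : Submodule R X)).subtype.lTensor M) ≤ I • (⊤ : Submodule R (M ⊗[R] X)) := by
  rintro _ ⟨z, rfl⟩
  induction z using TensorProduct.induction_on with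
  | zero => simp
  | add a b ha hb => rw [map_add]; exact add_mem ha hb
  | tmul m x =>
    rw [lTensor_tmul, Submodule.subtype_apply]
    obtain ⟨x, hx⟩ := x
    dsimp only
    induction hx using Submodule.smul_induction_on' with
    | smul r hr y _ => rw [tmul_smul]; exact Submodule.smul_mem_smul hr trivial
    | add a _ b _ ha hb => rw [tmul_add]; exact add_mem ha hb

theorem range_rTensor_smul_top_le {M X : Type*} [AddCommGroup M] [Module R M]
    [AddCommGroup X] [Module R X] (I : Ideal R) :
    range ((I • (⊤ : Submodule R X)).subtype.rTensor M) ≤ I • (⊤ : Submodule R (X ⊗[R] M)) := by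
  rintro _ ⟨z, rfl⟩
  induction z using TensorProduct.induction_on with
  | zero => simp
  | add a b ha hb => rw [map_add]; exact add_mem ha hb
  | tmul x m =>
    rw [rTensor_tmul, Submodule.subtype_apply]
    obtain ⟨x, hx⟩ := x
    dsimp only
    induction hx using Submodule.smul_induction_on' with
    | smul r hr y _ => rw [← smul_tmul']; exact Submodule.smul_mem_smul hr trivial
    | add a _ b _ ha hb => rw [add_tmul]; exact add_mem ha hb

/-- If `M/IM` is flat over `R/I`, then tensoring with `M` preserves injectivity of maps between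
modules killed by `I`. -/
theorem rTensor_injective_of_killed {M : Type*} [AddCommGroup M] [Module R M] (I : Ideal R)
    [Module.Flat (R ⧸ I) ((R ⧸ I) ⊗[R] M)]
    {P Q : Type*} [AddCommGroup P] [Module R P] [AddCommGroup Q] [Module R Q]
    (hQ : ∀ a ∈ I, ∀ x : Q, a • x = 0)
    (f : P →ₗ[R] Q) (hf : Function.Injective f) :
    Function.Injective (f.rTensor M) := by
  have hQ' : Module.IsTorsionBySet R Q I := fun x a => hQ a a.2 x
  have hP' : Module.IsTorsionBySet R P I := fun x a => hf (by rw [map_smul, map_zero, hQ a a.2])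
  let _ : Module (R ⧸ I) Q := hQ'.module
  let _ : Module (R ⧸ I) P := hP'.module
  have : IsScalarTower R (R ⧸ I) Q := hQ'.isScalarTower
  have : IsScalarTower R (R ⧸ I) P := hP'.isScalarTower
  let f' : P →ₗ[R ⧸ I] Q := LinearMap.extendScalarsOfSurjective Ideal.Quotient.mk_surjective f
  let eP := AlgebraTensorModule.cancelBaseChange R (R ⧸ I) (R ⧸ I) P M
  let eQ := AlgebraTensorModule.cancelBaseChange R (R ⧸ I) (R ⧸ I) Q M
  have key : ∀ x, f.rTensor M (eP x) = eQ (f'.rTensor ((R ⧸ I) ⊗[R] M) x) := by
    intro x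
    induction x using TensorProduct.induction_on with
    | zero => simp only [map_zero]
    | add a b ha hb => simp only [map_add, ha, hb]
    | tmul p y =>
      induction y using TensorProduct.induction_on with
      | zero => simp only [tmul_zero, map_zero]
      | add a b ha hb => simp only [tmul_add, map_add, ha, hb]
      | tmul a m =>
        rw [rTensor_tmul, AlgebraTensorModule.cancelBaseChange_tmul,
          AlgebraTensorModule.cancelBaseChange_tmul, rTensor_tmul]
        congr 1
        exact f'.map_smul a p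
  have hinj : Function.Injective (f'.rTensor ((R ⧸ I) ⊗[R] M)) :=
    Module.Flat.rTensor_preserves_injective_linearMap f' hf
  intro x y hxy
  obtain ⟨x, rfl⟩ := eP.surjective x
  obtain ⟨y, rfl⟩ := eP.surjective y
  rw [key, key] at hxy
  rw [hinj (eQ.injective hxy)]

/-- Mapping into tensor products with a flat quotient: `L ⊓ I • ⊤ = I • L`. -/
theorem mem_smul_of_flat_quotient {F : Type*} [AddCommGroup F] [Module R F] (L : Submodule R F)
    [Module.Flat R (F ⧸ L)] (I : Ideal R) {x : F} (hx : x ∈ L) (hxI : x ∈ I • (⊤ : Submodule R F)) :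
    x ∈ I • L := by
  obtain ⟨n, c, f, rfl⟩ : ∃ (n : ℕ) (c : Fin n → I) (f : Fin n → F),
      x = ∑ i, (c i : R) • f i := by
    clear hx
    induction hxI using Submodule.smul_induction_on' with
    | smul r hr y _ => exact ⟨1, fun _ => ⟨r, hr⟩, fun _ => y, by simp⟩
    | add a _ b _ ha hb =>
      obtain ⟨n, c, f, rfl⟩ := ha
      obtain ⟨m, d, g, rfl⟩ := hb
      exact ⟨n + m, Fin.append c d, Fin.append f g, by simp [Fin.sum_univ_add]⟩
  have h0 : ∑ i, (c i : R) • L.mkQ (f i) = 0 := by
    simp_rw [← map_smul, ← map_sum, Submodule.mkQ_apply]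
    exact (Submodule.Quotient.mk_eq_zero L).mpr hx
  obtain ⟨k, a, y, hy, ha⟩ := Module.Flat.isTrivialRelation_of_sum_smul_eq_zero h0
  choose g hg using fun j => L.mkQ_surjective (y j)
  have hl : ∀ i, f i - ∑ j, a i j • g j ∈ L := by
    intro i
    rw [← Submodule.Quotient.mk_eq_zero]
    simp_rw [← Submodule.mkQ_apply, map_sub, map_sum, map_smul, hg, hy i]
    simp
  have : ∑ i, (c i : R) • f i = ∑ i, (c i : R) • (f i - ∑ j, a i j • g j) := by
    simp_rw [smul_sub, Finset.sum_sub_distrib, Finset.smul_sum, smul_smul]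
    rw [Finset.sum_comm]
    simp_rw [← Finset.sum_smul, ha]
    simp
  rw [this]
  exact sum_mem fun i _ => Submodule.smul_mem_smul (c i).2 (hl i)

end Groth.L20
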