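import Groth.Agent.S1477
import Groth.Agent.S1458
import Groth.Agent.L20.Weight.Isolate
import Mathlib.RingTheory.Spectrum.Prime.ConstructibleSet

/-!
# A weakly universal open of a base change that is finite over the base
-/

universe u

open CategoryTheory CategoryTheory.Limits AlgebraicGeometry TopologicalSpace Topology TensorProduct

noncomputable section

namespace Groth.L20.UnivFinOpen

set_option linter.style.haveILetI false
set_option backward.isDefEq.respectTransparency.types false

section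

variable {A C : Type u} [CommRing A] [CommRing C] [Algebra A C]
variable (R : Type u) [CommRing R] [Algebra A R]

/-- Projection to the base. -/
abbrev pr : Spec (CommRingCat.of (C ⊗[A] R)) ⟶ Spec (CommRingCat.of R) :=
  Spec.map (CommRingCat.ofHom (Algebra.TensorProduct.includeRight : R →ₐ[A] C ⊗[A] R).toRingHom)

/-- Projection to the source. -/
abbrev qr : Spec (CommRingCat.of (C ⊗[A] R)) ⟶ Spec (CommRingCat.of C) :=
  Spec.map (CommRingCat.ofHom (Algebra.TensorProduct.includeLeftRingHom : C →+* C ⊗[A] R))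

theorem isPullback_qr : IsPullback (qr (A := A) (C := C) R) (pr (A := A) (C := C) R)
    (Spec.map (CommRingCat.ofHom (algebraMap A C))) (Spec.map (CommRingCat.ofHom (algebraMap A R))) :=
  IsPullback.of_iso_pullback ⟨by
      rw [← Spec.map_comp, ← Spec.map_comp]
      congr 1
      ext x
      exact ((Algebra.TensorProduct.includeRight : R →ₐ[A] C ⊗[A] R).commutes x).symm⟩
    (pullbackSpecIso A C R).symm (pullbackSpecIso_inv_fst ..) (pullbackSpecIso_inv_snd ..)

variable {R}

/-- Functoriality in the base. -/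
abbrev mr {R' : Type u} [CommRing R'] [Algebra A R'] (φ : R →ₐ[A] R') :
    Spec (CommRingCat.of (C ⊗[A] R')) ⟶ Spec (CommRingCat.of (C ⊗[A] R)) :=
  Spec.map (CommRingCat.ofHom (Algebra.TensorProduct.map (AlgHom.id A C) φ).toRingHom)

theorem mr_qr {R' : Type u} [CommRing R'] [Algebra A R'] (φ : R →ₐ[A] R') :
    mr (C := C) φ ≫ qr R = qr R' := by
  rw [← Spec.map_comp]
  congr 1
  ext c
  exact Algebra.TensorProduct.map_tmul _ _ c 1 |>.trans (by simp)

theorem mr_pr {R' : Type u} [CommRing R'] [Algebra A R'] (φ : R →ₐ[A] R') :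
    mr (C := C) φ ≫ pr R = pr R' ≫ Spec.map (CommRingCat.ofHom φ.toRingHom) := by
  rw [← Spec.map_comp, ← Spec.map_comp]
  congr 1

theorem isPullback_mr {R' : Type u} [CommRing R'] [Algebra A R'] (φ : R →ₐ[A] R') :
    IsPullback (mr (C := C) φ) (pr R') (pr R) (Spec.map (CommRingCat.ofHom φ.toRingHom)) := by
  refine IsPullback.of_right ?_ (mr_pr φ) (isPullback_qr R)
  rw [mr_qr, ← Spec.map_comp, ← CommRingCat.ofHom_comp,
    show φ.toRingHom.comp (algebraMap A R) = algebraMap A R' from φ.comp_algebraMap]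
  exact isPullback_qr R'

end

variable {X Y : Scheme.{u}}

/-- The preimage of an open immersion over a cartesian square. -/
theorem isPullback_over {T W P : Scheme.{u}} {Z : Scheme.{u}} (j : X ⟶ Z) (π : Z ⟶ Y) (f : X ⟶ Y)
    (hf : j ≫ π = f) (b : T ⟶ Y) {q : P ⟶ Z} {p : P ⟶ T} (sq : IsPullback q p π b)
    {x : W ⟶ X} {y : W ⟶ T} (sqX : IsPullback x y f b) (jm : W ⟶ P) (h1 : jm ≫ q = x ≫ j)
    (h2 : jm ≫ p = y) : IsPullback x jm j q :=
  IsPullback.of_bot (by rw [h2, hf]; exact sqX) h1.symm sq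

set_option maxHeartbeats 1000000 in
/-- **Universal finite open** of a quasi-finite morphism of affine schemes. -/
theorem exists_universal (f : X ⟶ Y) [IsAffine X] [IsAffine Y] [LocallyQuasiFinite f]
    [LocallyOfFinitePresentation f] :
    ∃ (Yu : Scheme.{u}) (a : Yu ⟶ Y) (Uu : (pullback f a).Opens), LocallyOfFinitePresentation a ∧
      QuasiCompact a ∧ QuasiSeparated a ∧ IsFinite (Uu.ι ≫ pullback.snd f a) ∧
      ∀ (Y' : Scheme.{u}) (b : Y' ⟶ Y) (U' : (pullback f b).Opens), IsAffine Y' →
        IsFinite (U'.ι ≫ pullback.snd f b) →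
        ∃ (c : Y' ⟶ Yu) (hc : c ≫ a = b),
          (pullback.map f b f a (𝟙 X) c (𝟙 Y) ((Category.comp_id f).trans (Category.id_comp f).symm)
            ((Category.comp_id b).trans hc.symm)) ⁻¹ᵁ Uu = U' := by
  classical
  haveI : IsAffineHom f := isAffineHom_of_isAffine _
  obtain ⟨Z, j, π, hj, hjq, hπ, hπ', hf⟩ := Groth.Agent.S1477.result f
  haveI := hπ
  haveI := hj
  haveI : IsAffine Z := isAffine_of_isAffineHom π
  let A : Type u := Γ(Y, ⊤)
  let C : Type u := Γ(Z, ⊤)
  letI : Algebra A C := π.appTop.hom.toAlgebra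
  haveI : Module.Finite A C := RingHom.finite_algebraMap.mp π.finite_appTop
  haveI : Algebra.FinitePresentation A C := HasRingHomProperty.appTop (P := @LocallyOfFinitePresentation) π hπ'
  obtain ⟨Au, _, _, eu, hAu, heu, huniv⟩ := Groth.Agent.S1458.result (A := A) (B := C)
  let s : ∀ (R : Type u) [CommRing R] [Algebra A R], Spec (CommRingCat.of R) ⟶ Y := fun R _ _ =>
    Spec.map (CommRingCat.ofHom (algebraMap A R)) ≫ Y.isoSpec.inv
  let q : ∀ (R : Type u) [CommRing R] [Algebra A R], Spec (CommRingCat.of (C ⊗[A] R)) ⟶ Z := fun R _ _ =>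
    qr R ≫ Z.isoSpec.inv
  have hsq : ∀ (R : Type u) [CommRing R] [Algebra A R], IsPullback (q R) (pr (C := C) R) π (s R) := by
    intro R _ _
    have h : IsPullback Z.isoSpec.inv (Spec.map π.appTop) π Y.isoSpec.inv :=
      IsPullback.of_horiz_isIso ⟨(Scheme.isoSpec_inv_naturality π).symm⟩
    exact (isPullback_qr R).paste_horiz h
  -- the universal stage
  let pu := pr (A := A) (C := C) Au
  haveI : IsFinite pu := MorphismProperty.of_isPullback (P := @IsFinite) (hsq Au) inferInstance
  haveI : LocallyOfFinitePresentation pu :=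
    MorphismProperty.of_isPullback (P := @LocallyOfFinitePresentation) (hsq Au) hπ'
  let Du : (Spec (CommRingCat.of (C ⊗[A] Au))).Opens := PrimeSpectrum.basicOpen eu
  have hDu : IsClopen (Du : Set (Spec (CommRingCat.of (C ⊗[A] Au)))) :=
    PrimeSpectrum.isClopen_iff.2 ⟨eu, heu, rfl⟩
  let B : Set (Spec (CommRingCat.of (C ⊗[A] Au))) := (Du : Set _) \ (q Au) ⁻¹' Set.range j
  have hBc : IsClosed B := hDu.1.sdiff (j.isOpenEmbedding.isOpen_range.preimage (q Au).continuous)
  have hBcons : IsConstructible B := by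
    refine ((PrimeSpectrum.isCompact_basicOpen eu).isConstructible Du.2).sdiff ?_
    refine IsCompact.isConstructible ?_ (j.isOpenEmbedding.isOpen_range.preimage (q Au).continuous)
    haveI : IsAffineHom (q Au) := isAffineHom_of_isAffine _
    exact (q Au).isCompact_preimage (U := j.opensRange) (isCompact_range j.continuous)
  let G : (Spec (CommRingCat.of Au)).Opens := ⟨(pu '' B)ᶜ, (pu.isClosedMap _ hBc).isOpen_compl⟩
  have hGc : IsCompact (G : Set (Spec (CommRingCat.of Au))) := by
    obtain ⟨S, _, φ, hφ⟩ := PrimeSpectrum.exists_range_eq_of_isConstructible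
      (s := (pu '' B)ᶜ) (pu.isConstructible_image hBcons).compl
    have h := isCompact_range (PrimeSpectrum.continuous_comap φ)
    rw [hφ] at h
    exact h
  haveI : CompactSpace G.toScheme := isCompact_iff_compactSpace.mp hGc
  let a : G.toScheme ⟶ Y := G.ι ≫ s Au
  let Xu := pullback f (s Au)
  let ju' : Xu ⟶ Spec (CommRingCat.of (C ⊗[A] Au)) :=
    (hsq Au).lift (pullback.fst f (s Au) ≫ j) (pullback.snd f (s Au))
      (by rw [Category.assoc, hf, pullback.condition])
  have hju'1 : ju' ≫ q Au = pullback.fst f (s Au) ≫ j := (hsq Au).lift_fst _ _ _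
  have hju'2 : ju' ≫ pu = pullback.snd f (s Au) := (hsq Au).lift_snd _ _ _
  have sqju : IsPullback (pullback.fst f (s Au)) ju' j (q Au) :=
    isPullback_over j π f hf (s Au) (hsq Au) (IsPullback.of_hasPullback f (s Au)) ju' hju'1 hju'2
  haveI : IsOpenImmersion ju' := MorphismProperty.of_isPullback (P := @IsOpenImmersion) sqju inferInstance
  let bc := Groth.L20.Weight.bcMap f (s Au) G.ι
  have sqbc : IsPullback bc (pullback.snd f (G.ι ≫ s Au)) (pullback.snd f (s Au)) G.ι :=
    Groth.L20.Weight.isPullback_bcMap f (s Au) G.ι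
  haveI : IsOpenImmersion bc := MorphismProperty.of_isPullback (P := @IsOpenImmersion) sqbc.flip inferInstance
  let ju : pullback f a ⟶ Spec (CommRingCat.of (C ⊗[A] Au)) := bc ≫ ju'
  haveI : IsOpenImmersion ju := inferInstanceAs (IsOpenImmersion (bc ≫ ju'))
  let Uu : (pullback f a).Opens := ju ⁻¹ᵁ Du
  have hpu : ju ≫ pu = pullback.snd f a ≫ G.ι := by
    rw [Category.assoc, hju'2]
    exact sqbc.w
  have hrange : ∀ z : Spec (CommRingCat.of (C ⊗[A] Au)), z ∈ Du → pu z ∈ G → z ∈ Set.range ju := by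
    intro z hz hzG
    have hzr : q Au z ∈ Set.range j := by
      by_contra h
      exact hzG ⟨z, ⟨hz, h⟩, rfl⟩
    obtain ⟨x, hx⟩ := hzr
    obtain ⟨w, -, hw⟩ := Scheme.exists_preimage_of_isPullback sqju x z hx
    obtain ⟨w', hw', -⟩ := Scheme.exists_preimage_of_isPullback sqbc w ⟨pu z, hzG⟩ (by
      rw [← hju'2, Scheme.Hom.comp_apply, hw]; rfl)
    exact ⟨w', by rw [Scheme.Hom.comp_apply, hw', hw]⟩
  refine ⟨G.toScheme, a, Uu, ?_, ?_, ?_, ?_, ?_⟩
  · haveI : LocallyOfFinitePresentation (Spec.map (CommRingCat.ofHom (algebraMap A Au))) :=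
      (LocallyOfFinitePresentation.SpecMap_iff _).2 (RingHom.finitePresentation_algebraMap.2 hAu)
    exact inferInstanceAs (LocallyOfFinitePresentation (G.ι ≫ Spec.map _ ≫ Y.isoSpec.inv))
  · exact (quasiCompact_iff_compactSpace a).2 inferInstance
  · haveI : QuasiSeparatedSpace G.toScheme := QuasiSeparatedSpace.of_isOpenEmbedding G.ι.isOpenEmbedding
    exact inferInstance
  · -- finiteness
    let H : (Spec (CommRingCat.of (C ⊗[A] Au))).Opens := pu ⁻¹ᵁ G
    have hr : Set.range (Uu.ι ≫ ju) ⊆ Set.range H.ι := by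
      rw [Scheme.Opens.range_ι]
      rintro _ ⟨w, rfl⟩
      change pu ((Uu.ι ≫ ju) w) ∈ G
      rw [← Scheme.Hom.comp_apply, Category.assoc, hpu]
      exact ((pullback.snd f a) (Uu.ι w)).2
    let r := IsOpenImmersion.lift H.ι (Uu.ι ≫ ju) hr
    have hr' : r ≫ H.ι = Uu.ι ≫ ju := IsOpenImmersion.lift_fac _ _ _
    haveI : IsPreimmersion (r ≫ H.ι) := by rw [hr']; infer_instance
    haveI : IsPreimmersion r := IsPreimmersion.of_comp r H.ι
    haveI : IsClosedImmersion r := by
      refine IsClosedImmersion.of_isPreimmersion r ?_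
      have : Set.range r = H.ι ⁻¹' (Du : Set _) := by
        ext z
        constructor
        · rintro ⟨w, rfl⟩
          change H.ι (r w) ∈ Du
          rw [← Scheme.Hom.comp_apply, hr', Scheme.Hom.comp_apply]
          exact w.2
        · intro hz
          obtain ⟨w, hw⟩ := hrange (H.ι z) hz z.2
          have hwU : w ∈ Uu := by change ju w ∈ Du; rw [hw]; exact hz
          refine ⟨⟨w, hwU⟩, H.ι.isOpenEmbedding.injective ?_⟩
          rw [← Scheme.Hom.comp_apply, hr', Scheme.Hom.comp_apply]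
          exact hw
      rw [this]
      exact hDu.1.preimage H.ι.continuous
    have e : Uu.ι ≫ pullback.snd f a = r ≫ (pu ∣_ G) := by
      rw [← cancel_mono G.ι, Category.assoc, Category.assoc, morphismRestrict_ι, ← hpu, reassoc_of% hr']
    rw [e]
    haveI : IsFinite (pu ∣_ G) := MorphismProperty.of_isPullback (P := @IsFinite)
      (isPullback_morphismRestrict pu G).flip inferInstance
    infer_instance
  · intro Y' b U' _ hU'
    let A' : Type u := Γ(Y', ⊤)
    letI : Algebra A A' := b.appTop.hom.toAlgebra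
    have hb : Y'.isoSpec.hom ≫ s A' = b := by
      change Y'.isoSpec.hom ≫ Spec.map b.appTop ≫ Y.isoSpec.inv = b
      rw [Scheme.isoSpec_inv_naturality, Iso.hom_inv_id_assoc]
    let p' := pr (A := A) (C := C) A' ≫ Y'.isoSpec.inv
    have sq' : IsPullback (q A') p' π b := by
      have h : IsPullback (s A') Y'.isoSpec.inv (𝟙 Y) b := IsPullback.of_vert_isIso ⟨by
        rw [Category.comp_id, ← hb, Iso.inv_hom_id_assoc]⟩
      have h2 := (hsq A').paste_vert h
      rwa [Category.comp_id] at h2
    let jm : pullback f b ⟶ Spec (CommRingCat.of (C ⊗[A] A')) :=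
      sq'.lift (pullback.fst f b ≫ j) (pullback.snd f b) (by rw [Category.assoc, hf, pullback.condition])
    have hjm1 : jm ≫ q A' = pullback.fst f b ≫ j := sq'.lift_fst _ _ _
    have hjm2 : jm ≫ p' = pullback.snd f b := sq'.lift_snd _ _ _
    haveI : IsOpenImmersion jm := MorphismProperty.of_isPullback (P := @IsOpenImmersion)
      (isPullback_over j π f hf b sq' (IsPullback.of_hasPullback f b) jm hjm1 hjm2) inferInstance
    haveI : IsFinite p' := MorphismProperty.of_isPullback (P := @IsFinite) sq' inferInstance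
    let k := U'.ι ≫ jm
    have hk : k.opensRange = jm ''ᵁ U' := by
      rw [Scheme.Hom.opensRange_comp, Scheme.Opens.opensRange_ι]
    haveI : IsFinite ((jm ''ᵁ U').ι ≫ p') := by
      rw [← hk, ← MorphismProperty.cancel_left_of_respectsIso @IsFinite k.isoOpensRange.hom,
        Scheme.Hom.isoOpensRange_hom_ι_assoc, Category.assoc, hjm2]
      exact hU'
    have hO : IsClopen ((jm ''ᵁ U') : Set (Spec (CommRingCat.of (C ⊗[A] A')))) :=
      ⟨Groth.L20.Weight.isClosed_of_isFinite p' _, (jm ''ᵁ U').2⟩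
    obtain ⟨e, he, hOe⟩ := PrimeSpectrum.isClopen_iff.1 hO
    obtain ⟨φ, hφ⟩ := huniv A' e he
    let c₀ : Y' ⟶ Spec (CommRingCat.of Au) := Y'.isoSpec.hom ≫ Spec.map (CommRingCat.ofHom φ.toRingHom)
    have hc₀ : c₀ ≫ s Au = b := by
      rw [Category.assoc]
      refine Eq.trans ?_ hb
      congr 1
      rw [← Spec.map_comp_assoc, ← CommRingCat.ofHom_comp,
        show φ.toRingHom.comp (algebraMap A Au) = algebraMap A A' from φ.comp_algebraMap]
    have sqc : IsPullback (mr φ) p' pu c₀ := by
      have h : IsPullback (Spec.map (CommRingCat.ofHom φ.toRingHom)) Y'.isoSpec.inv (𝟙 _) c₀ :=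
        IsPullback.of_vert_isIso ⟨by rw [Category.comp_id, Iso.inv_hom_id_assoc]⟩
      have h2 := (isPullback_mr (C := C) φ).paste_vert h
      rwa [Category.comp_id] at h2
    have hD : mr φ ⁻¹ᵁ Du = jm ''ᵁ U' := by
      refine TopologicalSpace.Opens.ext (Eq.trans ?_ hOe.symm)
      rw [← hφ]
      rfl
    have hcG : Set.range c₀ ⊆ Set.range G.ι := by
      rw [Scheme.Opens.range_ι]
      rintro _ ⟨y, rfl⟩ ⟨z, ⟨hzD, hzj⟩, hz⟩
      obtain ⟨z', hz', -⟩ := Scheme.exists_preimage_of_isPullback sqc z y hz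
      have : z' ∈ mr φ ⁻¹ᵁ Du := by change mr φ z' ∈ Du; rw [hz']; exact hzD
      rw [hD] at this
      obtain ⟨w, -, rfl⟩ := this
      refine hzj ⟨pullback.fst f b w, ?_⟩
      have h1 : jm ≫ mr φ ≫ q Au = pullback.fst f b ≫ j := by
        rw [← Category.assoc (mr φ), mr_qr, hjm1]
      have h2 := congrArg (fun g => g w) h1
      simp only [Scheme.Hom.comp_apply] at h2
      rw [← hz']
      exact h2.symm
    let c := IsOpenImmersion.lift G.ι c₀ hcG
    have hcι : c ≫ G.ι = c₀ := IsOpenImmersion.lift_fac _ _ _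
    have hc : c ≫ a = b := by rw [← Category.assoc, hcι, hc₀]
    refine ⟨c, hc, ?_⟩
    let μ := pullback.map f b f a (𝟙 X) c (𝟙 Y) ((Category.comp_id f).trans (Category.id_comp f).symm)
      ((Category.comp_id b).trans hc.symm)
    have hμ : μ ≫ ju = jm ≫ mr φ := by
      refine (hsq Au).hom_ext ?_ ?_
      · have h1 : (jm ≫ mr φ) ≫ q Au = pullback.fst f b ≫ j := by
          rw [Category.assoc, ← Category.assoc (mr φ), mr_qr, hjm1]
        rw [h1]
        simp only [ju, Category.assoc, hju'1]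
        rw [← Category.assoc bc, Groth.L20.Weight.bcMap_fst, ← Category.assoc]
        exact congrArg (· ≫ j) ((pullback.lift_fst _ _ _).trans (Category.comp_id _))
      · rw [Category.assoc, hpu, Category.assoc, sqc.w, reassoc_of% hjm2]
        rw [← Category.assoc, show μ ≫ pullback.snd f a = pullback.snd f b ≫ c from pullback.lift_snd _ _ _,
          Category.assoc, hcι]
    change μ ⁻¹ᵁ (ju ⁻¹ᵁ Du) = U'
    rw [← Scheme.Hom.comp_preimage, hμ, Scheme.Hom.comp_preimage, hD, Scheme.Hom.preimage_image_eq]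

end Groth.L20.UnivFinOpen
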