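import Groth.Agent.L20.UnivFinOpen
import Groth.Agent.L20.Weight.Split
import Groth.Agent.L19.Limit.QuasiFinite
import Groth.Agent.L19.Limit.Model
import Mathlib.AlgebraicGeometry.Morphisms.UniversallyOpen

/-!
# Universally open quasi-finite morphisms along cofiltered limits

Universal openness of a quasi-finite morphism of affine schemes is tested on the image of the
universal open piece finite over the base.
-/

universe u

open CategoryTheory CategoryTheory.Limits AlgebraicGeometry TopologicalSpace Topology MorphismProperty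

namespace Groth.L20.UnivOpenDescent

open Groth.L19.Limit

set_option linter.style.haveILetI false
set_option backward.isDefEq.respectTransparency.types false

/-- Functoriality of `X ×_Y T` in `T`. -/
theorem isPullback_mapRight {X Y T T' : Scheme.{u}} (f : X ⟶ Y) (a : T ⟶ Y) (c : T' ⟶ T)
    (b : T' ⟶ Y) (hc : c ≫ a = b) :
    IsPullback (pullback.map f b f a (𝟙 X) c (𝟙 Y) ((Category.comp_id f).trans (Category.id_comp f).symm)
        ((Category.comp_id b).trans hc.symm))
      (pullback.snd f b) (pullback.snd f a) c := by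
  refine IsPullback.of_right ?_ (pullback.lift_snd _ _ _) (IsPullback.of_hasPullback f a)
  rw [pullback.lift_fst, Category.comp_id, hc]
  exact IsPullback.of_hasPullback f b

/-- Preimages of images of opens are open after a universally open base change. -/
theorem isOpen_preimage_image {X Y T T' : Scheme.{u}} (f : X ⟶ Y) (a : T ⟶ Y) (q : T' ⟶ T)
    (U : (pullback f a).Opens) (h : UniversallyOpen (pullback.fst (q ≫ a) f)) :
    IsOpen (q ⁻¹' (pullback.snd f a '' (U : Set ↑(pullback f a)))) := by
  rw [← Scheme.image_preimage_eq_of_isPullback (isPullback_mapRight f a q (q ≫ a) rfl)]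
  have : UniversallyOpen (pullback.snd f (q ≫ a)) := by
    rw [← pullbackSymmetry_hom_comp_fst]
    infer_instance
  exact (pullback.snd f (q ≫ a)).isOpenMap _ (U.2.preimage (Scheme.Hom.continuous _))

/-- Finite open pieces exist étale locally around every point. -/
theorem exists_finite_open {X Y : Scheme.{u}} (f : X ⟶ Y) [LocallyQuasiFinite f]
    [LocallyOfFiniteType f] (x : X) :
    ∃ (V : Scheme.{u}) (_ : IsAffine V) (h : V ⟶ Y) (_ : Etale h) (U : (pullback f h).Opens)
      (w : ↑(pullback f h)), IsFinite (U.ι ≫ pullback.snd f h) ∧ w ∈ U ∧ pullback.fst f h w = x := by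
  obtain ⟨Ω, _, _, ω, hω⟩ := Weight.exists_geomPoint (f x)
  obtain ⟨φ, hφ⟩ := Weight.exists_lift_of_apply_eq f ω (u := x) hω.symm
  obtain ⟨V, hV, h, he, ω', -, P, -⟩ := Weight.exists_piece f ω φ ⊤ trivial
  refine ⟨V, hV, h, he, P.U, P.U.ι (Weight.pt P.φU.1), P.finite, (Weight.pt P.φU.1).2, ?_⟩
  rw [← Scheme.Hom.comp_apply, ← Weight.pt_comp, P.hφU, hφ]

/-- The criterion: the base change along `b` is universally open as soon as the image of the
universal finite open piece becomes open over the source of `b`. -/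
theorem universallyOpen_of_universal {X Y Yu : Scheme.{u}} (f : X ⟶ Y) [LocallyQuasiFinite f]
    [LocallyOfFiniteType f] (a : Yu ⟶ Y) (Uu : (pullback f a).Opens)
    (huniv : ∀ (Y' : Scheme.{u}) (b : Y' ⟶ Y) (U' : (pullback f b).Opens), IsAffine Y' →
      IsFinite (U'.ι ≫ pullback.snd f b) →
      ∃ (c : Y' ⟶ Yu) (hc : c ≫ a = b),
        (pullback.map f b f a (𝟙 X) c (𝟙 Y) ((Category.comp_id f).trans (Category.id_comp f).symm)
          ((Category.comp_id b).trans hc.symm)) ⁻¹ᵁ Uu = U')
    {Y' : Scheme.{u}} (b : Y' ⟶ Y)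
    (hopen : IsOpen (pullback.snd b a ⁻¹' (pullback.snd f a '' (Uu : Set ↑(pullback f a))))) :
    UniversallyOpen (pullback.fst b f) := by
  rw [universallyOpen_iff]
  intro P T i₁ i₂ f' sq O hO
  rw [isOpen_iff_forall_mem_open]
  rintro t ⟨z, hz, rfl⟩
  have sqY := sq.flip.paste_horiz (IsPullback.of_hasPullback b f).flip
  let O' : P.Opens := ⟨O, hO⟩
  haveI : LocallyQuasiFinite f' := MorphismProperty.of_isPullback sqY ‹_›
  haveI : LocallyOfFiniteType f' := MorphismProperty.of_isPullback sqY ‹_›
  obtain ⟨V, hV, h, he, U, w, hU, hw, hwz⟩ := exists_finite_open (O'.ι ≫ f') ⟨z, hz⟩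
  let t := i₂ ≫ b
  let j : pullback (O'.ι ≫ f') h ⟶ pullback f' h := pullback.map _ _ _ _ O'.ι (𝟙 _) (𝟙 _)
    (Category.comp_id _) ((Category.comp_id _).trans (Category.id_comp _).symm)
  let e := ((IsPullback.of_hasPullback f' h).paste_horiz sqY).isoPullback
  let k := j ≫ e.hom
  haveI : IsFinite (U.ι ≫ pullback.snd (O'.ι ≫ f') h) := hU
  have hk2 : k ≫ pullback.snd f (h ≫ t) = pullback.snd (O'.ι ≫ f') h := by
    simp only [k, e, j, t, Category.assoc, IsPullback.isoPullback_hom_snd]
    exact (pullback.lift_snd ..).trans (Category.comp_id _)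
  let U' : (pullback f (h ≫ t)).Opens := k ''ᵁ U
  have hU' : IsFinite (U'.ι ≫ pullback.snd f (h ≫ t)) := by
    let k' := U.ι ≫ k
    have hk : k'.opensRange = U' := by
      rw [Scheme.Hom.opensRange_comp, Scheme.Opens.opensRange_ι]
    rw [← hk, ← MorphismProperty.cancel_left_of_respectsIso @IsFinite k'.isoOpensRange.hom,
      Scheme.Hom.isoOpensRange_hom_ι_assoc, Category.assoc, hk2]
    infer_instance
  obtain ⟨c, hc, hcU⟩ := huniv V (h ≫ t) U' hV hU'
  let l : V ⟶ pullback b a := pullback.lift (h ≫ i₂) c (by rw [hc, Category.assoc])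
  have himg : pullback.snd f (h ≫ t) '' (U' : Set ↑(pullback f (h ≫ t))) =
      l ⁻¹' (pullback.snd b a ⁻¹' (pullback.snd f a '' (Uu : Set ↑(pullback f a)))) := by
    rw [← Set.preimage_comp, ← TopCat.coe_comp, ← Scheme.Hom.comp_base, pullback.lift_snd,
      ← Scheme.image_preimage_eq_of_isPullback (isPullback_mapRight f a c _ hc), ← hcU]
    rfl
  have himg' : pullback.snd f (h ≫ t) '' (U' : Set ↑(pullback f (h ≫ t))) =
      pullback.snd (O'.ι ≫ f') h '' (U : Set ↑(pullback (O'.ι ≫ f') h)) := by
    rw [← hk2, Scheme.Hom.comp_base, TopCat.coe_comp, Set.image_comp]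
    rfl
  refine ⟨h '' (pullback.snd (O'.ι ≫ f') h '' (U : Set ↑(pullback (O'.ι ≫ f') h))), ?_, ?_, ?_⟩
  · rintro _ ⟨_, ⟨y, hy, rfl⟩, rfl⟩
    refine ⟨O'.ι (pullback.fst (O'.ι ≫ f') h y), (pullback.fst (O'.ι ≫ f') h y).2, ?_⟩
    rw [← Scheme.Hom.comp_apply, ← Scheme.Hom.comp_apply, ← Scheme.Hom.comp_apply,
      pullback.condition]
  · refine h.isOpenMap _ ?_
    rw [← himg', himg]
    exact hopen.preimage l.continuous
  · refine ⟨_, ⟨w, hw, rfl⟩, ?_⟩
    rw [← Scheme.Hom.comp_apply, ← pullback.condition, Scheme.Hom.comp_apply, hwz]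
    rfl

/-- Universally open and locally quasi-finite. -/
abbrev uoqf : MorphismProperty Scheme.{u} := @UniversallyOpen ⊓ @LocallyQuasiFinite

set_option maxHeartbeats 1000000 in
theorem descendsAffine_uoqf : DescendsAffine uoqf qcqsfp.{u} := by
  refine descendsAffine_of_source fun {I} _ _ {D} {c} _ _ hc {i} {X} _ a _ hP => ?_
  haveI : IsAffineHom a := isAffineHom_of_isAffine _
  obtain ⟨j, φ, hj⟩ := descends_locallyQuasiFinite hc a
    ⟨⟨inferInstance, inferInstance⟩, inferInstance⟩ hP.2
  let aj := pullback.fst (D.map φ) a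
  haveI : LocallyQuasiFinite aj := hj
  haveI : LocallyOfFinitePresentation aj :=
    MorphismProperty.pullback_fst (P := @LocallyOfFinitePresentation) _ _ inferInstance
  haveI : IsAffineHom (pullback.fst (D.map φ) a) :=
    MorphismProperty.pullback_fst (P := @IsAffineHom) _ _ inferInstance
  haveI : IsAffine (pullback (D.map φ) a) := isAffine_of_isAffineHom (pullback.fst (D.map φ) a)
  obtain ⟨Yu, au, Uu, hlfp, hqc, hqs, hfin, huniv⟩ := UnivFinOpen.exists_universal aj
  haveI := hfin; haveI := hlfp; haveI := hqc; haveI := hqs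
  have hsq : ∀ {T : Scheme.{u}} (g : T ⟶ D.obj j), Pb uoqf aj g ↔ Pb uoqf a (g ≫ D.map φ) :=
    fun g => pb_iff_of_isPullback
      ((IsPullback.of_hasPullback g aj).flip.paste_horiz (IsPullback.of_hasPullback (D.map φ) a).flip)
  have hlim : Pb uoqf aj (c.π.app j) := (hsq _).mpr (by rwa [c.w])
  let Z : Set Yu := pullback.snd aj au '' (Uu : Set ↑(pullback aj au))
  haveI : CompactSpace Yu := QuasiCompact.compactSpace_of_compactSpace au
  haveI : QuasiSeparatedSpace Yu := quasiSeparatedSpace_of_quasiSeparated au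
  haveI : IsAffineHom aj := ‹_›
  haveI : CompactSpace Uu.toScheme :=
    QuasiCompact.compactSpace_of_compactSpace (Uu.ι ≫ pullback.snd aj au)
  have hUc : IsCompact (Uu : Set ↑(pullback aj au)) := isCompact_iff_compactSpace.mpr ‹_›
  haveI : LocallyOfFinitePresentation (pullback.snd aj au) :=
    MorphismProperty.pullback_snd (P := @LocallyOfFinitePresentation) _ _ inferInstance
  haveI : IsAffineHom (pullback.snd aj au) :=
    MorphismProperty.pullback_snd (P := @IsAffineHom) _ _ inferInstance
  haveI : QuasiSeparatedSpace ↑(pullback aj au) := quasiSeparatedSpace_of_quasiSeparated (pullback.snd aj au)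
  have hZ : IsLocallyConstructible Z :=
    (pullback.snd aj au).isLocallyConstructible_image
      (hUc.isConstructible Uu.2).isLocallyConstructible
  let J : Over j := Over.mk (𝟙 j)
  let w : (bcDiagram D au).obj J ⟶ Yu := pullback.snd (D.map J.hom) au
  haveI : IsAffineHom w := MorphismProperty.pullback_snd (P := @IsAffineHom) _ _ inferInstance
  haveI : CompactSpace ((bcDiagram D au).obj J) := QuasiCompact.compactSpace_of_compactSpace w
  haveI : QuasiSeparatedSpace ((bcDiagram D au).obj J) := quasiSeparatedSpace_of_quasiSeparated w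
  have hw' : ((bcCone D c au).π.app J ≫ w) = pullback.snd (c.π.app j) au :=
    (pullback.lift_snd ..).trans (Category.comp_id _)
  obtain ⟨k, m, hm⟩ := exists_isOpen (isLimitBcCone au hc) (i := J) (Z := w ⁻¹' Z)
    (IsConstructible.preimage w.continuous
      (fun U hU hU' => (QuasiCompact.isCompact_preimage (f := w) U hU hU'.isCompact).isRetrocompact
        (hU.preimage w.continuous)) hZ.isConstructible).isLocallyConstructible (by
      rw [← Set.preimage_comp, ← TopCat.coe_comp, ← Scheme.Hom.comp_base, hw']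
      refine isOpen_preimage_image aj au _ Uu ?_
      have h0 : ∀ g, g = pullback.fst (c.π.app j) au ≫ c.π.app j →
          UniversallyOpen (pullback.fst g aj) := by
        rintro g rfl
        exact (pb_comp _ hlim).1
      exact h0 _ pullback.condition.symm)
  refine ⟨k.left, k.hom ≫ φ, ?_⟩
  rw [D.map_comp, ← hsq]
  refine ⟨universallyOpen_of_universal aj au Uu huniv _ ?_,
    MorphismProperty.pullback_fst (P := @LocallyQuasiFinite) _ _ inferInstance⟩
  rw [← Set.preimage_comp, ← TopCat.coe_comp, ← Scheme.Hom.comp_base,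
    show (bcDiagram D au).map m ≫ w = pullback.snd (D.map k.hom) au from
      (pullback.lift_snd ..).trans (Category.comp_id _)] at hm
  exact hm

theorem descends_uoqf : Descends uoqf qcqsfp.{u} :=
  descends_of_affine descendsAffine_uoqf

end Groth.L20.UnivOpenDescent
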