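import Groth.Agent.L20.StrictSep
import Groth.Agent.L22.BlowUp
import Mathlib.AlgebraicGeometry.Morphisms.Proper
import Mathlib.CategoryTheory.Limits.Shapes.WidePullbacks

/-!
# Separating strict transforms inside a finite fibre product
-/

set_option autoImplicit false
set_option linter.style.haveILetI false
universe u

open CategoryTheory CategoryTheory.Limits AlgebraicGeometry TopologicalSpace

noncomputable section

namespace Groth.L20.WideSep

variable {S : Scheme.{u}}

set_option backward.isDefEq.respectTransparency false in
/-- The structure map of a finite fibre product of quasi-compact morphisms is quasi-compact. -/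
theorem quasiCompact_base : ∀ (m : ℕ) (X : Fin m → Scheme.{u}) (g : ∀ i, X i ⟶ S) [∀ i, QuasiCompact (g i)],
    QuasiCompact (WidePullback.base g)
  | 0, X, g, _ => by
    have : IsIso (WidePullback.base g) :=
      ⟨WidePullback.lift (𝟙 S) (fun i => i.elim0) (fun i => i.elim0),
        WidePullback.hom_ext _ _ _ (fun i => i.elim0) (by simp [WidePullback.lift_base]), by
          simp [WidePullback.lift_base]⟩
    infer_instance
  | m + 1, X, g, _ => by
    haveI := quasiCompact_base m (fun i => X i.succ) (fun i => g i.succ)
    let g' := fun i : Fin m => g i.succ
    let φ : widePullback S X g ⟶ pullback (g 0) (WidePullback.base g') :=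
      pullback.lift (WidePullback.π g 0)
        (WidePullback.lift (WidePullback.base g) (fun i => WidePullback.π g i.succ)
          (fun i => WidePullback.π_arrow g i.succ))
        (by simp)
    let ψ : pullback (g 0) (WidePullback.base g') ⟶ widePullback S X g :=
      WidePullback.lift (pullback.snd _ _ ≫ WidePullback.base g')
        (Fin.cases (pullback.fst _ _) (fun i => pullback.snd _ _ ≫ WidePullback.π g' i))
        (fun i => by
          induction i using Fin.cases with
          | zero => exact pullback.condition
          | succ i =>
            simp only [Fin.cases_succ, Category.assoc]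
            exact congrArg _ (WidePullback.π_arrow g' i))
    have h : IsIso φ := by
      refine ⟨ψ, WidePullback.hom_ext _ _ _ (fun i => ?_) (by simp [φ, ψ, WidePullback.lift_π, WidePullback.lift_base, WidePullback.lift_π_assoc, WidePullback.lift_base_assoc]), ?_⟩
      · induction i using Fin.cases with
        | zero => simp [φ, ψ, WidePullback.lift_π, WidePullback.lift_base, WidePullback.lift_π_assoc, WidePullback.lift_base_assoc]
        | succ i => simp [φ, ψ, g', WidePullback.lift_π, WidePullback.lift_base, WidePullback.lift_π_assoc, WidePullback.lift_base_assoc]
      · apply pullback.hom_ext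
        · simp [φ, ψ, WidePullback.lift_π, WidePullback.lift_base, WidePullback.lift_π_assoc, WidePullback.lift_base_assoc]
        · refine WidePullback.hom_ext _ _ _ (fun i => ?_) ?_ <;> simp [φ, ψ, g', WidePullback.lift_π, WidePullback.lift_base, WidePullback.lift_π_assoc, WidePullback.lift_base_assoc]
    rw [show WidePullback.base g = φ ≫ (pullback.snd _ _ ≫ WidePullback.base g') by simp [φ, WidePullback.lift_π, WidePullback.lift_base, WidePullback.lift_π_assoc, WidePullback.lift_base_assoc]]
    infer_instance

/-- The projections of a finite fibre product of quasi-compact separated morphisms are quasi-compact. -/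
theorem quasiCompact_π {m : ℕ} (X : Fin m → Scheme.{u}) (g : ∀ i, X i ⟶ S) [∀ i, QuasiCompact (g i)]
    [∀ i, IsSeparated (g i)] (i : Fin m) : QuasiCompact (WidePullback.π g i) := by
  haveI : QuasiCompact (WidePullback.π g i ≫ g i) := by
    rw [WidePullback.π_arrow]; exact quasiCompact_base m X g
  exact QuasiCompact.of_comp _ (g i)

end Groth.L20.WideSep
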